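import Mathlib
import Groth.Agent.H9.RegLocalSeq2
import Groth.Agent.H61.EssFT

/-!
# Smooth ⇔ regular for local algebras essentially of finite type over a field
(with formally smooth residue field extension)

* `regular_quot_iff` : for a regular local ring `P` and `J ≤ 𝔪`, `P ⧸ J` is regular iff
  `J ⊓ 𝔪² ≤ 𝔪 J` (i.e. `J/𝔪J → 𝔪/𝔪²` is injective).
* `lTensor_inclusion_injective_iff` : `(P/n) ⊗ J → (P/n) ⊗ n` injective iff `J ⊓ n² ≤ n J`.
* `formallySmooth_quot_iff`, `formallySmooth_iff_isRegularLocalRing` : Jacobian criterion form.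
-/

set_option autoImplicit false
universe u

open IsLocalRing TensorProduct KaehlerDifferential

namespace Groth.Agent.H79.SmoothReg

section condA
variable {P : Type u} [CommRing P] [IsLocalRing P]

theorem cond_iff_quot (J : Ideal P) (hJ : J ≤ maximalIdeal P) (x : P) (hxJ : x ∈ J)
    (hx2 : x ∉ maximalIdeal P ^ 2) :
    (J ⊓ maximalIdeal P ^ 2 ≤ maximalIdeal P * J) ↔
      (J ⊓ (maximalIdeal P ^ 2 ⊔ Ideal.span {x}) ≤ maximalIdeal P * J ⊔ Ideal.span {x}) := by
  constructor
  · intro h y hy0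
    obtain ⟨hyJ, hy⟩ := Submodule.mem_inf.mp hy0
    obtain ⟨w, hw, v, hv, rfl⟩ := Submodule.mem_sup.mp hy
    obtain ⟨b, rfl⟩ := Ideal.mem_span_singleton'.mp hv
    have hwJ : w ∈ J := by
      have h1 := J.sub_mem hyJ (J.mul_mem_left b hxJ)
      rwa [add_sub_cancel_right] at h1
    exact Submodule.mem_sup.mpr
      ⟨w, h (Submodule.mem_inf.mpr ⟨hwJ, hw⟩), b * x, Ideal.mem_span_singleton'.mpr ⟨b, rfl⟩, rfl⟩
  · intro h y hy0
    obtain ⟨hyJ, hy2⟩ := Submodule.mem_inf.mp hy0
    have h1 := h (Submodule.mem_inf.mpr ⟨hyJ, Ideal.mem_sup_left hy2⟩)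
    obtain ⟨z, hz, v, hv, hzv⟩ := Submodule.mem_sup.mp h1
    obtain ⟨a, rfl⟩ := Ideal.mem_span_singleton'.mp hv
    have hz2 : z ∈ maximalIdeal P ^ 2 := by
      rw [pow_two]
      exact Ideal.mul_mono_right hJ hz
    have hax : a * x ∈ maximalIdeal P ^ 2 := by
      have h2 := (maximalIdeal P ^ 2).sub_mem hy2 hz2
      rwa [← hzv, add_sub_cancel_left] at h2
    by_cases ha : a ∈ maximalIdeal P
    · rw [← hzv]
      exact (maximalIdeal P * J).add_mem hz (Ideal.mul_mem_mul ha hxJ)
    · exfalso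
      obtain ⟨u, rfl⟩ := IsLocalRing.notMem_maximalIdeal.mp ha
      apply hx2
      have h3 := (maximalIdeal P ^ 2).mul_mem_left (↑u⁻¹ : P) hax
      rwa [← mul_assoc, Units.inv_mul, one_mul] at h3

theorem maximalIdeal_quot_eq_map (I : Ideal P) [Nontrivial (P ⧸ I)] [IsLocalRing (P ⧸ I)] :
    maximalIdeal (P ⧸ I) = (maximalIdeal P).map (Ideal.Quotient.mk I) := by
  haveI hloc : IsLocalHom (Ideal.Quotient.mk I) :=
    IsLocalHom.of_surjective _ Ideal.Quotient.mk_surjective
  have hcomap : (maximalIdeal (P ⧸ I)).comap (Ideal.Quotient.mk I) = maximalIdeal P :=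
    IsLocalRing.maximalIdeal_comap _
  rw [← hcomap, Ideal.map_comap_of_surjective _ Ideal.Quotient.mk_surjective]

end condA

/-- For a regular local ring `P` and an ideal `J ≤ 𝔪`: `P ⧸ J` is regular iff `J ⊓ 𝔪² ≤ 𝔪 J`. -/
theorem regular_quot_iff : ∀ (d : ℕ) (P : Type u) [CommRing P] [IsRegularLocalRing P],
    (maximalIdeal P).spanFinrank = d → ∀ (J : Ideal P), J ≤ maximalIdeal P →
    (IsRegularLocalRing (P ⧸ J) ↔ J ⊓ maximalIdeal P ^ 2 ≤ maximalIdeal P * J) := by
  intro d
  induction d with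
  | zero =>
    intro P _ _ hd J hJ
    have hn : maximalIdeal P = ⊥ :=
      (Submodule.spanFinrank_eq_zero_iff_eq_bot (IsNoetherian.noetherian _)).mp hd
    have hJ0 : J = ⊥ := by
      rw [hn] at hJ
      exact le_bot_iff.mp hJ
    subst hJ0
    exact ⟨fun _ => by simp,
      fun _ => IsRegularLocalRing.of_ringEquiv (RingEquiv.quotientBot P).symm⟩
  | succ d ih =>
    intro P _ _ hd J hJ
    by_cases hJ0 : J = ⊥
    · subst hJ0
      exact ⟨fun _ => by simp,
        fun _ => IsRegularLocalRing.of_ringEquiv (RingEquiv.quotientBot P).symm⟩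
    have hJtop : J ≠ ⊤ := ne_top_of_le_ne_top (maximalIdeal.isMaximal P).ne_top hJ
    have key : (∃ x ∈ J, x ∉ maximalIdeal P ^ 2) →
        (IsRegularLocalRing (P ⧸ J) ↔ J ⊓ maximalIdeal P ^ 2 ≤ maximalIdeal P * J) := by
      rintro ⟨x, hxJ, hx2⟩
      have hxm : x ∈ maximalIdeal P := hJ hxJ
      obtain ⟨hP'reg, hP'd⟩ := Groth.Agent.H9.regular_quotient_spanFinrank P x hxm hx2 d hd
      haveI := hP'reg
      have hle : Ideal.span {x} ≤ J := (Ideal.span_singleton_le_iff_mem J).mpr hxJ
      have hn' := maximalIdeal_quot_eq_map (Ideal.span {x})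
      have hJ' : J.map (Ideal.Quotient.mk (Ideal.span {x})) ≤
          maximalIdeal (P ⧸ Ideal.span {x}) := by
        rw [hn']
        exact Ideal.map_mono hJ
      have h1 := ih (P ⧸ Ideal.span {x}) hP'd (J.map (Ideal.Quotient.mk (Ideal.span {x}))) hJ'
      have hlink1 : IsRegularLocalRing (P ⧸ J) ↔
          IsRegularLocalRing
            ((P ⧸ Ideal.span {x}) ⧸ J.map (Ideal.Quotient.mk (Ideal.span {x}))) :=
        ⟨fun h => IsRegularLocalRing.of_ringEquiv (DoubleQuot.quotQuotEquivQuotOfLE hle).symm,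
         fun h => IsRegularLocalRing.of_ringEquiv (DoubleQuot.quotQuotEquivQuotOfLE hle)⟩
      have hsurj : Function.Surjective (Ideal.Quotient.mk (Ideal.span {x})) :=
        Ideal.Quotient.mk_surjective
      have hker : Ideal.comap (Ideal.Quotient.mk (Ideal.span {x})) ⊥ = Ideal.span {x} := by
        rw [← RingHom.ker_eq_comap_bot, Ideal.mk_ker]
      have hlink2 : (J.map (Ideal.Quotient.mk (Ideal.span {x})) ⊓
            maximalIdeal (P ⧸ Ideal.span {x}) ^ 2 ≤
          maximalIdeal (P ⧸ Ideal.span {x}) * J.map (Ideal.Quotient.mk (Ideal.span {x}))) ↔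
          (J ⊓ (maximalIdeal P ^ 2 ⊔ Ideal.span {x}) ≤
            maximalIdeal P * J ⊔ Ideal.span {x}) := by
        rw [hn', ← Ideal.map_pow, ← Ideal.map_mul,
          ← Ideal.comap_le_comap_iff_of_surjective _ hsurj, Ideal.comap_inf,
          Ideal.comap_map_of_surjective _ hsurj, Ideal.comap_map_of_surjective _ hsurj,
          Ideal.comap_map_of_surjective _ hsurj, hker, sup_eq_left.mpr hle]
      rw [hlink1, h1, hlink2]
      exact (cond_iff_quot J hJ x hxJ hx2).symm
    constructor
    · intro h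
      exact (key (Groth.Agent.H9.exists_mem_notMem_sq P J hJtop hJ0 h)).mp h
    · intro h
      refine (key ?_).mpr h
      by_contra hcon
      push_neg at hcon
      have hJ2 : J ≤ maximalIdeal P ^ 2 := fun x hx => hcon x hx
      have hJn : J ≤ maximalIdeal P • J := by
        intro y hy
        exact h (Submodule.mem_inf.mpr ⟨hy, hJ2 hy⟩)
      exact hJ0 (Submodule.eq_bot_of_le_smul_of_le_jacobson_bot (maximalIdeal P) J
        (IsNoetherian.noetherian J) hJn
        (IsLocalRing.jacobson_eq_maximalIdeal (⊥ : Ideal P) bot_ne_top).ge)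

section tensor
variable {P : Type u} [CommRing P]

theorem one_tmul_eq_zero_iff (n : Ideal P) (M : Submodule P P) (m : M) :
    (1 : P ⧸ n) ⊗ₜ[P] m = 0 ↔ (m : P) ∈ n • M := by
  rw [← (TensorProduct.quotTensorEquivQuotSMul M n).map_eq_zero_iff,
    TensorProduct.quotTensorEquivQuotSMul_mk_one_tmul, Submodule.Quotient.mk_eq_zero,
    Submodule.mem_smul_top_iff]

theorem exists_one_tmul (n : Ideal P) (M : Submodule P P) (z : (P ⧸ n) ⊗[P] M) :
    ∃ m : M, z = (1 : P ⧸ n) ⊗ₜ[P] m := by
  obtain ⟨m, hm⟩ := Submodule.Quotient.mk_surjective _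
    (TensorProduct.quotTensorEquivQuotSMul M n z)
  refine ⟨m, (TensorProduct.quotTensorEquivQuotSMul M n).injective ?_⟩
  rw [TensorProduct.quotTensorEquivQuotSMul_mk_one_tmul, hm]

theorem lTensor_inclusion_injective_iff (n J N : Ideal P) (h : J ≤ N) (hN : N = n) :
    Function.Injective (LinearMap.lTensor (P ⧸ n) (Submodule.inclusion h)) ↔
      J ⊓ n ^ 2 ≤ n * J := by
  subst hN
  constructor
  · intro hinj y hy
    obtain ⟨hyJ, hy2⟩ := Submodule.mem_inf.mp hy
    have h1 : (1 : P ⧸ N) ⊗ₜ[P] (Submodule.inclusion h ⟨y, hyJ⟩) = 0 := by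
      rw [one_tmul_eq_zero_iff]
      show y ∈ N • N
      rw [pow_two] at hy2
      exact hy2
    have h2 : LinearMap.lTensor (P ⧸ N) (Submodule.inclusion h)
        ((1 : P ⧸ N) ⊗ₜ[P] (⟨y, hyJ⟩ : J)) = 0 := by
      rw [LinearMap.lTensor_tmul]
      exact h1
    have h3 := hinj (h2.trans (map_zero _).symm)
    exact (one_tmul_eq_zero_iff N J ⟨y, hyJ⟩).mp h3
  · intro hc
    rw [injective_iff_map_eq_zero]
    intro z hz
    obtain ⟨m, rfl⟩ := exists_one_tmul N J z
    rw [LinearMap.lTensor_tmul, one_tmul_eq_zero_iff] at hz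
    rw [one_tmul_eq_zero_iff]
    have hm : (m : P) ∈ J ⊓ N ^ 2 := by
      refine Submodule.mem_inf.mpr ⟨m.2, ?_⟩
      rw [pow_two]
      exact hz
    exact hc hm

end tensor

/-- Jacobian criterion: quotient of a formally smooth regular local `k`-algebra with formally
smooth residue field. -/
theorem formallySmooth_quot_iff (k P : Type u) [Field k] [CommRing P] [Algebra k P]
    [IsRegularLocalRing P] [Algebra.FormallySmooth k P] [Module.Free P Ω[P⁄k]]
    [Module.Finite P Ω[P⁄k]] (hκ : Algebra.FormallySmooth k (P ⧸ maximalIdeal P))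
    (J : Ideal P) (hJ : J ≤ maximalIdeal P) :
    Algebra.FormallySmooth k (P ⧸ J) ↔ IsRegularLocalRing (P ⧸ J) := by
  letI : Field (P ⧸ maximalIdeal P) := Ideal.Quotient.field _
  have hJtop : J ≠ ⊤ := ne_top_of_le_ne_top (maximalIdeal.isMaximal P).ne_top hJ
  haveI : Nontrivial (P ⧸ J) := Ideal.Quotient.nontrivial_iff.mpr hJtop
  haveI : IsLocalRing (P ⧸ J) :=
    IsLocalRing.of_surjective' (Ideal.Quotient.mk J) Ideal.Quotient.mk_surjective
  letI : Algebra (P ⧸ J) (P ⧸ maximalIdeal P) := (Ideal.Quotient.factor hJ).toAlgebra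
  haveI : IsScalarTower P (P ⧸ J) (P ⧸ maximalIdeal P) :=
    IsScalarTower.of_algebraMap_eq' (Ideal.Quotient.factor_comp_mk hJ).symm
  have h₁ : Function.Surjective (algebraMap P (P ⧸ J)) := Ideal.Quotient.mk_surjective
  have h₂ : (RingHom.ker (algebraMap P (P ⧸ J))).FG := IsNoetherian.noetherian _
  have h₃ : maximalIdeal (P ⧸ J) ≤ RingHom.ker (algebraMap (P ⧸ J) (P ⧸ maximalIdeal P)) := by
    intro z hz
    obtain ⟨y, rfl⟩ := Ideal.Quotient.mk_surjective z
    have hz' : ¬ IsUnit (Ideal.Quotient.mk J y) := (IsLocalRing.mem_maximalIdeal _).mp hz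
    have hy : y ∈ maximalIdeal P := by
      by_contra hy
      exact hz' ((IsLocalRing.notMem_maximalIdeal.mp hy).map (Ideal.Quotient.mk J))
    rw [RingHom.mem_ker]
    show Ideal.Quotient.factor hJ (Ideal.Quotient.mk J y) = 0
    rw [Ideal.Quotient.factor_mk, Ideal.Quotient.eq_zero_iff_mem]
    exact hy
  have c1 := Algebra.FormallySmooth.iff_injective_cotangentComplexBaseChange (R := k)
    (S := P ⧸ J) P (P ⧸ maximalIdeal P) h₁ h₂ h₃
  have g₁ : Function.Surjective (algebraMap P (P ⧸ maximalIdeal P)) :=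
    Ideal.Quotient.mk_surjective
  have g₂ : (RingHom.ker (algebraMap P (P ⧸ maximalIdeal P))).FG := IsNoetherian.noetherian _
  have g₃ : maximalIdeal (P ⧸ maximalIdeal P) ≤
      RingHom.ker (algebraMap (P ⧸ maximalIdeal P) (P ⧸ maximalIdeal P)) := by
    rw [IsLocalRing.maximalIdeal_eq_bot]
    exact bot_le
  have c2 := Algebra.FormallySmooth.iff_injective_cotangentComplexBaseChange (R := k)
    (S := P ⧸ maximalIdeal P) P (P ⧸ maximalIdeal P) g₁ g₂ g₃
  have c2' := c2.mp hκ
  have hle : RingHom.ker (algebraMap P (P ⧸ J)) ≤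
      RingHom.ker (algebraMap P (P ⧸ maximalIdeal P)) := by
    intro y hy
    rw [RingHom.mem_ker, Ideal.Quotient.algebraMap_eq, Ideal.Quotient.eq_zero_iff_mem] at hy ⊢
    exact hJ hy
  have hcomp : ∀ z, cotangentComplexBaseChange k (P ⧸ J) P (P ⧸ maximalIdeal P) z =
      cotangentComplexBaseChange k (P ⧸ maximalIdeal P) P (P ⧸ maximalIdeal P)
        (LinearMap.lTensor (P ⧸ maximalIdeal P) (Submodule.inclusion hle) z) := by
    intro z
    induction z using TensorProduct.induction_on with
    | zero => simp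
    | tmul a b =>
      rw [LinearMap.lTensor_tmul, cotangentComplexBaseChange_tmul,
        cotangentComplexBaseChange_tmul]
      rfl
    | add x y hx hy => rw [map_add, map_add, map_add, hx, hy]
  have hmid : Function.Injective
        (cotangentComplexBaseChange k (P ⧸ J) P (P ⧸ maximalIdeal P)) ↔
      Function.Injective
        (LinearMap.lTensor (P ⧸ maximalIdeal P) (Submodule.inclusion hle)) := by
    constructor
    · intro h z₁ z₂ hz
      apply h
      rw [hcomp, hcomp, hz]
    · intro h z₁ z₂ hz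
      rw [hcomp, hcomp] at hz
      exact h (c2' hz)
  have hN : RingHom.ker (algebraMap P (P ⧸ maximalIdeal P)) = maximalIdeal P := Ideal.mk_ker
  have hJ' : RingHom.ker (algebraMap P (P ⧸ J)) = J := Ideal.mk_ker
  have hC := lTensor_inclusion_injective_iff (maximalIdeal P) _ _ hle hN
  have hJJ : (RingHom.ker (algebraMap P (P ⧸ J)) ⊓ maximalIdeal P ^ 2 ≤
      maximalIdeal P * RingHom.ker (algebraMap P (P ⧸ J))) ↔
      (J ⊓ maximalIdeal P ^ 2 ≤ maximalIdeal P * J) := by
    rw [hJ']
  rw [c1, hmid, hC, hJJ]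
  exact (regular_quot_iff _ P rfl J hJ).symm

/-- A local algebra essentially of finite type over a field `k`, with residue field formally
smooth over `k`, is formally smooth over `k` iff it is a regular local ring. -/
theorem formallySmooth_iff_isRegularLocalRing (k A : Type u) [Field k] [CommRing A]
    [IsLocalRing A] [Algebra k A] [Algebra.EssFiniteType k A]
    (hκ : Algebra.FormallySmooth k (ResidueField A)) :
    Algebra.FormallySmooth k A ↔ IsRegularLocalRing A := by
  obtain ⟨ι, hι, p, hp, φ, hφ⟩ := Groth.Agent.H61.EssFT.exists_pres k A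
  haveI : Algebra.FormallyEtale (MvPolynomial ι k) (Localization.AtPrime p) :=
    .of_isLocalization p.primeCompl
  haveI : Algebra.EssFiniteType (MvPolynomial ι k) (Localization.AtPrime p) :=
    Algebra.EssFiniteType.of_isLocalization _ p.primeCompl
  haveI : Algebra.EssFiniteType k (Localization.AtPrime p) :=
    Algebra.EssFiniteType.comp k (MvPolynomial ι k) (Localization.AtPrime p)
  haveI : Module.Free (Localization.AtPrime p) Ω[Localization.AtPrime p⁄k] :=
    .of_equiv (KaehlerDifferential.tensorKaehlerEquivOfFormallyEtale k (MvPolynomial ι k)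
      (Localization.AtPrime p))
  letI : Field (Localization.AtPrime p ⧸ maximalIdeal (Localization.AtPrime p)) :=
    Ideal.Quotient.field _
  haveI hloc : IsLocalHom (φ : Localization.AtPrime p →+* A) :=
    IsLocalHom.of_surjective _ hφ
  -- residue fields
  let ψ : (Localization.AtPrime p ⧸ maximalIdeal (Localization.AtPrime p)) →ₐ[k]
      ResidueField A :=
    Ideal.Quotient.liftₐ (maximalIdeal (Localization.AtPrime p))
      ((IsScalarTower.toAlgHom k A (ResidueField A)).comp φ) (by
        intro a ha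
        have h1 : (φ : Localization.AtPrime p →+* A) a ∈ maximalIdeal A :=
          map_nonunit (φ : Localization.AtPrime p →+* A) a ha
        exact (IsLocalRing.residue_eq_zero_iff _).mpr h1)
  have hψ : Function.Bijective ψ := by
    refine ⟨ψ.toRingHom.injective, ?_⟩
    intro z
    obtain ⟨a, rfl⟩ := IsLocalRing.residue_surjective z
    obtain ⟨b, rfl⟩ := hφ a
    exact ⟨Ideal.Quotient.mk _ b, rfl⟩
  haveI := hκ
  have hκP : Algebra.FormallySmooth k
      (Localization.AtPrime p ⧸ maximalIdeal (Localization.AtPrime p)) :=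
    Algebra.FormallySmooth.of_equiv (AlgEquiv.ofBijective ψ hψ).symm
  have hJ : RingHom.ker (φ : Localization.AtPrime p →+* A) ≤
      maximalIdeal (Localization.AtPrime p) :=
    IsLocalRing.le_maximalIdeal (RingHom.ker_ne_top _)
  let e : (Localization.AtPrime p ⧸ RingHom.ker (φ : Localization.AtPrime p →+* A)) ≃ₐ[k] A :=
    Ideal.quotientKerAlgEquivOfSurjective hφ
  have h1 : Algebra.FormallySmooth k A ↔ Algebra.FormallySmooth k
      (Localization.AtPrime p ⧸ RingHom.ker (φ : Localization.AtPrime p →+* A)) :=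
    (Algebra.FormallySmooth.iff_of_equiv e).symm
  have h2 : IsRegularLocalRing
      (Localization.AtPrime p ⧸ RingHom.ker (φ : Localization.AtPrime p →+* A)) ↔
      IsRegularLocalRing A :=
    ⟨fun h => IsRegularLocalRing.of_ringEquiv
        (R := Localization.AtPrime p ⧸ RingHom.ker (φ : Localization.AtPrime p →+* A))
        e.toRingEquiv,
     fun h => IsRegularLocalRing.of_ringEquiv (R := A) e.toRingEquiv.symm⟩
  exact h1.trans ((formallySmooth_quot_iff k (Localization.AtPrime p) hκP _ hJ).trans h2)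

end Groth.Agent.H79.SmoothReg
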