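import Groth.Agent.H29.CM2
import Groth.Agent.H23.RegularLocal
import Groth.Agent.H9.RegSpread
import Mathlib

set_option autoImplicit false
universe u v

open IsLocalRing RingTheory.Sequence

namespace Groth.Agent.H79.RegCM

section gen

variable {A : Type u} [CommRing A] [IsNoetherianRing A] [IsLocalRing A]

theorem le_ncard_of_radical {n : ℕ} (hn : ringKrullDim A = n) {s : Set A} (hs : s.Finite)
    (h1 : Ideal.span s ≤ maximalIdeal A) (h2 : maximalIdeal A ≤ (Ideal.span s).radical) :
    n ≤ s.ncard := by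
  have hmin : maximalIdeal A ∈ (Ideal.span s).minimalPrimes := by
    refine ⟨⟨inferInstance, h1⟩, fun q hq _ => ?_⟩
    exact h2.trans (hq.1.radical_le_iff.2 hq.2)
  have h3 := Ideal.height_le_card_of_mem_minimalPrimes_span hs hmin
  have h4 : ((maximalIdeal A).height : WithBot ℕ∞) = ringKrullDim A :=
    IsLocalRing.maximalIdeal_height_eq_ringKrullDim
  rw [hn] at h4
  have h5 : (maximalIdeal A).height = (n : ℕ∞) := by exact_mod_cast h4
  rw [h5] at h3
  exact_mod_cast h3

omit [IsNoetherianRing A] in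
theorem ringKrullDim_quotient_eq_zero {I : Ideal A} (h1 : I ≤ maximalIdeal A)
    (h2 : maximalIdeal A ≤ I.radical) : ringKrullDim (A ⧸ I) = 0 := by
  have hne : I ≠ ⊤ := fun h => (maximalIdeal.isMaximal A).ne_top (top_le_iff.1 (h ▸ h1))
  haveI : Nontrivial (A ⧸ I) := Ideal.Quotient.nontrivial_iff.2 hne
  refine le_antisymm ?_ ringKrullDim_nonneg_of_nontrivial
  have hK : Ring.KrullDimLE 0 (A ⧸ I) := Ring.KrullDimLE.mk₀ (fun Q hQ => ?_)
  · exact_mod_cast Ring.krullDimLE_iff.1 hK
  have hQc : (Q.comap (Ideal.Quotient.mk I)).IsPrime := hQ.comap _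
  have hP : Q.comap (Ideal.Quotient.mk I) = maximalIdeal A := by
    have hIP : I ≤ Q.comap (Ideal.Quotient.mk I) := by
      intro a ha
      rw [Ideal.mem_comap, Ideal.Quotient.eq_zero_iff_mem.2 ha]
      exact Q.zero_mem
    have hle : maximalIdeal A ≤ Q.comap (Ideal.Quotient.mk I) :=
      h2.trans (hQc.radical_le_iff.2 hIP)
    exact ((maximalIdeal.isMaximal A).eq_of_le hQc.ne_top hle).symm
  have hQ' : Q = (maximalIdeal A).map (Ideal.Quotient.mk I) := by
    rw [← hP, Ideal.map_comap_of_surjective _ Ideal.Quotient.mk_surjective]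
  rcases Ideal.map_eq_top_or_isMaximal_of_surjective (Ideal.Quotient.mk I)
    Ideal.Quotient.mk_surjective (maximalIdeal.isMaximal A) with h | h
  · exact absurd (hQ'.trans h) hQ.ne_top
  · exact hQ' ▸ h

theorem isWeaklyRegular_of_radical (hCM : LocCoh.IsCohenMacaulayModule A A) {n : ℕ}
    (hn : ringKrullDim A = n) (xs : List A) (hlen : xs.length = n)
    (hxs : ∀ x ∈ xs, x ∈ maximalIdeal A)
    (hrad : maximalIdeal A ≤ (Ideal.ofList xs).radical) : IsWeaklyRegular A xs := by
  have key := (Groth.Agent.H29.CM.isWeaklyRegular_iff_of_isCM xs A hCM hxs).1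
  rw [key]
  have h0 : Ideal.ofList xs • (⊤ : Submodule A A) = Ideal.ofList xs := by
    simp only [smul_eq_mul, Ideal.mul_top]
  have hle : Ideal.ofList xs ≤ maximalIdeal A := Ideal.span_le.2 (fun x hx => hxs x hx)
  have h1 : Module.supportDim A (A ⧸ (Ideal.ofList xs • (⊤ : Submodule A A))) = 0 := by
    rw [h0]
    exact (Module.supportDim_quotient_eq_ringKrullDim (Ideal.ofList xs)).trans
      (ringKrullDim_quotient_eq_zero hle hrad)
  rw [h1, Module.supportDim_self_eq_ringKrullDim, hn, hlen, zero_add]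

end gen

section regular

theorem isWeaklyRegular_ofFn (A : Type u) [CommRing A] [IsRegularLocalRing A] (n : ℕ)
    (hn : ringKrullDim A = n) (u : Fin n → A)
    (hu : Ideal.span (Set.range u) = maximalIdeal A) : IsWeaklyRegular A (List.ofFn u) := by
  classical
  rw [Groth.Agent.H9.isWeaklyRegular_ring_iff]
  intro i hi a ha
  have hi' : i < n := by simpa using hi
  set x : Fin i → A := fun j => u ⟨j.1, j.2.trans hi'⟩ with hx
  set y : Fin (n - i) → A := fun j => u ⟨i + j.1, by have := j.2; omega⟩ with hy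
  have hP : Ideal.ofList ((List.ofFn u).take i) = Ideal.span (Set.range x) := by
    show Ideal.span {r | r ∈ (List.ofFn u).take i} = _
    congr 1
    ext b
    simp only [Set.mem_setOf_eq, Set.mem_range, List.mem_take_iff_getElem]
    constructor
    · rintro ⟨j, hj, rfl⟩
      have hj' : j < i := lt_of_lt_of_le hj (min_le_left _ _)
      exact ⟨⟨j, hj'⟩, by simp [hx]⟩
    · rintro ⟨j, rfl⟩
      refine ⟨j.1, ?_, by simp [hx]⟩
      simp only [List.length_ofFn]
      exact lt_min j.2 (j.2.trans hi')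
  have hm : maximalIdeal A = Ideal.span (Set.range x ∪ Set.range y) := by
    rw [← hu]
    congr 1
    ext b
    simp only [Set.mem_range, Set.mem_union]
    constructor
    · rintro ⟨k, rfl⟩
      by_cases hk : k.1 < i
      · exact Or.inl ⟨⟨k.1, hk⟩, rfl⟩
      · refine Or.inr ⟨⟨k.1 - i, by have := k.2; omega⟩, ?_⟩
        simp only [hy]
        congr 1
        apply Fin.ext
        simp only
        omega
    · rintro (⟨j, rfl⟩ | ⟨j, rfl⟩)
      · exact ⟨_, rfl⟩
      · exact ⟨_, rfl⟩
  have hd : ((i + (n - i) : ℕ) : WithBot ℕ∞) ≤ ringKrullDim A := by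
    rw [hn]
    have : i + (n - i) = n := by omega
    rw [this]
  obtain ⟨hreg, _⟩ := Groth.Agent.H23.quotient_regular x y hm hd
  haveI := hreg
  haveI : IsDomain (A ⧸ Ideal.span (Set.range x)) :=
    Groth.Agent.H23.isDomain_of_isRegularLocalRing _
  have hprime : (Ideal.span (Set.range x)).IsPrime :=
    (Ideal.Quotient.isDomain_iff_prime _).1 inferInstance
  rw [hP] at ha ⊢
  rw [List.getElem_ofFn] at ha
  rcases hprime.mem_or_mem ha with h | h
  · exfalso
    set i' : Fin n := ⟨i, hi'⟩ with hi'def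
    set s : Set A := u '' ({i'}ᶜ : Set (Fin n)) with hs
    have hsm : Ideal.span s ≤ maximalIdeal A := by
      rw [← hu]
      exact Ideal.span_mono (Set.image_subset_range _ _)
    have hxs : Ideal.span (Set.range x) ≤ Ideal.span s := by
      apply Ideal.span_mono
      rintro _ ⟨j, rfl⟩
      refine ⟨⟨j.1, j.2.trans hi'⟩, ?_, rfl⟩
      simp only [Set.mem_compl_iff, Set.mem_singleton_iff, hi'def, Fin.mk.injEq]
      exact (ne_of_lt j.2)
    have hms : maximalIdeal A ≤ Ideal.span s := by
      rw [← hu, Ideal.span_le]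
      rintro _ ⟨k, rfl⟩
      by_cases hk : k = i'
      · rw [hk]
        exact hxs h
      · exact Ideal.subset_span ⟨k, hk, rfl⟩
    have h6 := le_ncard_of_radical hn (Set.toFinite s) hsm (hms.trans Ideal.le_radical)
    have h7 : s.ncard ≤ ({i'}ᶜ : Set (Fin n)).ncard := Set.ncard_image_le (Set.toFinite _)
    have h8 : ({i'}ᶜ : Set (Fin n)).ncard = n - 1 := by
      rw [Set.ncard_compl, Set.ncard_singleton, Nat.card_eq_fintype_card, Fintype.card_fin]
    omega
  · exact h

theorem isCM_of_sop (A : Type u) [CommRing A] [IsRegularLocalRing A] (n : ℕ)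
    (hn : ringKrullDim A = n) (u : Fin n → A)
    (hu : Ideal.span (Set.range u) = maximalIdeal A) : LocCoh.IsCohenMacaulayModule A A := by
  refine Groth.Agent.H29.CM.isCM_of_hasSeq (d := n) ?_ ⟨List.ofFn u, isWeaklyRegular_ofFn A n hn u hu,
    ?_, List.length_ofFn⟩
  · rw [Module.supportDim_self_eq_ringKrullDim, hn]
    rfl
  · intro r hr
    rw [List.mem_ofFn] at hr
    obtain ⟨k, rfl⟩ := hr
    rw [← hu]
    exact Ideal.subset_span ⟨k, rfl⟩

end regular

section length

variable {A : Type u} [CommRing A]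

theorem length_sup_mul (I : Ideal A) (y y' : A) (hreg : ∀ a, y' * a ∈ I → a ∈ I) :
    Module.length A (A ⧸ (I ⊔ Ideal.span {y * y'})) =
      Module.length A (A ⧸ (I ⊔ Ideal.span {y})) +
        Module.length A (A ⧸ (I ⊔ Ideal.span {y'})) := by
  have h1 : (I ⊔ Ideal.span {y}) ≤
      Submodule.comap (LinearMap.mulLeft A y') (I ⊔ Ideal.span {y * y'}) := by
    intro a ha
    rw [Submodule.mem_comap, LinearMap.mulLeft_apply]
    obtain ⟨i, hi, z, hz, rfl⟩ := Submodule.mem_sup.1 ha
    obtain ⟨c, rfl⟩ := Ideal.mem_span_singleton'.1 hz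
    rw [mul_add]
    refine Submodule.add_mem _ (Ideal.mem_sup_left (I.mul_mem_left _ hi)) (Ideal.mem_sup_right ?_)
    rw [Ideal.mem_span_singleton']
    exact ⟨c, by ring⟩
  have h2 : (I ⊔ Ideal.span {y * y'}) ≤
      Submodule.comap (LinearMap.id : A →ₗ[A] A) (I ⊔ Ideal.span {y'}) := by
    rw [Submodule.comap_id]
    refine sup_le le_sup_left ?_
    rw [Ideal.span_singleton_le_iff_mem]
    exact Ideal.mem_sup_right (Ideal.mem_span_singleton'.2 ⟨y, rfl⟩)
  have hf : Function.Injective (Submodule.mapQ (I ⊔ Ideal.span {y}) (I ⊔ Ideal.span {y * y'})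
      (LinearMap.mulLeft A y') h1) := by
    rw [← LinearMap.ker_eq_bot, Submodule.eq_bot_iff]
    intro z hz
    obtain ⟨a, rfl⟩ := Submodule.Quotient.mk_surjective _ z
    rw [LinearMap.mem_ker, Submodule.mapQ_apply, LinearMap.mulLeft_apply,
      Submodule.Quotient.mk_eq_zero] at hz
    obtain ⟨i, hi, w, hw, hiw⟩ := Submodule.mem_sup.1 hz
    obtain ⟨c, rfl⟩ := Ideal.mem_span_singleton'.1 hw
    have h3 : y' * (a - c * y) ∈ I := by
      have : y' * (a - c * y) = i := by rw [mul_sub, ← hiw]; ring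
      rw [this]; exact hi
    have ha := hreg _ h3
    rw [Submodule.Quotient.mk_eq_zero]
    have h4 : a = (a - c * y) + c * y := by ring
    rw [h4]
    exact Submodule.add_mem _ (Ideal.mem_sup_left ha)
      (Ideal.mem_sup_right (Ideal.mem_span_singleton'.2 ⟨c, rfl⟩))
  have hg : Function.Surjective (Submodule.mapQ (I ⊔ Ideal.span {y * y'}) (I ⊔ Ideal.span {y'})
      (LinearMap.id : A →ₗ[A] A) h2) := by
    intro z
    obtain ⟨a, rfl⟩ := Submodule.Quotient.mk_surjective _ z
    exact ⟨Submodule.Quotient.mk a, by rw [Submodule.mapQ_apply, LinearMap.id_apply]⟩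
  have hex : Function.Exact (Submodule.mapQ (I ⊔ Ideal.span {y}) (I ⊔ Ideal.span {y * y'})
      (LinearMap.mulLeft A y') h1) (Submodule.mapQ (I ⊔ Ideal.span {y * y'})
      (I ⊔ Ideal.span {y'}) (LinearMap.id : A →ₗ[A] A) h2) := by
    intro z
    obtain ⟨a, rfl⟩ := Submodule.Quotient.mk_surjective _ z
    constructor
    · intro hz
      rw [Submodule.mapQ_apply, LinearMap.id_apply, Submodule.Quotient.mk_eq_zero] at hz
      obtain ⟨i, hi, w, hw, rfl⟩ := Submodule.mem_sup.1 hz
      obtain ⟨c, rfl⟩ := Ideal.mem_span_singleton'.1 hw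
      refine ⟨Submodule.Quotient.mk c, ?_⟩
      rw [Submodule.mapQ_apply, LinearMap.mulLeft_apply, eq_comm, ← sub_eq_zero,
        ← Submodule.Quotient.mk_sub, Submodule.Quotient.mk_eq_zero]
      have h5 : i + c * y' - y' * c = i := by ring
      rw [h5]
      exact Ideal.mem_sup_left hi
    · rintro ⟨w, hw⟩
      rw [← hw]
      obtain ⟨c, rfl⟩ := Submodule.Quotient.mk_surjective _ w
      rw [Submodule.mapQ_apply, Submodule.mapQ_apply, LinearMap.id_apply,
        LinearMap.mulLeft_apply, Submodule.Quotient.mk_eq_zero]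
      exact Ideal.mem_sup_right (Ideal.mem_span_singleton'.2 ⟨c, mul_comm _ _⟩)
  exact Module.length_eq_add_of_exact _ _ hf hg hex

theorem length_sup_prod {ι : Type*} (I : Ideal A) (yy : ι → A)
    (hreg : ∀ σ a, yy σ * a ∈ I → a ∈ I) (S : Finset ι) :
    Module.length A (A ⧸ (I ⊔ Ideal.span {∏ σ ∈ S, yy σ})) =
      ∑ σ ∈ S, Module.length A (A ⧸ (I ⊔ Ideal.span {yy σ})) := by
  classical
  induction S using Finset.induction_on with
  | empty =>
    rw [Finset.prod_empty, Finset.sum_empty]
    have h : I ⊔ Ideal.span {(1 : A)} = ⊤ := by rw [Ideal.span_singleton_one, sup_top_eq]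
    rw [h]
    exact Module.length_eq_zero_iff.2 (Ideal.Quotient.subsingleton_iff.2 rfl)
  | insert σ S hσ ih =>
    rw [Finset.prod_insert hσ, Finset.sum_insert hσ, mul_comm,
      length_sup_mul I _ (yy σ) (hreg σ), ih, add_comm]

theorem span_range_eq_sup {ι : Type*} (W : ι → A) (k : ι) :
    Ideal.span (Set.range W) = Ideal.span (W '' {i | i ≠ k}) ⊔ Ideal.span {W k} := by
  rw [← Ideal.span_union]
  congr 1
  ext b
  simp only [Set.mem_range, Set.mem_union, Set.mem_image, Set.mem_ofPred_eq,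
    Set.mem_singleton_iff]
  constructor
  · rintro ⟨i, rfl⟩
    by_cases h : i = k
    · right; rw [h]
    · left; exact ⟨i, h, rfl⟩
  · rintro (⟨i, _, rfl⟩ | rfl)
    · exact ⟨i, rfl⟩
    · exact ⟨k, rfl⟩

end length

end Groth.Agent.H79.RegCM
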