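import Mathlib
import Groth.Agent.S2841
import Groth.Agent.S0580
import Groth.Agent.H9.RegLocalSeq2
import Groth.Agent.H15.PSRegular
import Groth.Agent.H15.FormEq
import Groth.Agent.H29.CplQuot
import Groth.Agent.S0548
import Groth.Agent.S0547
import Groth.Agent.H21.HilbertCI
import Groth.Agent.H29.CM2
import Groth.Prelude.Def_Pi1

/-!
# Independence of the regular presentation for complete intersections (helper79)

* `regular_ker_iff_of_complete`: two complete regular local rings surjecting onto the same
  local ring: one kernel is generated by a regular sequence iff the other is.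
* `regular_iff_dim`: numerical criterion in a regular local ring.
* `regular_iff_map_cpl`: `I` is generated by a regular sequence iff `I·R̂` is.
* `regular_iff_of_cplEquiv`: the keystone.
-/

set_option autoImplicit false
set_option linter.style.haveILetI false
set_option linter.unusedVariables false

universe u

open IsLocalRing RingTheory.Sequence

namespace Groth.Agent.H79.CIPres

/-- The power series rings of the Cohen structure theorem are regular local rings. -/
theorem isRegularLocalRing_of_field_or_cohen (Λ : Type u) [CommRing Λ]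
    (h : IsField Λ ∨ CAlg.IsCohenRing Λ) (n : ℕ) :
    IsRegularLocalRing (MvPowerSeries (Fin n) Λ) := by
  rcases h with h | ⟨hd, hdvr, -, -⟩
  · letI := h.toField
    exact Groth.Agent.H15.PSRegular.isRegularLocalRing_mvPowerSeries n
  · haveI := hd
    haveI := hdvr
    exact Groth.Agent.H15.PSRegular.isRegularLocalRing_mvPowerSeries n

/-- **Two complete regular presentations.** -/
theorem regular_ker_iff_of_complete {R S A : Type u} [CommRing R] [CommRing S] [CommRing A]
    [IsLocalRing A] [IsRegularLocalRing R] [IsRegularLocalRing S]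
    [IsAdicComplete (maximalIdeal R) R] [IsAdicComplete (maximalIdeal S) S]
    (f : R →+* A) (g : S →+* A) (hf : Function.Surjective f) (hg : Function.Surjective g) :
    (∃ rs : List R, IsRegular R rs ∧ Ideal.ofList rs = RingHom.ker f) ↔
      (∃ rs : List S, IsRegular S rs ∧ Ideal.ofList rs = RingHom.ker g) := by
  haveI : IsLocalHom f := IsLocalHom.of_surjective f hf
  haveI : IsLocalHom g := IsLocalHom.of_surjective g hg
  obtain ⟨hloc, hnoeth, hcompl⟩ := Groth.Agent.S2841.result f g hf hg
  haveI := hloc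
  haveI := hcompl
  obtain ⟨Λ, hΛ, n, F, hΛ', hF⟩ := Groth.Agent.S0580.result (f.pullback g)
    (maximalIdeal _).fg_of_isNoetherianRing
  haveI hP : IsRegularLocalRing (MvPowerSeries (Fin n) Λ) :=
    isRegularLocalRing_of_field_or_cohen Λ hΛ' n
  -- the two projections
  let pR : (f.pullback g) →+* R := RingHom.pullbackFst f g
  let pS : (f.pullback g) →+* S := RingHom.pullbackSnd f g
  have hpR : Function.Surjective pR := RingHom.surjective_pullbackFst_of_surjective f g hg
  have hpS : Function.Surjective pS := RingHom.surjective_pullbackSnd_of_surjective f g hf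
  let φR : MvPowerSeries (Fin n) Λ →+* R := pR.comp F
  let φS : MvPowerSeries (Fin n) Λ →+* S := pS.comp F
  have hφR : Function.Surjective φR := hpR.comp hF
  have hφS : Function.Surjective φS := hpS.comp hF
  have hcomm : f.comp φR = g.comp φS := by
    change (f.comp pR).comp F = (g.comp pS).comp F
    rw [RingHom.pullback_comm_sq f g]
  set K : Ideal (MvPowerSeries (Fin n) Λ) := RingHom.ker (f.comp φR) with hK
  have hKR : RingHom.ker φR ≤ K := fun x hx => by
    rw [hK, RingHom.mem_ker, RingHom.comp_apply, (RingHom.mem_ker).mp hx, map_zero]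
  have hKS : RingHom.ker φS ≤ K := fun x hx => by
    rw [hK, hcomm, RingHom.mem_ker, RingHom.comp_apply, (RingHom.mem_ker).mp hx, map_zero]
  have hmapR : K.map φR = RingHom.ker f := by
    rw [hK, ← RingHom.comap_ker, Ideal.map_comap_of_surjective φR hφR]
  have hmapS : K.map φS = RingHom.ker g := by
    rw [hK, hcomm, ← RingHom.comap_ker, Ideal.map_comap_of_surjective φS hφS]
  have h1 := Groth.Agent.H9.exists_isRegular_map_iff_of_regular φR hφR K hKR
  have h2 := Groth.Agent.H9.exists_isRegular_map_iff_of_regular φS hφS K hKS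
  rw [hmapR] at h1
  rw [hmapS] at h2
  exact h1.symm.trans h2

/-- `dim R/(xs)` as a support dimension. -/
theorem supportDim_quot_ofList {R : Type u} [CommRing R] (xs : List R) :
    Module.supportDim R (R ⧸ (Ideal.ofList xs • (⊤ : Submodule R R))) =
      ringKrullDim (R ⧸ Ideal.ofList xs) := by
  have h : (Ideal.ofList xs • (⊤ : Submodule R R)) = Ideal.ofList xs := by simp
  rw [h]
  exact Module.supportDim_quotient_eq_ringKrullDim _

/-- **Numerical criterion**: in a regular local ring, a proper ideal `I` is generated by a regular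
sequence iff `μ(I) + dim R/I ≤ dim R`. -/
theorem regular_iff_dim {R : Type u} [CommRing R] [IsRegularLocalRing R] (I : Ideal R)
    (hI : I ≠ ⊤) :
    (∃ rs : List R, IsRegular R rs ∧ Ideal.ofList rs = I) ↔
      ((I.spanFinrank : ℕ∞) : WithBot ℕ∞) + ringKrullDim (R ⧸ I) ≤ ringKrullDim R := by
  classical
  constructor
  · rintro ⟨rs, hrs, rfl⟩
    have h1 := ringKrullDim_add_length_eq_ringKrullDim_of_isRegular rs hrs
    have h2 : (Ideal.ofList rs).spanFinrank ≤ rs.length := by
      have h3 : {r | r ∈ rs} = ((rs.toFinset : Finset R) : Set R) := by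
        ext r; simp
      have h4 := Submodule.spanFinrank_span_le_ncard_of_finite (R := R)
        (s := ((rs.toFinset : Finset R) : Set R)) (Finset.finite_toSet _)
      rw [Set.ncard_coe_finset] at h4
      change (Ideal.span {r | r ∈ rs}).spanFinrank ≤ _
      rw [h3]
      exact h4.trans (List.toFinset_card_le rs)
    rw [← h1, add_comm]
    gcongr
    exact_mod_cast h2
  · intro h
    obtain ⟨s, hs1, hs2⟩ :=
      Submodule.FG.exists_span_finset_card_eq_spanFinrank (p := I) I.fg_of_isNoetherianRing
    have hxs : Ideal.ofList s.toList = I := by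
      rw [← hs2]
      change Ideal.span {r | r ∈ s.toList} = _
      congr 1
      ext r; simp
    have hlen : s.toList.length = I.spanFinrank := by rw [Finset.length_toList, hs1]
    have hmem : ∀ x ∈ s.toList, x ∈ maximalIdeal R := by
      intro x hx
      apply le_maximalIdeal hI
      rw [← hxs]
      exact Ideal.subset_span hx
    have hCM := Groth.Agent.H21.HilbertCI.isCM_of_isRegularLocalRing R
    have key := (Groth.Agent.H29.CM.isWeaklyRegular_iff_of_isCM s.toList R hCM hmem).1
    have hle := Groth.Agent.H29.CM.supportDim_le_supportDim_quotient_ofList_add_length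
      s.toList R hmem
    rw [supportDim_quot_ofList, Module.supportDim_self_eq_ringKrullDim] at key hle
    rw [hxs, hlen] at key hle
    have hw : IsWeaklyRegular R s.toList := by
      rw [key]
      apply le_antisymm _ hle
      rw [add_comm]
      exact h
    refine ⟨s.toList, ⟨hw, ?_⟩, hxs⟩
    simp only [smul_eq_mul, Ideal.mul_top]
    rw [hxs]
    exact fun h => hI h.symm

section Flat

open TensorProduct

variable {R S : Type u} [CommRing R] [CommRing S] [Algebra R S]

/-- For flat `R → S`, `S ⊗[R] I ≃ I·S`. -/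
theorem nonempty_tensor_equiv_map [Module.Flat R S] (I : Ideal R) :
    Nonempty (S ⊗[R] I ≃ₗ[S] (I.map (algebraMap R S))) := by
  let ψ : S ⊗[R] I →ₗ[S] S :=
    LinearMap.liftBaseChange S ((Algebra.linearMap R S).comp (Submodule.subtype I))
  have hψ : ∀ (s : S) (x : I), ψ (s ⊗ₜ x) = s * algebraMap R S x := by
    intro s x
    simp [ψ]
  have hinj : Function.Injective ψ := by
    have h1 : Function.Injective ((Submodule.subtype I).lTensor S) :=
      Module.Flat.lTensor_preserves_injective_linearMap _ (Submodule.injective_subtype I)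
    have h2 : (ψ : S ⊗[R] I → S) = (TensorProduct.rid R S) ∘ ((Submodule.subtype I).lTensor S) := by
      funext t
      induction t using TensorProduct.induction_on with
      | zero => simp
      | tmul s x =>
        rw [hψ]
        simp [Algebra.smul_def, mul_comm]
      | add a b ha hb => simp only [map_add, ha, hb, Function.comp_apply]
    rw [h2]
    exact (TensorProduct.rid R S).injective.comp h1
  have hrange : LinearMap.range ψ = I.map (algebraMap R S) := by
    apply le_antisymm
    · rintro _ ⟨t, rfl⟩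
      induction t using TensorProduct.induction_on with
      | zero => simp
      | tmul s x =>
        rw [hψ]
        exact Ideal.mul_mem_left _ _ (Ideal.mem_map_of_mem _ x.2)
      | add a b ha hb => rw [map_add]; exact Submodule.add_mem _ ha hb
    · change Ideal.span _ ≤ _
      rw [Ideal.span_le]
      rintro _ ⟨x, hx, rfl⟩
      exact ⟨1 ⊗ₜ ⟨x, hx⟩, by rw [hψ, one_mul]⟩
  exact ⟨(LinearEquiv.ofInjective ψ hinj).trans (LinearEquiv.ofEq _ _ hrange)⟩

/-- The minimal number of generators of an ideal is invariant under flat local base change. -/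
theorem spanFinrank_map_eq_of_flat [IsLocalRing R] [IsLocalRing S] [Module.Flat R S]
    [IsLocalHom (algebraMap R S)] (I : Ideal R) (hI : I.FG) :
    (I.map (algebraMap R S)).spanFinrank = I.spanFinrank := by
  obtain ⟨e⟩ := nonempty_tensor_equiv_map (S := S) I
  have hIS : (I.map (algebraMap R S)).FG := hI.map _
  rw [← TensorProduct.spanFinrank_top_eq_of_residueField I hI,
    ← TensorProduct.spanFinrank_top_eq_of_residueField (I.map (algebraMap R S)) hIS,
    ← Module.finrank_eq_spanFinrank_of_free, ← Module.finrank_eq_spanFinrank_of_free]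
  let e0 : ResidueField S ⊗[S] (S ⊗[R] I) ≃ₗ[ResidueField S]
      ResidueField S ⊗[S] (I.map (algebraMap R S)) :=
    TensorProduct.AlgebraTensorModule.congr (LinearEquiv.refl _ _) e
  let e1 : ResidueField S ⊗[S] (S ⊗[R] I) ≃ₗ[ResidueField S] ResidueField S ⊗[R] I :=
    TensorProduct.AlgebraTensorModule.cancelBaseChange R S (ResidueField S) (ResidueField S) I
  let e2 : ResidueField S ⊗[ResidueField R] (ResidueField R ⊗[R] I) ≃ₗ[ResidueField S]
      ResidueField S ⊗[R] I :=
    TensorProduct.AlgebraTensorModule.cancelBaseChange R (ResidueField R) (ResidueField S)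
      (ResidueField S) I
  rw [← e0.finrank_eq, e1.finrank_eq, ← e2.finrank_eq, Module.finrank_baseChange]

end Flat

section Cpl

open TensorProduct

variable {R : Type u} [CommRing R] [IsRegularLocalRing R]

/-- `dim R̂/IR̂ = dim R/I`. -/
theorem ringKrullDim_cpl_quot (I : Ideal R) (hI : I ≠ ⊤) :
    ringKrullDim (EGA4.Cpl R ⧸ I.map (algebraMap R (EGA4.Cpl R))) = ringKrullDim (R ⧸ I) := by
  haveI : Nontrivial (R ⧸ I) := Ideal.Quotient.nontrivial_iff.mpr hI
  haveI : IsLocalRing (R ⧸ I) := inferInstance
  obtain ⟨e1⟩ := Groth.Agent.H29.CplQuot.nonempty_cplQuotEquiv R I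
  let e3 := Algebra.TensorProduct.quotIdealMapEquivQuotTensor (EGA4.Cpl R) I
  rw [ringKrullDim_eq_of_ringEquiv (e3.toRingEquiv.trans e1.symm.toRingEquiv)]
  exact Groth.Agent.S0547.result (R ⧸ I)

/-- **Descent along the completion**: `I` is generated by a regular sequence iff `I·R̂` is. -/
theorem regular_iff_map_cpl (I : Ideal R) (hI : I ≠ ⊤) :
    (∃ rs : List R, IsRegular R rs ∧ Ideal.ofList rs = I) ↔
      (∃ rs : List (EGA4.Cpl R), IsRegular (EGA4.Cpl R) rs ∧
        Ideal.ofList rs = I.map (algebraMap R (EGA4.Cpl R))) := by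
  haveI hN : IsNoetherianRing (EGA4.Cpl R) :=
    Groth.Agent.Lead.isNoetherianRing_adicCompletion (maximalIdeal R)
      (maximalIdeal R).fg_of_isNoetherianRing
  haveI hreg : IsRegularLocalRing (EGA4.Cpl R) := (Groth.Agent.S0548.result R).mp inferInstance
  haveI : Module.Flat R (EGA4.Cpl R) := AdicCompletion.flat_of_isNoetherian _
  have hI' : I.map (algebraMap R (EGA4.Cpl R)) ≠ ⊤ := by
    intro h
    have h1 : I.map (algebraMap R (EGA4.Cpl R)) ≤ maximalIdeal (EGA4.Cpl R) := by
      rw [AdicCompletion.maximalIdeal_eq_map]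
      exact Ideal.map_mono (le_maximalIdeal hI)
    rw [h] at h1
    exact (maximalIdeal.isMaximal (EGA4.Cpl R)).ne_top (top_le_iff.mp h1)
  rw [regular_iff_dim I hI, regular_iff_dim _ hI', ringKrullDim_cpl_quot I hI,
    spanFinrank_map_eq_of_flat I I.fg_of_isNoetherianRing]
  change _ ↔ _ ≤ ringKrullDim (AdicCompletion (maximalIdeal R) R)
  rw [Groth.Agent.S0547.result R]

end Cpl

theorem ker_equiv_comp_mk {A C : Type*} [CommRing A] [CommRing C] (K : Ideal A)
    (e : A ⧸ K ≃+* C) :
    RingHom.ker ((e : A ⧸ K →+* C).comp (Ideal.Quotient.mk K)) = K := by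
  ext x
  rw [RingHom.mem_ker, RingHom.comp_apply]
  change e (Ideal.Quotient.mk K x) = 0 ↔ _
  rw [map_eq_zero_iff e e.injective, Ideal.Quotient.eq_zero_iff_mem]

/-- The completion of `R/I` as a quotient of `R̂`. -/
theorem exists_cpl_surjective {R : Type u} [CommRing R] [IsRegularLocalRing R] (I : Ideal R)
    (hI : I ≠ ⊤) [IsLocalRing (R ⧸ I)] :
    ∃ f : EGA4.Cpl R →+* EGA4.Cpl (R ⧸ I), Function.Surjective f ∧
      RingHom.ker f = I.map (algebraMap R (EGA4.Cpl R)) := by
  haveI : Nontrivial (R ⧸ I) := Ideal.Quotient.nontrivial_iff.mpr hI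
  obtain ⟨e1⟩ := Groth.Agent.H29.CplQuot.nonempty_cplQuotEquiv R I
  let e3 := Algebra.TensorProduct.quotIdealMapEquivQuotTensor (EGA4.Cpl R) I
  let e : (EGA4.Cpl R ⧸ I.map (algebraMap R (EGA4.Cpl R))) ≃+* EGA4.Cpl (R ⧸ I) :=
    e3.toRingEquiv.trans e1.symm.toRingEquiv
  refine ⟨(e : (EGA4.Cpl R ⧸ I.map (algebraMap R (EGA4.Cpl R))) →+* EGA4.Cpl (R ⧸ I)).comp
    (Ideal.Quotient.mk (I.map (algebraMap R (EGA4.Cpl R)))),
    e.surjective.comp Ideal.Quotient.mk_surjective, ?_⟩
  exact ker_equiv_comp_mk _ e

/-- **Keystone**: being cut out by a regular sequence in a regular local ring only depends on the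
completion of the quotient. -/
theorem regular_iff_of_cplEquiv {R B : Type u} [CommRing R] [CommRing B] [IsRegularLocalRing R]
    [IsRegularLocalRing B] (I : Ideal R) (J : Ideal B) (hI : I ≠ ⊤) (hJ : J ≠ ⊤)
    [IsLocalRing (R ⧸ I)] [IsLocalRing (B ⧸ J)]
    (e : EGA4.Cpl (R ⧸ I) ≃+* EGA4.Cpl (B ⧸ J)) :
    (∃ rs : List R, IsRegular R rs ∧ Ideal.ofList rs = I) ↔
      (∃ rs : List B, IsRegular B rs ∧ Ideal.ofList rs = J) := by
  haveI : IsNoetherianRing (EGA4.Cpl R) :=
    Groth.Agent.Lead.isNoetherianRing_adicCompletion (maximalIdeal R)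
      (maximalIdeal R).fg_of_isNoetherianRing
  haveI : IsNoetherianRing (EGA4.Cpl B) :=
    Groth.Agent.Lead.isNoetherianRing_adicCompletion (maximalIdeal B)
      (maximalIdeal B).fg_of_isNoetherianRing
  haveI : IsRegularLocalRing (EGA4.Cpl R) := (Groth.Agent.S0548.result R).mp inferInstance
  haveI : IsRegularLocalRing (EGA4.Cpl B) := (Groth.Agent.S0548.result B).mp inferInstance
  rw [regular_iff_map_cpl I hI, regular_iff_map_cpl J hJ]
  obtain ⟨f, hf, hfk⟩ := exists_cpl_surjective I hI
  obtain ⟨g, hg, hgk⟩ := exists_cpl_surjective J hJ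
  have h := regular_ker_iff_of_complete ((e : _ →+* _).comp f) g (e.surjective.comp hf) hg
  have hk : RingHom.ker ((e : EGA4.Cpl (R ⧸ I) →+* EGA4.Cpl (B ⧸ J)).comp f) = RingHom.ker f := by
    ext x
    rw [RingHom.mem_ker, RingHom.mem_ker, RingHom.comp_apply]
    change e (f x) = 0 ↔ _
    rw [map_eq_zero_iff e e.injective]
  rw [hk, hfk, hgk] at h
  exact h

/-- If the completion of `R/I` (`R` regular local) is a regular local ring modulo a regular
sequence, then `I` is generated by a regular sequence. -/
theorem regular_of_cplEquiv_quot {R B : Type u} [CommRing R] [CommRing B] [IsRegularLocalRing R]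
    [IsRegularLocalRing B] (I : Ideal R) (hI : I ≠ ⊤) [IsLocalRing (R ⧸ I)]
    (rs : List B) (hrs : IsRegular B rs)
    (e : EGA4.Cpl (R ⧸ I) ≃+* B ⧸ Ideal.ofList rs) :
    ∃ rs' : List R, IsRegular R rs' ∧ Ideal.ofList rs' = I := by
  have hJ : Ideal.ofList rs ≠ ⊤ := by
    have := hrs.2
    simp only [smul_eq_mul, Ideal.mul_top] at this
    exact fun h => this h.symm
  haveI : Nontrivial (B ⧸ Ideal.ofList rs) := Ideal.Quotient.nontrivial_iff.mpr hJ
  haveI : IsLocalRing (B ⧸ Ideal.ofList rs) := inferInstance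
  haveI : Nontrivial (R ⧸ I) := Ideal.Quotient.nontrivial_iff.mpr hI
  haveI : IsNoetherianRing (R ⧸ I) := inferInstance
  obtain ⟨e1⟩ := Groth.Agent.H15.FormEq.nonempty_cplEquiv e
  haveI : IsAdicComplete (maximalIdeal (EGA4.Cpl (R ⧸ I))) (EGA4.Cpl (R ⧸ I)) := inferInstance
  let e2 : EGA4.Cpl (R ⧸ I) ≃+* EGA4.Cpl (EGA4.Cpl (R ⧸ I)) :=
    (AdicCompletion.ofAlgEquiv (maximalIdeal (EGA4.Cpl (R ⧸ I)))).toRingEquiv
  exact (regular_iff_of_cplEquiv I (Ideal.ofList rs) hI hJ (e2.trans e1)).mpr ⟨rs, hrs, rfl⟩

/-- Conversely, a regular ideal of a regular local ring has a complete intersection quotient. -/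
theorem isCompleteIntersection_quot {R : Type u} [CommRing R] [IsRegularLocalRing R]
    (I : Ideal R) (hI : I ≠ ⊤) [IsLocalRing (R ⧸ I)]
    (h : ∃ rs : List R, IsRegular R rs ∧ Ideal.ofList rs = I) :
    Pi1.IsCompleteIntersection (R ⧸ I) := by
  haveI : IsNoetherianRing (EGA4.Cpl R) :=
    Groth.Agent.Lead.isNoetherianRing_adicCompletion (maximalIdeal R)
      (maximalIdeal R).fg_of_isNoetherianRing
  haveI hreg : IsRegularLocalRing (EGA4.Cpl R) := (Groth.Agent.S0548.result R).mp inferInstance
  obtain ⟨rs', hrs', hrs'I⟩ := (regular_iff_map_cpl I hI).mp h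
  obtain ⟨f, hf, hfk⟩ := exists_cpl_surjective I hI
  have hmem : ∀ r ∈ rs', r ∈ maximalIdeal (EGA4.Cpl R) := by
    intro r hr
    have hne : Ideal.ofList rs' ≠ ⊤ := by
      have := hrs'.2
      simp only [smul_eq_mul, Ideal.mul_top] at this
      exact fun h => this h.symm
    exact le_maximalIdeal hne (Ideal.subset_span hr)
  refine ⟨EGA4.Cpl R, inferInstance, hreg, rs', hmem, hrs', ?_⟩
  have hk : RingHom.ker f = Ideal.span {r | r ∈ rs'} := by rw [hfk, ← hrs'I]
  exact ⟨((RingHom.quotientKerEquivOfSurjective hf).symm).trans (Ideal.quotEquivOfEq hk)⟩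

end Groth.Agent.H79.CIPres
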