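import Mathlib
import Groth.Agent.H79.CIPres

/-!
# Openness of the complete intersection locus of a quotient of a regular ring (helper79)
-/

set_option autoImplicit false
set_option linter.style.haveILetI false
set_option linter.unusedVariables false

universe u

open IsLocalRing RingTheory.Sequence

namespace Groth.Agent.H79.CIOpen

/-- `IsCompleteIntersection` is invariant under ring isomorphisms. -/
theorem isCI_of_ringEquiv {A A' : Type u} [CommRing A] [CommRing A'] [IsLocalRing A]
    [IsLocalRing A'] (e : A ≃+* A') (h : Pi1.IsCompleteIntersection A) :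
    Pi1.IsCompleteIntersection A' := by
  obtain ⟨B, hB, hBreg, rs, hm, hr, ⟨e0⟩⟩ := h
  obtain ⟨e1⟩ := Groth.Agent.H15.FormEq.nonempty_cplEquiv e
  exact ⟨B, hB, hBreg, rs, hm, hr, ⟨e1.symm.trans e0⟩⟩

/-- A regular local ring is a complete intersection. -/
theorem isCI_of_isRegularLocalRing (A : Type u) [CommRing A] [IsRegularLocalRing A] :
    Pi1.IsCompleteIntersection A := by
  haveI : IsNoetherianRing (EGA4.Cpl A) :=
    Groth.Agent.Lead.isNoetherianRing_adicCompletion (maximalIdeal A)
      (maximalIdeal A).fg_of_isNoetherianRing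
  haveI hreg : IsRegularLocalRing (EGA4.Cpl A) := (Groth.Agent.S0548.result A).mp inferInstance
  refine ⟨EGA4.Cpl A, inferInstance, hreg, [], by simp, ?_, ?_⟩
  · refine ⟨IsWeaklyRegular.nil _ _, ?_⟩
    simp only [Ideal.ofList_nil, Submodule.bot_smul]
    exact top_ne_bot
  · have h : Ideal.span {r : EGA4.Cpl A | r ∈ ([] : List (EGA4.Cpl A))} = ⊥ := by simp
    exact ⟨(RingEquiv.quotientBot _).symm.trans (Ideal.quotEquivOfEq h.symm)⟩

section Spread

variable {B : Type u} [CommRing B]

/-- Weak regularity of the image of a list in an algebra, as colon conditions. -/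
theorem isWeaklyRegular_map_iff (B' : Type u) [CommRing B'] [Algebra B B'] (as : List B) :
    IsWeaklyRegular B' (as.map (algebraMap B B')) ↔
      ∀ (i : ℕ) (hi : i < as.length), ∀ y : B',
        algebraMap B B' as[i] * y ∈ (Ideal.ofList (as.take i)).map (algebraMap B B') →
          y ∈ (Ideal.ofList (as.take i)).map (algebraMap B B') := by
  rw [isWeaklyRegular_iff]
  constructor
  · intro h i hi y hy
    have h1 := h i (by simpa using hi)
    rw [isSMulRegular_quotient_iff_mem_of_smul_mem] at h1
    have h2 := h1 y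
    simp only [List.getElem_map, ← List.map_take, ← Ideal.map_ofList, smul_eq_mul,
      Ideal.mul_top] at h2
    exact h2 hy
  · intro h i hi
    have hi' : i < as.length := by simpa using hi
    rw [isSMulRegular_quotient_iff_mem_of_smul_mem]
    intro y hy
    simp only [List.getElem_map, ← List.map_take, ← Ideal.map_ofList, smul_eq_mul,
      Ideal.mul_top] at hy ⊢
    exact h i hi' y hy

/-- Two ideals whose localizations at `P₀` are contained one in the other: contained up to a
multiplier outside `P₀`. -/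
theorem exists_notMem_mul_mem [IsNoetherianRing B] (P₀ : Ideal B) [P₀.IsPrime] (I K : Ideal B)
    (h : ∀ x ∈ I, algebraMap B (Localization.AtPrime P₀) x ∈
      K.map (algebraMap B (Localization.AtPrime P₀))) :
    ∃ g, g ∉ P₀ ∧ ∀ x ∈ I, g * x ∈ K := by
  classical
  obtain ⟨s, hs⟩ := (isNoetherianRing_iff_ideal_fg B).mp inferInstance I
  have h1 : ∀ c ∈ s, ∃ t, t ∉ P₀ ∧ t * c ∈ K := by
    intro c hc
    have hcI : c ∈ I := hs ▸ Ideal.subset_span hc
    obtain ⟨t, ht, htc⟩ :=
      (IsLocalization.algebraMap_mem_map_algebraMap_iff P₀.primeCompl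
        (Localization.AtPrime P₀) K c).mp (h c hcI)
    exact ⟨t, ht, htc⟩
  choose! t ht1 ht2 using h1
  refine ⟨∏ c ∈ s, t c, ?_, ?_⟩
  · intro hmem
    obtain ⟨c, hc, hcP⟩ := Ideal.IsPrime.prod_mem_iff.mp hmem
    exact ht1 c hc hcP
  · intro x hx
    rw [← hs] at hx
    induction hx using Submodule.span_induction with
    | mem c hc =>
      rw [← Finset.mul_prod_erase s t hc, mul_assoc, mul_comm, mul_assoc]
      exact Ideal.mul_mem_left _ _ (by rw [mul_comm]; exact ht2 c hc)
    | zero => simp
    | add a b _ _ ha hb => rw [mul_add]; exact Ideal.add_mem _ ha hb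
    | smul r a _ ha =>
      rw [smul_eq_mul, mul_left_comm]
      exact Ideal.mul_mem_left _ _ ha

/-- The colon condition in a localization from a multiplier. -/
theorem colon_localization (T : Submonoid B) (B' : Type u) [CommRing B'] [Algebra B B']
    [IsLocalization T B'] (J : Ideal B) (a g : B) (hg : g ∈ T)
    (hcolon : ∀ x, a * x ∈ J → g * x ∈ J) (y : B')
    (hy : algebraMap B B' a * y ∈ J.map (algebraMap B B')) :
    y ∈ J.map (algebraMap B B') := by
  obtain ⟨b, t, rfl⟩ := IsLocalization.exists_mk'_eq T y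
  have h1 : algebraMap B B' a * IsLocalization.mk' B' b t = IsLocalization.mk' B' (a * b) t := by
    rw [IsLocalization.mul_mk'_eq_mk'_of_mul]
  rw [h1, IsLocalization.mk'_mem_map_algebraMap_iff T] at hy
  obtain ⟨u, hu, hub⟩ := hy
  rw [IsLocalization.mk'_mem_map_algebraMap_iff T]
  refine ⟨g * u, T.mul_mem hg hu, ?_⟩
  rw [mul_assoc]
  apply hcolon
  rw [mul_left_comm]
  exact hub

/-- **Spreading out weak regularity** from a prime to a basic open neighbourhood. -/
theorem exists_forall_isWeaklyRegular [IsNoetherianRing B] (P₀ : Ideal B) [P₀.IsPrime]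
    (as : List B)
    (h : IsWeaklyRegular (Localization.AtPrime P₀)
      (as.map (algebraMap B (Localization.AtPrime P₀)))) :
    ∃ g, g ∉ P₀ ∧ ∀ (P : Ideal B) [P.IsPrime], g ∉ P →
      IsWeaklyRegular (Localization.AtPrime P) (as.map (algebraMap B (Localization.AtPrime P))) := by
  classical
  rw [isWeaklyRegular_map_iff] at h
  have h1 : ∀ i : Fin as.length, ∃ g, g ∉ P₀ ∧
      ∀ x, as[i] * x ∈ Ideal.ofList (as.take i) → g * x ∈ Ideal.ofList (as.take i) := by
    intro i
    let C : Ideal B := Submodule.comap (LinearMap.mulLeft B as[i]) (Ideal.ofList (as.take i))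
    have hC : ∀ x, x ∈ C ↔ as[i] * x ∈ Ideal.ofList (as.take i) := fun x => by
      simp [C, Submodule.mem_comap]
    obtain ⟨g, hg, hgC⟩ := exists_notMem_mul_mem P₀ C (Ideal.ofList (as.take i)) (by
      intro x hx
      apply h i i.2
      rw [← map_mul]
      exact Ideal.mem_map_of_mem _ ((hC x).mp hx))
    exact ⟨g, hg, fun x hx => hgC x ((hC x).mpr hx)⟩
  choose g hg1 hg2 using h1
  refine ⟨∏ i, g i, ?_, ?_⟩
  · intro hmem
    obtain ⟨i, -, hi⟩ := Ideal.IsPrime.prod_mem_iff.mp hmem
    exact hg1 i hi
  · intro P hP hgP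
    rw [isWeaklyRegular_map_iff]
    intro i hi y hy
    have hgi : g ⟨i, hi⟩ ∈ P.primeCompl := by
      intro hmem
      apply hgP
      exact Ideal.IsPrime.prod_mem_iff.mpr ⟨⟨i, hi⟩, Finset.mem_univ _, hmem⟩
    exact colon_localization P.primeCompl (Localization.AtPrime P) (Ideal.ofList (as.take i))
      as[i] (g ⟨i, hi⟩) hgi (hg2 ⟨i, hi⟩) y hy

end Spread

section Lift

variable {B : Type u} [CommRing B]

/-- Replace a regular sequence generating `I·B_P` by one consisting of images of elements of `I`. -/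
theorem exists_list_of_regular (P₀ : Ideal B) [P₀.IsPrime] (A : Type u) [CommRing A] [Algebra B A]
    [IsLocalization.AtPrime A P₀] [IsRegularLocalRing A] (I : Ideal B)
    (rs : List A) (hrs : IsRegular A rs)
    (hrsI : Ideal.ofList rs = I.map (algebraMap B A)) :
    ∃ as : List B, (∀ a ∈ as, a ∈ I) ∧
      Ideal.ofList (as.map (algebraMap B A)) = I.map (algebraMap B A) ∧
      IsWeaklyRegular A (as.map (algebraMap B A)) := by
  classical
  have hI : I.map (algebraMap B A) ≠ ⊤ := by
    rw [← hrsI]
    have := hrs.2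
    simp only [smul_eq_mul, Ideal.mul_top] at this
    exact fun h => this h.symm
  -- lifting function
  have hlift : ∀ r : A, r ∈ I.map (algebraMap B A) →
      ∃ a : B, a ∈ I ∧ ∃ u : A, IsUnit u ∧ algebraMap B A a = r * u := by
    intro r hr
    obtain ⟨⟨x, s⟩, hx⟩ := (IsLocalization.mem_map_algebraMap_iff P₀.primeCompl A).mp hr
    exact ⟨x.1, x.2, algebraMap B A s, IsLocalization.map_units A s, hx.symm⟩
  let φ : A → B := fun r => if h : r ∈ I.map (algebraMap B A) then (hlift r h).choose else 0
  have hφ1 : ∀ r ∈ rs, φ r ∈ I := by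
    intro r hr
    have h : r ∈ I.map (algebraMap B A) := hrsI ▸ Ideal.subset_span hr
    simp only [φ, dif_pos h]
    exact (hlift r h).choose_spec.1
  have hφ2 : ∀ r ∈ rs, ∃ u : A, IsUnit u ∧ algebraMap B A (φ r) = r * u := by
    intro r hr
    have h : r ∈ I.map (algebraMap B A) := hrsI ▸ Ideal.subset_span hr
    simp only [φ, dif_pos h]
    exact (hlift r h).choose_spec.2
  have hideal : Ideal.ofList ((rs.map φ).map (algebraMap B A)) = Ideal.ofList rs := by
    apply le_antisymm
    · rw [Ideal.span_le]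
      intro x hx
      simp only [List.map_map, Set.mem_ofPred_eq, List.mem_map, Function.comp_apply] at hx
      obtain ⟨r, hr, rfl⟩ := hx
      obtain ⟨u, hu, hru⟩ := hφ2 r hr
      rw [hru]
      exact Ideal.mul_mem_right _ _ (Ideal.subset_span hr)
    · rw [Ideal.span_le]
      intro r hr
      obtain ⟨u, hu, hru⟩ := hφ2 r hr
      obtain ⟨v, rfl⟩ := hu
      have h1 : r = algebraMap B A (φ r) * (↑v⁻¹ : A) := by
        rw [hru, mul_assoc, Units.mul_inv, mul_one]
      rw [SetLike.mem_coe, h1]
      apply Ideal.mul_mem_right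
      apply Ideal.subset_span
      simp only [List.map_map, Set.mem_ofPred_eq, List.mem_map, Function.comp_apply]
      exact ⟨r, hr, rfl⟩
  refine ⟨rs.map φ, ?_, by rw [hideal, hrsI], ?_⟩
  · intro a ha
    obtain ⟨r, hr, rfl⟩ := List.mem_map.mp ha
    exact hφ1 r hr
  · have hmem : ∀ x ∈ (rs.map φ).map (algebraMap B A), x ∈ maximalIdeal A := by
      intro x hx
      apply le_maximalIdeal hI
      rw [← hrsI, ← hideal]
      exact Ideal.subset_span hx
    have hCM := Groth.Agent.H21.HilbertCI.isCM_of_isRegularLocalRing A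
    have key := (Groth.Agent.H29.CM.isWeaklyRegular_iff_of_isCM
      ((rs.map φ).map (algebraMap B A)) A hCM hmem).1
    rw [key, Groth.Agent.H79.CIPres.supportDim_quot_ofList,
      Module.supportDim_self_eq_ringKrullDim, hideal]
    have h1 := ringKrullDim_add_length_eq_ringKrullDim_of_isRegular rs hrs
    simpa using h1

end Lift

section Iso

variable {B : Type u} [CommRing B]

/-- The local ring of `B/I` at a prime is the quotient of the local ring of `B`. -/
theorem nonempty_atPrime_quotient_equiv (I : Ideal B) (q : Ideal (B ⧸ I)) [q.IsPrime] :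
    haveI : (q.comap (Ideal.Quotient.mk I)).IsPrime := Ideal.comap_isPrime _ _
    Nonempty (Localization.AtPrime q ≃+*
      (Localization.AtPrime (q.comap (Ideal.Quotient.mk I)) ⧸
        I.map (algebraMap B (Localization.AtPrime (q.comap (Ideal.Quotient.mk I)))))) := by
  haveI hP : (q.comap (Ideal.Quotient.mk I)).IsPrime := Ideal.comap_isPrime _ _
  set P := q.comap (Ideal.Quotient.mk I) with hPdef
  have hsurj : Function.Surjective (Ideal.Quotient.mk I) := Ideal.Quotient.mk_surjective
  have hsub : Algebra.algebraMapSubmonoid (B ⧸ I) P.primeCompl = q.primeCompl := by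
    ext x
    constructor
    · rintro ⟨a, ha, rfl⟩
      exact ha
    · intro hx
      obtain ⟨a, rfl⟩ := hsurj x
      exact ⟨a, hx, rfl⟩
  haveI : IsLocalization.AtPrime
      (Localization.AtPrime P ⧸ I.map (algebraMap B (Localization.AtPrime P))) q := by
    show IsLocalization q.primeCompl _
    rw [← hsub]
    infer_instance
  exact ⟨(IsLocalization.algEquiv q.primeCompl (Localization.AtPrime q)
    (Localization.AtPrime P ⧸ I.map (algebraMap B (Localization.AtPrime P)))).toRingEquiv⟩

end Iso

section Main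

variable (B : Type u) [CommRing B] [IsRegularRing B] (I : Ideal B)

/-- For `q` a prime of `B/I` with preimage `P`: the local ring at `q` is a complete intersection
iff `I·B_P` is generated by a regular sequence. -/
theorem isCI_atPrime_iff (q : Ideal (B ⧸ I)) [q.IsPrime] :
    haveI : (q.comap (Ideal.Quotient.mk I)).IsPrime := Ideal.comap_isPrime _ _
    Pi1.IsCompleteIntersection (Localization.AtPrime q) ↔
      ∃ rs : List (Localization.AtPrime (q.comap (Ideal.Quotient.mk I))),
        IsRegular (Localization.AtPrime (q.comap (Ideal.Quotient.mk I))) rs ∧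
        Ideal.ofList rs =
          I.map (algebraMap B (Localization.AtPrime (q.comap (Ideal.Quotient.mk I)))) := by
  haveI hP : (q.comap (Ideal.Quotient.mk I)).IsPrime := Ideal.comap_isPrime _ _
  obtain ⟨e⟩ := nonempty_atPrime_quotient_equiv I q
  have hIP : I ≤ q.comap (Ideal.Quotient.mk I) := by
    intro x hx
    rw [Ideal.mem_comap, Ideal.Quotient.eq_zero_iff_mem.mpr hx]
    exact zero_mem _
  have hne : I.map (algebraMap B (Localization.AtPrime (q.comap (Ideal.Quotient.mk I)))) ≠ ⊤ := by
    intro h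
    have h1 := Ideal.map_mono (f := algebraMap B (Localization.AtPrime
      (q.comap (Ideal.Quotient.mk I)))) hIP
    rw [h, Localization.AtPrime.map_eq_maximalIdeal] at h1
    exact (maximalIdeal.isMaximal _).ne_top (top_le_iff.mp h1)
  haveI : Nontrivial (Localization.AtPrime (q.comap (Ideal.Quotient.mk I)) ⧸
      I.map (algebraMap B (Localization.AtPrime (q.comap (Ideal.Quotient.mk I))))) :=
    Ideal.Quotient.nontrivial_iff.mpr hne
  haveI : IsLocalRing (Localization.AtPrime (q.comap (Ideal.Quotient.mk I)) ⧸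
      I.map (algebraMap B (Localization.AtPrime (q.comap (Ideal.Quotient.mk I))))) := inferInstance
  constructor
  · intro h
    obtain ⟨B', hB', hB'reg, rs', hm, hr, ⟨e'⟩⟩ := isCI_of_ringEquiv e h
    exact Groth.Agent.H79.CIPres.regular_of_cplEquiv_quot _ hne rs' hr e'
  · intro h
    exact isCI_of_ringEquiv e.symm (Groth.Agent.H79.CIPres.isCompleteIntersection_quot _ hne h)

/-- **The complete intersection locus of a quotient of a regular ring is open.** -/
theorem isOpen_CI :
    IsOpen {q : PrimeSpectrum (B ⧸ I) |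
      Pi1.IsCompleteIntersection (Localization.AtPrime q.asIdeal)} := by
  rw [isOpen_iff_forall_mem_open]
  intro q₀ hq₀
  haveI hP₀ : (q₀.asIdeal.comap (Ideal.Quotient.mk I)).IsPrime := Ideal.comap_isPrime _ _
  obtain ⟨rs, hrs, hrsI⟩ := (isCI_atPrime_iff B I q₀.asIdeal).mp hq₀
  obtain ⟨as, has1, has2, has3⟩ := exists_list_of_regular (q₀.asIdeal.comap (Ideal.Quotient.mk I))
    (Localization.AtPrime (q₀.asIdeal.comap (Ideal.Quotient.mk I))) I rs hrs hrsI
  obtain ⟨g₁, hg₁, hg₁'⟩ :=
    exists_forall_isWeaklyRegular (q₀.asIdeal.comap (Ideal.Quotient.mk I)) as has3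
  obtain ⟨g₂, hg₂, hg₂'⟩ := exists_notMem_mul_mem (q₀.asIdeal.comap (Ideal.Quotient.mk I)) I
    (Ideal.ofList as) (by
      intro x hx
      rw [Ideal.map_ofList, has2]
      exact Ideal.mem_map_of_mem _ hx)
  refine ⟨(PrimeSpectrum.basicOpen (Ideal.Quotient.mk I (g₁ * g₂))).1, ?_,
    (PrimeSpectrum.basicOpen _).2, ?_⟩
  · intro q hq
    have hq' : g₁ * g₂ ∉ q.asIdeal.comap (Ideal.Quotient.mk I) := hq
    haveI hP : (q.asIdeal.comap (Ideal.Quotient.mk I)).IsPrime := Ideal.comap_isPrime _ _
    have hq1 : g₁ ∉ q.asIdeal.comap (Ideal.Quotient.mk I) := fun h =>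
      hq' (Ideal.mul_mem_right _ _ h)
    have hq2 : g₂ ∉ q.asIdeal.comap (Ideal.Quotient.mk I) := fun h =>
      hq' (Ideal.mul_mem_left _ _ h)
    have hIP : I ≤ q.asIdeal.comap (Ideal.Quotient.mk I) := by
      intro x hx
      rw [Ideal.mem_comap, Ideal.Quotient.eq_zero_iff_mem.mpr hx]
      exact zero_mem _
    rw [Set.mem_ofPred_eq, isCI_atPrime_iff B I q.asIdeal]
    have hw := hg₁' (q.asIdeal.comap (Ideal.Quotient.mk I)) hq1
    have hmem : ∀ x ∈ as.map (algebraMap B (Localization.AtPrime
        (q.asIdeal.comap (Ideal.Quotient.mk I)))), x ∈ maximalIdeal (Localization.AtPrime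
        (q.asIdeal.comap (Ideal.Quotient.mk I))) := by
      intro x hx
      obtain ⟨a, ha, rfl⟩ := List.mem_map.mp hx
      rw [← Localization.AtPrime.map_eq_maximalIdeal]
      exact Ideal.mem_map_of_mem _ (hIP (has1 a ha))
    refine ⟨_, (IsLocalRing.isRegular_iff_isWeaklyRegular_of_subset_maximalIdeal hmem).mpr hw, ?_⟩
    rw [← Ideal.map_ofList]
    apply le_antisymm
    · apply Ideal.map_mono
      rw [Ideal.span_le]
      exact fun a ha => has1 a ha
    · rw [Ideal.map_le_iff_le_comap]
      intro x hx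
      rw [Ideal.mem_comap, IsLocalization.algebraMap_mem_map_algebraMap_iff
        (q.asIdeal.comap (Ideal.Quotient.mk I)).primeCompl]
      exact ⟨g₂, hq2, hg₂' x hx⟩
  · show g₁ * g₂ ∉ q₀.asIdeal.comap (Ideal.Quotient.mk I)
    intro h
    rcases hP₀.mem_or_mem h with h | h
    · exact hg₁ h
    · exact hg₂ h

end Main

end Groth.Agent.H79.CIOpen
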