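import Mathlib

/-! Lattices over one-dimensional Noetherian domains: clearing denominators, finite length of
quotients, additivity of length in chains of submodules. -/

set_option autoImplicit false

namespace Groth.Agent.H79.Lattice

open Submodule

section clear

variable {R K V : Type*} [CommRing R] [IsDomain R] [Field K] [Algebra R K] [IsFractionRing R K]
  [AddCommGroup V] [Module K V] [Module R V] [IsScalarTower R K V]

theorem algebraMap_ne_zero {a : R} (ha : a ≠ 0) : algebraMap R K a ≠ 0 :=
  fun h0 => ha ((map_eq_zero_iff _ (IsFractionRing.injective R K)).1 h0)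

/-- clearing denominators -/
theorem exists_smul_mem (N : Submodule R V) (hN : Submodule.span K (N : Set V) = ⊤) (v : V) :
    ∃ a : R, a ≠ 0 ∧ a • v ∈ N := by
  have hv : v ∈ Submodule.span K (N : Set V) := by rw [hN]; trivial
  induction hv using Submodule.span_induction with
  | mem x hx => exact ⟨1, one_ne_zero, by simpa using hx⟩
  | zero => exact ⟨1, one_ne_zero, by simp⟩
  | add x y _ _ hx hy =>
    obtain ⟨a, ha, hax⟩ := hx
    obtain ⟨b, hb, hby⟩ := hy
    refine ⟨a * b, mul_ne_zero ha hb, ?_⟩
    rw [smul_add]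
    refine N.add_mem ?_ ?_
    · rw [mul_comm, mul_smul]; exact N.smul_mem b hax
    · rw [mul_smul]; exact N.smul_mem a hby
  | smul k x _ hx =>
    obtain ⟨a, ha, hax⟩ := hx
    obtain ⟨r, s, hs, rfl⟩ := IsFractionRing.div_surjective (A := R) k
    have hs0 : s ≠ 0 := nonZeroDivisors.ne_zero hs
    have hs0' : algebraMap R K s ≠ 0 := algebraMap_ne_zero hs0
    refine ⟨a * s, mul_ne_zero ha hs0, ?_⟩
    have h1 : (a * s) • ((algebraMap R K r / algebraMap R K s) • x) = r • (a • x) := by
      rw [← algebraMap_smul K (a * s), ← algebraMap_smul K r, ← algebraMap_smul K a, smul_smul,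
        smul_smul]
      congr 1
      rw [map_mul]
      field_simp
    rw [h1]
    exact N.smul_mem r hax

theorem mem_span_of_smul_mem (N : Submodule R V) {a : R} (ha : a ≠ 0) {x : V} (hax : a • x ∈ N) :
    x ∈ Submodule.span K (N : Set V) := by
  have h2 : x = (algebraMap R K a)⁻¹ • (a • x) := by
    rw [← algebraMap_smul K a x, smul_smul, inv_mul_cancel₀ (algebraMap_ne_zero ha), one_smul]
  rw [h2]
  exact Submodule.smul_mem _ _ (Submodule.subset_span hax)

theorem exists_smul_le (M N : Submodule R V) (hM : M.FG)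
    (hN : Submodule.span K (N : Set V) = ⊤) :
    ∃ a : R, a ≠ 0 ∧ ∀ m ∈ M, a • m ∈ N := by
  classical
  obtain ⟨S, rfl⟩ := hM
  induction S using Finset.induction_on with
  | empty =>
    refine ⟨1, one_ne_zero, fun m hm => ?_⟩
    simp only [Finset.coe_empty, Submodule.span_empty, Submodule.mem_bot] at hm
    simp [hm]
  | insert x S _ ih =>
    obtain ⟨a, ha, h1⟩ := ih
    obtain ⟨b, hb, h2⟩ := exists_smul_mem (K := K) N hN x
    refine ⟨a * b, mul_ne_zero ha hb, ?_⟩
    intro m hm
    rw [Finset.coe_insert, Submodule.mem_span_insert] at hm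
    obtain ⟨c, z, hz, rfl⟩ := hm
    rw [smul_add]
    refine N.add_mem ?_ ?_
    · rw [smul_comm (a * b) c x, mul_smul]
      exact N.smul_mem c (N.smul_mem a h2)
    · rw [mul_comm, mul_smul]
      exact N.smul_mem b (h1 z hz)

theorem span_inf (M M' : Submodule R V) (hM : Submodule.span K (M : Set V) = ⊤)
    (hM' : Submodule.span K (M' : Set V) = ⊤) :
    Submodule.span K ((M ⊓ M' : Submodule R V) : Set V) = ⊤ := by
  rw [eq_top_iff, ← hM, Submodule.span_le]
  intro x hx
  obtain ⟨a, ha, hax⟩ := exists_smul_mem (K := K) M' hM' x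
  have h1 : a • x ∈ M ⊓ M' := ⟨M.smul_mem a hx, hax⟩
  exact mem_span_of_smul_mem (M ⊓ M') ha h1

end clear

section finlen

theorem isFiniteLength_of_smul_eq_zero {R M : Type*} [CommRing R] [IsNoetherianRing R]
    [Ring.KrullDimLE 1 R] [AddCommGroup M] [Module R M] [Module.Finite R M] (a : R)
    (ha : a ∈ nonZeroDivisors R) (h : ∀ m : M, a • m = 0) : IsFiniteLength R M := by
  have htors : Module.IsTorsionBySet R M ((Ideal.span {a} : Ideal R) : Set R) := by
    intro x r
    obtain ⟨c, hc⟩ := Ideal.mem_span_singleton'.1 r.2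
    rw [← hc, mul_smul, h, smul_zero]
  letI := htors.module
  haveI : IsScalarTower R (R ⧸ Ideal.span {a}) M := htors.isScalarTower
  haveI hart : IsArtinianRing (R ⧸ Ideal.span {a}) := by
    rw [isArtinianRing_iff_krullDimLE_zero, Ring.KrullDimLE, Order.krullDimLE_iff,
      ← ENat.WithBot.add_le_add_one_right_iff, Nat.cast_zero, zero_add]
    exact (ringKrullDim_quotient_succ_le_of_nonZeroDivisor ha).trans
      (Order.KrullDimLE.krullDim_le)
  haveI : Module.Finite (R ⧸ Ideal.span {a}) M :=
    Module.Finite.of_restrictScalars_finite R (R ⧸ Ideal.span {a}) M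
  haveI : IsArtinian (R ⧸ Ideal.span {a}) M := inferInstance
  have hA : IsArtinian R M :=
    isArtinian_of_surjective_algebraMap (R := R ⧸ Ideal.span {a}) Ideal.Quotient.mk_surjective
  exact isFiniteLength_iff_isNoetherian_isArtinian.2 ⟨inferInstance, hA⟩

variable {R K V : Type*} [CommRing R] [IsDomain R] [Field K] [Algebra R K] [IsFractionRing R K]
  [AddCommGroup V] [Module K V] [Module R V] [IsScalarTower R K V]

theorem isFiniteLength_quot [IsNoetherianRing R] [Ring.KrullDimLE 1 R] (M N : Submodule R V)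
    (hM : M.FG) (hN : Submodule.span K (N : Set V) = ⊤) :
    IsFiniteLength R (↥M ⧸ N.submoduleOf M) := by
  obtain ⟨a, ha, h⟩ := exists_smul_le (K := K) M N hM hN
  haveI : Module.Finite R ↥M := Module.Finite.iff_fg.2 hM
  apply isFiniteLength_of_smul_eq_zero a (mem_nonZeroDivisors_of_ne_zero ha)
  intro q
  obtain ⟨m, rfl⟩ := Submodule.Quotient.mk_surjective _ q
  rw [← Submodule.Quotient.mk_smul, Submodule.Quotient.mk_eq_zero]
  exact h m.1 m.2

end finlen

section add

variable {R V : Type*} [CommRing R] [AddCommGroup V] [Module R V]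

theorem length_add (N P M : Submodule R V) (hNP : N ≤ P) (hPM : P ≤ M) :
    Module.length R (↥M ⧸ N.submoduleOf M) =
      Module.length R (↥P ⧸ N.submoduleOf P) + Module.length R (↥M ⧸ P.submoduleOf M) := by
  let f : (↥P ⧸ N.submoduleOf P) →ₗ[R] (↥M ⧸ N.submoduleOf M) :=
    Submodule.mapQ _ _ (Submodule.inclusion hPM) (by intro x hx; exact hx)
  let g : (↥M ⧸ N.submoduleOf M) →ₗ[R] (↥M ⧸ P.submoduleOf M) :=
    Submodule.mapQ _ _ LinearMap.id (by intro x hx; exact hNP hx)
  apply Module.length_eq_add_of_exact f g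
  · rw [← LinearMap.ker_eq_bot, LinearMap.ker_eq_bot']
    intro q hq
    obtain ⟨p, rfl⟩ := Submodule.Quotient.mk_surjective _ q
    rw [Submodule.mapQ_apply, Submodule.Quotient.mk_eq_zero] at hq
    rw [Submodule.Quotient.mk_eq_zero]
    exact hq
  · intro q
    obtain ⟨m, rfl⟩ := Submodule.Quotient.mk_surjective _ q
    exact ⟨Submodule.Quotient.mk m, by rw [Submodule.mapQ_apply]; rfl⟩
  · intro q
    constructor
    · intro hq
      obtain ⟨m, rfl⟩ := Submodule.Quotient.mk_surjective _ q
      rw [Submodule.mapQ_apply, Submodule.Quotient.mk_eq_zero] at hq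
      refine ⟨Submodule.Quotient.mk ⟨m.1, hq⟩, ?_⟩
      rw [Submodule.mapQ_apply]
      rfl
    · rintro ⟨p, rfl⟩
      obtain ⟨p, rfl⟩ := Submodule.Quotient.mk_surjective _ p
      rw [Submodule.mapQ_apply, Submodule.mapQ_apply, Submodule.Quotient.mk_eq_zero]
      exact p.2

end add

end Groth.Agent.H79.Lattice
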