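import Mathlib

set_option autoImplicit false

namespace Groth.Agent.H79.LenLoc

open LocalizedModule

section
variable {R : Type*} [CommRing R] (S : Submonoid R)
variable {N M P : Type*} [AddCommGroup N] [AddCommGroup M] [AddCommGroup P]
  [Module R N] [Module R M] [Module R P]

theorem map_exact' (f : N →ₗ[R] M) (g : M →ₗ[R] P) (H : Function.Exact f g) :
    Function.Exact (LocalizedModule.map S f) (LocalizedModule.map S g) :=
  LocalizedModule.map_exact S f g H

/-- additivity of the length of localisations in short exact sequences -/
theorem length_localized_exact (f : N →ₗ[R] M) (g : M →ₗ[R] P) (hf : Function.Injective f)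
    (hg : Function.Surjective g) (H : Function.Exact f g) :
    Module.length (Localization S) (LocalizedModule S M) =
      Module.length (Localization S) (LocalizedModule S N) +
        Module.length (Localization S) (LocalizedModule S P) :=
  Module.length_eq_add_of_exact (LocalizedModule.map S f) (LocalizedModule.map S g)
    (LocalizedModule.map_injective S f hf) (LocalizedModule.map_surjective S g hg)
    (map_exact' S f g H)

theorem length_localized_congr (e : N ≃ₗ[R] M) :
    Module.length (Localization S) (LocalizedModule S N) =
      Module.length (Localization S) (LocalizedModule S M) :=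
  (IsLocalizedModule.mapEquiv S (mkLinearMap S N) (mkLinearMap S M) (Localization S) e).length_eq

/-- additivity along a submodule -/
theorem length_localized_submodule (Q : Submodule R M) :
    Module.length (Localization S) (LocalizedModule S M) =
      Module.length (Localization S) (LocalizedModule S Q) +
        Module.length (Localization S) (LocalizedModule S (M ⧸ Q)) :=
  length_localized_exact S Q.subtype Q.mkQ Q.injective_subtype Q.mkQ_surjective
    (LinearMap.exact_subtype_mkQ Q)

end

/-- the localisation of a simple module at a maximal ideal has length `1` or `0`. -/
theorem length_localized_simple {R : Type*} [CommRing R] (T : Type*) [AddCommGroup T] [Module R T]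
    [IsSimpleModule R T] (m : Ideal R) [hm : m.IsMaximal] :
    Module.length (Localization.AtPrime m) (LocalizedModule m.primeCompl T) =
      if Module.annihilator R T = m then 1 else 0 := by
  classical
  split_ifs with h
  · haveI : IsSimpleModule (Localization.AtPrime m) (LocalizedModule m.primeCompl T) := by
      have hkill : ∀ r ∈ m, ∀ x : T, r • x = 0 := fun r hr x => by
        rw [← h] at hr; exact Module.mem_annihilator.1 hr x
      have hne : ∀ x : T, x ≠ 0 → ∀ s : m.primeCompl, (s : R) • x ≠ 0 := by
        intro x hx s hsx
        obtain ⟨y, i, hi, hyi⟩ := hm.exists_inv s.2
        apply hx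
        calc x = (1 : R) • x := (one_smul _ _).symm
          _ = (y * s + i) • x := by rw [hyi]
          _ = 0 := by rw [add_smul, mul_smul, hsx, smul_zero, hkill i hi, add_zero]
      haveI : Nontrivial (LocalizedModule m.primeCompl T) := by
        haveI : Nontrivial T := IsSimpleModule.nontrivial R T
        obtain ⟨x, hx⟩ := exists_ne (0 : T)
        refine ⟨⟨mk x 1, 0, fun h0 => ?_⟩⟩
        rw [← zero_mk (1 : m.primeCompl), mk_eq] at h0
        obtain ⟨u, hu⟩ := h0
        simp only [one_smul, smul_zero] at hu
        exact hne x hx u hu
      rw [isSimpleModule_iff]
      refine { toNontrivial := inferInstance, eq_bot_or_eq_top := fun N' => ?_ }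
      let N0 : Submodule R T :=
        (N'.restrictScalars R).comap (mkLinearMap m.primeCompl T)
      rcases eq_bot_or_eq_top N0 with hN | hN
      · left
        rw [eq_bot_iff]
        intro y hy
        induction y using LocalizedModule.induction_on with
        | h x s =>
          have h1 : (s : R) • mk x s ∈ N'.restrictScalars R :=
            Submodule.smul_mem _ _ hy
          rw [smul'_mk, ← Submonoid.smul_def, mk_cancel] at h1
          have h2 : x ∈ N0 := h1
          rw [hN, Submodule.mem_bot] at h2
          rw [h2, zero_mk]
          exact Submodule.zero_mem _
      · right
        rw [eq_top_iff]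
        intro y _
        induction y using LocalizedModule.induction_on with
        | h x s =>
          have h1 : mk x s = (Localization.mk 1 s : Localization m.primeCompl) • mk x 1 := by
            rw [mk_smul_mk, one_smul, mul_one]
          rw [h1]
          refine N'.smul_mem _ ?_
          have h2 : x ∈ N0 := by rw [hN]; exact Submodule.mem_top
          exact h2
    exact Module.length_eq_one _ _
  · have hn : (Module.annihilator R T).IsMaximal := IsSimpleModule.annihilator_isMaximal
    have hnle : ¬ Module.annihilator R T ≤ m := fun hle =>
      h (hn.eq_of_le hm.ne_top hle)
    obtain ⟨s, hs, hsm⟩ := SetLike.not_le_iff_exists.1 hnle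
    haveI : Subsingleton (LocalizedModule m.primeCompl T) :=
      LocalizedModule.subsingleton_iff.2 fun x => ⟨s, hsm, Module.mem_annihilator.1 hs x⟩
    exact Module.length_eq_zero

end Groth.Agent.H79.LenLoc
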