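import Mathlib
import Groth.Agent.H79.CIOpen
import Groth.Agent.H15.FlatQuot
import Groth.Agent.H63.GeomRegKey

/-!
# Complete intersections and flat local base change (helper79)

* `regular_iff_map_of_flat`: for a flat local homomorphism `R → R'` of regular local rings, an ideal
  `I` is generated by a regular sequence iff `I·R'` is.
* `isCI_tensor_atPrime_iff`: for a local `k`-algebra `O` essentially of finite type, `K/k` a field
  extension and `Q` a prime of `K ⊗ O` over `m_O`: `O` is a complete intersection iff `(K ⊗ O)_Q` is.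
-/

set_option autoImplicit false
set_option linter.style.haveILetI false
set_option linter.unusedVariables false

universe u

open IsLocalRing RingTheory.Sequence TensorProduct

namespace Groth.Agent.H79.CIBaseChange

/-- **Flat local base change** of "generated by a regular sequence" between regular local rings. -/
theorem regular_iff_map_of_flat {R R' : Type u} [CommRing R] [CommRing R'] [IsRegularLocalRing R]
    [IsRegularLocalRing R'] [Algebra R R'] [Module.Flat R R'] [IsLocalHom (algebraMap R R')]
    (I : Ideal R) (hI : I ≠ ⊤) :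
    (∃ rs : List R, IsRegular R rs ∧ Ideal.ofList rs = I) ↔
      (∃ rs : List R', IsRegular R' rs ∧ Ideal.ofList rs = I.map (algebraMap R R')) := by
  have hI' : I.map (algebraMap R R') ≠ ⊤ := by
    intro h
    have h1 : I.map (algebraMap R R') ≤ maximalIdeal R' :=
      (Ideal.map_mono (le_maximalIdeal hI)).trans (map_maximalIdeal_le (algebraMap R R'))
    rw [h] at h1
    exact (maximalIdeal.isMaximal R').ne_top (top_le_iff.mp h1)
  rw [Groth.Agent.H79.CIPres.regular_iff_dim I hI, Groth.Agent.H79.CIPres.regular_iff_dim _ hI',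
    Groth.Agent.H79.CIPres.spanFinrank_map_eq_of_flat I I.fg_of_isNoetherianRing,
    Groth.Agent.H15.FlatQuot.ringKrullDim_quotient_map (B := R') I hI,
    Groth.Agent.H29.FlatCM.ringKrullDim_eq_add_fibre (A := R) (B := R')]
  obtain ⟨f, hf⟩ := Groth.Agent.H15.FlatQuot.exists_nat_ringKrullDim (EGA4.FibRing R R')
  haveI : Nontrivial (R ⧸ I) := Ideal.Quotient.nontrivial_iff.mpr hI
  obtain ⟨a, ha⟩ := Groth.Agent.H15.FlatQuot.exists_nat_ringKrullDim (R ⧸ I)
  obtain ⟨d, hd⟩ := Groth.Agent.H15.FlatQuot.exists_nat_ringKrullDim R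
  rw [hf, ha, hd]
  norm_cast
  omega

/-- Complete intersection transfers along a flat local homomorphism of regular local rings:
`R/I` is CI iff `R'/IR'` is CI. -/
theorem isCI_iff_of_flat_regular {R R' O O' : Type u} [CommRing R] [CommRing R']
    [IsRegularLocalRing R] [IsRegularLocalRing R'] [Algebra R R'] [Module.Flat R R']
    [IsLocalHom (algebraMap R R')] [CommRing O] [IsLocalRing O] [CommRing O'] [IsLocalRing O']
    (I : Ideal R) (hIne : I ≠ ⊤) (eO : (R ⧸ I) ≃+* O)
    (eQ : O' ≃+* (R' ⧸ I.map (algebraMap R R'))) :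
    Pi1.IsCompleteIntersection O ↔ Pi1.IsCompleteIntersection O' := by
  have hI'ne : I.map (algebraMap R R') ≠ ⊤ := by
    intro h
    have h1 : I.map (algebraMap R R') ≤ maximalIdeal R' :=
      (Ideal.map_mono (le_maximalIdeal hIne)).trans (map_maximalIdeal_le (algebraMap R R'))
    rw [h] at h1
    exact (maximalIdeal.isMaximal R').ne_top (top_le_iff.mp h1)
  haveI : Nontrivial (R ⧸ I) := Ideal.Quotient.nontrivial_iff.mpr hIne
  haveI : IsLocalRing (R ⧸ I) := inferInstance
  haveI : Nontrivial (R' ⧸ I.map (algebraMap R R')) := Ideal.Quotient.nontrivial_iff.mpr hI'ne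
  haveI : IsLocalRing (R' ⧸ I.map (algebraMap R R')) := inferInstance
  have h1 : Pi1.IsCompleteIntersection O ↔
      ∃ rs : List R, IsRegular R rs ∧ Ideal.ofList rs = I := by
    constructor
    · intro h
      obtain ⟨B', hB', hB'reg, rs', hm, hr, ⟨e'⟩⟩ :=
        Groth.Agent.H79.CIOpen.isCI_of_ringEquiv eO.symm h
      exact Groth.Agent.H79.CIPres.regular_of_cplEquiv_quot I hIne rs' hr e'
    · intro h
      exact Groth.Agent.H79.CIOpen.isCI_of_ringEquiv eO
        (Groth.Agent.H79.CIPres.isCompleteIntersection_quot I hIne h)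
  have h2 : Pi1.IsCompleteIntersection O' ↔
      ∃ rs : List R', IsRegular R' rs ∧ Ideal.ofList rs = I.map (algebraMap R R') := by
    constructor
    · intro h
      obtain ⟨B', hB', hB'reg, rs', hm, hr, ⟨e'⟩⟩ :=
        Groth.Agent.H79.CIOpen.isCI_of_ringEquiv eQ h
      exact Groth.Agent.H79.CIPres.regular_of_cplEquiv_quot _ hI'ne rs' hr e'
    · intro h
      exact Groth.Agent.H79.CIOpen.isCI_of_ringEquiv eQ.symm
        (Groth.Agent.H79.CIPres.isCompleteIntersection_quot _ hI'ne h)
  rw [h1, h2]
  exact regular_iff_map_of_flat I hIne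

section Presentation

variable (k : Type u) [Field k] (O : Type u) [CommRing O] [IsLocalRing O] [Algebra k O]
  [Algebra.EssFiniteType k O]

/-- A local `k`-algebra essentially of finite type is a quotient of a localization of a polynomial
ring at a prime. -/
theorem exists_presentation :
    ∃ (T : Type u) (_ : Fintype T) (P : Ideal (MvPolynomial T k)) (_ : P.IsPrime)
      (π : Localization.AtPrime P →ₐ[k] O), Function.Surjective π := by
  classical
  obtain ⟨σ, hσ⟩ := (Algebra.essFiniteType_iff (R := k) (S := O)).mp inferInstance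
  let ev : MvPolynomial ((σ : Set O) : Type u) k →ₐ[k] O :=
    MvPolynomial.aeval (Subtype.val : ((σ : Set O) : Type u) → O)
  have hrange : ∀ y ∈ Algebra.adjoin k (σ : Set O), ∃ a, ev a = y := by
    intro y hy
    rw [Algebra.adjoin_eq_range] at hy
    exact (AlgHom.mem_range _).mp hy
  haveI hP : ((maximalIdeal O).comap ev.toRingHom).IsPrime := Ideal.comap_isPrime _ _
  have hunit : ∀ y : ((maximalIdeal O).comap ev.toRingHom).primeCompl, IsUnit (ev y) := by
    intro y
    by_contra h
    exact y.2 ((mem_maximalIdeal _).mpr h)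
  let π : Localization.AtPrime ((maximalIdeal O).comap ev.toRingHom) →ₐ[k] O :=
    IsLocalization.liftAlgHom (M := ((maximalIdeal O).comap ev.toRingHom).primeCompl) (f := ev) hunit
  have hπ1 : ∀ c, π (algebraMap _ _ c) = ev c := by
    intro c
    simp only [π, IsLocalization.coe_liftAlgHom]
    exact IsLocalization.lift_eq _ c
  refine ⟨((σ : Set O) : Type u), inferInstance, _, hP, π, ?_⟩
  intro s
  obtain ⟨t, ht, htu, hst⟩ := hσ s
  obtain ⟨b, rfl⟩ := hrange t ht
  obtain ⟨a, ha⟩ := hrange (s * ev b) hst
  have hb : b ∈ ((maximalIdeal O).comap ev.toRingHom).primeCompl := by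
    intro h
    exact ((mem_maximalIdeal _).mp h) htu
  refine ⟨IsLocalization.mk' _ a ⟨b, hb⟩, ?_⟩
  have h1 : π (IsLocalization.mk' _ a ⟨b, hb⟩) * ev b = ev a := by
    rw [← hπ1 b, ← map_mul, IsLocalization.mk'_spec, hπ1]
  rw [ha] at h1
  exact htu.mul_right_cancel h1

end Presentation

section LocSurj

theorem nonempty_atPrime_quotient_equiv' {B : Type u} [CommRing B] (I : Ideal B)
    (q : Ideal (B ⧸ I)) [q.IsPrime] (P : Ideal B) [P.IsPrime]
    (hP : q.comap (Ideal.Quotient.mk I) = P) :
    Nonempty (Localization.AtPrime q ≃+*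
      (Localization.AtPrime P ⧸ I.map (algebraMap B (Localization.AtPrime P)))) := by
  subst hP
  exact Groth.Agent.H79.CIOpen.nonempty_atPrime_quotient_equiv I q

/-- The local ring of a quotient `T = S/ker φ` at a prime, as a quotient of the local ring of `S`. -/
theorem nonempty_atPrime_equiv_of_surjective {S T : Type u} [CommRing S] [CommRing T]
    (φ : S →+* T) (hφ : Function.Surjective φ) (Q : Ideal T) [Q.IsPrime] (Q' : Ideal S)
    [Q'.IsPrime] (hQ' : Q.comap φ = Q') :
    Nonempty (Localization.AtPrime Q ≃+*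
      (Localization.AtPrime Q' ⧸ (RingHom.ker φ).map (algebraMap S (Localization.AtPrime Q')))) := by
  let e : (S ⧸ RingHom.ker φ) ≃+* T := RingHom.quotientKerEquivOfSurjective hφ
  haveI : (Q.comap e).IsPrime := Ideal.comap_isPrime _ _
  let e1 : Localization.AtPrime (Q.comap e) ≃+* Localization.AtPrime Q :=
    IsLocalization.ringEquivOfRingEquiv (Localization.AtPrime (Q.comap e))
      (Localization.AtPrime Q) e (e.map_primeCompl_comap_eq Q)
  have hc : (Q.comap e).comap (Ideal.Quotient.mk (RingHom.ker φ)) = Q' := by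
    rw [← hQ']
    ext x
    simp only [Ideal.mem_comap]
    rfl
  obtain ⟨e2⟩ := nonempty_atPrime_quotient_equiv' (RingHom.ker φ) (Q.comap e) Q' hc
  exact ⟨e1.symm.trans e2⟩

end LocSurj

section Main

variable (k K O : Type u) [Field k] [Field K] [Algebra k K] [CommRing O] [IsLocalRing O]
  [Algebra k O] [Algebra.EssFiniteType k O]

attribute [local instance] Algebra.TensorProduct.rightAlgebra in
/-- **Field base change of the complete intersection property** for local rings essentially of
finite type. -/
theorem isCI_tensor_atPrime_iff (Q : Ideal (K ⊗[k] O)) [hQp : Q.IsPrime]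
    (hQ : ∀ a ∈ maximalIdeal O, (1 : K) ⊗ₜ[k] a ∈ Q) :
    Pi1.IsCompleteIntersection O ↔ Pi1.IsCompleteIntersection (Localization.AtPrime Q) := by
  obtain ⟨T, hT, P, hP, π, hπ⟩ := exists_presentation k O
  haveI : IsRegularRing (MvPolynomial T k) := inferInstance
  haveI hRreg : IsRegularLocalRing (Localization.AtPrime P) := inferInstance
  haveI hKT : IsRegularRing (K ⊗[k] MvPolynomial T k) :=
    IsRegularRing.of_ringEquiv (MvPolynomial.algebraTensorAlgEquiv k K).symm.toRingEquiv
  haveI hS : IsRegularRing (K ⊗[k] Localization.AtPrime P) :=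
    Groth.Agent.H63.GeomRegKey.isRegularRing_tensor_localization k K (MvPolynomial T k) P hKT
  let Φ : K ⊗[k] Localization.AtPrime P →ₐ[k] K ⊗[k] O :=
    Algebra.TensorProduct.map (AlgHom.id k K) π
  have hΦ : Function.Surjective Φ :=
    Algebra.TensorProduct.map_surjective (AlgHom.id k K) π (fun x => ⟨x, rfl⟩) hπ
  have hker : RingHom.ker Φ = (RingHom.ker π).map
      (Algebra.TensorProduct.includeRight : Localization.AtPrime P →ₐ[k] K ⊗[k] Localization.AtPrime P) :=
    Algebra.TensorProduct.lTensor_ker π hπ
  haveI hQ'p : (Q.comap Φ.toRingHom).IsPrime := Ideal.comap_isPrime _ _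
  obtain ⟨e⟩ := nonempty_atPrime_equiv_of_surjective Φ.toRingHom hΦ Q (Q.comap Φ.toRingHom) rfl
  -- the regular local ring `R'`
  haveI hR'reg : IsRegularLocalRing (Localization.AtPrime (Q.comap Φ.toRingHom)) := inferInstance
  -- `R → R'`
  haveI hflat1 : Module.Flat (Localization.AtPrime P) (K ⊗[k] Localization.AtPrime P) :=
    Module.Flat.of_linearEquiv
      (Algebra.TensorProduct.commRight k (Localization.AtPrime P) K).symm.toLinearEquiv
  haveI hflat2 : Module.Flat (K ⊗[k] Localization.AtPrime P)
      (Localization.AtPrime (Q.comap Φ.toRingHom)) :=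
    IsLocalization.flat _ (Q.comap Φ.toRingHom).primeCompl
  haveI htower : IsScalarTower (Localization.AtPrime P) (K ⊗[k] Localization.AtPrime P)
      (Localization.AtPrime (Q.comap Φ.toRingHom)) := inferInstance
  haveI hflat : Module.Flat (Localization.AtPrime P)
      (Localization.AtPrime (Q.comap Φ.toRingHom)) :=
    Module.Flat.trans (Localization.AtPrime P) (K ⊗[k] Localization.AtPrime P)
      (Localization.AtPrime (Q.comap Φ.toRingHom))
  haveI hπloc : IsLocalHom π.toRingHom := IsLocalHom.of_surjective _ hπ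
  haveI hloc : IsLocalHom (algebraMap (Localization.AtPrime P)
      (Localization.AtPrime (Q.comap Φ.toRingHom))) := by
    refine ((IsLocalRing.local_hom_TFAE (algebraMap (Localization.AtPrime P)
      (Localization.AtPrime (Q.comap Φ.toRingHom)))).out 2 0).mp ?_
    rw [Ideal.map_le_iff_le_comap]
    intro r hr
    rw [Ideal.mem_comap]
    change algebraMap (K ⊗[k] Localization.AtPrime P) (Localization.AtPrime (Q.comap Φ.toRingHom))
      ((1 : K) ⊗ₜ[k] r) ∈ _
    rw [IsLocalization.AtPrime.to_map_mem_maximal_iff _ (Q.comap Φ.toRingHom)]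
    change Φ ((1 : K) ⊗ₜ[k] r) ∈ Q
    rw [Algebra.TensorProduct.map_tmul]
    apply hQ
    have : π.toRingHom r ∈ maximalIdeal O := by
      rw [mem_maximalIdeal] at hr ⊢
      exact fun h => hr (isUnit_of_map_unit π.toRingHom r h)
    exact this
  -- the ideal
  set I : Ideal (Localization.AtPrime P) := RingHom.ker π with hI
  have hIne : I ≠ ⊤ := RingHom.ker_ne_top _
  have hImap : I.map (algebraMap (Localization.AtPrime P)
      (Localization.AtPrime (Q.comap Φ.toRingHom))) =
      (RingHom.ker Φ.toRingHom).map (algebraMap (K ⊗[k] Localization.AtPrime P)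
        (Localization.AtPrime (Q.comap Φ.toRingHom))) := by
    have : RingHom.ker Φ.toRingHom = RingHom.ker Φ := rfl
    have h2 : Ideal.map (Algebra.TensorProduct.includeRight :
        Localization.AtPrime P →ₐ[k] K ⊗[k] Localization.AtPrime P) I =
        Ideal.map (algebraMap (Localization.AtPrime P) (K ⊗[k] Localization.AtPrime P)) I := rfl
    rw [this, hker, h2, Ideal.map_map, ← IsScalarTower.algebraMap_eq]
  exact isCI_iff_of_flat_regular I hIne (RingHom.quotientKerEquivOfSurjective hπ)
    (e.trans (Ideal.quotEquivOfEq hImap.symm))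

end Main

end Groth.Agent.H79.CIBaseChange
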