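import Mathlib
import Groth.Prelude.Def_CAlgX

/-!
# Flat base change of `H_1`-regular and quasi-regular sequences (helper79)

* `isH1Regular_of_flat`: an `H_1`-regular sequence stays `H_1`-regular after a flat ring map.
* `isQuasiRegular_of_flat`: a quasi-regular sequence stays quasi-regular after a flat ring map.

Both are proved with the equational criterion of flatness.
-/

set_option autoImplicit false
set_option linter.unusedVariables false

universe u

open MvPolynomial

namespace Groth.Agent.H79.RegKindFlat

variable {R R' : Type u} [CommRing R] [CommRing R'] [Algebra R R'] [Module.Flat R R']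

/-- **Flat base change of `H_1`-regular sequences.** -/
theorem isH1Regular_of_flat {c : ℕ} (f : Fin c → R) (hf : CAlgX.IsH1Regular f) :
    CAlgX.IsH1Regular (fun i => algebraMap R R' (f i)) := by
  classical
  intro a' ha'
  have h0 : ∑ i, f i • a' i = 0 := by
    rw [← ha']
    refine Finset.sum_congr rfl fun i _ => ?_
    rw [Algebra.smul_def, mul_comm]
  obtain ⟨k, b, y, hy, hb⟩ :=
    Module.Flat.isTrivialRelation_of_sum_smul_eq_zero (R := R) (M := R') (f := f) (x := a') h0
  have ha : a' = ∑ j, y j • (fun i => algebraMap R R' (b i j)) := by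
    ext i
    rw [hy i, Finset.sum_apply]
    refine Finset.sum_congr rfl fun j _ => ?_
    rw [Pi.smul_apply, Algebra.smul_def, smul_eq_mul, mul_comm]
  rw [ha]
  refine Submodule.sum_mem _ fun j _ => Submodule.smul_mem _ _ ?_
  have hj := hf (fun i => b i j) (by
    rw [← hb j]
    exact Finset.sum_congr rfl fun i _ => mul_comm _ _)
  -- transport along the `R`-linear map `(Fin c → R) → (Fin c → R')`
  let L : (Fin c → R) →ₗ[R] (Fin c → R') := (Algebra.linearMap R R').compLeft (Fin c)
  let S' : Submodule R' (Fin c → R') := Submodule.span R'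
    {v : Fin c → R' | ∃ i j : Fin c, v = Pi.single i (algebraMap R R' (f j)) -
      Pi.single j (algebraMap R R' (f i))}
  have hle : Submodule.span R {v : Fin c → R | ∃ i j : Fin c,
      v = Pi.single i (f j) - Pi.single j (f i)} ≤ (S'.restrictScalars R).comap L := by
    rw [Submodule.span_le]
    rintro v ⟨i, j, rfl⟩
    show L (Pi.single i (f j) - Pi.single j (f i)) ∈ S'
    apply Submodule.subset_span
    refine ⟨i, j, ?_⟩
    have hsingle : ∀ (i : Fin c) (r : R), L (Pi.single i r) = Pi.single i (algebraMap R R' r) := by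
      intro i r
      ext l
      simp only [L, LinearMap.compLeft_apply, Function.comp_apply, Algebra.linearMap_apply,
        Pi.single_apply]
      split_ifs
      · rfl
      · exact map_zero _
    rw [map_sub, hsingle, hsingle]
  exact hle hj

/-- the monomial `f^d` -/
noncomputable def fpow {S : Type u} [CommRing S] {c : ℕ} (f : Fin c → S) (d : Fin c →₀ ℕ) : S :=
  ∏ i, f i ^ d i

theorem eval_eq_fpow {S : Type u} [CommRing S] {c : ℕ} (f : Fin c → S)
    (P : MvPolynomial (Fin c) S) : eval f P = ∑ d ∈ P.support, P.coeff d * fpow f d :=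
  MvPolynomial.eval_eq' f P

theorem fpow_mem {S : Type u} [CommRing S] {c : ℕ} (f : Fin c → S) (d : Fin c →₀ ℕ) :
    fpow f d ∈ Ideal.span (Set.range f) ^ d.degree := by
  rw [Ideal.mem_span_pow_iff_exists_isHomogeneous]
  refine ⟨monomial d 1, isHomogeneous_monomial _ rfl, ?_⟩
  rw [eval_monomial, one_mul, fpow, Finsupp.prod_fintype]
  intro i
  exact pow_zero _

omit [Module.Flat R R'] in
theorem map_fpow {c : ℕ} (f : Fin c → R) (d : Fin c →₀ ℕ) :
    algebraMap R R' (fpow f d) = fpow (fun i => algebraMap R R' (f i)) d := by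
  simp only [fpow, map_prod, map_pow]

/-- **Flat base change of quasi-regular sequences.** -/
theorem isQuasiRegular_of_flat {c : ℕ} (f : Fin c → R) (hf : CAlgX.IsQuasiRegular f) :
    CAlgX.IsQuasiRegular (fun i => algebraMap R R' (f i)) := by
  classical
  intro n P' hP' hev d₀
  set f' : Fin c → R' := fun i => algebraMap R R' (f i) with hf'
  have hspan : Ideal.span (Set.range f') = (Ideal.span (Set.range f)).map (algebraMap R R') := by
    rw [Ideal.map_span, ← Set.range_comp]
    rfl
  obtain ⟨Q', hQ', hQev⟩ := (Ideal.mem_span_pow_iff_exists_isHomogeneous f' _).1 hev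
  -- the relation in `R'` with coefficients in `R`
  let ι := (↥P'.support) ⊕ (↥Q'.support)
  let g : ι → R := Sum.elim (fun d => fpow f d.1) (fun e => - fpow f e.1)
  let x : ι → R' := Sum.elim (fun d => P'.coeff d.1) (fun e => Q'.coeff e.1)
  have hrel : ∑ i, g i • x i = 0 := by
    rw [Fintype.sum_sum_type]
    simp only [g, x, Sum.elim_inl, Sum.elim_inr]
    rw [Finset.sum_coe_sort P'.support (fun d => fpow f d • P'.coeff d),
      Finset.sum_coe_sort Q'.support (fun e => (- fpow f e) • Q'.coeff e)]
    have h1 : ∑ d ∈ P'.support, fpow f d • P'.coeff d = eval f' P' := by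
      rw [eval_eq_fpow]
      refine Finset.sum_congr rfl fun d _ => ?_
      rw [Algebra.smul_def, map_fpow, mul_comm]
    have h2 : ∑ e ∈ Q'.support, (- fpow f e) • Q'.coeff e = - eval f' Q' := by
      rw [eval_eq_fpow, ← Finset.sum_neg_distrib]
      refine Finset.sum_congr rfl fun d _ => ?_
      rw [Algebra.smul_def, map_neg, map_fpow, mul_comm, mul_neg]
    rw [h1, h2, hQev, add_neg_cancel]
  obtain ⟨k, a, y, hy, ha⟩ :=
    Module.Flat.isTrivialRelation_of_sum_smul_eq_zero (R := R) (M := R') (f := g) (x := x) hrel
  -- each column gives a homogeneous polynomial over `R` whose value lies in `J^(n+1)`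
  have hcol : ∀ (j : Fin k) (d : ↥P'.support), a (Sum.inl d) j ∈ Ideal.span (Set.range f) := by
    intro j d
    let Pj : MvPolynomial (Fin c) R := ∑ d : ↥P'.support, monomial d.1 (a (Sum.inl d) j)
    have hPj : Pj.IsHomogeneous n := by
      apply IsHomogeneous.sum
      intro d _
      apply isHomogeneous_monomial
      rw [Finsupp.degree_eq_weight_one]
      exact hP' (mem_support_iff.mp d.2)
    have hev1 : eval f Pj = ∑ e : ↥Q'.support, fpow f e.1 * a (Sum.inr e) j := by
      have h3 := ha j
      rw [Fintype.sum_sum_type] at h3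
      simp only [g, Sum.elim_inl, Sum.elim_inr, neg_mul, Finset.sum_neg_distrib] at h3
      rw [add_neg_eq_zero] at h3
      rw [← h3]
      simp only [Pj, map_sum, eval_monomial]
      refine Finset.sum_congr rfl fun d _ => ?_
      rw [mul_comm, fpow, Finsupp.prod_fintype]
      intro i
      exact pow_zero _
    have hev2 : eval f Pj ∈ Ideal.span (Set.range f) ^ (n + 1) := by
      rw [hev1]
      refine Ideal.sum_mem _ fun e _ => Ideal.mul_mem_right _ _ ?_
      have h4 := fpow_mem f e.1
      have h5 : e.1.degree = n + 1 := by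
        rw [Finsupp.degree_eq_weight_one]
        exact hQ' (mem_support_iff.mp e.2)
      rwa [h5] at h4
    have hcoef := hf n Pj hPj hev2 d.1
    have hc : Pj.coeff d.1 = a (Sum.inl d) j := by
      simp only [Pj, coeff_sum, coeff_monomial]
      rw [Finset.sum_eq_single d]
      · rw [if_pos rfl]
      · intro b _ hbd
        rw [if_neg]
        intro h
        exact hbd (Subtype.ext h)
      · intro h
        exact absurd (Finset.mem_univ d) h
    rwa [hc] at hcoef
  by_cases hd₀ : d₀ ∈ P'.support
  · have h6 : P'.coeff d₀ = x (Sum.inl ⟨d₀, hd₀⟩) := rfl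
    rw [h6, hy, hspan]
    refine Ideal.sum_mem _ fun j _ => ?_
    rw [Algebra.smul_def]
    exact Ideal.mul_mem_right _ _ (Ideal.mem_map_of_mem _ (hcol j ⟨d₀, hd₀⟩))
  · rw [notMem_support_iff.mp hd₀]
    exact Ideal.zero_mem _

end Groth.Agent.H79.RegKindFlat
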