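import Mathlib
import Groth.Prelude.Def_RegImm
import Groth.Agent.H79.RegKindFlat
import Groth.Agent.H59.KoszFlat

/-!
# Flat base change of sequences of the four kinds (`RegImm.Kind.Seq`) (helper79)
-/

set_option autoImplicit false
set_option linter.unusedVariables false

universe u

open RingTheory.Sequence

namespace Groth.Agent.H79.RegKindSeq

theorem isH1Regular_congr {R : Type u} [CommRing R] {c c' : ℕ} (h : c = c') (f : Fin c → R)
    (g : Fin c' → R) (hfg : ∀ i, g (Fin.cast h i) = f i) (hf : CAlgX.IsH1Regular f) :
    CAlgX.IsH1Regular g := by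
  subst h
  have : g = f := funext fun i => by simpa using hfg i
  subst this
  exact hf

theorem isQuasiRegular_congr {R : Type u} [CommRing R] {c c' : ℕ} (h : c = c') (f : Fin c → R)
    (g : Fin c' → R) (hfg : ∀ i, g (Fin.cast h i) = f i) (hf : CAlgX.IsQuasiRegular f) :
    CAlgX.IsQuasiRegular g := by
  subst h
  have : g = f := funext fun i => by simpa using hfg i
  subst this
  exact hf

variable {R R' : Type u} [CommRing R] [CommRing R'] [Algebra R R'] [Module.Flat R R']

/-- **Flat base change of sequences of kind `k`** (for the kind regular the image ideal must be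
proper). -/
theorem seq_map_of_flat (k : RegImm.Kind) (rs : List R) (h : k.Seq R rs)
    (hne : Ideal.ofList (rs.map (algebraMap R R')) ≠ ⊤) :
    k.Seq R' (rs.map (algebraMap R R')) := by
  cases k with
  | regular =>
    have h' : IsRegular R rs := h
    refine (⟨h'.toIsWeaklyRegular.of_flat, ?_⟩ : IsRegular R' (rs.map (algebraMap R R')))
    simp only [smul_eq_mul, Ideal.mul_top]
    exact fun h => hne h.symm
  | koszul =>
    exact Groth.Agent.H59.Kosz.isKoszulRegularSeq_of_flat rs h
  | h1 =>
    have h' : CAlgX.IsH1Regular rs.get := h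
    have h2 := Groth.Agent.H79.RegKindFlat.isH1Regular_of_flat (R' := R') rs.get h'
    refine (isH1Regular_congr (List.length_map (algebraMap R R')).symm _ _ ?_ h2 :
      CAlgX.IsH1Regular (rs.map (algebraMap R R')).get)
    intro i
    simp
  | quasi =>
    have h' : CAlgX.IsQuasiRegular rs.get := h
    have h2 := Groth.Agent.H79.RegKindFlat.isQuasiRegular_of_flat (R' := R') rs.get h'
    refine (isQuasiRegular_congr (List.length_map (algebraMap R R')).symm _ _ ?_ h2 :
      CAlgX.IsQuasiRegular (rs.map (algebraMap R R')).get)
    intro i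
    simp

end Groth.Agent.H79.RegKindSeq
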