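import Mathlib
import Groth.Prelude.Def_RegImm
import Groth.Agent.H79.RegKindSeq
import Groth.Agent.S9272
import Groth.Agent.S9273

/-!
# Base change of `H_1`-regular / quasi-regular sequences with flat quotient, pushout form (helper79)
-/

set_option autoImplicit false
set_option linter.unusedVariables false
set_option linter.style.haveILetI false

universe u

open TensorProduct

namespace Groth.Agent.H79.RegKindRel

theorem range_get_eq {B : Type u} (rs : List B) : Set.range rs.get = {r | r ∈ rs} := by
  ext x
  simp only [Set.mem_range, Set.mem_setOf_eq]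
  constructor
  · rintro ⟨i, rfl⟩
    exact List.get_mem rs i
  · intro hx
    obtain ⟨i, hi⟩ := List.get_of_mem hx
    exact ⟨i, hi⟩

/-- Base change `B → T = A' ⊗_A B` of a sequence of kind `h1` or `quasi` whose quotient is flat over
`A`. -/
theorem seq_of_isPushout (A B A' T : Type u) [CommRing A] [CommRing B] [CommRing A'] [CommRing T]
    [Algebra A B] [Algebra A A'] [Algebra A' T] [Algebra B T] [Algebra A T] [IsScalarTower A A' T]
    [IsScalarTower A B T] [h : Algebra.IsPushout A A' B T] (k : RegImm.Kind)
    (hk : k = RegImm.Kind.h1 ∨ k = RegImm.Kind.quasi) (rs : List B) (hrs : k.Seq B rs)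
    (hflat : Module.Flat A (B ⧸ Ideal.ofList rs)) : k.Seq T (rs.map (algebraMap B T)) := by
  have hflat' : Module.Flat A (B ⧸ Ideal.span (Set.range rs.get)) := by
    rw [range_get_eq]
    exact hflat
  let e : A' ⊗[A] B ≃ₐ[A'] T := Algebra.IsPushout.equiv A A' B T
  have he : ∀ b : B, e ((1 : A') ⊗ₜ[A] b) = algebraMap B T b := by
    intro b
    simp only [e, Algebra.IsPushout.equiv_tmul, map_one, one_mul]
  letI : Algebra (A' ⊗[A] B) T := e.toRingEquiv.toRingHom.toAlgebra
  haveI : Module.Flat (A' ⊗[A] B) T := RingHom.Flat.of_bijective e.bijective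
  have hmap : ∀ x : A' ⊗[A] B, algebraMap (A' ⊗[A] B) T x = e x := fun _ => rfl
  rcases hk with rfl | rfl
  · have h0 : CAlgX.IsH1Regular rs.get := hrs
    have h1 := Groth.Agent.S9273.result A B A' rs.length rs.get hflat' h0
    have h2 := Groth.Agent.H79.RegKindFlat.isH1Regular_of_flat (R' := T) _ h1
    refine (Groth.Agent.H79.RegKindSeq.isH1Regular_congr
      (List.length_map (algebraMap B T)).symm _ _ ?_ h2 :
      CAlgX.IsH1Regular (rs.map (algebraMap B T)).get)
    intro i
    rw [hmap, he]
    simp
  · have h0 : CAlgX.IsQuasiRegular rs.get := hrs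
    have h1 := Groth.Agent.S9272.result A B A' rs.length rs.get hflat' h0
    have h2 := Groth.Agent.H79.RegKindFlat.isQuasiRegular_of_flat (R' := T) _ h1
    refine (Groth.Agent.H79.RegKindSeq.isQuasiRegular_congr
      (List.length_map (algebraMap B T)).symm _ _ ?_ h2 :
      CAlgX.IsQuasiRegular (rs.map (algebraMap B T)).get)
    intro i
    rw [hmap, he]
    simp

end Groth.Agent.H79.RegKindRel
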