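import Mathlib
import Groth.Prelude.Def_RegImm
import Groth.Agent.H79.RegKindRel
import Groth.Agent.H59.RegImmDesc

/-!
# Base change of relative `H_1`-regular / quasi-regular immersions (helper79)

* `regImm_data_restrict`: local data (closed immersion over an affine open, kernel generated by a
  sequence of kind `k`) restrict to smaller affine opens.
* `regImmAt_relBaseChange`: for pullback squares `X' = X ×_S S'`, `Z' = Z ×_X X'` with `Z → S` flat,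
  a regular immersion of kind `h1`/`quasi` at `pZ z'` gives one at `z'`.
-/

set_option autoImplicit false
set_option linter.unusedVariables false
set_option linter.style.haveILetI false
set_option maxHeartbeats 800000

universe u

open CategoryTheory CategoryTheory.Limits AlgebraicGeometry TopologicalSpace

namespace Groth.Agent.H79.RegImmRel

open Groth.Agent.H59.RegImmDesc Groth.Agent.H56.RegImmComp

/-- restriction of local data of a regular immersion to a smaller affine open through the point -/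
theorem regImm_data_restrict {Z X : Scheme.{u}} (i : Z ⟶ X) (k : RegImm.Kind) {U U₁ : X.Opens}
    (hU : IsAffineOpen U) (hU₁ : IsAffineOpen U₁) (hle : U₁ ≤ U)
    (hcl : IsClosedImmersion (i ∣_ U)) (rs : List Γ(X, U)) (hrs : k.Seq Γ(X, U) rs)
    (hker : RingHom.ker (i.app U).hom = Ideal.ofList rs) (z : Z) (hz : i z ∈ U₁) :
    IsClosedImmersion (i ∣_ U₁) ∧ ∃ rs₁ : List Γ(X, U₁), k.Seq Γ(X, U₁) rs₁ ∧
      RingHom.ker (i.app U₁).hom = Ideal.ofList rs₁ := by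
  have hVU : U₁ ≤ (𝟙 X) ⁻¹ᵁ U := hle
  obtain ⟨hcl', hker'⟩ := closedImm_and_ker_of_isPullback i (𝟙 X) i (𝟙 Z) (IsPullback.id_horiz i)
    hU hcl hU₁ hVU
  refine ⟨hcl', ?_⟩
  letI : Algebra Γ(X, U) Γ(X, U₁) := (Scheme.Hom.appLE (𝟙 X) U U₁ hVU).hom.toAlgebra
  haveI : Module.Flat Γ(X, U) Γ(X, U₁) := Scheme.Hom.flat_appLE (𝟙 X) hU hU₁ hVU
  have hk : RingHom.ker (i.app U₁).hom =
      Ideal.ofList (rs.map (algebraMap Γ(X, U) Γ(X, U₁))) := by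
    rw [hker', hker, Ideal.map_ofList]
    rfl
  refine ⟨rs.map (algebraMap Γ(X, U) Γ(X, U₁)),
    Groth.Agent.H79.RegKindSeq.seq_map_of_flat k rs hrs ?_, hk⟩
  rw [← hk]
  have hz' : z ∈ i ⁻¹ᵁ U₁ := hz
  haveI : Nontrivial Γ(Z, i ⁻¹ᵁ U₁) := @Scheme.component_nontrivial _ _ ⟨⟨z, hz'⟩⟩
  exact RingHom.ker_ne_top _

/-- **Relative base change** at a point, for the kinds `h1` and `quasi`. -/
theorem regImmAt_relBaseChange {X S S' Z X' Z' : Scheme.{u}} (f : X ⟶ S) (i : Z ⟶ X) (g : S' ⟶ S)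
    (pX : X' ⟶ X) (f' : X' ⟶ S') (hX : IsPullback pX f' f g)
    (pZ : Z' ⟶ Z) (i' : Z' ⟶ X') (hZ : IsPullback pZ i' i pX) [Flat (i ≫ f)]
    (k : RegImm.Kind) (hk : k = RegImm.Kind.h1 ∨ k = RegImm.Kind.quasi) (z' : Z')
    (hz : RegImm.IsRegularImmersionAt k i (pZ z')) : RegImm.IsRegularImmersionAt k i' z' := by
  obtain ⟨U, hzU, hcl, rs, hrs, hker⟩ := hz
  have hx : pX (i' z') = i (pZ z') := by
    rw [← Scheme.Hom.comp_apply, ← Scheme.Hom.comp_apply, hZ.w]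
  have hs : g (f' (i' z')) = f (i (pZ z')) := by
    rw [← hx]
    calc g (f' (i' z')) = (f' ≫ g) (i' z') := (Scheme.Hom.comp_apply _ _ _).symm
      _ = (pX ≫ f) (i' z') := by rw [hX.w]
      _ = f (pX (i' z')) := Scheme.Hom.comp_apply _ _ _
  obtain ⟨W, hW, hsW, -⟩ := exists_isAffineOpen_mem_and_subset (x := f (i (pZ z')))
    (U := (⊤ : S.Opens)) trivial
  have hs' : f' (i' z') ∈ g ⁻¹ᵁ W := by
    show g (f' (i' z')) ∈ W
    rw [hs]; exact hsW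
  obtain ⟨W', hW', hsW', hW'W⟩ := exists_isAffineOpen_mem_and_subset (x := f' (i' z'))
    (U := g ⁻¹ᵁ W) hs'
  have hxm : i (pZ z') ∈ U.1 ⊓ f ⁻¹ᵁ W := ⟨hzU, hsW⟩
  obtain ⟨U₁, hU₁, hxU₁, hU₁le⟩ := exists_isAffineOpen_mem_and_subset (x := i (pZ z'))
    (U := U.1 ⊓ f ⁻¹ᵁ W) hxm
  obtain ⟨hcl₁, rs₁, hrs₁, hker₁⟩ := regImm_data_restrict i k U.2 hU₁ (hU₁le.trans inf_le_left)
    hcl rs hrs hker (pZ z') hxU₁
  have hU₁W : U₁ ≤ f ⁻¹ᵁ W := hU₁le.trans inf_le_right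
  -- the affine open `V'` of `X'`
  obtain ⟨V', hV'⟩ : ∃ V' : X'.Opens, V' = pX ⁻¹ᵁ U₁ ⊓ f' ⁻¹ᵁ W' := ⟨_, rfl⟩
  have hiso := isIso_pushoutSection_of_isAffineOpen hX hW'W hU₁W hV' hW hW' hU₁
  have hpo := (isIso_pushoutSection_iff hX hW'W hU₁W hV').mp hiso
  have hV'aff : IsAffineOpen V' := by
    have : IsAffine _ := hW
    have : IsAffine _ := hW'
    have : IsAffine _ := hU₁
    exact .of_isIso (Scheme.Hom.isPullback_resLE hX hW'W hU₁W hV').isoPullback.hom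
  have hV'U₁ : V' ≤ pX ⁻¹ᵁ U₁ := hV' ▸ inf_le_left
  have hV'W' : V' ≤ f' ⁻¹ᵁ W' := hV' ▸ inf_le_right
  obtain ⟨hcl', hker'⟩ := closedImm_and_ker_of_isPullback i pX i' pZ hZ hU₁ hcl₁ hV'aff hV'U₁
  have hmemV' : i' z' ∈ V' := by
    rw [hV']
    refine ⟨?_, hsW'⟩
    show pX (i' z') ∈ U₁
    rw [hx]; exact hxU₁
  refine ⟨⟨V', hV'aff⟩, hmemV', hcl', ?_⟩
  -- algebra structures
  letI : Algebra Γ(S, W) Γ(X, U₁) := (f.appLE W U₁ hU₁W).hom.toAlgebra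
  letI : Algebra Γ(S, W) Γ(S', W') := (g.appLE W W' hW'W).hom.toAlgebra
  letI : Algebra Γ(X, U₁) Γ(X', V') := (pX.appLE U₁ V' hV'U₁).hom.toAlgebra
  letI : Algebra Γ(S', W') Γ(X', V') := (f'.appLE W' V' hV'W').hom.toAlgebra
  letI : Algebra Γ(S, W) Γ(X', V') :=
    ((f.appLE W U₁ hU₁W) ≫ (pX.appLE U₁ V' hV'U₁)).hom.toAlgebra
  haveI : IsScalarTower Γ(S, W) Γ(X, U₁) Γ(X', V') := .of_algebraMap_eq' rfl
  haveI : IsScalarTower Γ(S, W) Γ(S', W') Γ(X', V') := .of_algebraMap_eq' (by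
    show ((f.appLE W U₁ hU₁W) ≫ (pX.appLE U₁ V' hV'U₁)).hom =
      ((g.appLE W W' hW'W) ≫ (f'.appLE W' V' hV'W')).hom
    rw [hpo.w])
  haveI hAP : Algebra.IsPushout Γ(S, W) Γ(S', W') Γ(X, U₁) Γ(X', V') :=
    (CommRingCat.isPushout_iff_isPushout.mp hpo).symm
  -- flatness of the quotient
  have hflat : Module.Flat Γ(S, W) (Γ(X, U₁) ⧸ Ideal.ofList rs₁) := by
    have hUZ : IsAffineOpen (i ⁻¹ᵁ U₁) := isAffineOpen_preimage i hU₁ hcl₁
    have hsurj : Function.Surjective (i.app U₁).hom := app_surjective i hU₁ hcl₁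
    have hle : i ⁻¹ᵁ U₁ ≤ (i ≫ f) ⁻¹ᵁ W := by
      intro y hy
      exact hU₁W hy
    have hfl : ((i ≫ f).appLE W (i ⁻¹ᵁ U₁) hle).hom.Flat := (i ≫ f).flat_appLE hW hUZ hle
    have hcomp : (i ≫ f).appLE W (i ⁻¹ᵁ U₁) hle = f.appLE W U₁ hU₁W ≫ i.app U₁ := by
      rw [← Scheme.Hom.appLE_eq_app, Scheme.Hom.appLE_comp_appLE]
    let e : (Γ(X, U₁) ⧸ Ideal.ofList rs₁) ≃+* Γ(Z, i ⁻¹ᵁ U₁) :=
      (Ideal.quotEquivOfEq hker₁.symm).trans (RingHom.quotientKerEquivOfSurjective hsurj)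
    have he : ∀ b : Γ(X, U₁), e (Ideal.Quotient.mk _ b) = (i.app U₁).hom b := fun b => rfl
    letI : Algebra Γ(S, W) Γ(Z, i ⁻¹ᵁ U₁) := ((i ≫ f).appLE W (i ⁻¹ᵁ U₁) hle).hom.toAlgebra
    haveI : Module.Flat Γ(S, W) Γ(Z, i ⁻¹ᵁ U₁) := hfl
    let eL : (Γ(X, U₁) ⧸ Ideal.ofList rs₁) ≃ₗ[Γ(S, W)] Γ(Z, i ⁻¹ᵁ U₁) :=
      { e.toAddEquiv with
        map_smul' := by
          intro a x
          obtain ⟨b, rfl⟩ := Ideal.Quotient.mk_surjective x
          show e (a • Ideal.Quotient.mk _ b) = a • e (Ideal.Quotient.mk _ b)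
          rw [Algebra.smul_def, Algebra.smul_def, map_mul]
          congr 1
          show e (Ideal.Quotient.mk _ ((f.appLE W U₁ hU₁W).hom a)) =
            ((i ≫ f).appLE W (i ⁻¹ᵁ U₁) hle).hom a
          rw [he, hcomp]
          rfl }
    exact Module.Flat.of_linearEquiv eL
  refine ⟨rs₁.map (algebraMap Γ(X, U₁) Γ(X', V')),
    Groth.Agent.H79.RegKindRel.seq_of_isPushout Γ(S, W) Γ(X, U₁) Γ(S', W') Γ(X', V') k hk rs₁
      hrs₁ hflat, ?_⟩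
  show RingHom.ker (i'.app V').hom = _
  rw [hker', hker₁, Ideal.map_ofList]
  rfl

end Groth.Agent.H79.RegImmRel
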