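import Mathlib
import Groth.Agent.H79.SmoothReg
import Groth.Agent.H44.MacLaneAll

/-!
# Regular ⇔ smooth for finite type algebras over a perfect field
-/

set_option autoImplicit false
universe u

namespace Groth.Agent.H79.SmoothReg

/-- Over a perfect field, localisations of finite type algebras are formally smooth iff regular. -/
theorem formallySmooth_localization_iff (k S : Type u) [Field k] [PerfectField k] [CommRing S]
    [Algebra k S] [Algebra.FiniteType k S] (q : Ideal S) [q.IsPrime] :
    Algebra.FormallySmooth k (Localization.AtPrime q) ↔
      IsRegularLocalRing (Localization.AtPrime q) := by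
  haveI : Algebra.EssFiniteType S (Localization.AtPrime q) :=
    Algebra.EssFiniteType.of_isLocalization _ q.primeCompl
  haveI : Algebra.EssFiniteType k (Localization.AtPrime q) :=
    Algebra.EssFiniteType.comp k S (Localization.AtPrime q)
  haveI : Algebra.IsGeometricallyReduced k
      (IsLocalRing.ResidueField (Localization.AtPrime q)) :=
    Groth.Agent.H44.MacLane.isGeometricallyReduced_of_perfectField
  exact formallySmooth_iff_isRegularLocalRing k _
    (Groth.Agent.H44.MacLane.formallySmooth_iff_isGeometricallyReduced.mpr inferInstance)

/-- A finite type algebra over a perfect field is a regular ring iff it is formally smooth. -/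
theorem isRegularRing_iff_formallySmooth (k S : Type u) [Field k] [PerfectField k] [CommRing S]
    [Algebra k S] [Algebra.FiniteType k S] :
    IsRegularRing S ↔ Algebra.FormallySmooth k S := by
  haveI : IsNoetherianRing S := Algebra.FiniteType.isNoetherianRing k S
  haveI : Algebra.FinitePresentation k S :=
    Algebra.FinitePresentation.of_finiteType.mp inferInstance
  constructor
  · intro h
    rw [← Algebra.smoothLocus_eq_univ_iff]
    ext q
    simp only [Set.mem_univ, iff_true]
    exact (formallySmooth_localization_iff k S q.asIdeal).mpr inferInstance
  · intro h
    rw [isRegularRing_iff]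
    intro q hq
    exact (formallySmooth_localization_iff k S q).mp inferInstance

end Groth.Agent.H79.SmoothReg
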