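import Mathlib
import Groth.Prelude.Def_CInt
import Groth.Agent.H79.CIBaseChange
import Groth.Agent.H63.StalkBaseChange
import Groth.Agent.H60.GorBC
import Groth.Agent.H29.FiberStalkAt

/-!
# Complete-intersection fibres and base change (helper79)

* `ciFibre_iff`: the local ring of any fibre through `x` is a complete intersection iff the local
  ring of `f.fiber (f x)` at `f.asFiber x` is.
* `ciFibre_baseChange_iff`: for a cartesian square with `f` locally of finite type, the local ring
  of the fibre of `f'` at `x'` is a complete intersection iff the one of `f` at `g' x'` is.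
* `isCIMorphism_of_isPullback`, `isCIMorphism_descends`.
-/

set_option autoImplicit false
set_option linter.style.haveILetI false
universe u
open IsLocalRing TensorProduct
open CategoryTheory CategoryTheory.Limits AlgebraicGeometry

namespace Groth.Agent.H79.CIFibre

variable {X Y X' Y' : Scheme.{u}}

theorem ciFibre_iff (f : X ⟶ Y) (x : X) (s : Y) (z : ↥(f.fiber s))
    (hz : (f.fiberι s).base z = x) :
    Pi1.IsCompleteIntersection ((f.fiber s).presheaf.stalk z) ↔
      Pi1.IsCompleteIntersection ((f.fiber (f x)).presheaf.stalk (f.asFiber x)) := by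
  obtain ⟨e1⟩ := Groth.Agent.H29.FiberStalkAt.nonempty_fiberStalkEquiv_of_eq f s z x hz
  obtain ⟨e2⟩ := Groth.Agent.H29.FiberStalkAt.nonempty_fiberStalkEquiv f x
  exact ⟨fun h => Groth.Agent.H79.CIOpen.isCI_of_ringEquiv (e1.symm.trans e2) h,
    fun h => Groth.Agent.H79.CIOpen.isCI_of_ringEquiv (e2.symm.trans e1) h⟩

/-- In a cartesian square with `f` locally of finite type, the local ring of the fibre of `f'` at
`x'` is a complete intersection iff the local ring of the fibre of `f` at `g' x'` is. -/
theorem ciFibre_baseChange_iff {f : X ⟶ Y} {g : Y' ⟶ Y} {f' : X' ⟶ Y'} {g' : X' ⟶ X}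
    (hsq : IsPullback g' f' f g) (x' : X') [LocallyOfFiniteType f] :
    Pi1.IsCompleteIntersection ((f'.fiber (f' x')).presheaf.stalk (f'.asFiber x')) ↔
      Pi1.IsCompleteIntersection
        ((f.fiber (f (g' x'))).presheaf.stalk (f.asFiber (g' x'))) := by
  obtain ⟨π, HP, hπ⟩ : ∃ π : f'.fiber (f' x') ⟶ f.fiber (g (f' x')),
      IsPullback π (f'.fiberToSpecResidueField (f' x')) (f.fiberToSpecResidueField (g (f' x')))
        (Spec.map (g.residueFieldMap (f' x'))) ∧
      π ≫ f.fiberι (g (f' x')) = f'.fiberι (f' x') ≫ g' :=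
    ⟨_, isPullback_fiberToSpecResidueField_of_isPullback hsq (f' x'), pullback.lift_fst _ _ _⟩
  have hz : (f.fiberι (g (f' x'))) (π (f'.asFiber x')) = g' x' := by
    rw [← Scheme.Hom.comp_apply, hπ, Scheme.Hom.comp_apply, f'.fiberι_asFiber]
  letI : Algebra (Y.residueField (g (f' x'))) (Y'.residueField (f' x')) :=
    (g.residueFieldMap (f' x')).hom.toAlgebra
  letI := Groth.Agent.H63.StalkBaseChange.stalkAlgebra (k := Y.residueField (g (f' x')))
    (f.fiberToSpecResidueField (g (f' x'))) (π (f'.asFiber x'))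
  obtain ⟨Q, hQp, hQm, ⟨e⟩⟩ := Groth.Agent.H63.StalkBaseChange.exists_prime_ringEquiv_stalk
    (k := Y.residueField (g (f' x'))) (K := Y'.residueField (f' x'))
    (f.fiberToSpecResidueField (g (f' x'))) π (f'.fiberToSpecResidueField (f' x')) HP
    (f'.asFiber x') (π (f'.asFiber x')) rfl
  haveI := hQp
  haveI : LocallyOfFiniteType (f.fiberToSpecResidueField (g (f' x'))) :=
    MorphismProperty.of_isPullback (P := @LocallyOfFiniteType)
      (IsPullback.of_hasPullback f (Y.fromSpecResidueField (g (f' x')))) inferInstance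
  haveI hE' : Algebra.EssFiniteType (Y.residueField (g (f' x')))
      ((f.fiber (g (f' x'))).presheaf.stalk (π (f'.asFiber x'))) :=
    Groth.Agent.H60.GorBC.essFiniteType_stalkAlgebra (k := Y.residueField (g (f' x')))
      (f.fiberToSpecResidueField (g (f' x'))) _
  have key := Groth.Agent.H79.CIBaseChange.isCI_tensor_atPrime_iff
    (Y.residueField (g (f' x'))) (Y'.residueField (f' x'))
    ((f.fiber (g (f' x'))).presheaf.stalk (π (f'.asFiber x'))) Q hQm
  rw [← ciFibre_iff f (g' x') (g (f' x')) (π (f'.asFiber x')) hz]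
  exact ⟨fun h => key.mpr (Groth.Agent.H79.CIOpen.isCI_of_ringEquiv e.symm h),
    fun h => Groth.Agent.H79.CIOpen.isCI_of_ringEquiv e (key.mp h)⟩

/-- Complete-intersection morphisms are stable under base change. -/
theorem isCIMorphism_of_isPullback {f : X ⟶ Y} {g : Y' ⟶ Y} {f' : X' ⟶ Y'} {g' : X' ⟶ X}
    (hsq : IsPullback g' f' f g) (hf : CInt.IsCIMorphism f) : CInt.IsCIMorphism f' := by
  obtain ⟨h1, h2, h3⟩ := hf
  haveI := h1
  haveI := h2
  refine ⟨MorphismProperty.of_isPullback (P := @Flat) hsq h1,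
    MorphismProperty.of_isPullback (P := @LocallyOfFinitePresentation) hsq h2, fun x' => ?_⟩
  exact (ciFibre_baseChange_iff hsq x').mpr (h3 (g' x'))

/-- Complete-intersection morphisms descend along fpqc coverings. -/
theorem isCIMorphism_descends {f : X ⟶ Y} {g : Y' ⟶ Y} {f' : X' ⟶ Y'} {g' : X' ⟶ X}
    (hsq : IsPullback g' f' f g) [QuasiCompact g] [Flat g] [Surjective g]
    (hf' : CInt.IsCIMorphism f') : CInt.IsCIMorphism f := by
  obtain ⟨h1, h2, h3⟩ := hf'
  haveI := h1
  haveI := h2
  have hQ : (@Surjective ⊓ @Flat ⊓ @QuasiCompact : MorphismProperty Scheme.{u}) g :=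
    ⟨⟨inferInstance, inferInstance⟩, inferInstance⟩
  haveI hlfp : LocallyOfFinitePresentation f :=
    MorphismProperty.of_isPullback_of_descendsAlong (P := @LocallyOfFinitePresentation)
      (Q := (@Surjective ⊓ @Flat ⊓ @QuasiCompact : MorphismProperty Scheme.{u})) hsq.flip hQ h2
  haveI hg' : Surjective g' :=
    MorphismProperty.of_isPullback (P := @Surjective) hsq.flip inferInstance
  have hflat : Flat f := by
    rw [Flat.iff_flat_stalkMap]
    intro x
    obtain ⟨x', rfl⟩ := g'.surjective x
    exact Groth.Agent.H60.GorBC.flat_stalkMap_of_baseChange hsq x' (Flat.stalkMap g (f' x'))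
      (Flat.stalkMap f' x')
  refine ⟨hflat, hlfp, fun x => ?_⟩
  obtain ⟨x', rfl⟩ := g'.surjective x
  exact (ciFibre_baseChange_iff hsq x').mp (h3 x')

end Groth.Agent.H79.CIFibre
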