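import Mathlib
import Groth.Prelude.Def_RegImm
import Groth.Agent.H79.CIFibre

/-!
# `Synt.IsCIOver` versus `Pi1.IsCompleteIntersection` (helper79)

* `isCIOver_iff_isCI`: for a local `k`-algebra essentially of finite type, being a complete
  intersection over `k` (quotient of a regular local e.f.t. `k`-algebra by a regular sequence) is
  the same as being an (absolute) complete intersection.
* `ciOver_fibre_iff`, `setOf_fibre_isCIOver_baseChange`.
-/

set_option autoImplicit false
set_option linter.style.haveILetI false
set_option linter.unusedVariables false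
universe u
open IsLocalRing RingTheory.Sequence
open CategoryTheory CategoryTheory.Limits AlgebraicGeometry

namespace Groth.Agent.H79.CIOver

theorem isCIOver_iff_isCI (k S : Type u) [Field k] [CommRing S] [IsLocalRing S] [Algebra k S]
    [Algebra.EssFiniteType k S] :
    Synt.IsCIOver k S ↔ Pi1.IsCompleteIntersection S := by
  constructor
  · rintro ⟨R, hR1, hR2, hR3, hE, rs, hm, hreg, ⟨e⟩⟩
    have hIne : Ideal.ofList rs ≠ ⊤ :=
      ne_top_of_le_ne_top (maximalIdeal.isMaximal R).ne_top (Ideal.span_le.mpr hm)
    haveI : Nontrivial (R ⧸ Ideal.ofList rs) := Ideal.Quotient.nontrivial_iff.mpr hIne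
    haveI : IsLocalRing (R ⧸ Ideal.ofList rs) := inferInstance
    have h1 := Groth.Agent.H79.CIPres.isCompleteIntersection_quot (Ideal.ofList rs) hIne
      ⟨rs, hreg, rfl⟩
    exact Groth.Agent.H79.CIOpen.isCI_of_ringEquiv e.symm.toRingEquiv h1
  · intro h
    obtain ⟨T, hT, P, hP, π, hπ⟩ := Groth.Agent.H79.CIBaseChange.exists_presentation k S
    haveI : IsRegularRing (MvPolynomial T k) := inferInstance
    haveI hRreg : IsRegularLocalRing (Localization.AtPrime P) := inferInstance
    set I : Ideal (Localization.AtPrime P) := RingHom.ker π with hI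
    have hIne : I ≠ ⊤ := RingHom.ker_ne_top _
    haveI : Nontrivial (Localization.AtPrime P ⧸ I) := Ideal.Quotient.nontrivial_iff.mpr hIne
    haveI : IsLocalRing (Localization.AtPrime P ⧸ I) := inferInstance
    let eO : (Localization.AtPrime P ⧸ I) ≃+* S := RingHom.quotientKerEquivOfSurjective hπ
    obtain ⟨B', hB', hB'reg, rs', hm, hr, ⟨e'⟩⟩ :=
      Groth.Agent.H79.CIOpen.isCI_of_ringEquiv (A := S) (A' := Localization.AtPrime P ⧸ I)
        eO.symm h
    obtain ⟨rs, hrs, hrsI⟩ :=
      Groth.Agent.H79.CIPres.regular_of_cplEquiv_quot I hIne rs' hr e'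
    haveI : Algebra.EssFiniteType (MvPolynomial T k) (Localization.AtPrime P) :=
      Algebra.EssFiniteType.of_isLocalization _ P.primeCompl
    have hE : Algebra.EssFiniteType k (Localization.AtPrime P) :=
      Algebra.EssFiniteType.comp k (MvPolynomial T k) (Localization.AtPrime P)
    refine ⟨Localization.AtPrime P, inferInstance, hRreg, inferInstance, hE, rs, ?_, hrs, ?_⟩
    · intro r hr'
      have hle : Ideal.ofList rs ≤ maximalIdeal (Localization.AtPrime P) := by
        rw [hrsI]; exact le_maximalIdeal hIne
      exact hle (Ideal.subset_span (s := {r | r ∈ rs}) hr')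
    · have hker : RingHom.ker π = Ideal.ofList rs := hrsI.symm
      exact ⟨(Ideal.quotientKerAlgEquivOfSurjective hπ).symm.trans
        (Ideal.quotientEquivAlgOfEq k hker)⟩

variable {X Y X' Y' : Scheme.{u}}

/-- The algebra structure used in `S9379` on the local ring of a fibre agrees with `stalkAlgebra`,
and `IsCIOver` for it is the absolute complete intersection property. -/
theorem ciOver_fibre_iff (f : X ⟶ Y) [LocallyOfFiniteType f] (x : X) :
    (letI := ((Scheme.ΓSpecIso (Y.residueField (f.base x))).inv ≫
        (f.fiberToSpecResidueField (f.base x)).appLE ⊤ ⊤ le_top ≫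
          (f.fiber (f.base x)).presheaf.germ ⊤ (f.asFiber x) trivial).hom.toAlgebra;
      Synt.IsCIOver (Y.residueField (f.base x))
        ((f.fiber (f.base x)).presheaf.stalk (f.asFiber x))) ↔
    Pi1.IsCompleteIntersection ((f.fiber (f.base x)).presheaf.stalk (f.asFiber x)) := by
  haveI : LocallyOfFiniteType (f.fiberToSpecResidueField (f.base x)) :=
    MorphismProperty.of_isPullback (P := @LocallyOfFiniteType)
      (IsPullback.of_hasPullback f (Y.fromSpecResidueField (f.base x))) inferInstance
  have hE := Groth.Agent.H60.GorBC.essFiniteType_stalkAlgebra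
    (k := Y.residueField (f.base x)) (f.fiberToSpecResidueField (f.base x)) (f.asFiber x)
  have happ : (f.fiberToSpecResidueField (f.base x)).appLE ⊤ ⊤ le_top =
      (f.fiberToSpecResidueField (f.base x)).appTop :=
    (f.fiberToSpecResidueField (f.base x)).appLE_eq_app
  letI alg := ((Scheme.ΓSpecIso (Y.residueField (f.base x))).inv ≫
        (f.fiberToSpecResidueField (f.base x)).appLE ⊤ ⊤ le_top ≫
          (f.fiber (f.base x)).presheaf.germ ⊤ (f.asFiber x) trivial).hom.toAlgebra
  have halg : alg = Groth.Agent.H63.StalkBaseChange.stalkAlgebra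
      (k := Y.residueField (f.base x)) (f.fiberToSpecResidueField (f.base x)) (f.asFiber x) := by
    apply Algebra.algebra_ext
    intro r
    show ((Scheme.ΓSpecIso (Y.residueField (f.base x))).inv ≫
        (f.fiberToSpecResidueField (f.base x)).appLE ⊤ ⊤ le_top ≫
          (f.fiber (f.base x)).presheaf.germ ⊤ (f.asFiber x) trivial).hom r = _
    rw [happ]
    rfl
  haveI : Algebra.EssFiniteType (Y.residueField (f.base x))
      ((f.fiber (f.base x)).presheaf.stalk (f.asFiber x)) := by
    rw [halg]; exact hE
  exact isCIOver_iff_isCI _ _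

/-- **S9379**: the locus where the fibre local ring is a complete intersection over the residue
field is compatible with base change. -/
theorem setOf_fibre_isCIOver_baseChange (f : X ⟶ Y) [LocallyOfFiniteType f] (g : Y' ⟶ Y)
    (g' : X' ⟶ X) (f' : X' ⟶ Y') (hsq : IsPullback g' f' f g) :
    {x' : ↑X' |
        letI := ((Scheme.ΓSpecIso (Y'.residueField (f'.base x'))).inv ≫
            (f'.fiberToSpecResidueField (f'.base x')).appLE ⊤ ⊤ le_top ≫
              (f'.fiber (f'.base x')).presheaf.germ ⊤ (f'.asFiber x') trivial).hom.toAlgebra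
        Synt.IsCIOver (Y'.residueField (f'.base x')) ((f'.fiber (f'.base x')).presheaf.stalk (f'.asFiber x'))} =
      g'.base ⁻¹' {x : ↑X |
        letI := ((Scheme.ΓSpecIso (Y.residueField (f.base x))).inv ≫
            (f.fiberToSpecResidueField (f.base x)).appLE ⊤ ⊤ le_top ≫
              (f.fiber (f.base x)).presheaf.germ ⊤ (f.asFiber x) trivial).hom.toAlgebra
        Synt.IsCIOver (Y.residueField (f.base x)) ((f.fiber (f.base x)).presheaf.stalk (f.asFiber x))} := by
  haveI : LocallyOfFiniteType f' :=
    MorphismProperty.of_isPullback (P := @LocallyOfFiniteType) hsq inferInstance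
  ext x'
  rw [Set.mem_ofPred_eq, Set.mem_preimage, Set.mem_ofPred_eq]
  exact (ciOver_fibre_iff f' x').trans
    ((Groth.Agent.H79.CIFibre.ciFibre_baseChange_iff hsq x').trans (ciOver_fibre_iff f (g' x')).symm)

end Groth.Agent.H79.CIOver
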