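import Mathlib
import Groth.Agent.S9169
import Groth.Agent.H66.FibreReg
import Groth.Agent.H79.CIOver

/-!
# Spreading out complete intersection fibre local rings (helper79)

* `ci_spread`: `R → B` flat of finite presentation, `q` a prime of `B`, `Q` the corresponding prime of
  the fibre ring: if `(κ(p) ⊗ B)_Q` is a complete intersection then so are all `(κ(p') ⊗ B)_{Q'}` for
  `q'` in a basic open neighbourhood of `q`.
-/

set_option autoImplicit false
set_option linter.unusedVariables false
set_option linter.style.haveILetI false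
set_option maxHeartbeats 400000

universe u

open TensorProduct

namespace Groth.Agent.H79.CILocus

variable (R B : Type u) [CommRing R] [CommRing B] [Algebra R B]

/-- the fibre local ring is a complete intersection iff it is one over the residue field -/
theorem isCI_iff_isCIOver [Algebra.FiniteType R B] (p : Ideal R) [p.IsPrime]
    (Q : Ideal (p.Fiber B)) [Q.IsPrime] :
    Pi1.IsCompleteIntersection (Localization.AtPrime Q) ↔
      Synt.IsCIOver p.ResidueField (Localization.AtPrime Q) := by
  haveI : Algebra.FiniteType p.ResidueField (p.Fiber B) := inferInstance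
  haveI : Algebra.EssFiniteType p.ResidueField (Localization.AtPrime Q) := inferInstance
  exact (Groth.Agent.H79.CIOver.isCIOver_iff_isCI p.ResidueField (Localization.AtPrime Q)).symm

/-- **Spreading out** the complete intersection property of fibre local rings. -/
theorem ci_spread [Algebra.FinitePresentation R B] [Module.Flat R B] (p : Ideal R) [p.IsPrime]
    (q : Ideal B) [q.IsPrime] [q.LiesOver p] (Q : Ideal (p.Fiber B)) [Q.IsPrime]
    (hQ : Q.comap (Algebra.TensorProduct.includeRight.toRingHom) = q)
    (h : Pi1.IsCompleteIntersection (Localization.AtPrime Q)) :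
    ∃ g : B, g ∉ q ∧ ∀ (p' : Ideal R) [p'.IsPrime] (q' : Ideal B) [q'.IsPrime] [q'.LiesOver p']
      (Q' : Ideal (p'.Fiber B)) [Q'.IsPrime],
      Q'.comap (Algebra.TensorProduct.includeRight.toRingHom) = q' → g ∉ q' →
      Pi1.IsCompleteIntersection (Localization.AtPrime Q') := by
  have h3 : ∃ g : B, g ∉ q ∧ Algebra.FinitePresentation R (Localization.Away g) ∧
      Module.Flat R (Localization.AtPrime q) ∧
      Synt.IsCIOver p.ResidueField (Localization.AtPrime Q) := by
    refine ⟨1, ?_, ?_, ?_, (isCI_iff_isCIOver R B p Q).mp h⟩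
    · intro h1
      exact (Ideal.IsPrime.ne_top inferInstance) ((Ideal.eq_top_iff_one q).mpr h1)
    · haveI : Algebra.FinitePresentation B (Localization.Away (1 : B)) :=
        IsLocalization.Away.finitePresentation 1
      exact Algebra.FinitePresentation.trans R B (Localization.Away (1 : B))
    · exact Module.Flat.trans R B (Localization.AtPrime q)
  obtain ⟨g, hg, hsyn⟩ := ((Groth.Agent.S9169.result R B p q Q hQ).2).mpr h3
  refine ⟨g, hg, ?_⟩
  intro p' _ q' _ _ Q' _ hQ' hg'
  obtain ⟨g', -, -, -, hci⟩ := ((Groth.Agent.S9169.result R B p' q' Q' hQ').2).mp ⟨g, hg', hsyn⟩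
  exact (isCI_iff_isCIOver R B p' Q').mpr hci

/-- the prime of the fibre ring corresponding to a prime of `B` -/
theorem exists_fiber_prime (q : Ideal B) [q.IsPrime] :
    ∃ (Q : Ideal ((q.under R).Fiber B)) (_ : Q.IsPrime),
      Q.comap (Algebra.TensorProduct.includeRight.toRingHom) = q := by
  let pp : PrimeSpectrum R := ⟨q.under R, inferInstance⟩
  let y : (PrimeSpectrum.comap (algebraMap R B) ⁻¹' {pp} : Set (PrimeSpectrum B)) :=
    ⟨⟨q, inferInstance⟩, rfl⟩
  let Qp := PrimeSpectrum.preimageEquivFiber R B pp y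
  refine ⟨Qp.asIdeal, Qp.isPrime, ?_⟩
  have h := (PrimeSpectrum.preimageEquivFiber R B pp).symm_apply_apply y
  exact congrArg (fun z => z.1.asIdeal) h

/-- "the local ring of the fibre at `q` is a complete intersection", phrased with the prime of the
fibre ring -/
def CIat (q : Ideal B) [q.IsPrime] : Prop :=
  ∀ (Q : Ideal ((q.under R).Fiber B)) [Q.IsPrime],
    Q.comap (Algebra.TensorProduct.includeRight.toRingHom) = q →
      Pi1.IsCompleteIntersection (Localization.AtPrime Q)

theorem ci_spread' [Algebra.FinitePresentation R B] [Module.Flat R B] (q : Ideal B) [q.IsPrime]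
    (h : CIat R B q) :
    ∃ g : B, g ∉ q ∧ ∀ (q' : Ideal B) [q'.IsPrime], g ∉ q' → CIat R B q' := by
  obtain ⟨Q, hQp, hQ⟩ := exists_fiber_prime R B q
  haveI := hQp
  obtain ⟨g, hg, hall⟩ := ci_spread R B (q.under R) q Q hQ (h Q hQ)
  refine ⟨g, hg, ?_⟩
  intro q' _ hg' Q' _ hQ'
  exact hall (q'.under R) q' Q' hQ' hg'

/-- transport: any local ring isomorphic to the fibre local ring -/
theorem ciat_iff_of_ringEquiv (q : Ideal B) [q.IsPrime] (L : Type u) [CommRing L] [IsLocalRing L]
    (e : L ≃+* EGA4.FibLocRing R B q) : CIat R B q ↔ Pi1.IsCompleteIntersection L := by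
  constructor
  · intro h
    obtain ⟨Q, hQp, hQ⟩ := exists_fiber_prime R B q
    haveI := hQp
    obtain ⟨e2⟩ := Groth.Agent.H66.FibreReg.nonempty_loc_fiber_equiv (q.under R) Q q hQ
    exact Groth.Agent.H79.CIOpen.isCI_of_ringEquiv (e2.trans e.symm) (h Q hQ)
  · intro h Q _ hQ
    obtain ⟨e2⟩ := Groth.Agent.H66.FibreReg.nonempty_loc_fiber_equiv (q.under R) Q q hQ
    exact Groth.Agent.H79.CIOpen.isCI_of_ringEquiv (e.trans e2.symm) h

end Groth.Agent.H79.CILocus
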