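import Mathlib
import Groth.Agent.H48.RelGCIReg
import Groth.Agent.H49.SliceRing
import Groth.Agent.H66.RelCI2
import Groth.Agent.H79.CIOpen

/-!
# Regular sequences from fibres, in a neighbourhood (helper79)

Non-Noetherian: `A → B` of finite presentation, `q` a prime of `B` with `B_q` flat over `A`.

* `regular_of_fibre`: a list of elements of `B` that is weakly regular on the fibre local ring
  `B_q / p B_q` is weakly regular on `B_q`, with `A`-flat successive quotients
  (wrapper around `H48.RegFib.isWeaklyRegular_and_flat_quot_of_fibre`).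
* `spread_regular`: a list (in `q`) weakly regular on `B_q` with `A`-flat successive quotients is
  weakly regular on `B_h` for some `h ∉ q` (and on all further basic localizations).
-/

set_option autoImplicit false
set_option linter.unusedVariables false
set_option linter.style.haveILetI false
set_option linter.unusedSectionVars false

universe u

namespace Groth.Agent.H79.RegSpread

open IsLocalRing RingTheory.Sequence Groth.Agent.H48.RegFib

set_option maxHeartbeats 800000 in
/-- fibrewise weakly regular ⇒ weakly regular with flat quotients (local ring at `q`). -/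
theorem regular_of_fibre {A B : Type u} [CommRing A] [CommRing B] [Algebra A B]
    [Algebra.FinitePresentation A B] (q : Ideal B) [q.IsPrime]
    [Module.Flat A (Localization.AtPrime q)] (g : List B)
    (hreg : IsWeaklyRegular (EGA4.FibLocRing A B q)
      (g.map (algebraMap B (EGA4.FibLocRing A B q)))) :
    IsWeaklyRegular (Localization.AtPrime q) (g.map (algebraMap B (Localization.AtPrime q))) ∧
      ∀ i ≤ g.length, Module.Flat A (Localization.AtPrime q ⧸ Ideal.ofList
        ((g.take i).map (algebraMap B (Localization.AtPrime q)))) := by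
  obtain ⟨p, hp⟩ : ∃ p : Ideal A, p = q.under A := ⟨_, rfl⟩
  haveI : p.IsPrime := by rw [hp]; infer_instance
  haveI : q.LiesOver p := ⟨hp⟩
  letI : Algebra (Localization.AtPrime p) (Localization.AtPrime q) :=
    Localization.AtPrime.algebraOfLiesOver p q
  haveI : IsLocalHom (algebraMap (Localization.AtPrime p) (Localization.AtPrime q)) := by
    show IsLocalHom (Localization.localRingHom p q (algebraMap A B) Ideal.LiesOver.over)
    infer_instance
  obtain ⟨S₀, _, _, _, _, W, hfp, hloc⟩ := exists_essFP_atPrime p q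
  obtain ⟨fs, hfs⟩ : ∃ fs : List (Localization.AtPrime q), fs = g.map
    (algebraMap B (Localization.AtPrime q)) := ⟨_, rfl⟩
  have hlen : fs.length = g.length := by rw [hfs, List.length_map]
  have hreg' : IsWeaklyRegular (EGA4.FibLocRing A B q) fs := by
    have hmap : g.map (algebraMap B (EGA4.FibLocRing A B q)) =
        fs.map (algebraMap (Localization.AtPrime q) (EGA4.FibLocRing A B q)) := by
      rw [hfs, List.map_map]
      rfl
    rw [hmap, isWeaklyRegular_map_algebraMap_iff] at hreg
    exact hreg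
  have hJ : ((q.comap (algebraMap A B)).map (algebraMap A (Localization.AtPrime q)) :
        Submodule (Localization.AtPrime q) (Localization.AtPrime q)) =
      (IsLocalRing.maximalIdeal (Localization.AtPrime p)).map
        (algebraMap (Localization.AtPrime p) (Localization.AtPrime q)) •
        (⊤ : Submodule (Localization.AtPrime q) (Localization.AtPrime q)) := by
    rw [smul_eq_mul, Ideal.mul_top, ← Localization.AtPrime.map_eq_maximalIdeal, Ideal.map_map,
      ← IsScalarTower.algebraMap_eq, hp]
  haveI : Module.Flat (Localization.AtPrime p) (Localization.AtPrime q) :=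
    (Module.flat_iff_of_isLocalization (Localization.AtPrime p) p.primeCompl
      (Localization.AtPrime q)).mpr inferInstance
  let π : Localization.AtPrime q →ₗ[Localization.AtPrime q] EGA4.FibLocRing A B q :=
    Submodule.mkQ ((q.comap (algebraMap A B)).map (algebraMap A (Localization.AtPrime q)))
  have hπ : Function.Surjective π := Submodule.mkQ_surjective _
  have hker : LinearMap.ker π = (IsLocalRing.maximalIdeal (Localization.AtPrime p)).map
        (algebraMap (Localization.AtPrime p) (Localization.AtPrime q)) •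
        (⊤ : Submodule (Localization.AtPrime q) (Localization.AtPrime q)) := by
    rw [← hJ]
    exact Submodule.ker_mkQ _
  obtain ⟨h1, h2⟩ := isWeaklyRegular_and_flat_quot_of_fibre S₀ W fs (Localization.AtPrime q)
    (EGA4.FibLocRing A B q) π hπ hker hreg'
  rw [← hfs]
  refine ⟨h1, ?_⟩
  intro i hi
  have hfl := h2 i (by rw [hlen]; exact hi)
  have hfl2 : Module.Flat A (Localization.AtPrime q ⧸ (Ideal.ofList (fs.take i) •
      (⊤ : Submodule (Localization.AtPrime q) (Localization.AtPrime q)))) :=
    Module.Flat.trans A (Localization.AtPrime p) _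
  have hI : (Ideal.ofList (fs.take i) • (⊤ : Submodule (Localization.AtPrime q)
      (Localization.AtPrime q))) =
      Ideal.ofList ((g.take i).map (algebraMap B (Localization.AtPrime q))) := by
    rw [smul_eq_mul, Ideal.mul_top, hfs, List.map_take]
  exact Module.Flat.of_linearEquiv ((Submodule.quotEquivOfEq _ _ hI).restrictScalars A).symm

section Spread

variable {B : Type u} [CommRing B]

/-- The colon condition in a localization from a power multiplier. -/
theorem colon_localization_pow (T : Submonoid B) (B' : Type u) [CommRing B'] [Algebra B B']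
    [IsLocalization T B'] (J : Ideal B) (a g : B) (hg : g ∈ T)
    (hcolon : ∀ x, a * x ∈ J → ∃ n : ℕ, g ^ n * x ∈ J) (y : B')
    (hy : algebraMap B B' a * y ∈ J.map (algebraMap B B')) :
    y ∈ J.map (algebraMap B B') := by
  obtain ⟨b, t, rfl⟩ := IsLocalization.exists_mk'_eq T y
  have h1 : algebraMap B B' a * IsLocalization.mk' B' b t = IsLocalization.mk' B' (a * b) t := by
    rw [IsLocalization.mul_mk'_eq_mk'_of_mul]
  rw [h1, IsLocalization.mk'_mem_map_algebraMap_iff T] at hy
  obtain ⟨u, hu, hub⟩ := hy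
  rw [IsLocalization.mk'_mem_map_algebraMap_iff T]
  obtain ⟨n, hn⟩ := hcolon (u * b) (by rw [mul_left_comm]; exact hub)
  exact ⟨g ^ n * u, T.mul_mem (T.pow_mem hg n) hu, by rw [mul_assoc]; exact hn⟩

end Spread

set_option maxHeartbeats 800000 in
/-- One step of spreading: `a` is a nonzerodivisor modulo `J` at `q`, with `A`-flat quotient at
`q`; then `a` is a nonzerodivisor modulo `J` up to powers of some `t ∉ q`. -/
theorem exists_colon_pow {A B : Type u} [CommRing A] [CommRing B] [Algebra A B]
    [Algebra.FinitePresentation A B] (q : Ideal B) [q.IsPrime] (J : Ideal B) (hJfg : J.FG)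
    (hJq : J ≤ q) (a : B)
    (hinj : ∀ x, a * x ∈ J → ∃ t ∉ q, t * x ∈ J)
    (hflat : Module.Flat A (Localization.AtPrime q ⧸
      (J ⊔ Ideal.span {a}).map (algebraMap B (Localization.AtPrime q)))) :
    ∃ t ∉ q, ∀ x, a * x ∈ J → ∃ n : ℕ, t ^ n * x ∈ J := by
  classical
  haveI : Algebra.FinitePresentation A (B ⧸ J) := Algebra.FinitePresentation.quotient hJfg
  haveI hq₁ : (q.map (Ideal.Quotient.mk J)).IsPrime :=
    Ideal.map_isPrime_of_surjective Ideal.Quotient.mk_surjective (by rw [Ideal.mk_ker]; exact hJq)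
  have hmemq₁ : ∀ x : B, Ideal.Quotient.mk J x ∈ q.map (Ideal.Quotient.mk J) ↔ x ∈ q :=
    fun x => Ideal.mem_quotient_iff_mem hJq
  obtain ⟨q₁, hq₁def⟩ : ∃ q₁ : Ideal (B ⧸ J), q₁ = q.map (Ideal.Quotient.mk J) := ⟨_, rfl⟩
  haveI : q₁.IsPrime := hq₁def ▸ hq₁
  obtain ⟨a₁, ha₁⟩ : ∃ a₁ : B ⧸ J, a₁ = Ideal.Quotient.mk J a := ⟨_, rfl⟩
  have hflat₁ : Module.Flat A (LocalizedModule q₁.primeCompl ((B ⧸ J) ⧸ Ideal.span {a₁})) := by
    subst hq₁def
    let Bq := Localization.AtPrime q
    let Jq : Ideal Bq := J.map (algebraMap B Bq)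
    let Ox := Bq ⧸ Jq
    haveI hloc : IsLocalization.AtPrime Ox (q.map (Ideal.Quotient.mk J)) :=
      Groth.Agent.H66.RelGCI.isLocalization_quot B q J hJq
    let M' : Submodule (B ⧸ J) (B ⧸ J) := Ideal.span {a₁}
    let f : (B ⧸ J) →ₗ[B ⧸ J] Ox := Algebra.linearMap (B ⧸ J) Ox
    let L : Submodule Ox Ox := M'.localized' Ox (q.map (Ideal.Quotient.mk J)).primeCompl f
    have hL : L = (Ideal.span {algebraMap B Bq a}).map (Ideal.Quotient.mkₐ A Jq) := by
      change (Submodule.span (B ⧸ J) {a₁}).localized' Ox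
        (q.map (Ideal.Quotient.mk J)).primeCompl f = _
      rw [Submodule.localized'_span, Set.image_singleton, Ideal.map_span, Set.image_singleton,
        ha₁]
      rfl
    have hfl : Module.Flat A (Ox ⧸ L) := by
      let e1 := DoubleQuot.quotQuotEquivQuotSupₐ A Jq (Ideal.span {algebraMap B Bq a})
      have hsup : Jq ⊔ Ideal.span {algebraMap B Bq a} =
          (J ⊔ Ideal.span {a}).map (algebraMap B Bq) := by
        rw [Ideal.map_sup, Ideal.map_span, Set.image_singleton]
      rw [← hsup] at hflat
      have h2 : Module.Flat A (Ox ⧸ (Ideal.span {algebraMap B Bq a}).map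
          (Ideal.Quotient.mkₐ A Jq)) :=
        Module.Flat.of_linearEquiv e1.toLinearEquiv
      exact Module.Flat.of_linearEquiv ((Submodule.quotEquivOfEq _ _ hL).restrictScalars A)
    let φ : ((B ⧸ J) ⧸ M') →ₗ[B ⧸ J] (Ox ⧸ L) :=
      M'.toLocalizedQuotient' Ox (q.map (Ideal.Quotient.mk J)).primeCompl f
    let e : LocalizedModule (q.map (Ideal.Quotient.mk J)).primeCompl ((B ⧸ J) ⧸ M') ≃ₗ[B ⧸ J]
        (Ox ⧸ L) :=
      IsLocalizedModule.linearEquiv (q.map (Ideal.Quotient.mk J)).primeCompl
        (LocalizedModule.mkLinearMap (q.map (Ideal.Quotient.mk J)).primeCompl ((B ⧸ J) ⧸ M')) φ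
    haveI : IsScalarTower A (B ⧸ J) Ox := IsScalarTower.of_algebraMap_eq fun r => by
      show Ideal.Quotient.mk Jq (algebraMap A Bq r) =
        Ideal.Quotient.mk Jq (algebraMap B Bq (algebraMap A B r))
      rw [← IsScalarTower.algebraMap_apply]
    haveI : IsScalarTower A (B ⧸ J) (Ox ⧸ L) := IsScalarTower.of_algebraMap_smul fun r z => by
      obtain ⟨o, rfl⟩ := Submodule.Quotient.mk_surjective _ z
      rw [← Submodule.Quotient.mk_smul, ← Submodule.Quotient.mk_smul]
      exact congrArg _ (algebraMap_smul (B ⧸ J) r o)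
    exact Module.Flat.of_linearEquiv (e.restrictScalars A)
  obtain ⟨t₁, ht₁, hkill, -⟩ := Groth.Agent.H49.Slice.exists_away (A := A) (B := B ⧸ J) a₁ q₁
    (N₀ := (B ⧸ J) ⧸ Ideal.span {a₁}) (Submodule.mkQ (Ideal.span {a₁}))
    (Submodule.mkQ_surjective _)
    (fun b => by
      rw [Submodule.mkQ_apply, Submodule.Quotient.mk_eq_zero, Ideal.mem_span_singleton']
      exact ⟨fun ⟨c, hc⟩ => ⟨c, by rw [mul_comm]; exact hc⟩,
        fun ⟨c, hc⟩ => ⟨c, by rw [mul_comm]; exact hc⟩⟩)
    (fun b hb => by
      obtain ⟨x, rfl⟩ := Ideal.Quotient.mk_surjective b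
      rw [ha₁, ← map_mul, Ideal.Quotient.eq_zero_iff_mem] at hb
      obtain ⟨t, htq, ht⟩ := hinj x hb
      refine ⟨Ideal.Quotient.mk J t, fun h => htq ((hmemq₁ t).mp (hq₁def ▸ h)), ?_⟩
      rw [← map_mul, Ideal.Quotient.eq_zero_iff_mem]
      exact ht)
    hflat₁
  obtain ⟨t, rfl⟩ := Ideal.Quotient.mk_surjective t₁
  refine ⟨t, fun h => ht₁ (hq₁def ▸ (hmemq₁ t).mpr h), fun x hx => ?_⟩
  obtain ⟨n, hn⟩ := hkill (Ideal.Quotient.mk J x) (by
    rw [ha₁, ← map_mul, Ideal.Quotient.eq_zero_iff_mem]; exact hx)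
  refine ⟨n, ?_⟩
  rw [← map_pow, ← map_mul, Ideal.Quotient.eq_zero_iff_mem] at hn
  exact hn

set_option maxHeartbeats 800000 in
/-- **Spreading out**: a list of elements of `q`, weakly regular on `B_q` with `A`-flat successive
quotients, is weakly regular on `B_h` for some `h ∉ q`, and on every further basic
localization. -/
theorem spread_regular {A B : Type u} [CommRing A] [CommRing B] [Algebra A B]
    [Algebra.FinitePresentation A B] (q : Ideal B) [q.IsPrime] (g : List B)
    (hgq : ∀ a ∈ g, a ∈ q)
    (hreg : IsWeaklyRegular (Localization.AtPrime q)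
      (g.map (algebraMap B (Localization.AtPrime q))))
    (hflat : ∀ i ≤ g.length, Module.Flat A (Localization.AtPrime q ⧸ Ideal.ofList
        ((g.take i).map (algebraMap B (Localization.AtPrime q))))) :
    ∃ h : B, h ∉ q ∧ ∀ (h' : B) (B' : Type u) [CommRing B'] [Algebra B B']
      [IsLocalization.Away (h * h') B'], IsWeaklyRegular B' (g.map (algebraMap B B')) := by
  classical
  rw [Groth.Agent.H79.CIOpen.isWeaklyRegular_map_iff] at hreg
  have h1 : ∀ i : Fin g.length, ∃ t, t ∉ q ∧ ∀ x, g[i] * x ∈ Ideal.ofList (g.take i) →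
      ∃ n : ℕ, t ^ n * x ∈ Ideal.ofList (g.take i) := by
    intro i
    refine exists_colon_pow (A := A) q (Ideal.ofList (g.take i)) ?_ ?_ g[i] ?_ ?_
    · exact ⟨(g.take i).toFinset, by unfold Ideal.ofList; congr 1; ext x; simp⟩
    · unfold Ideal.ofList
      rw [Ideal.span_le]
      intro x hx
      exact hgq x (List.mem_of_mem_take hx)
    · intro x hx
      have h2 := hreg i i.2 (algebraMap B _ x) (by
        rw [← map_mul]; exact Ideal.mem_map_of_mem _ hx)
      obtain ⟨t, ht, htx⟩ := (IsLocalization.algebraMap_mem_map_algebraMap_iff q.primeCompl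
        (Localization.AtPrime q) _ x).mp h2
      exact ⟨t, ht, htx⟩
    · have h2 := hflat (i + 1) (Nat.succ_le_of_lt i.2)
      have heq : (Ideal.ofList (g.take i) ⊔ Ideal.span {g[i]}).map
          (algebraMap B (Localization.AtPrime q)) =
          Ideal.ofList ((g.take (i + 1)).map (algebraMap B (Localization.AtPrime q))) := by
        rw [← Ideal.map_ofList, List.take_succ_eq_append_getElem i.2, Ideal.ofList_append,
          Ideal.ofList_singleton]
        rfl
      rw [heq]
      exact h2
  choose t ht1 ht2 using h1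
  refine ⟨∏ i, t i, ?_, ?_⟩
  · intro hmem
    obtain ⟨i, -, hi⟩ := Ideal.IsPrime.prod_mem_iff.mp hmem
    exact ht1 i hi
  · intro h' B' _ _ _
    rw [Groth.Agent.H79.CIOpen.isWeaklyRegular_map_iff]
    intro i hi y hy
    refine colon_localization_pow (Submonoid.powers ((∏ i, t i) * h')) B'
      (Ideal.ofList (g.take i)) g[i] ((∏ i, t i) * h') (Submonoid.mem_powers _) ?_ y hy
    intro x hx
    obtain ⟨n, hn⟩ := ht2 ⟨i, hi⟩ x hx
    obtain ⟨c, hc⟩ := Finset.dvd_prod_of_mem t (Finset.mem_univ (⟨i, hi⟩ : Fin g.length))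
    refine ⟨n, ?_⟩
    rw [hc]
    have : (t ⟨i, hi⟩ * c * h') ^ n * x = (c * h') ^ n * (t ⟨i, hi⟩ ^ n * x) := by ring
    rw [this]
    exact Ideal.mul_mem_left _ _ hn

open Groth.Agent.H66.RelCI Groth.Agent.H66.GlobalCI Groth.Agent.H66.FibreReg in
set_option maxHeartbeats 1600000 in
/-- **Key (ring level)**: `A → B` of finite presentation, `φ : B → C` a surjection of `A`-algebras
with finitely generated kernel `K`, `qC` a prime of `C` and `P` its preimage in `B`. If `B_P` and
`C_qC` are flat over `A`, the fibre local ring of `B` at `P` is regular and the fibre local ring of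
`C` at `qC` is a complete intersection, then on a basic open neighbourhood `D(h)` of `P` (and on
all smaller basic opens) the kernel `K` is generated by a weakly regular sequence of elements of
`K`. -/
theorem exists_regular_away {A B C : Type u} [CommRing A] [CommRing B] [CommRing C]
    [Algebra A B] [Algebra A C] [Algebra.FinitePresentation A B]
    (φ : B →ₐ[A] C) (hφ : Function.Surjective φ) (hfg : (RingHom.ker φ.toRingHom).FG)
    (qC : Ideal C) [qC.IsPrime]
    (hflatB : Module.Flat A (Localization.AtPrime (qC.comap φ.toRingHom)))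
    (hflatC : Module.Flat A (Localization.AtPrime qC))
    (hregB : IsRegularLocalRing (EGA4.FibLocRing A B (qC.comap φ.toRingHom)))
    (L : Type u) [CommRing L] [IsLocalRing L] (eL : L ≃+* EGA4.FibLocRing A C qC)
    (hci : Pi1.IsCompleteIntersection L) :
    ∃ h : B, h ∉ qC.comap φ.toRingHom ∧ ∃ g : List B, (∀ a ∈ g, a ∈ RingHom.ker φ.toRingHom) ∧
      ∀ (h' : B) (B' : Type u) [CommRing B'] [Algebra B B'] [IsLocalization.Away (h * h') B'],
        IsWeaklyRegular B' (g.map (algebraMap B B')) ∧
        (RingHom.ker φ.toRingHom).map (algebraMap B B') =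
          Ideal.ofList (g.map (algebraMap B B')) := by
  classical
  set P := qC.comap φ.toRingHom with hP
  set K := RingHom.ker φ.toRingHom with hK
  have hKP : K ≤ P := fun x hx => by
    rw [hP, Ideal.mem_comap, RingHom.mem_ker.mp hx]; exact zero_mem _
  haveI := hregB
  haveI := hflatB
  have hCM : LocCoh.IsCohenMacaulayLocalRing (EGA4.FibLocRing A B P) :=
    ⟨Groth.Agent.H21.HilbertCI.isCM_of_isRegularLocalRing _⟩
  obtain ⟨e1⟩ := nonempty_fibLoc_equiv_quot φ hφ qC
  have hKb_ne : K.map (algebraMap B (EGA4.FibLocRing A B P)) ≠ ⊤ := by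
    intro htop
    have hle : K.map (algebraMap B (EGA4.FibLocRing A B P)) ≤
        IsLocalRing.maximalIdeal (EGA4.FibLocRing A B P) := by
      rw [Ideal.map_le_iff_le_comap]
      intro x hx
      exact mem_maximalIdeal_fibLoc A _ P x (hKP hx)
    exact (IsLocalRing.maximalIdeal.isMaximal _).ne_top (top_le_iff.mp (htop ▸ hle))
  haveI : Nontrivial (EGA4.FibLocRing A B P ⧸ K.map (algebraMap B (EGA4.FibLocRing A B P))) :=
    Ideal.Quotient.nontrivial_iff.mpr hKb_ne
  haveI : IsLocalRing (EGA4.FibLocRing A B P ⧸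
      K.map (algebraMap B (EGA4.FibLocRing A B P))) := inferInstance
  let e2 : L ≃+* (EGA4.FibLocRing A B P ⧸ K.map (algebraMap B (EGA4.FibLocRing A B P))) :=
    eL.trans e1
  obtain ⟨R', hR', hR'reg, rs', hm, hr, ⟨e'⟩⟩ :=
    Groth.Agent.H79.CIOpen.isCI_of_ringEquiv
      (A' := EGA4.FibLocRing A B P ⧸ K.map (algebraMap B (EGA4.FibLocRing A B P))) e2 hci
  obtain ⟨rs, hrs, hrsK⟩ := Groth.Agent.H79.CIPres.regular_of_cplEquiv_quot _ hKb_ne rs' hr e'
  -- lifting
  have hlift : ∀ r ∈ K.map (algebraMap B (EGA4.FibLocRing A B P)), ∃ a ∈ K,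
      ∃ u : EGA4.FibLocRing A B P, IsUnit u ∧
        algebraMap _ (EGA4.FibLocRing A B P) a = r * u := by
    intro r hr
    have hmm : K.map (algebraMap B (EGA4.FibLocRing A B P)) =
        (K.map (algebraMap _ (Localization.AtPrime P))).map (Ideal.Quotient.mk _) := by
      rw [Ideal.map_map]; rfl
    rw [hmm] at hr
    obtain ⟨y, hy, rfl⟩ := (Ideal.mem_map_iff_of_surjective _ Ideal.Quotient.mk_surjective).mp hr
    obtain ⟨⟨x, s⟩, hx⟩ :=
      (IsLocalization.mem_map_algebraMap_iff P.primeCompl (Localization.AtPrime P)).mp hy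
    refine ⟨x.1, x.2, Ideal.Quotient.mk _ (algebraMap B (Localization.AtPrime P) (s : B)),
      (IsLocalization.map_units (Localization.AtPrime P) s).map _, ?_⟩
    show Ideal.Quotient.mk _ (algebraMap _ (Localization.AtPrime P) x.1) = _
    rw [← map_mul, hx]
  obtain ⟨as, hasK, hasmap, hasreg⟩ := exists_list_of_regular_fib hCM
    (algebraMap _ (EGA4.FibLocRing A B P)) K hlift rs hrs hrsK
  -- regular at `P` with flat quotients
  obtain ⟨hwr, hfl⟩ := regular_of_fibre (A := A) P as hasreg.toIsWeaklyRegular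
  -- flatness + Nakayama
  obtain ⟨pR, hpR⟩ : ∃ pR : Ideal A, pR = P.comap (algebraMap A B) := ⟨_, rfl⟩
  obtain ⟨J, hJ⟩ : ∃ J : Ideal (Localization.AtPrime P),
    J = K.map (algebraMap _ (Localization.AtPrime P)) := ⟨_, rfl⟩
  obtain ⟨N, hN⟩ : ∃ N : Ideal (Localization.AtPrime P),
    N = (Ideal.ofList as).map (algebraMap _ (Localization.AtPrime P)) := ⟨_, rfl⟩
  have hasle : Ideal.ofList as ≤ K := Ideal.span_le.mpr hasK
  have hNJ : N ≤ J := by rw [hN, hJ]; exact Ideal.map_mono hasle
  have hJN : J ≤ N := by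
    obtain ⟨e9⟩ := nonempty_atPrime_equiv_quot φ hφ qC
    rw [← hJ] at e9
    haveI : Module.Flat A (Localization.AtPrime P ⧸ J) :=
      Module.Flat.of_linearEquiv e9.symm.toLinearEquiv
    have hJfg : J.FG := by rw [hJ]; exact Ideal.FG.map hfg _
    have hpmax : pR.map (algebraMap A (Localization.AtPrime P)) ≤
        IsLocalRing.maximalIdeal (Localization.AtPrime P) := by
      rw [Ideal.map_le_iff_le_comap]
      intro r hr
      rw [Ideal.mem_comap, IsScalarTower.algebraMap_apply A B (Localization.AtPrime P)]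
      rw [hpR] at hr
      exact (IsLocalization.AtPrime.to_map_mem_maximal_iff _ P _).mpr hr
    refine le_of_flat_of_le_sup J N hJfg pR hpmax hNJ ?_
    have hmapeq : J.map (Ideal.Quotient.mk (pR.map (algebraMap A (Localization.AtPrime P)))) =
        N.map (Ideal.Quotient.mk (pR.map (algebraMap A (Localization.AtPrime P)))) := by
      rw [hJ, hN, Ideal.map_map, Ideal.map_map, hpR]
      have h1 : (Ideal.ofList as).map (algebraMap B (EGA4.FibLocRing A B P)) =
          K.map (algebraMap B (EGA4.FibLocRing A B P)) := by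
        rw [Ideal.map_ofList]; exact hasmap
      exact h1.symm
    have h2 := Ideal.comap_map_of_surjective
      (Ideal.Quotient.mk (pR.map (algebraMap A (Localization.AtPrime P))))
      Ideal.Quotient.mk_surjective N
    rw [← hmapeq, ← RingHom.ker_eq_comap_bot, Ideal.mk_ker] at h2
    rw [← h2]
    exact Ideal.le_comap_map
  -- multiplier
  obtain ⟨h₁, hh₁P, hh₁⟩ := exists_notMem_mul_mem_of_fg P K (Ideal.ofList as) hfg (by
    intro x hx
    rw [← hN]
    exact hJN (hJ ▸ Ideal.mem_map_of_mem _ hx))
  -- spreading the regular sequence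
  obtain ⟨h₂, hh₂P, hh₂⟩ := spread_regular (A := A) P as (fun a ha => hKP (hasK a ha)) hwr hfl
  refine ⟨h₂ * h₁, fun hmem => (Ideal.IsPrime.mem_or_mem inferInstance hmem).elim hh₂P hh₁P,
    as, hasK, ?_⟩
  intro h' B' _ _ hloc
  haveI : IsLocalization.Away (h₂ * (h₁ * h')) B' := by rw [← mul_assoc]; exact hloc
  refine ⟨hh₂ (h₁ * h') B', ?_⟩
  rw [← Ideal.map_ofList]
  apply le_antisymm
  · rw [Ideal.map_le_iff_le_comap]
    intro x hx
    rw [Ideal.mem_comap]
    have hunit : IsUnit (algebraMap B B' h₁) := by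
      have hu : IsUnit (algebraMap B B' (h₂ * h₁ * h')) :=
        IsLocalization.Away.algebraMap_isUnit (h₂ * h₁ * h')
      rw [map_mul, map_mul] at hu
      exact (IsUnit.mul_iff.mp (IsUnit.mul_iff.mp hu).1).2
    have h3 : algebraMap B B' (h₁ * x) ∈ (Ideal.ofList as).map (algebraMap B B') :=
      Ideal.mem_map_of_mem _ (hh₁ x hx)
    rw [map_mul] at h3
    exact (Ideal.unit_mul_mem_iff_mem _ hunit).mp h3
  · exact Ideal.map_mono hasle

end Groth.Agent.H79.RegSpread
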