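import Mathlib
import Groth.Agent.H79.RegSpread

/-!
# Spreading out a regular sequence generating the fibre ideal (helper79)

Variant of `H79.RegSpread.exists_regular_away` with no regularity/CM assumption on the fibre local
ring: `A → B` of finite presentation, `φ : B → C` a surjection of `A`-algebras with finitely
generated kernel `K`, `qC` a prime of `C` and `P` its preimage in `B`, `B_P` and `C_qC` flat over
`A`.  If the ideal `K · (B_P / p B_P)` of the fibre local ring is generated by a regular sequence,
then on a basic open neighbourhood `D(h)` of `P` (and all smaller basic opens) `K` is generated by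
a weakly regular sequence of elements of `K`.
-/

set_option autoImplicit false
set_option linter.unusedVariables false
set_option linter.style.haveILetI false
set_option linter.unusedSectionVars false

universe u v

namespace Groth.Agent.H79.FibreSeqSpread

open IsLocalRing RingTheory.Sequence Pointwise

theorem smul_top_eq_of_unit_mul {R : Type u} [CommRing R] {M : Type v} [AddCommGroup M]
    [Module R M] (r u : R) (hu : IsUnit u) :
    (r • (⊤ : Submodule R M)) = ((r * u) • (⊤ : Submodule R M)) := by
  obtain ⟨v, rfl⟩ := hu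
  ext m
  simp only [Submodule.mem_smul_pointwise_iff_exists, Submodule.mem_top, true_and]
  constructor
  · rintro ⟨b, rfl⟩
    refine ⟨(↑v⁻¹ : R) • b, ?_⟩
    rw [smul_smul, mul_assoc, Units.mul_inv, mul_one]
  · rintro ⟨b, rfl⟩
    exact ⟨(v : R) • b, by rw [smul_smul]⟩

/-- Multiplying the members of a weakly regular sequence by units keeps it weakly regular. -/
theorem isWeaklyRegular_map_of_unit_mul {R : Type u} [CommRing R] {M : Type v} [AddCommGroup M]
    [Module R M] (rs : List R) (ψ : R → R) (h : ∀ r ∈ rs, ∃ u : R, IsUnit u ∧ ψ r = r * u)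
    (hrs : IsWeaklyRegular M rs) : IsWeaklyRegular M (rs.map ψ) := by
  induction rs generalizing M with
  | nil => simp
  | cons r rs ih =>
    obtain ⟨h1, h2⟩ := (isWeaklyRegular_cons_iff M r rs).mp hrs
    obtain ⟨u, hu, hψ⟩ := h r List.mem_cons_self
    rw [List.map_cons, isWeaklyRegular_cons_iff]
    have ih' := ih (M := QuotSMulTop r M) (fun r' hr' => h r' (List.mem_cons_of_mem _ hr')) h2
    refine ⟨?_, ?_⟩
    · rw [hψ]
      have hu' : IsSMulRegular M u := hu.isSMulRegular M
      exact IsSMulRegular.mul h1 hu'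
    · have heq : (r • (⊤ : Submodule R M)) = (ψ r • (⊤ : Submodule R M)) := by
        rw [hψ]; exact smul_top_eq_of_unit_mul r u hu
      let e : QuotSMulTop r M ≃ₗ[R] QuotSMulTop (ψ r) M := Submodule.quotEquivOfEq _ _ heq
      exact (LinearEquiv.isWeaklyRegular_congr e _).mp ih'

/-- Replace a regular sequence generating `K·B̄` by images of elements of `K` (no CM hypothesis). -/
theorem exists_list_of_regular_fib' {A Bb : Type u} [CommRing A] [CommRing Bb]
    (f : A →+* Bb) (K : Ideal A)
    (hlift : ∀ r ∈ K.map f, ∃ a ∈ K, ∃ u : Bb, IsUnit u ∧ f a = r * u)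
    (rs : List Bb) (hrs : IsRegular Bb rs) (hrsK : Ideal.ofList rs = K.map f) :
    ∃ as : List A, as.length = rs.length ∧ (∀ a ∈ as, a ∈ K) ∧
      Ideal.ofList (as.map f) = K.map f ∧ IsRegular Bb (as.map f) := by
  classical
  let φ : Bb → A := fun r => if h : r ∈ K.map f then (hlift r h).choose else 0
  have hφ1 : ∀ r ∈ rs, φ r ∈ K := by
    intro r hr
    have h : r ∈ K.map f := hrsK ▸ Ideal.subset_span hr
    simp only [φ, dif_pos h]
    exact (hlift r h).choose_spec.1
  have hφ2 : ∀ r ∈ rs, ∃ u : Bb, IsUnit u ∧ f (φ r) = r * u := by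
    intro r hr
    have h : r ∈ K.map f := hrsK ▸ Ideal.subset_span hr
    simp only [φ, dif_pos h]
    exact (hlift r h).choose_spec.2
  have hideal : Ideal.ofList ((rs.map φ).map f) = Ideal.ofList rs := by
    apply le_antisymm
    · rw [Ideal.ofList, Ideal.span_le]
      intro x hx
      simp only [List.map_map, Set.mem_ofPred_eq, List.mem_map, Function.comp_apply] at hx
      obtain ⟨r, hr, rfl⟩ := hx
      obtain ⟨u, hu, hru⟩ := hφ2 r hr
      rw [hru]
      exact Ideal.mul_mem_right _ _ (Ideal.subset_span hr)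
    · rw [Ideal.ofList, Ideal.span_le]
      intro r hr
      obtain ⟨u, hu, hru⟩ := hφ2 r hr
      obtain ⟨v, rfl⟩ := hu
      have h1 : r = f (φ r) * (↑v⁻¹ : Bb) := by
        rw [hru, mul_assoc, Units.mul_inv, mul_one]
      rw [SetLike.mem_coe, h1]
      apply Ideal.mul_mem_right
      apply Ideal.subset_span
      simp only [List.map_map, Set.mem_ofPred_eq, List.mem_map, Function.comp_apply]
      exact ⟨r, hr, rfl⟩
  refine ⟨rs.map φ, List.length_map _, ?_, by rw [hideal, hrsK], ?_⟩
  · intro a ha
    obtain ⟨r, hr, rfl⟩ := List.mem_map.mp ha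
    exact hφ1 r hr
  · refine ⟨?_, ?_⟩
    · rw [List.map_map]
      exact isWeaklyRegular_map_of_unit_mul rs (f ∘ φ) hφ2 hrs.toIsWeaklyRegular
    · rw [hideal]
      exact hrs.top_ne_smul

open Groth.Agent.H66.RelCI Groth.Agent.H66.GlobalCI Groth.Agent.H66.FibreReg
  Groth.Agent.H79.RegSpread in
set_option maxHeartbeats 1600000 in
/-- **Key (ring level)**: `A → B` of finite presentation, `φ : B → C` a surjection of `A`-algebras
with finitely generated kernel `K`, `qC` a prime of `C` and `P` its preimage in `B`. If `B_P` and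
`C_qC` are flat over `A` and the ideal `K · (B_P / p B_P)` of the fibre local ring is generated by
a regular sequence, then on a basic open neighbourhood `D(h)` of `P` (and on all smaller basic
opens) the kernel `K` is generated by a weakly regular sequence of elements of `K`. -/
theorem exists_regular_away_of_fibre_seq {A B C : Type u} [CommRing A] [CommRing B] [CommRing C]
    [Algebra A B] [Algebra A C] [Algebra.FinitePresentation A B]
    (φ : B →ₐ[A] C) (hφ : Function.Surjective φ) (hfg : (RingHom.ker φ.toRingHom).FG)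
    (qC : Ideal C) [qC.IsPrime]
    (hflatB : Module.Flat A (Localization.AtPrime (qC.comap φ.toRingHom)))
    (hflatC : Module.Flat A (Localization.AtPrime qC))
    (rs : List (EGA4.FibLocRing A B (qC.comap φ.toRingHom)))
    (hrs : IsRegular (EGA4.FibLocRing A B (qC.comap φ.toRingHom)) rs)
    (hrsK : Ideal.ofList rs = (RingHom.ker φ.toRingHom).map
      (algebraMap B (EGA4.FibLocRing A B (qC.comap φ.toRingHom)))) :
    ∃ h : B, h ∉ qC.comap φ.toRingHom ∧ ∃ g : List B, g.length = rs.length ∧
      (∀ a ∈ g, a ∈ RingHom.ker φ.toRingHom) ∧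
      ∀ (h' : B) (B' : Type u) [CommRing B'] [Algebra B B'] [IsLocalization.Away (h * h') B'],
        IsWeaklyRegular B' (g.map (algebraMap B B')) ∧
        (RingHom.ker φ.toRingHom).map (algebraMap B B') =
          Ideal.ofList (g.map (algebraMap B B')) := by
  classical
  set P := qC.comap φ.toRingHom with hP
  set K := RingHom.ker φ.toRingHom with hK
  have hKP : K ≤ P := fun x hx => by
    rw [hP, Ideal.mem_comap, RingHom.mem_ker.mp hx]; exact zero_mem _
  haveI := hflatB
  -- lifting
  have hlift : ∀ r ∈ K.map (algebraMap B (EGA4.FibLocRing A B P)), ∃ a ∈ K,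
      ∃ u : EGA4.FibLocRing A B P, IsUnit u ∧
        algebraMap _ (EGA4.FibLocRing A B P) a = r * u := by
    intro r hr
    have hmm : K.map (algebraMap B (EGA4.FibLocRing A B P)) =
        (K.map (algebraMap _ (Localization.AtPrime P))).map (Ideal.Quotient.mk _) := by
      rw [Ideal.map_map]; rfl
    rw [hmm] at hr
    obtain ⟨y, hy, rfl⟩ := (Ideal.mem_map_iff_of_surjective _ Ideal.Quotient.mk_surjective).mp hr
    obtain ⟨⟨x, s⟩, hx⟩ :=
      (IsLocalization.mem_map_algebraMap_iff P.primeCompl (Localization.AtPrime P)).mp hy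
    refine ⟨x.1, x.2, Ideal.Quotient.mk _ (algebraMap B (Localization.AtPrime P) (s : B)),
      (IsLocalization.map_units (Localization.AtPrime P) s).map _, ?_⟩
    show Ideal.Quotient.mk _ (algebraMap _ (Localization.AtPrime P) x.1) = _
    rw [← map_mul, hx]
  obtain ⟨as, haslen, hasK, hasmap, hasreg⟩ := exists_list_of_regular_fib'
    (algebraMap _ (EGA4.FibLocRing A B P)) K hlift rs hrs hrsK
  -- regular at `P` with flat quotients
  obtain ⟨hwr, hfl⟩ := regular_of_fibre (A := A) P as hasreg.toIsWeaklyRegular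
  -- flatness + Nakayama
  obtain ⟨pR, hpR⟩ : ∃ pR : Ideal A, pR = P.comap (algebraMap A B) := ⟨_, rfl⟩
  obtain ⟨J, hJ⟩ : ∃ J : Ideal (Localization.AtPrime P),
    J = K.map (algebraMap _ (Localization.AtPrime P)) := ⟨_, rfl⟩
  obtain ⟨N, hN⟩ : ∃ N : Ideal (Localization.AtPrime P),
    N = (Ideal.ofList as).map (algebraMap _ (Localization.AtPrime P)) := ⟨_, rfl⟩
  have hasle : Ideal.ofList as ≤ K := Ideal.span_le.mpr hasK
  have hNJ : N ≤ J := by rw [hN, hJ]; exact Ideal.map_mono hasle
  have hJN : J ≤ N := by
    obtain ⟨e9⟩ := nonempty_atPrime_equiv_quot φ hφ qC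
    rw [← hJ] at e9
    haveI : Module.Flat A (Localization.AtPrime P ⧸ J) :=
      Module.Flat.of_linearEquiv e9.symm.toLinearEquiv
    have hJfg : J.FG := by rw [hJ]; exact Ideal.FG.map hfg _
    have hpmax : pR.map (algebraMap A (Localization.AtPrime P)) ≤
        IsLocalRing.maximalIdeal (Localization.AtPrime P) := by
      rw [Ideal.map_le_iff_le_comap]
      intro r hr
      rw [Ideal.mem_comap, IsScalarTower.algebraMap_apply A B (Localization.AtPrime P)]
      rw [hpR] at hr
      exact (IsLocalization.AtPrime.to_map_mem_maximal_iff _ P _).mpr hr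
    refine le_of_flat_of_le_sup J N hJfg pR hpmax hNJ ?_
    have hmapeq : J.map (Ideal.Quotient.mk (pR.map (algebraMap A (Localization.AtPrime P)))) =
        N.map (Ideal.Quotient.mk (pR.map (algebraMap A (Localization.AtPrime P)))) := by
      rw [hJ, hN, Ideal.map_map, Ideal.map_map, hpR]
      have h1 : (Ideal.ofList as).map (algebraMap B (EGA4.FibLocRing A B P)) =
          K.map (algebraMap B (EGA4.FibLocRing A B P)) := by
        rw [Ideal.map_ofList]; exact hasmap
      exact h1.symm
    have h2 := Ideal.comap_map_of_surjective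
      (Ideal.Quotient.mk (pR.map (algebraMap A (Localization.AtPrime P))))
      Ideal.Quotient.mk_surjective N
    rw [← hmapeq, ← RingHom.ker_eq_comap_bot, Ideal.mk_ker] at h2
    rw [← h2]
    exact Ideal.le_comap_map
  -- multiplier
  obtain ⟨h₁, hh₁P, hh₁⟩ := exists_notMem_mul_mem_of_fg P K (Ideal.ofList as) hfg (by
    intro x hx
    rw [← hN]
    exact hJN (hJ ▸ Ideal.mem_map_of_mem _ hx))
  -- spreading the regular sequence
  obtain ⟨h₂, hh₂P, hh₂⟩ := spread_regular (A := A) P as (fun a ha => hKP (hasK a ha)) hwr hfl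
  refine ⟨h₂ * h₁, fun hmem => (Ideal.IsPrime.mem_or_mem inferInstance hmem).elim hh₂P hh₁P,
    as, haslen, hasK, ?_⟩
  intro h' B' _ _ hloc
  haveI : IsLocalization.Away (h₂ * (h₁ * h')) B' := by rw [← mul_assoc]; exact hloc
  refine ⟨hh₂ (h₁ * h') B', ?_⟩
  rw [← Ideal.map_ofList]
  apply le_antisymm
  · rw [Ideal.map_le_iff_le_comap]
    intro x hx
    rw [Ideal.mem_comap]
    have hunit : IsUnit (algebraMap B B' h₁) := by
      have hu : IsUnit (algebraMap B B' (h₂ * h₁ * h')) :=
        IsLocalization.Away.algebraMap_isUnit (h₂ * h₁ * h')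
      rw [map_mul, map_mul] at hu
      exact (IsUnit.mul_iff.mp (IsUnit.mul_iff.mp hu).1).2
    have h3 : algebraMap B B' (h₁ * x) ∈ (Ideal.ofList as).map (algebraMap B B') :=
      Ideal.mem_map_of_mem _ (hh₁ x hx)
    rw [map_mul] at h3
    exact (Ideal.unit_mul_mem_iff_mem _ hunit).mp h3
  · exact Ideal.map_mono hasle

end Groth.Agent.H79.FibreSeqSpread
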