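import Mathlib
import Groth.Agent.H79.SmoothReg

/-!
# Formally smooth ⇒ regular (local algebras essentially of finite type over a field)
-/

set_option autoImplicit false
universe u

open IsLocalRing TensorProduct KaehlerDifferential

namespace Groth.Agent.H79.SmoothReg

/-- Formally smooth quotients of a formally smooth regular local `k`-algebra are regular
(no hypothesis on the residue field). -/
theorem isRegularLocalRing_quot_of_formallySmooth (k P : Type u) [Field k] [CommRing P]
    [Algebra k P] [IsRegularLocalRing P] [Algebra.FormallySmooth k P] [Module.Free P Ω[P⁄k]]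
    [Module.Finite P Ω[P⁄k]] (J : Ideal P) (hJ : J ≤ maximalIdeal P)
    (hs : Algebra.FormallySmooth k (P ⧸ J)) : IsRegularLocalRing (P ⧸ J) := by
  letI : Field (P ⧸ maximalIdeal P) := Ideal.Quotient.field _
  have hJtop : J ≠ ⊤ := ne_top_of_le_ne_top (maximalIdeal.isMaximal P).ne_top hJ
  haveI : Nontrivial (P ⧸ J) := Ideal.Quotient.nontrivial_iff.mpr hJtop
  haveI : IsLocalRing (P ⧸ J) :=
    IsLocalRing.of_surjective' (Ideal.Quotient.mk J) Ideal.Quotient.mk_surjective
  letI : Algebra (P ⧸ J) (P ⧸ maximalIdeal P) := (Ideal.Quotient.factor hJ).toAlgebra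
  haveI : IsScalarTower P (P ⧸ J) (P ⧸ maximalIdeal P) :=
    IsScalarTower.of_algebraMap_eq' (Ideal.Quotient.factor_comp_mk hJ).symm
  have h₁ : Function.Surjective (algebraMap P (P ⧸ J)) := Ideal.Quotient.mk_surjective
  have h₂ : (RingHom.ker (algebraMap P (P ⧸ J))).FG := IsNoetherian.noetherian _
  have h₃ : maximalIdeal (P ⧸ J) ≤ RingHom.ker (algebraMap (P ⧸ J) (P ⧸ maximalIdeal P)) := by
    intro z hz
    obtain ⟨y, rfl⟩ := Ideal.Quotient.mk_surjective z
    have hz' : ¬ IsUnit (Ideal.Quotient.mk J y) := (IsLocalRing.mem_maximalIdeal _).mp hz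
    have hy : y ∈ maximalIdeal P := by
      by_contra hy
      exact hz' ((IsLocalRing.notMem_maximalIdeal.mp hy).map (Ideal.Quotient.mk J))
    rw [RingHom.mem_ker]
    show Ideal.Quotient.factor hJ (Ideal.Quotient.mk J y) = 0
    rw [Ideal.Quotient.factor_mk, Ideal.Quotient.eq_zero_iff_mem]
    exact hy
  have c1 := Algebra.FormallySmooth.iff_injective_cotangentComplexBaseChange (R := k)
    (S := P ⧸ J) P (P ⧸ maximalIdeal P) h₁ h₂ h₃
  have hle : RingHom.ker (algebraMap P (P ⧸ J)) ≤
      RingHom.ker (algebraMap P (P ⧸ maximalIdeal P)) := by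
    intro y hy
    rw [RingHom.mem_ker, Ideal.Quotient.algebraMap_eq, Ideal.Quotient.eq_zero_iff_mem] at hy ⊢
    exact hJ hy
  have hcomp : ∀ z, cotangentComplexBaseChange k (P ⧸ J) P (P ⧸ maximalIdeal P) z =
      cotangentComplexBaseChange k (P ⧸ maximalIdeal P) P (P ⧸ maximalIdeal P)
        (LinearMap.lTensor (P ⧸ maximalIdeal P) (Submodule.inclusion hle) z) := by
    intro z
    induction z using TensorProduct.induction_on with
    | zero => simp
    | tmul a b =>
      rw [LinearMap.lTensor_tmul, cotangentComplexBaseChange_tmul,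
        cotangentComplexBaseChange_tmul]
      rfl
    | add x y hx hy => rw [map_add, map_add, map_add, hx, hy]
  have hmid : Function.Injective
      (LinearMap.lTensor (P ⧸ maximalIdeal P) (Submodule.inclusion hle)) := by
    intro z₁ z₂ hz
    apply c1.mp hs
    rw [hcomp, hcomp, hz]
  have hN : RingHom.ker (algebraMap P (P ⧸ maximalIdeal P)) = maximalIdeal P := Ideal.mk_ker
  have hJ' : RingHom.ker (algebraMap P (P ⧸ J)) = J := Ideal.mk_ker
  have hC := lTensor_inclusion_injective_iff (maximalIdeal P) _ _ hle hN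
  have hJJ : (RingHom.ker (algebraMap P (P ⧸ J)) ⊓ maximalIdeal P ^ 2 ≤
      maximalIdeal P * RingHom.ker (algebraMap P (P ⧸ J))) ↔
      (J ⊓ maximalIdeal P ^ 2 ≤ maximalIdeal P * J) := by
    rw [hJ']
  exact (regular_quot_iff _ P rfl J hJ).mpr (hJJ.mp (hC.mp hmid))

/-- A formally smooth local algebra essentially of finite type over a field is regular. -/
theorem isRegularLocalRing_of_formallySmooth (k A : Type u) [Field k] [CommRing A]
    [IsLocalRing A] [Algebra k A] [Algebra.EssFiniteType k A]
    [hs : Algebra.FormallySmooth k A] : IsRegularLocalRing A := by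
  obtain ⟨ι, hι, p, hp, φ, hφ⟩ := Groth.Agent.H61.EssFT.exists_pres k A
  haveI : Algebra.FormallyEtale (MvPolynomial ι k) (Localization.AtPrime p) :=
    .of_isLocalization p.primeCompl
  haveI : Algebra.EssFiniteType (MvPolynomial ι k) (Localization.AtPrime p) :=
    Algebra.EssFiniteType.of_isLocalization _ p.primeCompl
  haveI : Algebra.EssFiniteType k (Localization.AtPrime p) :=
    Algebra.EssFiniteType.comp k (MvPolynomial ι k) (Localization.AtPrime p)
  haveI : Module.Free (Localization.AtPrime p) Ω[Localization.AtPrime p⁄k] :=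
    .of_equiv (KaehlerDifferential.tensorKaehlerEquivOfFormallyEtale k (MvPolynomial ι k)
      (Localization.AtPrime p))
  have hJ : RingHom.ker (φ : Localization.AtPrime p →+* A) ≤
      maximalIdeal (Localization.AtPrime p) :=
    IsLocalRing.le_maximalIdeal (RingHom.ker_ne_top _)
  let e : (Localization.AtPrime p ⧸ RingHom.ker (φ : Localization.AtPrime p →+* A)) ≃ₐ[k] A :=
    Ideal.quotientKerAlgEquivOfSurjective hφ
  haveI h1 : Algebra.FormallySmooth k
      (Localization.AtPrime p ⧸ RingHom.ker (φ : Localization.AtPrime p →+* A)) :=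
    Algebra.FormallySmooth.of_equiv e.symm
  haveI h2 := isRegularLocalRing_quot_of_formallySmooth k (Localization.AtPrime p) _ hJ h1
  exact IsRegularLocalRing.of_ringEquiv
    (R := Localization.AtPrime p ⧸ RingHom.ker (φ : Localization.AtPrime p →+* A))
    e.toRingEquiv

end Groth.Agent.H79.SmoothReg
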