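import Mathlib
import Groth.Prelude.Def_CInt
import Groth.Agent.H79.RegSpread
import Groth.Agent.H79.CILocus
import Groth.Agent.H79.SmoothReg3
import Groth.Agent.H9.CMFlatSch
import Groth.Agent.H59.RegImmDesc

/-!
# Closed subschemes with complete-intersection fibres inside a scheme with regular fibres
(helper79)

* `isRegularLocalRing_fibLoc_of_smooth`: fibre local rings of a smooth algebra are regular.
* `exists_affine_regular`: `p : X ⟶ S` flat l.f.p., `i : Y ⟶ X` a closed immersion with `Y` flat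
  l.f.p. over `S`, `z ∈ Y`; if the fibre local ring of `X` at `i z` is regular and the fibre local
  ring of `Y` at `z` is a complete intersection, then near `i z` the ideal of `Y` is generated by a
  regular sequence on an affine open.
-/

set_option autoImplicit false
set_option linter.unusedVariables false
set_option linter.style.haveILetI false
set_option linter.unusedSectionVars false

universe u

open CategoryTheory CategoryTheory.Limits AlgebraicGeometry TopologicalSpace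

namespace Groth.Agent.H79.RegSpreadSch

open RingTheory.Sequence

/-- fibre local rings of a smooth algebra are regular local rings -/
theorem isRegularLocalRing_fibLoc_of_smooth (A B : Type u) [CommRing A] [CommRing B] [Algebra A B]
    [Algebra.Smooth A B] (q : Ideal B) [q.IsPrime] :
    IsRegularLocalRing (EGA4.FibLocRing A B q) := by
  obtain ⟨Q, hQp, hQ⟩ := Groth.Agent.H79.CILocus.exists_fiber_prime A B q
  haveI := hQp
  obtain ⟨e⟩ := Groth.Agent.H66.FibreReg.nonempty_loc_fiber_equiv (q.under A) Q q hQ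
  haveI : Algebra.Smooth (q.under A).ResidueField ((q.under A).Fiber B) := inferInstance
  haveI : Algebra.FormallySmooth ((q.under A).Fiber B) (Localization.AtPrime Q) :=
    Algebra.FormallySmooth.of_isLocalization Q.primeCompl
  haveI : Algebra.FormallySmooth (q.under A).ResidueField (Localization.AtPrime Q) :=
    Algebra.FormallySmooth.comp _ ((q.under A).Fiber B) _
  haveI : Algebra.FiniteType (q.under A).ResidueField ((q.under A).Fiber B) := inferInstance
  haveI : Algebra.EssFiniteType (q.under A).ResidueField (Localization.AtPrime Q) := inferInstance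
  haveI := Groth.Agent.H79.SmoothReg.isRegularLocalRing_of_formallySmooth
    (q.under A).ResidueField (Localization.AtPrime Q)
  exact IsRegularLocalRing.of_ringEquiv (R := Localization.AtPrime Q) e

open Groth.Agent.H56.RegImmComp in
set_option maxHeartbeats 1600000 in
/-- **Scheme level**: near `i z` the ideal of the closed subscheme `Y` is generated, on an affine
open, by a regular sequence. -/
theorem exists_affine_regular {X Y S : Scheme.{u}} (p : X ⟶ S) [Flat p]
    [LocallyOfFinitePresentation p] (i : Y ⟶ X) [IsClosedImmersion i] [Flat (i ≫ p)]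
    [LocallyOfFinitePresentation (i ≫ p)] (z : Y)
    (hreg : IsRegularLocalRing (CInt.fiberStalk p (i z)))
    (hci : Pi1.IsCompleteIntersection (CInt.fiberStalk (i ≫ p) z)) :
    ∃ (U : X.Opens) (hU : IsAffineOpen U), i z ∈ U ∧ ∃ rs : List Γ(X, U),
      RingTheory.Sequence.IsRegular Γ(X, U) rs ∧ i.ker.ideal ⟨U, hU⟩ = Ideal.ofList rs := by
  obtain ⟨V, hV, hxV, -⟩ := exists_isAffineOpen_mem_and_subset (x := p (i z)) (U := ⊤) trivial
  obtain ⟨U, hU, hxU, hUV0⟩ := exists_isAffineOpen_mem_and_subset (x := i z) (U := p ⁻¹ᵁ V) hxV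
  have hUV : U ≤ p ⁻¹ᵁ V := hUV0
  have hcl : IsClosedImmersion (i ∣_ U) := inferInstance
  have hW : IsAffineOpen (i ⁻¹ᵁ U) := isAffineOpen_preimage i hU hcl
  have hWV : i ⁻¹ᵁ U ≤ (i ≫ p) ⁻¹ᵁ V := fun y hy => hUV hy
  have hzW : z ∈ i ⁻¹ᵁ U := hxU
  letI algB := (p.appLE V U hUV).hom.toAlgebra
  letI algC := ((i ≫ p).appLE V (i ⁻¹ᵁ U) hWV).hom.toAlgebra
  haveI : Algebra.FinitePresentation Γ(S, V) Γ(X, U) := p.finitePresentation_appLE hV hU hUV
  haveI : Module.Flat Γ(S, V) Γ(X, U) := p.flat_appLE hV hU hUV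
  haveI : Algebra.FinitePresentation Γ(S, V) Γ(Y, i ⁻¹ᵁ U) :=
    (i ≫ p).finitePresentation_appLE hV hW hWV
  haveI : Module.Flat Γ(S, V) Γ(Y, i ⁻¹ᵁ U) := (i ≫ p).flat_appLE hV hW hWV
  let φ : Γ(X, U) →ₐ[Γ(S, V)] Γ(Y, i ⁻¹ᵁ U) :=
    { (i.app U).hom with
      commutes' := fun r => by
        show (i.app U).hom ((p.appLE V U hUV).hom r) =
          ((i ≫ p).appLE V (i ⁻¹ᵁ U) hWV).hom r
        have h1 : p.appLE V U hUV ≫ i.app U = (i ≫ p).appLE V (i ⁻¹ᵁ U) hWV := by
          rw [i.app_eq_appLE, Scheme.Hom.appLE_comp_appLE]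
        rw [← h1]
        rfl }
  have hφ : Function.Surjective φ := app_surjective i hU hcl
  have hfg : (RingHom.ker φ.toRingHom).FG :=
    Algebra.FinitePresentation.ker_fG_of_surjective φ hφ
  -- primes
  haveI hqC : (hW.primeIdealOf ⟨z, hzW⟩).asIdeal.IsPrime := (hW.primeIdealOf ⟨z, hzW⟩).isPrime
  haveI hqB : (hU.primeIdealOf ⟨i z, hxU⟩).asIdeal.IsPrime := (hU.primeIdealOf ⟨i z, hxU⟩).isPrime
  have hP : (hU.primeIdealOf ⟨i z, hxU⟩).asIdeal =
      (hW.primeIdealOf ⟨z, hzW⟩).asIdeal.comap φ.toRingHom := by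
    have h1 := IsAffineOpen.comap_primeIdealOf_appLE (f := i) U hU (i ⁻¹ᵁ U) hW le_rfl hzW
    have h2 := congrArg PrimeSpectrum.asIdeal h1
    rw [← h2]
    show Ideal.comap (i.appLE U (i ⁻¹ᵁ U) le_rfl).hom _ = Ideal.comap (i.app U).hom _
    rw [i.app_eq_appLE]
  -- bridges
  obtain ⟨eB⟩ := Groth.Agent.H9.CMFlatSch.nonempty_fibreStalk_equiv p (i z) hV hU hUV hxU
  obtain ⟨eC⟩ := Groth.Agent.H9.CMFlatSch.nonempty_fibreStalk_equiv (i ≫ p) z hV hW hWV hzW
  haveI : IsRegularLocalRing (EGA4.FibLocRing Γ(S, V) Γ(X, U)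
      (hU.primeIdealOf ⟨i z, hxU⟩).asIdeal) :=
    IsRegularLocalRing.of_ringEquiv (R := CInt.fiberStalk p (i z)) eB
  have key : ∀ (P : Ideal Γ(X, U)) [P.IsPrime],
      P = (hW.primeIdealOf ⟨z, hzW⟩).asIdeal.comap φ.toRingHom →
      IsRegularLocalRing (EGA4.FibLocRing Γ(S, V) Γ(X, U) P) →
      ∃ h : Γ(X, U), h ∉ P ∧ ∃ g : List Γ(X, U), (∀ a ∈ g, a ∈ RingHom.ker φ.toRingHom) ∧
        ∀ (h' : Γ(X, U)) (B' : Type u) [CommRing B'] [Algebra Γ(X, U) B']
          [IsLocalization.Away (h * h') B'],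
          IsWeaklyRegular B' (g.map (algebraMap Γ(X, U) B')) ∧
          (RingHom.ker φ.toRingHom).map (algebraMap Γ(X, U) B') =
            Ideal.ofList (g.map (algebraMap Γ(X, U) B')) := by
    intro P _ hPeq hPreg
    subst hPeq
    refine Groth.Agent.H79.RegSpread.exists_regular_away φ hφ hfg
      (hW.primeIdealOf ⟨z, hzW⟩).asIdeal ?_ ?_ hPreg (CInt.fiberStalk (i ≫ p) z) eC hci
    · exact Module.Flat.trans Γ(S, V) Γ(X, U) _
    · exact Module.Flat.trans Γ(S, V) Γ(Y, i ⁻¹ᵁ U) _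
  obtain ⟨h, hhP, g, hgK, hall⟩ := key _ hP inferInstance
  -- the point lies in the basic open
  have hfy : hU.fromSpec (hU.primeIdealOf ⟨i z, hxU⟩) = i z := hU.fromSpec_primeIdealOf ⟨i z, hxU⟩
  have hxh : i z ∈ X.basicOpen h := by
    have h2 := hU.fromSpec_preimage_basicOpen h
    have h3 : hU.primeIdealOf ⟨i z, hxU⟩ ∈ (PrimeSpectrum.basicOpen h) :=
      (PrimeSpectrum.mem_basicOpen _ _).2 hhP
    rw [← h2] at h3
    have h4 : hU.fromSpec (hU.primeIdealOf ⟨i z, hxU⟩) ∈ X.basicOpen h := h3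
    rwa [hfy] at h4
  haveI hloc : IsLocalization.Away h Γ(X, X.basicOpen h) := hU.isLocalization_basicOpen h
  haveI : IsLocalization.Away (h * 1) Γ(X, X.basicOpen h) := by rw [mul_one]; exact hloc
  obtain ⟨hwr, hideal⟩ := hall 1 Γ(X, X.basicOpen h)
  have hkeq : RingHom.ker (i.app (X.basicOpen h)).hom =
      Ideal.ofList (g.map (algebraMap Γ(X, U) Γ(X, X.basicOpen h))) := by
    rw [Groth.Agent.H59.RegImmDesc.ker_basicOpen i hU hcl h, ← hideal]
  refine ⟨X.basicOpen h, hU.basicOpen h, hxh,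
    g.map (algebraMap Γ(X, U) Γ(X, X.basicOpen h)), ⟨hwr, ?_⟩, ?_⟩
  · simp only [smul_eq_mul, Ideal.mul_top]
    intro htop
    have hzg : z ∈ i ⁻¹ᵁ X.basicOpen h := hxh
    haveI : Nontrivial Γ(Y, i ⁻¹ᵁ X.basicOpen h) :=
      @Scheme.component_nontrivial _ _ ⟨⟨z, hzg⟩⟩
    exact RingHom.ker_ne_top (i.app (X.basicOpen h)).hom (hkeq.trans htop.symm)
  · rw [← hkeq]
    exact Scheme.Hom.ker_apply i ⟨X.basicOpen h, hU.basicOpen h⟩

/-- the fibre local rings of a smooth morphism are regular -/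
theorem isRegularLocalRing_fiberStalk_of_smooth {X S : Scheme.{u}} (p : X ⟶ S) [Smooth p] (x : X) :
    IsRegularLocalRing (CInt.fiberStalk p x) := by
  obtain ⟨V, hV, hxV, -⟩ := exists_isAffineOpen_mem_and_subset (x := p x) (U := ⊤) trivial
  obtain ⟨U, hU, hxU, hUV0⟩ := exists_isAffineOpen_mem_and_subset (x := x) (U := p ⁻¹ᵁ V) hxV
  have hUV : U ≤ p ⁻¹ᵁ V := hUV0
  letI algB := (p.appLE V U hUV).hom.toAlgebra
  haveI : Algebra.Smooth Γ(S, V) Γ(X, U) := p.smooth_appLE hV hU hUV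
  obtain ⟨eB⟩ := Groth.Agent.H9.CMFlatSch.nonempty_fibreStalk_equiv p x hV hU hUV hxU
  haveI := isRegularLocalRing_fibLoc_of_smooth Γ(S, V) Γ(X, U) (hU.primeIdealOf ⟨x, hxU⟩).asIdeal
  exact IsRegularLocalRing.of_ringEquiv
    (R := EGA4.FibLocRing Γ(S, V) Γ(X, U) (hU.primeIdealOf ⟨x, hxU⟩).asIdeal) eB.symm

end Groth.Agent.H79.RegSpreadSch
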