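import Mathlib
import Groth.Prelude.Def_EGA4b
import Groth.Agent.H9.FiberStalk
import Groth.Agent.H9.ClosedImmStalk

/-!
# Bridges between scheme-theoretic fibres and fibre local rings (helper79)

* `ker_of_isPushout`: in a pushout square of commutative rings with a surjective leg `a`, the
  kernel of the opposite leg is the extension of `ker a`.
* `ker_app_of_isPullback`: for a closed immersion `i : Z ⟶ X` and its base change `i' : Z' ⟶ X'`
  along `g : X' ⟶ X`, on affine opens `U' ≤ g⁻¹ U` the kernel of `i'.app U'` is the extension of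
  the kernel of `i.app U`.
* `fibLocEquiv`: for `φ : X ⟶ S`, a point `y` of the fibre `X_s`, affine opens `V ⊆ S`,
  `U ⊆ φ⁻¹ V` around its image `x`: the fibre local ring `B_P / p B_P` (`B = Γ(X, U)`,
  `A = Γ(S, V)`) is the local ring of `X_s` at `y`, compatibly with the maps from `B`.
-/

set_option autoImplicit false
set_option linter.unusedVariables false
set_option linter.style.haveILetI false
set_option linter.unusedSectionVars false

universe u

open AlgebraicGeometry CategoryTheory CategoryTheory.Limits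

namespace Groth.Agent.H79.FibreBridge

/-- In a pushout square of commutative rings with `a` surjective, `ker d = (ker a)·B'`. -/
theorem ker_of_isPushout {B C B' D : CommRingCat.{u}} {a : B ⟶ C} {b : B ⟶ B'} {c : C ⟶ D}
    {d : B' ⟶ D} (H : IsPushout a b c d) (ha : Function.Surjective a.hom) :
    RingHom.ker d.hom = (RingHom.ker a.hom).map b.hom := by
  apply le_antisymm
  · -- build the cocone `B' ⧸ K B'`
    set K' := (RingHom.ker a.hom).map b.hom with hK'
    let l : (B ⧸ RingHom.ker a.hom) →+* (B' ⧸ K') :=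
      Ideal.Quotient.lift (RingHom.ker a.hom) ((Ideal.Quotient.mk K').comp b.hom) (by
        intro x hx
        rw [RingHom.comp_apply, Ideal.Quotient.eq_zero_iff_mem]
        exact Ideal.mem_map_of_mem _ hx)
    let c' : C ⟶ CommRingCat.of (B' ⧸ K') :=
      CommRingCat.ofHom (l.comp (RingHom.quotientKerEquivOfSurjective ha).symm.toRingHom)
    let d' : B' ⟶ CommRingCat.of (B' ⧸ K') := CommRingCat.ofHom (Ideal.Quotient.mk K')
    have hw : a ≫ c' = b ≫ d' := by
      ext x
      show l ((RingHom.quotientKerEquivOfSurjective ha).symm (a.hom x)) =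
        Ideal.Quotient.mk K' (b.hom x)
      have h1 : (RingHom.quotientKerEquivOfSurjective ha).symm (a.hom x) =
          Ideal.Quotient.mk _ x := by
        rw [RingEquiv.symm_apply_eq]
        rfl
      rw [h1]
      rfl
    have hu : d ≫ H.desc c' d' hw = d' := H.inr_desc c' d' hw
    intro y hy
    rw [RingHom.mem_ker] at hy
    have h2 : d'.hom y = (H.desc c' d' hw).hom (d.hom y) :=
      (congrArg (fun f => f.hom y) hu).symm
    rw [hy, map_zero] at h2
    exact Ideal.Quotient.eq_zero_iff_mem.mp h2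
  · rw [Ideal.map_le_iff_le_comap]
    intro x hx
    rw [RingHom.mem_ker] at hx
    rw [Ideal.mem_comap, RingHom.mem_ker]
    have h1 : d.hom (b.hom x) = c.hom (a.hom x) := by
      have := congrArg (fun f => f.hom x) H.w
      exact this.symm
    rw [h1, hx, map_zero]

/-- Base change of a closed immersion: on affine opens `U' ≤ g⁻¹ U`, the kernel of `i'.app U'`
is the extension of the kernel of `i.app U`. -/
theorem ker_app_of_isPullback {Z X X' Z' : Scheme.{u}} {i : Z ⟶ X} {g : X' ⟶ X} {g' : Z' ⟶ Z}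
    {i' : Z' ⟶ X'} (H : IsPullback g' i' i g) [IsClosedImmersion i] {U : X.Opens}
    (hU : IsAffineOpen U) {U' : X'.Opens} (hU' : IsAffineOpen U') (hUU' : U' ≤ g ⁻¹ᵁ U) :
    RingHom.ker (i'.app U').hom = (RingHom.ker (i.app U).hom).map (g.appLE U U' hUU').hom := by
  have hUX : IsAffineOpen (i ⁻¹ᵁ U) := hU.preimage i
  have hUY : i' ⁻¹ᵁ U' = g' ⁻¹ᵁ (i ⁻¹ᵁ U) ⊓ i' ⁻¹ᵁ U' := by
    apply le_antisymm
    · refine le_inf ?_ le_rfl
      intro w hw
      have h1 : g (i' w) ∈ U := hUU' hw
      have h2 : i (g' w) = g (i' w) := by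
        have := congrArg (fun f => f w) H.w
        simpa using this
      show i (g' w) ∈ U
      rw [h2]; exact h1
    · exact inf_le_right
  have hiso := isIso_pushoutSection_of_isAffineOpen H hUU' (le_refl (i ⁻¹ᵁ U)) hUY hU hU' hUX
  have hpo := (isIso_pushoutSection_iff H hUU' (le_refl (i ⁻¹ᵁ U)) hUY).mp hiso
  have hsurj : Function.Surjective (i.appLE U (i ⁻¹ᵁ U) le_rfl).hom := by
    rw [Scheme.Hom.appLE_eq_app]
    exact i.app_surjective U hU
  have hk := ker_of_isPushout hpo hsurj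
  rw [Scheme.Hom.appLE_eq_app, Scheme.Hom.appLE_eq_app] at hk
  exact hk

theorem germ_stalkMap_appLE {X S : Scheme.{u}} (φ : X ⟶ S) {V : S.Opens} {U : X.Opens}
    (hUV : U ≤ φ ⁻¹ᵁ V) (x : X) (hx : x ∈ U) :
    S.presheaf.germ V (φ x) (hUV hx) ≫ φ.stalkMap x =
      φ.appLE V U hUV ≫ X.presheaf.germ U x hx := by
  rw [Scheme.Hom.appLE, Category.assoc, X.presheaf.germ_res]
  exact Scheme.Hom.germ_stalkMap φ V x (hUV hx)

set_option maxHeartbeats 800000 in
/-- The fibre local ring `B_P / p B_P` is the local ring of the scheme-theoretic fibre, compatibly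
with the maps from `B = Γ(X, U)`. -/
theorem exists_fibLocEquiv {X S : Scheme.{u}} (φ : X ⟶ S) (s : S) (y : ↥(φ.fiber s))
    {V : S.Opens} (hV : IsAffineOpen V) {U : X.Opens} (hU : IsAffineOpen U) (hUV : U ≤ φ ⁻¹ᵁ V)
    (hxU : (φ.fiberι s) y ∈ U) :
    letI := (φ.appLE V U hUV).hom.toAlgebra
    ∃ Ψ : EGA4.FibLocRing Γ(S, V) Γ(X, U) (hU.primeIdealOf ⟨(φ.fiberι s) y, hxU⟩).asIdeal ≃+*
        (φ.fiber s).presheaf.stalk y,
      ∀ b : Γ(X, U), Ψ (algebraMap Γ(X, U) _ b) =
        ((φ.fiberι s).stalkMap y).hom (X.presheaf.germ U ((φ.fiberι s) y) hxU b) := by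
  letI algAB := (φ.appLE V U hUV).hom.toAlgebra
  obtain ⟨x, hx⟩ : ∃ x : X, x = (φ.fiberι s) y := ⟨_, rfl⟩
  obtain ⟨P, hP⟩ : ∃ P : Ideal Γ(X, U), P = (hU.primeIdealOf ⟨(φ.fiberι s) y, hxU⟩).asIdeal :=
    ⟨_, rfl⟩
  haveI hPprime : P.IsPrime := by rw [hP]; infer_instance
  letI algBR : Algebra Γ(X, U) (X.presheaf.stalk ((φ.fiberι s) y)) :=
    X.presheaf.algebra_section_stalk ⟨(φ.fiberι s) y, hxU⟩
  haveI : IsLocalization.AtPrime (X.presheaf.stalk ((φ.fiberι s) y)) P := by
    subst hP; exact hU.isLocalization_stalk ⟨(φ.fiberι s) y, hxU⟩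
  let γ : Localization.AtPrime P ≃ₐ[Γ(X, U)] X.presheaf.stalk ((φ.fiberι s) y) :=
    IsLocalization.algEquiv P.primeCompl _ _
  obtain ⟨hσsurj, hσker⟩ := Groth.Agent.H9.stalkMap_fiberι_surjective_and_ker_eq φ s y
  let τ : Localization.AtPrime P →+* (φ.fiber s).presheaf.stalk y :=
    ((φ.fiberι s).stalkMap y).hom.comp (γ : Localization.AtPrime P →+* _)
  have hτsurj : Function.Surjective τ := hσsurj.comp γ.surjective
  -- the maximal ideal of the base stalk
  have hxV : φ ((φ.fiberι s) y) ∈ V := hUV hxU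
  letI algAO : Algebra Γ(S, V) (S.presheaf.stalk (φ ((φ.fiberι s) y))) :=
    S.presheaf.algebra_section_stalk ⟨φ ((φ.fiberι s) y), hxV⟩
  haveI : IsLocalization.AtPrime (S.presheaf.stalk (φ ((φ.fiberι s) y)))
      (hV.primeIdealOf ⟨φ ((φ.fiberι s) y), hxV⟩).asIdeal :=
    hV.isLocalization_stalk ⟨_, hxV⟩
  have hpp : (hV.primeIdealOf ⟨φ ((φ.fiberι s) y), hxV⟩).asIdeal =
      P.comap (algebraMap Γ(S, V) Γ(X, U)) := by
    rw [hP]
    exact congr($(IsAffineOpen.comap_primeIdealOf_appLE V hV U hU hUV hxU).1).symm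
  have hmax : IsLocalRing.maximalIdeal (S.presheaf.stalk (φ ((φ.fiberι s) y))) =
      (P.comap (algebraMap Γ(S, V) Γ(X, U))).map
        (S.presheaf.germ V (φ ((φ.fiberι s) y)) hxV).hom := by
    rw [← hpp]
    exact (IsLocalization.AtPrime.map_eq_maximalIdeal
      (hV.primeIdealOf ⟨φ ((φ.fiberι s) y), hxV⟩).asIdeal
      (S.presheaf.stalk (φ ((φ.fiberι s) y)))).symm
  have hcomm : (φ.stalkMap ((φ.fiberι s) y)).hom.comp
      (S.presheaf.germ V (φ ((φ.fiberι s) y)) hxV).hom =
      (algebraMap Γ(X, U) (X.presheaf.stalk ((φ.fiberι s) y))).comp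
        (algebraMap Γ(S, V) Γ(X, U)) := by
    have h := germ_stalkMap_appLE φ hUV ((φ.fiberι s) y) hxU
    exact congrArg CommRingCat.Hom.hom h
  have hσker' : RingHom.ker ((φ.fiberι s).stalkMap y).hom =
      (P.comap (algebraMap Γ(S, V) Γ(X, U))).map
        ((algebraMap Γ(X, U) (X.presheaf.stalk ((φ.fiberι s) y))).comp
          (algebraMap Γ(S, V) Γ(X, U))) := by
    rw [hσker]
    show Ideal.map (φ.stalkMap ((φ.fiberι s) y)).hom
      (IsLocalRing.maximalIdeal (S.presheaf.stalk (φ ((φ.fiberι s) y)))) = _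
    rw [hmax, Ideal.map_map, hcomm]
  have hτker : RingHom.ker τ = (P.comap (algebraMap Γ(S, V) Γ(X, U))).map
      (algebraMap Γ(S, V) (Localization.AtPrime P)) := by
    show RingHom.ker (((φ.fiberι s).stalkMap y).hom.comp (γ : Localization.AtPrime P →+* _)) = _
    rw [← RingHom.comap_ker, hσker']
    have h1 : (algebraMap Γ(S, V) (Localization.AtPrime P)) =
        (γ.toRingEquiv.symm : X.presheaf.stalk ((φ.fiberι s) y) →+* Localization.AtPrime P).comp
          ((algebraMap Γ(X, U) (X.presheaf.stalk ((φ.fiberι s) y))).comp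
            (algebraMap Γ(S, V) Γ(X, U))) := by
      ext r
      simp only [RingHom.comp_apply]
      rw [IsScalarTower.algebraMap_apply Γ(S, V) Γ(X, U) (Localization.AtPrime P)]
      exact (γ.symm.commutes _).symm
    rw [h1, ← Ideal.map_map (f := (algebraMap Γ(X, U) (X.presheaf.stalk ((φ.fiberι s) y))).comp
            (algebraMap Γ(S, V) Γ(X, U)))
          (g := (γ.toRingEquiv.symm : X.presheaf.stalk ((φ.fiberι s) y) →+* Localization.AtPrime P))]
    exact (Ideal.map_symm γ.toRingEquiv).symm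
  subst hP
  refine ⟨(Ideal.quotEquivOfEq hτker.symm).trans
    (RingHom.quotientKerEquivOfSurjective hτsurj), ?_⟩
  intro b
  show τ (algebraMap Γ(X, U) (Localization.AtPrime _) b) = _
  show ((φ.fiberι s).stalkMap y).hom (γ (algebraMap Γ(X, U) (Localization.AtPrime _) b)) = _
  rw [γ.commutes]
  rfl

end Groth.Agent.H79.FibreBridge
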