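import Mathlib
import Groth.Agent.H79.RegSpread
import Groth.Agent.H79.RegFibreCI
import Groth.Agent.H79.RegKindSeq
import Groth.Agent.H79.CILocus

/-!
# Quasi-regular sequences with flat quotient are regular near a point (helper79)

Non-Noetherian: `A → B` of finite presentation, `P` a prime of `B` with `B_P` flat over `A`,
`rs ⊆ P` a quasi-regular sequence with `B/(rs)` flat over `A`. Then `rs` is weakly regular on a
basic open neighbourhood of `P`.
-/

set_option autoImplicit false
set_option linter.unusedVariables false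
set_option linter.style.haveILetI false
set_option linter.unusedSectionVars false

universe u

open TensorProduct

namespace Groth.Agent.H79.QRegSpread

open RingTheory.Sequence

attribute [local instance] Algebra.TensorProduct.rightAlgebra

set_option maxHeartbeats 800000 in
/-- a quasi-regular sequence with flat quotient is weakly regular on a Noetherian local fibre -/
theorem weaklyRegular_fibre_of_quasiRegular {A B : Type u} [CommRing A] [CommRing B] [Algebra A B]
    (m : Ideal A) (rs : List B) (hq : CAlgX.IsQuasiRegular rs.get)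
    (hflat : Module.Flat A (B ⧸ Ideal.ofList rs))
    [IsNoetherianRing (B ⧸ m.map (algebraMap A B))] [IsLocalRing (B ⧸ m.map (algebraMap A B))]
    (hmem : ∀ r ∈ rs, Ideal.Quotient.mk (m.map (algebraMap A B)) r ∈
      IsLocalRing.maximalIdeal (B ⧸ m.map (algebraMap A B))) :
    IsWeaklyRegular (B ⧸ m.map (algebraMap A B))
      (rs.map (Ideal.Quotient.mk (m.map (algebraMap A B)))) := by
  have hqT := Groth.Agent.H79.RegKindRel.seq_of_isPushout A B (A ⧸ m) (B ⊗[A] (A ⧸ m))
    RegImm.Kind.quasi (Or.inr rfl) rs hq hflat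
  have hqT' : CAlgX.IsQuasiRegular (rs.map (algebraMap B (B ⊗[A] (A ⧸ m)))).get := hqT
  let e : (B ⊗[A] (A ⧸ m)) ≃ₐ[B] (B ⧸ m.map (algebraMap A B)) :=
    (Algebra.TensorProduct.quotIdealMapEquivTensorQuot B m).symm
  have he : ∀ b : B, e (algebraMap B (B ⊗[A] (A ⧸ m)) b) =
      Ideal.Quotient.mk (m.map (algebraMap A B)) b := fun b => e.commutes b
  have hq₁ := Groth.Agent.H87.QRegLoc.isQuasiRegular_of_ringEquiv e.toRingEquiv _ hqT'
  have hlist : List.ofFn (fun i : Fin (rs.map (algebraMap B (B ⊗[A] (A ⧸ m)))).length =>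
      e.toRingEquiv ((rs.map (algebraMap B (B ⊗[A] (A ⧸ m)))).get i)) =
      rs.map (Ideal.Quotient.mk (m.map (algebraMap A B))) := by
    rw [Groth.Agent.S5004.ofFn_get_map, List.map_map]
    apply List.map_congr_left
    intro b _
    exact he b
  have hw := Groth.Agent.S5803.result (B ⧸ m.map (algebraMap A B)) _ _ (fun i => by
    rw [← Ideal.jacobson_bot, IsLocalRing.jacobson_eq_maximalIdeal _ bot_ne_top]
    have h1 : e.toRingEquiv ((rs.map (algebraMap B (B ⊗[A] (A ⧸ m)))).get i) ∈
        rs.map (Ideal.Quotient.mk (m.map (algebraMap A B))) := by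
      rw [← hlist]
      exact (List.mem_ofFn' _ _).mpr ⟨i, rfl⟩
    obtain ⟨r, hr, hre⟩ := List.mem_map.mp h1
    rw [← hre]
    exact hmem r hr) hq₁
  rw [hlist] at hw
  exact hw

open Groth.Agent.H66.GlobalCI Groth.Agent.H66.FibreReg in
set_option maxHeartbeats 1600000 in
/-- **Quasi-regular + flat quotient ⇒ regular near the point** (finite presentation, no Noetherian
hypothesis). -/
theorem exists_weaklyRegular_away_of_quasiRegular {A B : Type u} [CommRing A] [CommRing B]
    [Algebra A B] [Algebra.FinitePresentation A B] (P : Ideal B) [P.IsPrime]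
    [Module.Flat A (Localization.AtPrime P)] (rs : List B) (hP : ∀ r ∈ rs, r ∈ P)
    (hq : CAlgX.IsQuasiRegular rs.get) (hflat : Module.Flat A (B ⧸ Ideal.ofList rs)) :
    ∃ h : B, h ∉ P ∧ ∀ (h' : B) (B' : Type u) [CommRing B'] [Algebra B B']
      [IsLocalization.Away (h * h') B'], IsWeaklyRegular B' (rs.map (algebraMap B B')) := by
  classical
  set I := Ideal.ofList rs with hI
  have hIP : I ≤ P := by
    rw [hI]; unfold Ideal.ofList
    rw [Ideal.span_le]
    exact fun x hx => hP x hx
  -- quasi-regular in `B_P`
  have hqP : CAlgX.IsQuasiRegular (rs.map (algebraMap B (Localization.AtPrime P))).get := by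
    have h1 := Groth.Agent.H87.QRegLoc.isQuasiRegular_of_isLocalization
      (T := Localization.AtPrime P) P.primeCompl rs.get hq
    refine Groth.Agent.H79.RegKindSeq.isQuasiRegular_congr (List.length_map _).symm _ _ ?_ h1
    intro i
    simp
  -- flatness of `B_P / I B_P`
  have hflatP : Module.Flat A (Localization.AtPrime P ⧸
      Ideal.ofList (rs.map (algebraMap B (Localization.AtPrime P)))) := by
    rw [← Ideal.map_ofList]
    let φ : B →ₐ[A] (B ⧸ I) := Ideal.Quotient.mkₐ A I
    have hφ : Function.Surjective φ := Ideal.Quotient.mkₐ_surjective A I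
    haveI hQ : (P.map (Ideal.Quotient.mk I)).IsPrime :=
      Ideal.map_isPrime_of_surjective Ideal.Quotient.mk_surjective (by rw [Ideal.mk_ker]; exact hIP)
    have hcomap : P = (P.map (Ideal.Quotient.mk I)).comap φ.toRingHom := by
      show P = Ideal.comap (Ideal.Quotient.mk I) (P.map (Ideal.Quotient.mk I))
      rw [Ideal.comap_map_of_surjective _ Ideal.Quotient.mk_surjective,
        ← RingHom.ker_eq_comap_bot, Ideal.mk_ker, sup_eq_left.mpr hIP]
    have hker : RingHom.ker φ.toRingHom = I := Ideal.Quotient.mkₐ_ker A I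
    have key : ∀ (P' : Ideal B) [P'.IsPrime],
        P' = (P.map (Ideal.Quotient.mk I)).comap φ.toRingHom →
        Module.Flat A (Localization.AtPrime P' ⧸ I.map (algebraMap B (Localization.AtPrime P'))) := by
      intro P' _ hP'
      subst hP'
      obtain ⟨e9⟩ := nonempty_atPrime_equiv_quot φ hφ (P.map (Ideal.Quotient.mk I))
      rw [hker] at e9
      haveI : Module.Flat A (Localization.AtPrime (P.map (Ideal.Quotient.mk I))) :=
        Module.Flat.trans A (B ⧸ I) _
      exact Module.Flat.of_linearEquiv e9.symm.toLinearEquiv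
    exact key P hcomap
  -- the fibre local ring is Noetherian local
  obtain ⟨Q, hQp, hQ⟩ := Groth.Agent.H79.CILocus.exists_fiber_prime A B P
  haveI := hQp
  obtain ⟨e⟩ := nonempty_loc_fiber_equiv (P.under A) Q P hQ
  haveI : Algebra.FiniteType (P.under A).ResidueField ((P.under A).Fiber B) := inferInstance
  haveI : IsNoetherianRing ((P.under A).Fiber B) :=
    Algebra.FiniteType.isNoetherianRing (P.under A).ResidueField _
  haveI : IsNoetherianRing (Localization.AtPrime Q) :=
    IsLocalization.isNoetherianRing Q.primeCompl _ inferInstance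
  haveI : IsNoetherianRing (EGA4.FibLocRing A B P) :=
    isNoetherianRing_of_ringEquiv (Localization.AtPrime Q) e
  haveI : IsLocalRing (EGA4.FibLocRing A B P) := e.isLocalRing
  have hmem : ∀ r ∈ rs.map (algebraMap B (Localization.AtPrime P)),
      Ideal.Quotient.mk ((P.comap (algebraMap A B)).map
        (algebraMap A (Localization.AtPrime P))) r ∈
      IsLocalRing.maximalIdeal (EGA4.FibLocRing A B P) := by
    intro r hr
    obtain ⟨x, hx, rfl⟩ := List.mem_map.mp hr
    exact mem_maximalIdeal_fibLoc A B P x (hP x hx)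
  have hwF := weaklyRegular_fibre_of_quasiRegular (A := A) (B := Localization.AtPrime P)
    (P.comap (algebraMap A B)) (rs.map (algebraMap B (Localization.AtPrime P))) hqP hflatP hmem
  have hwF' : IsWeaklyRegular (EGA4.FibLocRing A B P)
      (rs.map (algebraMap B (EGA4.FibLocRing A B P))) := by
    rw [List.map_map] at hwF
    exact hwF
  obtain ⟨hwr, hfl⟩ := Groth.Agent.H79.RegSpread.regular_of_fibre (A := A) P rs hwF'
  exact Groth.Agent.H79.RegSpread.spread_regular (A := A) P rs hP hwr hfl

end Groth.Agent.H79.QRegSpread
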