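import Mathlib
import Groth.Prelude.Def_RegImm
import Groth.Agent.H79.QRegSpread
import Groth.Agent.H59.RegImmDesc

/-!
# Relative quasi-regular immersions into flat l.f.p. schemes are regular immersions (helper79)
-/

set_option autoImplicit false
set_option linter.unusedVariables false
set_option linter.style.haveILetI false
set_option linter.unusedSectionVars false

universe u

open CategoryTheory CategoryTheory.Limits AlgebraicGeometry TopologicalSpace

namespace Groth.Agent.H79.QRegSpreadSch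

open RingTheory.Sequence Groth.Agent.H56.RegImmComp

/-- membership of a point of an affine open in a basic open, via its prime -/
theorem mem_basicOpen_iff {X : Scheme.{u}} {U : X.Opens} (hU : IsAffineOpen U) (x : X) (hx : x ∈ U)
    (b : Γ(X, U)) : x ∈ X.basicOpen b ↔ b ∉ (hU.primeIdealOf ⟨x, hx⟩).asIdeal := by
  have hfy : hU.fromSpec (hU.primeIdealOf ⟨x, hx⟩) = x := hU.fromSpec_primeIdealOf ⟨x, hx⟩
  have h2 := hU.fromSpec_preimage_basicOpen b
  constructor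
  · intro hxf
    have h3 : hU.primeIdealOf ⟨x, hx⟩ ∈ hU.fromSpec ⁻¹ᵁ X.basicOpen b := by
      show hU.fromSpec (hU.primeIdealOf ⟨x, hx⟩) ∈ X.basicOpen b
      rw [hfy]; exact hxf
    rw [h2] at h3
    exact (PrimeSpectrum.mem_basicOpen _ _).1 h3
  · intro hf
    have h3 : hU.primeIdealOf ⟨x, hx⟩ ∈ (PrimeSpectrum.basicOpen b) :=
      (PrimeSpectrum.mem_basicOpen _ _).2 hf
    rw [← h2] at h3
    have h4 : hU.fromSpec (hU.primeIdealOf ⟨x, hx⟩) ∈ X.basicOpen b := h3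
    rwa [hfy] at h4

/-- the kernel of `i.app U` lies in the prime of a point of the image -/
theorem ker_le_primeIdealOf {Z X : Scheme.{u}} (i : Z ⟶ X) {U : X.Opens} (hU : IsAffineOpen U)
    (z : Z) (hz : i z ∈ U) :
    RingHom.ker (i.app U).hom ≤ (hU.primeIdealOf ⟨i z, hz⟩).asIdeal := by
  intro a ha
  by_contra hna
  have h1 : i z ∈ X.basicOpen a := (mem_basicOpen_iff hU (i z) hz a).2 hna
  have h2 : z ∈ i ⁻¹ᵁ X.basicOpen a := h1
  rw [Scheme.preimage_basicOpen, RingHom.mem_ker.mp ha, Scheme.basicOpen_zero] at h2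
  exact h2

/-- passing to a basic open: closed immersion, kernel, non-triviality -/
theorem basicOpen_data {Z X : Scheme.{u}} (i : Z ⟶ X) {U : X.Opens} (hU : IsAffineOpen U)
    (hcl : IsClosedImmersion (i ∣_ U)) (rs : List Γ(X, U))
    (hker : RingHom.ker (i.app U).hom = Ideal.ofList rs) (b : Γ(X, U)) (z : Z)
    (hz : i z ∈ X.basicOpen b) :
    IsClosedImmersion (i ∣_ X.basicOpen b) ∧
      RingHom.ker (i.app (X.basicOpen b)).hom =
        Ideal.ofList (rs.map (algebraMap Γ(X, U) Γ(X, X.basicOpen b))) ∧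
      Ideal.ofList (rs.map (algebraMap Γ(X, U) Γ(X, X.basicOpen b))) ≠ ⊤ := by
  have hcl' := Groth.Agent.H59.RegImmDesc.closedImm_basicOpen i hcl b
  have hkeq : RingHom.ker (i.app (X.basicOpen b)).hom =
      Ideal.ofList (rs.map (algebraMap Γ(X, U) Γ(X, X.basicOpen b))) := by
    rw [Groth.Agent.H59.RegImmDesc.ker_basicOpen i hU hcl b, hker, Ideal.map_ofList]
  refine ⟨hcl', hkeq, ?_⟩
  intro htop
  have hzg : z ∈ i ⁻¹ᵁ X.basicOpen b := hz
  haveI : Nontrivial Γ(Z, i ⁻¹ᵁ X.basicOpen b) :=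
    @Scheme.component_nontrivial _ _ ⟨⟨z, hzg⟩⟩
  exact RingHom.ker_ne_top (i.app (X.basicOpen b)).hom (hkeq.trans htop)

set_option maxHeartbeats 1600000 in
/-- **A relative quasi-regular immersion into a flat l.f.p. `S`-scheme is a regular immersion.** -/
theorem regImm_of_relQuasi {Z X S : Scheme.{u}} (f : X ⟶ S) [Flat f]
    [LocallyOfFinitePresentation f] (i : Z ⟶ X)
    (hi : RegImm.IsRelRegularImmersion RegImm.Kind.quasi f i) :
    RegImm.IsRegularImmersion RegImm.Kind.regular i := by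
  obtain ⟨⟨himm, hat⟩, hflatZ⟩ := hi
  haveI := hflatZ
  refine ⟨himm, fun z => ?_⟩
  obtain ⟨U, hzU, hcl, rs, hq, hker⟩ := hat z
  have hq' : CAlgX.IsQuasiRegular rs.get := hq
  -- shrink into the preimage of an affine open of `S`
  obtain ⟨V, hV, hxV, -⟩ := exists_isAffineOpen_mem_and_subset (x := f (i z)) (U := ⊤) trivial
  obtain ⟨b, hble, hzb⟩ := U.2.exists_basicOpen_le (V := U.1 ⊓ f ⁻¹ᵁ V) ⟨i z, ⟨hzU, hxV⟩⟩ hzU
  have hzb' : i z ∈ X.basicOpen b := hzb
  obtain ⟨hcl₁, hker₁, hne₁⟩ := basicOpen_data i U.2 hcl rs hker b z hzb'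
  have hU₁ : IsAffineOpen (X.basicOpen b) := U.2.basicOpen b
  haveI : IsLocalization.Away b Γ(X, X.basicOpen b) := U.2.isLocalization_basicOpen b
  haveI : Module.Flat Γ(X, U.1) Γ(X, X.basicOpen b) :=
    IsLocalization.flat Γ(X, X.basicOpen b) (Submonoid.powers b)
  have hq₁ : CAlgX.IsQuasiRegular
      (rs.map (algebraMap Γ(X, U.1) Γ(X, X.basicOpen b))).get :=
    Groth.Agent.H79.RegKindSeq.seq_map_of_flat RegImm.Kind.quasi rs hq hne₁
  have hUV : X.basicOpen b ≤ f ⁻¹ᵁ V := fun x hx => (hble hx).2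
  obtain ⟨rs₁, hrs₁⟩ : ∃ rs₁ : List Γ(X, X.basicOpen b),
    rs₁ = rs.map (algebraMap Γ(X, U.1) Γ(X, X.basicOpen b)) := ⟨_, rfl⟩
  rw [← hrs₁] at hq₁ hker₁ hne₁
  -- ring level
  have hW : IsAffineOpen (i ⁻¹ᵁ X.basicOpen b) := isAffineOpen_preimage i hU₁ hcl₁
  have hWV : i ⁻¹ᵁ X.basicOpen b ≤ (i ≫ f) ⁻¹ᵁ V := fun y hy => hUV hy
  letI algB := (f.appLE V (X.basicOpen b) hUV).hom.toAlgebra
  letI algC := ((i ≫ f).appLE V (i ⁻¹ᵁ X.basicOpen b) hWV).hom.toAlgebra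
  haveI : Algebra.FinitePresentation Γ(S, V) Γ(X, X.basicOpen b) :=
    f.finitePresentation_appLE hV hU₁ hUV
  haveI : Module.Flat Γ(S, V) Γ(X, X.basicOpen b) := f.flat_appLE hV hU₁ hUV
  haveI : Module.Flat Γ(S, V) Γ(Z, i ⁻¹ᵁ X.basicOpen b) := (i ≫ f).flat_appLE hV hW hWV
  let φ : Γ(X, X.basicOpen b) →ₐ[Γ(S, V)] Γ(Z, i ⁻¹ᵁ X.basicOpen b) :=
    { (i.app (X.basicOpen b)).hom with
      commutes' := fun r => by
        show (i.app (X.basicOpen b)).hom ((f.appLE V (X.basicOpen b) hUV).hom r) =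
          ((i ≫ f).appLE V (i ⁻¹ᵁ X.basicOpen b) hWV).hom r
        have h1 : f.appLE V (X.basicOpen b) hUV ≫ i.app (X.basicOpen b) =
            (i ≫ f).appLE V (i ⁻¹ᵁ X.basicOpen b) hWV := by
          rw [i.app_eq_appLE, Scheme.Hom.appLE_comp_appLE]
        rw [← h1]
        rfl }
  have hφ : Function.Surjective φ := app_surjective i hU₁ hcl₁
  have hkerφ : RingHom.ker φ.toRingHom = Ideal.ofList rs₁ := hker₁
  have hflatQ : Module.Flat Γ(S, V) (Γ(X, X.basicOpen b) ⧸ Ideal.ofList rs₁) := by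
    rw [← hkerφ]
    exact Module.Flat.of_linearEquiv (Ideal.quotientKerAlgEquivOfSurjective hφ).toLinearEquiv
  haveI hPp : (hU₁.primeIdealOf ⟨i z, hzb'⟩).asIdeal.IsPrime :=
    (hU₁.primeIdealOf ⟨i z, hzb'⟩).isPrime
  haveI : Module.Flat Γ(S, V) (Localization.AtPrime (hU₁.primeIdealOf ⟨i z, hzb'⟩).asIdeal) :=
    Module.Flat.trans Γ(S, V) Γ(X, X.basicOpen b) _
  have hle := ker_le_primeIdealOf i hU₁ z hzb'
  obtain ⟨h, hhP, hall⟩ :=
    Groth.Agent.H79.QRegSpread.exists_weaklyRegular_away_of_quasiRegular (A := Γ(S, V))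
      (hU₁.primeIdealOf ⟨i z, hzb'⟩).asIdeal rs₁
      (fun r hr => hle (hker₁ ▸ Ideal.subset_span hr)) hq₁ hflatQ
  -- second shrinking
  have hzh : i z ∈ X.basicOpen h := (mem_basicOpen_iff hU₁ (i z) hzb' h).2 hhP
  obtain ⟨hcl₂, hker₂, hne₂⟩ := basicOpen_data i hU₁ hcl₁ rs₁ hker₁ h z hzh
  haveI hloc : IsLocalization.Away h Γ(X, X.basicOpen h) := hU₁.isLocalization_basicOpen h
  haveI : IsLocalization.Away (h * 1) Γ(X, X.basicOpen h) := by rw [mul_one]; exact hloc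
  have hwr := hall 1 Γ(X, X.basicOpen h)
  refine ⟨⟨X.basicOpen h, hU₁.basicOpen h⟩, hzh, hcl₂,
    rs₁.map (algebraMap Γ(X, X.basicOpen b) Γ(X, X.basicOpen h)), ?_, hker₂⟩
  refine (⟨hwr, ?_⟩ : RingTheory.Sequence.IsRegular _ _)
  simp only [smul_eq_mul, Ideal.mul_top]
  exact fun htop => hne₂ htop.symm

end Groth.Agent.H79.QRegSpreadSch
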