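import Groth.Agent.H79.SecSum
import Groth.Prelude.Def_HilbD

/-!
# Calculus of `HilbD.pull` (base change of closed subschemes of `X_T`)
-/

set_option autoImplicit false
universe u
open CategoryTheory CategoryTheory.Limits AlgebraicGeometry

namespace Groth.Agent.H79.HilbPull

open Groth.Agent.H79.SecSum

variable {X S : Scheme.{u}} (f : X ⟶ S)

/-- the graph of an `S`-morphism `x : T ⟶ X`, as a section of `X_T ⟶ T`. -/
noncomputable abbrev gr (T : Over S) (x : T.left ⟶ X) (hx : x ≫ f = T.hom) :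
    T.left ⟶ PicF.XT f T :=
  pullback.lift x (𝟙 T.left) (by simpa using hx)

theorem secGraph_eq (T : Over S) (x : T.left ⟶ X) (hx : x ≫ f = T.hom) :
    HilbD.secGraph f T x hx = (gr f T x hx).ker := rfl

theorem gr_fst (T : Over S) (x : T.left ⟶ X) (hx : x ≫ f = T.hom) :
    gr f T x hx ≫ pullback.fst f T.hom = x := pullback.lift_fst _ _ _

theorem gr_snd (T : Over S) (x : T.left ⟶ X) (hx : x ≫ f = T.hom) :
    gr f T x hx ≫ pullback.snd f T.hom = 𝟙 T.left := pullback.lift_snd _ _ _

theorem XTmap_fst {T T' : Over S} (g : T' ⟶ T) :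
    PicF.XTmap f g ≫ pullback.fst f T.hom = pullback.fst f T'.hom :=
  (pullback.lift_fst _ _ _).trans (Category.comp_id _)

theorem XTmap_snd {T T' : Over S} (g : T' ⟶ T) :
    PicF.XTmap f g ≫ pullback.snd f T.hom = pullback.snd f T'.hom ≫ g.left :=
  pullback.lift_snd _ _ _

theorem XTmap_comp {T T' T'' : Over S} (g : T'' ⟶ T') (g' : T' ⟶ T) :
    PicF.XTmap f (g ≫ g') = PicF.XTmap f g ≫ PicF.XTmap f g' := by
  apply pullback.hom_ext
  · rw [XTmap_fst, Category.assoc, XTmap_fst, XTmap_fst]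
  · rw [XTmap_snd, Category.assoc, XTmap_snd, ← Category.assoc, XTmap_snd, Category.assoc]
    rfl

/-- `X_{T'} = X_T ×_T T'` -/
theorem sqXT {T T' : Over S} (g : T' ⟶ T) :
    IsPullback (PicF.XTmap f g) (PicF.XTproj f T') (PicF.XTproj f T) g.left := by
  have right : IsPullback (pullback.fst f T.hom) (pullback.snd f T.hom) f T.hom :=
    IsPullback.of_hasPullback _ _
  have outer : IsPullback (PicF.XTmap f g ≫ pullback.fst f T.hom) (pullback.snd f T'.hom) f
      (g.left ≫ T.hom) := by
    rw [XTmap_fst, Over.w g]; exact IsPullback.of_hasPullback _ _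
  exact IsPullback.of_right outer (XTmap_snd f g) right

theorem pull_eq_comap {T T' : Over S} (g : T' ⟶ T) (I : (PicF.XT f T).IdealSheafData) :
    HilbD.pull f g I = I.comap (PicF.XTmap f g) := ker_snd_eq_comap I _

theorem pull_comp {T T' T'' : Over S} (g : T'' ⟶ T') (g' : T' ⟶ T)
    (I : (PicF.XT f T).IdealSheafData) :
    HilbD.pull f (g ≫ g') I = HilbD.pull f g (HilbD.pull f g' I) := by
  rw [pull_eq_comap, pull_eq_comap, pull_eq_comap, XTmap_comp, Scheme.IdealSheafData.comap_comp]

theorem pull_mul {T T' : Over S} (g : T' ⟶ T) (I J : (PicF.XT f T).IdealSheafData) :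
    HilbD.pull f g (I * J) = HilbD.pull f g I * HilbD.pull f g J := by
  rw [pull_eq_comap, pull_eq_comap, pull_eq_comap, Groth.Agent.H9.comap_mul]

theorem pull_obj {T T' : Over S} (g : T' ⟶ T) (d : ℕ) (I : (PicF.XT f T).IdealSheafData)
    (hI : Mor2.IsFinLocFreeOfDeg d (I.subschemeι ≫ PicF.XTproj f T)) :
    Mor2.IsFinLocFreeOfDeg d ((HilbD.pull f g I).subschemeι ≫ PicF.XTproj f T') := by
  rw [pull_eq_comap]
  exact finLocFreeOfDeg_comap _ I d hI (sqXT f g)

theorem isClosedImmersion_gr [IsSeparated f] (T : Over S) (x : T.left ⟶ X) (hx : x ≫ f = T.hom) :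
    IsClosedImmersion (gr f T x hx) :=
  (finLocFreeOfDeg_one_of_section (PicF.XTproj f T) (gr f T x hx) (gr_snd f T x hx)).1

theorem secGraph_obj [IsSeparated f] (T : Over S) (x : T.left ⟶ X) (hx : x ≫ f = T.hom) :
    Mor2.IsFinLocFreeOfDeg 1 ((HilbD.secGraph f T x hx).subschemeι ≫ PicF.XTproj f T) :=
  (finLocFreeOfDeg_one_of_section (PicF.XTproj f T) (gr f T x hx) (gr_snd f T x hx)).2

theorem pull_secGraph [IsSeparated f] {T T' : Over S} (g : T' ⟶ T) (x : T.left ⟶ X)
    (hx : x ≫ f = T.hom) :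
    HilbD.pull f g (HilbD.secGraph f T x hx) =
      HilbD.secGraph f T' (g.left ≫ x) (by rw [Category.assoc, hx, Over.w]) := by
  rw [pull_eq_comap, secGraph_eq, secGraph_eq]
  have := isClosedImmersion_gr f T x hx
  refine comap_ker_section (sqXT f g) _ (gr_snd f T x hx) _ (gr_snd f T' _ _) ?_
  apply pullback.hom_ext
  · rw [Category.assoc, XTmap_fst, gr_fst, Category.assoc, gr_fst]
  · rw [Category.assoc, XTmap_snd, ← Category.assoc, gr_snd, Category.id_comp, Category.assoc,
      gr_snd, Category.comp_id]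

/-- kernel of a composite with a closed immersion first -/
theorem ker_comp_eq_map {A B C : Scheme.{u}} (σ : A ⟶ B) [IsClosedImmersion σ] (k : B ⟶ C) :
    (σ ≫ k).ker = σ.ker.map k := by
  unfold Scheme.IdealSheafData.map
  conv_lhs => rw [← σ.toImage_imageι, Category.assoc]
  exact Scheme.Hom.ker_comp_of_isIso _ _

/-- effective Cartier ideal sheaves are cancellable -/
theorem mul_left_cancel_of_effCartier {Y : Scheme.{u}} (J A B : Y.IdealSheafData)
    (hJ : BlowUp.IsEffCartierIdeal J) (h : J * A = J * B) : A = B := by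
  choose U hxU t ht hJU using hJ
  apply Scheme.IdealSheafData.ext_of_iSup_eq_top U
  · exact eq_top_iff.mpr fun x _ => TopologicalSpace.Opens.mem_iSup.mpr ⟨x, hxU x⟩
  · intro x
    have h1 : J.ideal (U x) * A.ideal (U x) = J.ideal (U x) * B.ideal (U x) :=
      congrArg (fun K : Y.IdealSheafData => K.ideal (U x)) h
    rw [hJU x] at h1
    have key : ∀ P Q : Ideal Γ(Y, (U x).1), Ideal.span {t x} * P = Ideal.span {t x} * Q → P ≤ Q := by
      intro P Q hPQ a ha
      have h2 : t x * a ∈ Ideal.span {t x} * Q := by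
        rw [← hPQ]; exact Ideal.mul_mem_mul (Ideal.mem_span_singleton_self _) ha
      obtain ⟨b, hb, hab⟩ := Ideal.mem_span_singleton_mul.mp h2
      have : a = b := by
        have h3 : (a - b) * t x = 0 := by rw [sub_mul, mul_comm a, mul_comm b, hab, sub_self]
        exact sub_eq_zero.mp ((mul_right_mem_nonZeroDivisors_eq_zero_iff (ht x)).mp h3)
      rw [this]; exact hb
    exact le_antisymm (key _ _ h1) (key _ _ h1.symm)

end Groth.Agent.H79.HilbPull
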