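import Mathlib
import Groth.Prelude.Def_SGA1

/-!
# Retraction onto a fundamental open for a free-looking action (helper79, piece C of S2919)
-/

set_option autoImplicit false
set_option linter.style.haveILetI false
universe u

open CategoryTheory CategoryTheory.Limits AlgebraicGeometry

namespace Groth.Agent.H79.FreeSecC

theorem hom_mul {X : Scheme.{u}} {G : Type u} [Group G] (ρ : G →* Aut X) (a b : G) :
    (ρ (a * b)).hom = (ρ b).hom ≫ (ρ a).hom := by
  rw [map_mul]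
  rfl

theorem hom_one {X : Scheme.{u}} {G : Type u} [Group G] (ρ : G →* Aut X) :
    (ρ 1).hom = 𝟙 X := by
  rw [map_one]
  rfl

theorem exists_retraction {X : Scheme.{u}} {G : Type u} [Group G] [Finite G] (ρ : G →* Aut X)
    (U : X.Opens) (hcov : ∀ x : X, ∃ g : G, (ρ g).hom.base x ∈ U)
    (hdisj : ∀ g : G, g ≠ 1 → ∀ x : X, x ∈ U → (ρ g).hom.base x ∉ U) :
    ∃ t : X ⟶ U.toScheme, U.ι ≫ t = 𝟙 _ ∧ (∀ g : G, (ρ g).hom ≫ t = t) ∧
      ∀ {W : Scheme.{u}} (p : X ⟶ W), (∀ g : G, (ρ g).hom ≫ p = p) → t ≫ U.ι ≫ p = p := by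
  classical
  let Ug : G → X.Opens := fun g => (ρ g).hom ⁻¹ᵁ U
  have hmem : ∀ (g : G) (x : X), x ∈ Ug g ↔ (ρ g).hom.base x ∈ U := fun g x => Iff.rfl
  have hU : TopologicalSpace.IsOpenCover Ug := by
    apply TopologicalSpace.IsOpenCover.mk
    rw [eq_top_iff]
    intro x _
    rw [TopologicalSpace.Opens.mem_iSup]
    exact hcov x
  let 𝒰 : X.OpenCover := X.openCoverOfIsOpenCover Ug hU
  let tg : ∀ g : G, (Ug g).toScheme ⟶ U.toScheme := fun g => (ρ g).hom ∣_ U
  have hmulb : ∀ (a b : G) (x : X),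
      (ρ (a * b)).hom.base x = (ρ a).hom.base ((ρ b).hom.base x) := by
    intro a b x
    rw [hom_mul]
    rfl
  have hdis : ∀ g h : G, g ≠ h → ∀ x : X, x ∈ Ug g → x ∉ Ug h := by
    intro g h hgh x hxg hxh
    have hne : h * g⁻¹ ≠ 1 := by
      intro e
      apply hgh
      have := congrArg (fun k => k * g) e
      simpa using this.symm
    apply hdisj (h * g⁻¹) hne _ hxg
    rw [← hmulb, inv_mul_cancel_right]
    exact hxh
  have hempty : ∀ g h : G, g ≠ h → IsEmpty ↥(pullback (𝒰.f g) (𝒰.f h)) := by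
    intro g h hgh
    constructor
    intro z
    have h1 : (𝒰.f g).base ((pullback.fst (𝒰.f g) (𝒰.f h)).base z) =
        (𝒰.f h).base ((pullback.snd (𝒰.f g) (𝒰.f h)).base z) := by
      rw [← Scheme.Hom.comp_apply, ← Scheme.Hom.comp_apply, pullback.condition]
    have h2 : (𝒰.f g).base ((pullback.fst (𝒰.f g) (𝒰.f h)).base z) ∈ Ug g :=
      ((pullback.fst (𝒰.f g) (𝒰.f h)).base z).2
    have h3 : (𝒰.f h).base ((pullback.snd (𝒰.f g) (𝒰.f h)).base z) ∈ Ug h :=
      ((pullback.snd (𝒰.f g) (𝒰.f h)).base z).2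
    rw [← h1] at h3
    exact hdis g h hgh _ h2 h3
  let t : X ⟶ U.toScheme := 𝒰.glueMorphisms tg (fun g h => by
    by_cases hgh : g = h
    · subst hgh
      have : pullback.fst (𝒰.f g) (𝒰.f g) = pullback.snd (𝒰.f g) (𝒰.f g) :=
        (cancel_mono (𝒰.f g)).mp pullback.condition
      rw [this]
    · haveI := hempty g h hgh
      exact (isInitialOfIsEmpty (X := pullback (𝒰.f g) (𝒰.f h))).hom_ext _ _)
  have ht : ∀ g : G, (Ug g).ι ≫ t = tg g := fun g => 𝒰.ι_glueMorphisms tg _ g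
  have hr : ∀ g : G, (Ug g).ι ≫ t ≫ U.ι = (Ug g).ι ≫ (ρ g).hom := by
    intro g
    rw [← Category.assoc, ht]
    exact morphismRestrict_ι _ _
  refine ⟨t, ?_, ?_, ?_⟩
  · rw [← cancel_mono U.ι, Category.assoc, Category.id_comp]
    have hle : U ≤ Ug 1 := by
      intro x hx
      rw [hmem, hom_one]
      exact hx
    have h1 : U.ι = X.homOfLE hle ≫ (Ug 1).ι := (Scheme.homOfLE_ι _ _).symm
    calc U.ι ≫ t ≫ U.ι = X.homOfLE hle ≫ (Ug 1).ι ≫ t ≫ U.ι := by
          rw [← Category.assoc (X.homOfLE hle), Scheme.homOfLE_ι]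
      _ = U.ι := by
          rw [hr, hom_one, Category.comp_id, Scheme.homOfLE_ι]
  · intro h
    rw [← cancel_mono U.ι, Category.assoc]
    apply 𝒰.hom_ext
    intro (g : G)
    show (Ug g).ι ≫ (ρ h).hom ≫ t ≫ U.ι = (Ug g).ι ≫ t ≫ U.ι
    rw [hr]
    have hle : Set.range ((Ug g).ι ≫ (ρ h).hom).base ⊆ Set.range (Ug (g * h⁻¹)).ι.base := by
      rintro _ ⟨x, rfl⟩
      rw [Scheme.Opens.range_ι]
      show (ρ h).hom.base ((Ug g).ι.base x) ∈ Ug (g * h⁻¹)
      rw [hmem, ← hmulb, inv_mul_cancel_right]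
      exact x.2
    let k := IsOpenImmersion.lift (Ug (g * h⁻¹)).ι ((Ug g).ι ≫ (ρ h).hom) hle
    have hk : k ≫ (Ug (g * h⁻¹)).ι = (Ug g).ι ≫ (ρ h).hom := IsOpenImmersion.lift_fac _ _ _
    rw [← Category.assoc, ← hk, Category.assoc, hr, ← Category.assoc, hk, Category.assoc,
      ← hom_mul, inv_mul_cancel_right]
  · intro W p hp
    apply 𝒰.hom_ext
    intro (g : G)
    show (Ug g).ι ≫ t ≫ U.ι ≫ p = (Ug g).ι ≫ p
    have := hr g =≫ p
    simp only [Category.assoc] at this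
    rw [this, hp]

end Groth.Agent.H79.FreeSecC
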