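import Groth.Agent.H79.FreeSec_A
import Groth.Agent.H79.FreeSec_C
import Groth.Agent.H1.FreeSec_E
import Groth.Agent.S2925

/-!
# A finite quotient with a section by a freely acting group is trivial (helper79): assembly
-/

set_option autoImplicit false
set_option linter.style.haveILetI false
universe u

open CategoryTheory CategoryTheory.Limits AlgebraicGeometry

namespace Groth.Agent.H79.FreeSec

open Groth.Agent.H79.FreeSecA Groth.Agent.H79.FreeSecC Groth.Agent.H1.FreeSec_E

theorem hom_mul {X : Scheme.{u}} {G : Type u} [Group G] (ρ : G →* Aut X) (a b : G) :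
    (ρ (a * b)).hom = (ρ b).hom ≫ (ρ a).hom := by
  rw [map_mul]
  rfl

theorem hom_one {X : Scheme.{u}} {G : Type u} [Group G] (ρ : G →* Aut X) :
    (ρ 1).hom = 𝟙 X := by
  rw [map_one]
  rfl

theorem main {X Y : Scheme.{u}} {G : Type u} [Group G] [Finite G] (ρ : G →* Aut X)
    (p : X ⟶ Y) (hp : SGA1.IsQuot ρ p)
    (hfree : ∀ (K : Type u) [Field K] [IsAlgClosed K] (ξ : Spec (CommRingCat.of K) ⟶ X) (g : G),
      ξ ≫ (ρ g).hom = ξ → g = 1)
    (s : Y ⟶ X) (hs : s ≫ p = 𝟙 Y) :
    IsIso (Sigma.desc (fun g : G => s ≫ (ρ g).hom) : (∐ fun _ : G => Y) ⟶ X) := by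
  haveI := hp.affine
  haveI : IsClosedImmersion (s ≫ p) := by rw [hs]; infer_instance
  haveI : IsClosedImmersion s := IsClosedImmersion.of_comp s p
  obtain ⟨hA1, hA2⟩ := section_translates ρ p hp hfree s hs
  have hCclosed : IsClosed (Set.range s.base) := s.isClosedEmbedding.isClosed_range
  have hCopen : IsOpen (Set.range s.base) := by
    have hcompl : (Set.range s.base)ᶜ =
        ⋃ g ∈ {g : G | g ≠ 1}, (ρ g).hom.base ⁻¹' (Set.range s.base) := by
      ext x
      simp only [Set.mem_compl_iff, Set.mem_iUnion, Set.mem_preimage, Set.mem_ofPred_eq,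
        exists_prop]
      constructor
      · intro hx
        obtain ⟨g, hg⟩ := hA1 x
        refine ⟨g, ?_, hg⟩
        rintro rfl
        apply hx
        rw [hom_one] at hg
        exact hg
      · rintro ⟨g, hg1, hg⟩ hx
        exact hA2 g hg1 x hx hg
    rw [← isClosed_compl_iff, hcompl]
    apply Set.Finite.isClosed_biUnion (Set.toFinite _)
    intro g _
    exact hCclosed.preimage (ρ g).hom.continuous
  let U : X.Opens := ⟨Set.range s.base, hCopen⟩
  obtain ⟨t, ht1, ht2, ht3⟩ := exists_retraction ρ U hA1 hA2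
  obtain ⟨t', ht', -⟩ := Groth.Agent.S2925.result ρ p hp U.toScheme t ht2
  have h1 : (U.ι ≫ p) ≫ t' = 𝟙 _ := by rw [Category.assoc, ht', ht1]
  have h2 : t' ≫ (U.ι ≫ p) = 𝟙 Y := by
    refine (Groth.Agent.S2925.result ρ p hp Y p hp.inv).unique ?_ ?_
    · rw [← Category.assoc, ht', ht3 p hp.inv]
    · rw [Category.comp_id]
  let s' : Y ⟶ U.toScheme := IsOpenImmersion.lift U.ι s
    (by rw [Scheme.Opens.range_ι]; exact subset_rfl)
  have hs' : s' ≫ U.ι = s := IsOpenImmersion.lift_fac _ _ _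
  have hs'p : s' ≫ (U.ι ≫ p) = 𝟙 Y := by rw [← Category.assoc, hs', hs]
  have hs't : s' = t' := by
    calc s' = s' ≫ ((U.ι ≫ p) ≫ t') := by rw [h1, Category.comp_id]
      _ = (s' ≫ (U.ι ≫ p)) ≫ t' := by simp only [Category.assoc]
      _ = t' := by rw [hs'p, Category.id_comp]
  haveI : IsIso t' := ⟨⟨U.ι ≫ p, h2, h1⟩⟩
  haveI : IsOpenImmersion s := by rw [← hs', hs't]; infer_instance
  have hinv : ∀ (g : G) (x : X), (ρ g⁻¹).hom.base ((ρ g).hom.base x) = x := by
    intro g x
    have : (ρ g).hom ≫ (ρ g⁻¹).hom = 𝟙 X := by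
      rw [← hom_mul, inv_mul_cancel, hom_one]
    rw [← Scheme.Hom.comp_apply, this]
    rfl
  have hmul : ∀ (a b : G) (x : X), (ρ (a * b)).hom.base x = (ρ a).hom.base ((ρ b).hom.base x) := by
    intro a b x
    rw [hom_mul]
    rfl
  apply isIso_sigmaDesc (fun _ : G => Y) (fun g => s ≫ (ρ g).hom) (fun g => inferInstance)
  · intro g g' hgg'
    rw [Set.disjoint_left]
    rintro z ⟨y, hy⟩ ⟨y', hy'⟩
    have hy1 : (ρ g).hom.base (s.base y) = z := hy
    have hy2 : (ρ g').hom.base (s.base y') = z := hy'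
    have hne : g'⁻¹ * g ≠ 1 := by
      intro h
      apply hgg'
      have := congrArg (fun k => g' * k) h
      simpa using this
    apply hA2 (g'⁻¹ * g) hne (s.base y) ⟨y, rfl⟩
    rw [hmul, hy1, ← hy2, hinv]
    exact ⟨y', rfl⟩
  · intro x
    obtain ⟨g, y, hy⟩ := hA1 x
    refine ⟨g⁻¹, y, ?_⟩
    show (ρ g⁻¹).hom.base (s.base y) = x
    rw [hy, hinv]

end Groth.Agent.H79.FreeSec
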