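import Groth.Agent.H70.SmoothFibreDimComp
import Groth.Agent.H9.FibDimTarget

/-!
# A smooth morphism with geometrically connected fibres of dimension `n` is smooth of relative dimension `n`
-/

set_option autoImplicit false
universe u
open CategoryTheory CategoryTheory.Limits AlgebraicGeometry

namespace Groth.Agent.H79.ABRelDim

open Groth.Agent.H70.SmoothFibreDimComp Groth.Agent.H9.FibDim

theorem smoothOfRelativeDimension_of_fibreDim {X S : Scheme.{u}} (f : X ⟶ S) [Smooth f]
    [GeometricallyConnected f] (n : ℕ)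
    (h : ∀ s : S, topologicalKrullDim ↥(f.fiber s) = n) : SmoothOfRelativeDimension n f := by
  have hloc : ∀ x : X, ∃ (m : ℕ) (V : X.Opens), x ∈ V ∧ SmoothOfRelativeDimension m (V.ι ≫ f) ∧
      ∀ x' ∈ V, FlatMor.fibreDimAt f x' = (m : WithBot ℕ∞) := by
    intro x
    obtain ⟨m, V, hxV, hV⟩ := exists_smoothOfRelativeDimension f x
    refine ⟨m, V, hxV, hV, fun x' hx' => ?_⟩
    exact fibreDimAt_of_local f (V.ι ≫ f) V.ι (𝟙 S) (by simp) m ⟨x', hx'⟩ x' rfl
  have hlc : IsLocallyConstant (FlatMor.fibreDimAt f) := by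
    rw [IsLocallyConstant.iff_exists_open]
    intro x
    obtain ⟨m, V, hxV, -, hV⟩ := hloc x
    exact ⟨V, V.isOpen, hxV, fun x' hx' => by rw [hV x' hx', hV x hxV]⟩
  have hall : ∀ x : X, FlatMor.fibreDimAt f x = (n : WithBot ℕ∞) := by
    intro x
    have hpre : _root_.IsPreconnected (f ⁻¹' {f x}) := by
      rw [← f.range_fiberι (f x)]
      exact isPreconnected_range (f.fiberι (f x)).continuous
    have hconst : ∀ z : f.fiber (f x),
        FlatMor.fibreDimAt f ((f.fiberι (f x)) z) = FlatMor.fibreDimAt f x := fun z =>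
      hlc.apply_eq_of_isPreconnected hpre
        (show (f.fiberι (f x)) z ∈ f ⁻¹' {f x} by rw [← f.range_fiberι (f x)]; exact ⟨z, rfl⟩)
        (show x ∈ f ⁻¹' {f x} from rfl)
    have hdim := dim_fiber_eq_iSup f (f x)
    rw [h (f x)] at hdim
    have hne : Nonempty ↥(f.fiber (f x)) := ⟨f.asFiber x⟩
    have hsup : (⨆ z : f.fiber (f x), FlatMor.fibreDimAt f ((f.fiberι (f x)) z)) =
        FlatMor.fibreDimAt f x := by
      have : (fun z : f.fiber (f x) => FlatMor.fibreDimAt f ((f.fiberι (f x)) z)) =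
          fun _ => FlatMor.fibreDimAt f x := funext hconst
      rw [show (⨆ z : f.fiber (f x), FlatMor.fibreDimAt f ((f.fiberι (f x)) z)) =
        ⨆ _ : f.fiber (f x), FlatMor.fibreDimAt f x from congrArg iSup this]
      exact ciSup_const
    rw [hsup] at hdim
    exact hdim.symm
  choose m V hxV hV hVdim using hloc
  have hm : ∀ x, m x = n := by
    intro x
    have h1 := hVdim x x (hxV x)
    rw [hall x] at h1
    exact_mod_cast h1.symm
  refine IsZariskiLocalAtSource.of_iSup_eq_top (P := @SmoothOfRelativeDimension n) V ?_ ?_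
  · rw [eq_top_iff]
    intro x _
    exact TopologicalSpace.Opens.mem_iSup.mpr ⟨x, hxV x⟩
  · intro x
    have := hV x
    rwa [hm x] at this

end Groth.Agent.H79.ABRelDim
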