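import Groth.Agent.H79.HilbPull

/-!
# The "add a point" map `Hilb^d × X ⟶ Hilb^{d+1}` of a relative curve is finite locally free
-/

set_option autoImplicit false
universe u
open CategoryTheory CategoryTheory.Limits AlgebraicGeometry

namespace Groth.Agent.H79.AddPoint

open Groth.Agent.H79.SecSum Groth.Agent.H79.HilbPull

theorem secGraph_congr {X S : Scheme.{u}} (f : X ⟶ S) (T : Over S) {x₁ x₂ : T.left ⟶ X}
    (h : x₁ = x₂) (h₁ : x₁ ≫ f = T.hom) (h₂ : x₂ ≫ f = T.hom) :
    HilbD.secGraph f T x₁ h₁ = HilbD.secGraph f T x₂ h₂ := by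
  subst h; rfl

theorem smooth_XTproj {X S : Scheme.{u}} (f : X ⟶ S) [SmoothOfRelativeDimension 1 f] (T : Over S) :
    SmoothOfRelativeDimension 1 (PicF.XTproj f T) := by
  have := smoothOfRelativeDimension_isStableUnderBaseChange (n := 1)
  exact MorphismProperty.pullback_snd _ _ inferInstance

theorem addPoint_finLocFree {X S : Scheme.{u}} (f : X ⟶ S) [SmoothOfRelativeDimension 1 f]
    [IsSeparated f] (d : ℕ) (H : Over S) (Z : HilbD.Obj f d H) (hZ : HilbD.IsUniversal f d H Z)
    (H' : Over S) (Z' : HilbD.Obj f (d + 1) H') (hZ' : HilbD.IsUniversal f (d + 1) H' Z')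
    (T : Over S) (pr : T ⟶ H) (x : T.left ⟶ X) (hx : x ≫ f = T.hom)
    (hprod : IsPullback pr.left x H.hom f) (m : T ⟶ H')
    (hm : HilbD.pull f m Z'.1 = HilbD.pull f pr Z.1 * HilbD.secGraph f T x hx) :
    Mor2.IsFinLocFreeOfDeg (d + 1) m.left := by
  -- the universal family as an `S`-scheme
  let W : Over S := Over.mk ((Z'.1.subschemeι ≫ PicF.XTproj f H') ≫ H'.hom)
  let w : W ⟶ H' := Over.homMk (Z'.1.subschemeι ≫ PicF.XTproj f H') rfl
  let x' : W.left ⟶ X := Z'.1.subschemeι ≫ pullback.fst f H'.hom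
  have hx' : x' ≫ f = W.hom := by
    show (Z'.1.subschemeι ≫ pullback.fst f H'.hom) ≫ f =
      (Z'.1.subschemeι ≫ pullback.snd f H'.hom) ≫ H'.hom
    rw [Category.assoc, Category.assoc, pullback.condition]
  have hgrW : gr f W x' hx' ≫ PicF.XTmap f w = Z'.1.subschemeι := by
    apply pullback.hom_ext
    · rw [Category.assoc, XTmap_fst, gr_fst]
    · rw [Category.assoc, XTmap_snd, ← Category.assoc, gr_snd, Category.id_comp]
      rfl
  have hclW := isClosedImmersion_gr f W x' hx'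
  have hle : HilbD.pull f w Z'.1 ≤ HilbD.secGraph f W x' hx' := by
    rw [pull_eq_comap, secGraph_eq, ← Scheme.IdealSheafData.le_map_iff_comap_le,
      ← ker_comp_eq_map, hgrW, Z'.1.ker_subschemeι]
  have smW := smooth_XTproj f W
  have smT := smooth_XTproj f T
  obtain ⟨I₂, hI₂, hfac⟩ := Groth.Agent.S1172.result (PicF.XTproj f W)
    (HilbD.secGraph f W x' hx') (HilbD.pull f w Z'.1) hle 1 (d + 1) (secGraph_obj f W x' hx')
    (pull_obj f w (d + 1) Z'.1 Z'.2)
  rw [Nat.add_sub_cancel] at hI₂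
  obtain ⟨c, hc, -⟩ := hZ W ⟨I₂, hI₂⟩
  replace hc : HilbD.pull f c Z.1 = I₂ := hc
  -- α
  let α : W.left ⟶ T.left := hprod.lift c.left x' (by rw [Over.w c]; exact hx'.symm)
  have hα1 : α ≫ pr.left = c.left := hprod.lift_fst _ _ _
  have hα2 : α ≫ x = x' := hprod.lift_snd _ _ _
  let αO : W ⟶ T := Over.homMk α (by
    rw [← Over.w pr, ← Category.assoc, hα1, Over.w c])
  have hαpr : αO ≫ pr = c := Over.OverMorphism.ext hα1
  have hαm : αO ≫ m = w := by
    apply (hZ' W ⟨HilbD.pull f w Z'.1, pull_obj f w (d + 1) Z'.1 Z'.2⟩).unique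
    · show HilbD.pull f (αO ≫ m) Z'.1 = HilbD.pull f w Z'.1
      rw [pull_comp, hm, pull_mul, ← pull_comp, hαpr, hc, pull_secGraph, hfac, mul_comm]
      exact congrArg (· * I₂) (secGraph_congr f W hα2 _ _)
    · rfl
  -- β
  have hβle : Z'.1.subschemeι.ker ≤ (gr f T x hx ≫ PicF.XTmap f m).ker := by
    have := isClosedImmersion_gr f T x hx
    rw [Z'.1.ker_subschemeι, ker_comp_eq_map, Scheme.IdealSheafData.le_map_iff_comap_le,
      ← pull_eq_comap, hm, ← secGraph_eq]
    exact fun U => (Ideal.mul_le_right :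
      (HilbD.pull f pr Z.1).ideal U * (HilbD.secGraph f T x hx).ideal U ≤ _)
  let β : T.left ⟶ W.left := IsClosedImmersion.lift Z'.1.subschemeι
    (gr f T x hx ≫ PicF.XTmap f m) hβle
  have hβ : β ≫ Z'.1.subschemeι = gr f T x hx ≫ PicF.XTmap f m :=
    IsClosedImmersion.lift_fac _ _ _
  have hβπ : β ≫ (Z'.1.subschemeι ≫ PicF.XTproj f H') = m.left := by
    rw [← Category.assoc, hβ, Category.assoc, XTmap_snd, ← Category.assoc, gr_snd,
      Category.id_comp]
  have hβx : β ≫ x' = x := by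
    show β ≫ Z'.1.subschemeι ≫ pullback.fst f H'.hom = x
    rw [← Category.assoc, hβ, Category.assoc, XTmap_fst, gr_fst]
  let βO : T ⟶ W := Over.homMk β (by
    show β ≫ (Z'.1.subschemeι ≫ PicF.XTproj f H') ≫ H'.hom = T.hom
    rw [← Category.assoc, hβπ, Over.w m])
  have hβw : βO ≫ w = m := Over.OverMorphism.ext hβπ
  have hβc : βO ≫ c = pr := by
    apply (hZ T ⟨HilbD.pull f pr Z.1, pull_obj f pr d Z.1 Z.2⟩).unique
    · show HilbD.pull f (βO ≫ c) Z.1 = HilbD.pull f pr Z.1
      rw [pull_comp, hc]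
      have e1 : HilbD.pull f βO (HilbD.pull f w Z'.1) =
          HilbD.pull f pr Z.1 * HilbD.secGraph f T x hx := by rw [← pull_comp, hβw, hm]
      have e2 : HilbD.pull f βO (HilbD.pull f w Z'.1) =
          HilbD.secGraph f T x hx * HilbD.pull f βO I₂ := by
        rw [hfac, pull_mul, pull_secGraph]
        exact congrArg (· * HilbD.pull f βO I₂) (secGraph_congr f T hβx _ _)
      have hJ : BlowUp.IsEffCartierIdeal (HilbD.secGraph f T x hx) :=
        Groth.Agent.H79.DivSum.effCartier_of_finLocFree (PicF.XTproj f T) _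
          (secGraph_obj f T x hx).1
      exact mul_left_cancel_of_effCartier _ _ _ hJ (by rw [← e2, e1, mul_comm])
    · rfl
  have hβα : β ≫ α = 𝟙 T.left := by
    apply hprod.hom_ext
    · rw [Category.assoc, hα1, Category.id_comp]
      exact congrArg (fun φ : T ⟶ H => φ.left) hβc
    · rw [Category.assoc, hα2, Category.id_comp]; exact hβx
  have hαβ : α ≫ β = 𝟙 W.left := by
    rw [← cancel_mono Z'.1.subschemeι, Category.assoc, hβ, Category.id_comp]
    apply pullback.hom_ext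
    · rw [Category.assoc, Category.assoc, XTmap_fst, gr_fst, hα2]
    · rw [Category.assoc, Category.assoc, XTmap_snd, ← Category.assoc (gr f T x hx), gr_snd,
        Category.id_comp]
      exact congrArg (fun φ : W ⟶ H' => φ.left) hαm
  have : IsIso β := ⟨α, hβα, hαβ⟩
  rw [← hβπ]
  obtain ⟨⟨h1, h2, h3⟩, hdeg⟩ := Z'.2
  exact ⟨⟨inferInstance, inferInstance, inferInstance⟩,
    fun y => by rw [Scheme.Hom.finrank_comp_left_of_isIso]; exact hdeg y⟩

end Groth.Agent.H79.AddPoint
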