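import Groth.Agent.H79.BMStep4

set_option autoImplicit false
universe u
open AlgebraicGeometry CategoryTheory CategoryTheory.Limits Opposite TopologicalSpace Topology BMCoh

namespace Groth.Agent.H79.BMClosed

open Groth.Agent.H79.BMDim Groth.Agent.H79.BMGeom Groth.Agent.H79.BMCore Groth.Agent.H79.BMPiece
  Groth.Agent.H79.BMStep

section Top

variable {T : Type u} [TopologicalSpace T]

theorem exists_natDim_closure_pred [QuasiSober T] (hfin : topologicalKrullDim T < ⊤) {m : ℕ}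
    {y : T} (hy : WeilCoh.natDim ↥(closure ({y} : Set T)) = m + 1) :
    ∃ x ∈ closure ({y} : Set T), WeilCoh.natDim ↥(closure ({x} : Set T)) = m := by
  have : Nonempty ↥(closure ({y} : Set T)) := ⟨⟨y, subset_closure rfl⟩⟩
  obtain ⟨p, hp⟩ := exists_series_natDim (finite_subtype hfin (closure ({y} : Set T)))
  let p' : LTSeries (IrreducibleCloseds T) :=
    p.map (IrreducibleCloseds.map Subtype.val continuous_subtype_val)
      (IrreducibleCloseds.map_strictMono_of_isInducing IsInducing.subtypeVal)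
  have hl' : p'.length = m + 1 := (LTSeries.map_length ..).trans (hp.trans hy)
  have hlast : (p'.last : Set T) ⊆ closure {y} := by
    have : p'.last = IrreducibleCloseds.map Subtype.val continuous_subtype_val p.last :=
      LTSeries.last_map ..
    rw [this]
    show closure (Subtype.val '' (p.last : Set (closure ({y} : Set T)))) ⊆ closure {y}
    exact closure_minimal (by rintro _ ⟨z, _, rfl⟩; exact z.2) isClosed_closure
  let k : Fin (p'.length + 1) := ⟨m, by omega⟩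
  have hklt : p' k < p'.last :=
    p'.strictMono (show k < Fin.last p'.length from Fin.lt_def.mpr (by show m < p'.length; omega))
  have hgen : IsGenericPoint (p' k).isIrreducible.genericPoint
      ((p' k : IrreducibleCloseds T) : Set T) :=
    (p' k).isIrreducible.isGenericPoint_genericPoint (p' k).isClosed
  set x := (p' k).isIrreducible.genericPoint
  have hxk : closure ({x} : Set T) = ((p' k : IrreducibleCloseds T) : Set T) := hgen.def
  have hxy : x ∈ closure ({y} : Set T) :=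
    hlast ((SetLike.coe_subset_coe.mpr hklt.le) hgen.mem)
  have hyx : y ∉ closure ({x} : Set T) := by
    intro h
    have h1 : closure ({y} : Set T) ⊆ ((p' k : IrreducibleCloseds T) : Set T) := by
      rw [← hxk]; exact closure_minimal (Set.singleton_subset_iff.mpr h) isClosed_closure
    obtain ⟨-, z, hzl, hzk⟩ := SetLike.lt_iff_le_and_exists.mp hklt
    exact hzk (h1 (hlast hzl))
  have hlt := natDim_closure_lt hfin hxy hyx
  have hlk : (p'.take k).last = p' k := RelSeries.last_take p' k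
  obtain ⟨q, hq⟩ := exists_series_subtype (Z := closure ({x} : Set T)) (p'.take k)
    (by rw [hlk]; exact hxk.symm.subset)
  have h1 := length_le_natDim (finite_subtype hfin _) q
  have h2 : (p'.take k).length = m := rfl
  exact ⟨x, hxy, by omega⟩

theorem exists_natDim_closure_eq_of_le [QuasiSober T] (hfin : topologicalKrullDim T < ⊤) :
    ∀ (d : ℕ) (y : T) (k : ℕ), WeilCoh.natDim ↥(closure ({y} : Set T)) = k + d →
      ∃ x ∈ closure ({y} : Set T), WeilCoh.natDim ↥(closure ({x} : Set T)) = k := by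
  intro d
  induction d with
  | zero => intro y k hy; exact ⟨y, subset_closure rfl, hy⟩
  | succ d IH =>
    intro y k hy
    obtain ⟨y', hy'y, hy'⟩ := exists_natDim_closure_pred hfin (m := k + d) (y := y) hy
    obtain ⟨x, hx, hxk⟩ := IH y' k hy'
    exact ⟨x, closure_minimal (Set.singleton_subset_iff.mpr hy'y) isClosed_closure hx, hxk⟩

end Top

section Schemes

theorem pdim_closedImmersion {Z X : Scheme.{u}} (ι : Z ⟶ X) [IsClosedImmersion ι] (z : Z) :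
    WeilCoh.pdim Z z = WeilCoh.pdim X (ι z) := by
  unfold WeilCoh.pdim
  have himg : (ι : Z → X) '' closure ({z} : Set Z) = closure ({ι z} : Set X) :=
    (ι.isClosedEmbedding.closure_image_eq ({z} : Set Z)).symm.trans
      (congrArg closure (Set.image_singleton))
  rw [natDim_eq_of_homeomorph
    (ι.isClosedEmbedding.isEmbedding.homeomorphImage (closure ({z} : Set Z)))]
  exact natDim_congr_set himg

end Schemes

variable {V : ObjectProperty Scheme.{u}} [IsConstructible V] {R : Type u} [CommRing R]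
  {A : Coefs R}

section Geo

theorem exists_codim_eq (X : Obj V) [Nonempty X.scheme] (k : ℕ)
    (hk : k ≤ WeilCoh.dim X.scheme) : ∃ x : X.scheme, WeilCoh.codim X.scheme x = k := by
  obtain ⟨y, hy⟩ := exists_pdim_eq_dim X
  obtain ⟨x, -, hx⟩ := exists_natDim_closure_eq_of_le (finiteDim X) k y
    (WeilCoh.dim X.scheme - k) (by show WeilCoh.pdim X.scheme y = _; omega)
  refine ⟨x, ?_⟩
  have hx' : WeilCoh.pdim X.scheme x = WeilCoh.dim X.scheme - k := hx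
  unfold WeilCoh.codim
  omega

theorem codim_closedImmersion {X Z : Obj V} (ι : Z.scheme ⟶ X.scheme) [IsClosedImmersion ι]
    (c : ℕ) (hdim : WeilCoh.dim Z.scheme + c = WeilCoh.dim X.scheme) (z : Z.scheme) :
    WeilCoh.codim X.scheme (ι z) = WeilCoh.codim Z.scheme z + c := by
  have h1 := pdim_closedImmersion ι z
  have h2 := pdim_le_dim Z z
  unfold WeilCoh.codim
  omega

theorem containsFj_preimage {X Z : Obj V} (ι : Z.scheme ⟶ X.scheme) [IsClosedImmersion ι]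
    (c m : ℕ) (hdim : WeilCoh.dim Z.scheme + c = WeilCoh.dim X.scheme) (Y : X.scheme.Opens)
    (hY : ContainsFj X (c + m) Y) : ContainsFj Z m (ι ⁻¹ᵁ Y) := by
  intro z hz
  show ι z ∈ Y
  apply hY
  rw [codim_closedImmersion ι c hdim z]
  omega

theorem exists_shrink {X Z : Obj V} (ι : Z.scheme ⟶ X.scheme) [IsClosedImmersion ι] (c m : ℕ)
    (hdim : WeilCoh.dim Z.scheme + c = WeilCoh.dim X.scheme) (Y U' : X.scheme.Opens)
    (hle : U' ≤ Y) (hr : Set.range ι = ((U' : Set X.scheme))ᶜ) (hY : ContainsFj X (c + m) Y)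
    (W : Z.scheme.Opens) (hW : ContainsFj Z m W) :
    ∃ Y₂ : X.scheme.Opens, Y₂ ≤ Y ∧ U' ≤ Y₂ ∧ ContainsFj X (c + m) Y₂ ∧ ι ⁻¹ᵁ Y₂ ≤ W := by
  refine ⟨Y ⊓ Uof ι W, inf_le_left, ?_, ?_, ?_⟩
  · intro y hy
    refine ⟨hle hy, mem_Uof_of_not_mem_range ι W ?_⟩
    rw [hr]
    exact fun h => h hy
  · intro y hy
    refine ⟨hY y hy, (mem_Uof ι W y).mpr fun z hz => hW z ?_⟩
    have := codim_closedImmersion ι c hdim z
    rw [hz] at this
    omega
  · intro z hz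
    exact preimage_Uof_le ι W hz.2

theorem dim_redSub_add (X : Obj V) (C : Closeds X.scheme) (c : ℕ) (x₀ : X.scheme)
    (hx₀ : x₀ ∈ (C : Set X.scheme)) (hcx₀ : WeilCoh.codim X.scheme x₀ = c)
    (hC : ∀ y ∈ (C : Set X.scheme), c ≤ WeilCoh.codim X.scheme y) :
    WeilCoh.dim (redSub X C).scheme + c = WeilCoh.dim X.scheme := by
  have h1 : WeilCoh.dim (redSub X C).scheme ≤ WeilCoh.dim X.scheme - c :=
    dim_redSub_le X C (fun y hy => by
      have := hC y hy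
      have := pdim_add_codim X y
      omega)
  have h2 : WeilCoh.pdim X.scheme x₀ ≤ WeilCoh.dim (redSub X C).scheme := by
    rw [dim_redSub]
    exact natDim_subtype_mono (finiteDim X)
      (closure_minimal (Set.singleton_subset_iff.mpr hx₀) C.isClosed)
  have h3 := pdim_add_codim X x₀
  omega

theorem exists_shrink_idx (X : Obj V) (j : ℕ) (x₀ : X.scheme)
    (hx₀ : WeilCoh.codim X.scheme x₀ = j + 1) (U' : Idx X (ContainsFj X j)) :
    ∃ U'' : Idx X (ContainsFj X j), U''.1 ≤ U'.1 ∧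
      WeilCoh.dim (redSub X ⟨((U''.1 : X.scheme.Opens) : Set X.scheme)ᶜ,
        U''.1.isOpen.isClosed_compl⟩).scheme + (j + 1) = WeilCoh.dim X.scheme := by
  have hK : ∀ y : X.scheme, y ∈ closure ({x₀} : Set X.scheme) →
      j + 1 ≤ WeilCoh.codim X.scheme y := by
    intro y hy
    have h1 := pdim_le_of_mem_closure X hy
    have h2 := pdim_add_codim X x₀
    have h3 := pdim_add_codim X y
    omega
  have hF : ContainsFj X j (U'.1 ⊓
      ⟨(closure ({x₀} : Set X.scheme))ᶜ, isClosed_closure.isOpen_compl⟩) :=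
    fun y hy => ⟨U'.2.1 y hy, fun hyc => by have := hK y hyc; omega⟩
  refine ⟨⟨_, hF, dim_eq_of_containsFj X j _ hF⟩, inf_le_left, ?_⟩
  refine dim_redSub_add X _ (j + 1) x₀ ?_ hx₀ ?_
  · exact fun h => h.2 (subset_closure rfl)
  · intro y hy
    by_contra hlt
    exact hy (hF y (by omega))

end Geo

section Colim

theorem ocolimMap_bijective_of_imp (T : PreTheory V R A) (X : Obj V)
    {P Q : X.scheme.Opens → Prop} (h : ∀ U, P U → Q U) (h' : ∀ U, Q U → P U)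
    [IsFiltered (Idx X P)ᵒᵖ] [IsFiltered (Idx X Q)ᵒᵖ] (i n : ℤ) (M : A.Cat) :
    Function.Bijective ((T.ocolimMap X h i n).app M).hom := by
  constructor
  · rw [injective_iff_map_eq_zero]
    intro α hα
    obtain ⟨U, a, rfl⟩ := exists_rep T X P i n M α
    have hα' := (ocolimMap_ι T X h i n M U a).symm.trans hα
    have h0' := hα'.trans (map_zero ((T.ocolimι X Q i n ⟨U.1, h _ U.2.1, U.2.2⟩).app M).hom).symm
    obtain ⟨U', hU', hU'b, hres⟩ := (ι_eq_iff T X Q i n M _ _).mp h0'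
    have hres0 : (T.pull (X.resLE (show U'.1 ≤ U.1 from hU') (U'.2.2.trans U.2.2.symm)) M
        i n).hom a = 0 := hres.trans (map_zero _)
    have hp := ι_pull T X P i n M (U := U) (U' := ⟨U'.1, h' _ U'.2.1, U'.2.2⟩) hU' a
    have h2 : (T.pull ((idxDiag X P).map
        (homOfLE (show (⟨U'.1, h' _ U'.2.1, U'.2.2⟩ : Idx X P) ≤ U from hU'))) M i n).hom a = 0 :=
      hres0
    exact hp.symm.trans ((congrArg _ h2).trans (map_zero _))
  · intro β
    obtain ⟨U', a, rfl⟩ := exists_rep T X Q i n M β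
    exact ⟨((T.ocolimι X P i n ⟨U'.1, h' _ U'.2.1, U'.2.2⟩).app M).hom a,
      ocolimMap_ι T X h i n M ⟨U'.1, h' _ U'.2.1, U'.2.2⟩ a⟩

end Colim

section Core

variable (T : TheoryOn V R A) {X Z : Obj V} (ι : Z.scheme ⟶ X.scheme) [IsClosedImmersion ι]
  (M : A.Cat) (j m : ℕ) (i n : ℤ)

theorem surj_core
    (hdim : WeilCoh.dim Z.scheme + (j + 1) = WeilCoh.dim X.scheme)
    (hzero : IsZero (T.fjGp Z m M (i + 1 - 2 * ((j : ℤ) + 1)) (n - ((j : ℤ) + 1))))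
    (Y : Idx X (ContainsFj X (j + 1 + m))) (U' : Idx X (ContainsFj X j)) (hle : U'.1 ≤ Y.1)
    (hr : Set.range ι = ((U'.1 : X.scheme.Opens) : Set X.scheme)ᶜ)
    (a : T.gp (X.res U'.1) M i n) :
    ∃ (U : Idx X (ContainsFj X (j + 1 + m))) (hle' : U'.1 ≤ U.1)
      (ã : T.gp (X.res U.1) M i n),
      (T.pull (X.resLE hle' (U'.2.2.trans U.2.2.symm)) M i n).hom ã = a := by
  have hcompl : ∀ y : X.scheme, y ∈ Y.1 → (y ∈ U'.1 ↔ y ∉ Set.range ι) := by
    intro y _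
    rw [hr]
    exact Set.notMem_compl_iff.symm
  have hdU' : WeilCoh.dim ((U'.1 : X.scheme.Opens) : Scheme.{u}) =
      WeilCoh.dim ((Y.1 : X.scheme.Opens) : Scheme.{u}) := U'.2.2.trans Y.2.2.symm
  have hF₁ : ContainsFj Z m (ι ⁻¹ᵁ Y.1) := containsFj_preimage ι (j + 1) m hdim _ Y.2.1
  have hdW₁ : WeilCoh.dim ((ι ⁻¹ᵁ Y.1 : Z.scheme.Opens) : Scheme.{u}) = WeilCoh.dim Z.scheme :=
    dim_eq_of_containsFj Z m _ hF₁
  have hcod : (gDecomp ι Y.1 U'.1 hle hdU' hcompl).codim = (j : ℤ) + 1 := by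
    show relCodim ((ι ⁻¹ᵁ Y.1 : Z.scheme.Opens) : Scheme.{u})
      ((Y.1 : X.scheme.Opens) : Scheme.{u}) = _
    unfold relCodim
    rw [hdW₁, Y.2.2]
    omega
  have hiD : i + 1 - 2 * ((j : ℤ) + 1) =
      i + 1 - 2 * (gDecomp ι Y.1 U'.1 hle hdU' hcompl).codim := by rw [hcod]
  have hnD : n - ((j : ℤ) + 1) = n - (gDecomp ι Y.1 U'.1 hle hdU' hcompl).codim := by rw [hcod]
  let r := (T.res (gDecomp ι Y.1 U'.1 hle hdU' hcompl) M i n _ _ hiD hnD).hom a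
  let W₁ : Idx Z (ContainsFj Z m) := ⟨ι ⁻¹ᵁ Y.1, hF₁, hdW₁⟩
  have hz : ((T.toPreTheory.ocolimι Z (ContainsFj Z m) _ _ W₁).app M).hom r =
      ((T.toPreTheory.ocolimι Z (ContainsFj Z m) _ _ W₁).app M).hom 0 :=
    (ModuleCat.subsingleton_of_isZero hzero).elim _ _
  obtain ⟨W₂, hW₂, hW₂b, hres⟩ := (ι_eq_iff T.toPreTheory Z _ _ _ M _ _).mp hz
  have hd₂ : WeilCoh.dim ((W₂.1 : Z.scheme.Opens) : Scheme.{u}) =
      WeilCoh.dim ((W₁.1 : Z.scheme.Opens) : Scheme.{u}) := W₂.2.2.trans W₁.2.2.symm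
  have hres0 : (T.pull (Z.resLE hW₂ hd₂) M _ _).hom r = 0 := hres.trans (map_zero _)
  obtain ⟨Y₂, hY₂Y, hU'Y₂, hFY₂, hle₂⟩ :=
    exists_shrink ι (j + 1) m hdim Y.1 U'.1 hle hr Y.2.1 W₂.1 W₂.2.1
  have hdY₂ : WeilCoh.dim ((Y₂ : X.scheme.Opens) : Scheme.{u}) = WeilCoh.dim X.scheme :=
    dim_eq_of_containsFj X _ _ hFY₂
  have hcompl₂ : ∀ y : X.scheme, y ∈ Y₂ → (y ∈ U'.1 ↔ y ∉ Set.range ι) :=
    fun y hy => hcompl y (hY₂Y hy)
  have hdU'₂ : WeilCoh.dim ((U'.1 : X.scheme.Opens) : Scheme.{u}) =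
      WeilCoh.dim ((Y₂ : X.scheme.Opens) : Scheme.{u}) := U'.2.2.trans hdY₂.symm
  have hF₂ : ContainsFj Z m (ι ⁻¹ᵁ Y₂) := containsFj_preimage ι (j + 1) m hdim _ hFY₂
  have hdW₂ : WeilCoh.dim ((ι ⁻¹ᵁ Y₂ : Z.scheme.Opens) : Scheme.{u}) = WeilCoh.dim Z.scheme :=
    dim_eq_of_containsFj Z m _ hF₂
  have hcod₂ : (gDecomp ι Y₂ U'.1 hU'Y₂ hdU'₂ hcompl₂).codim = (j : ℤ) + 1 := by
    show relCodim ((ι ⁻¹ᵁ Y₂ : Z.scheme.Opens) : Scheme.{u})
      ((Y₂ : X.scheme.Opens) : Scheme.{u}) = _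
    unfold relCodim
    rw [hdW₂, hdY₂]
    omega
  have hdZ : WeilCoh.dim ((ι ⁻¹ᵁ Y₂ : Z.scheme.Opens) : Scheme.{u}) =
      WeilCoh.dim ((ι ⁻¹ᵁ Y.1 : Z.scheme.Opens) : Scheme.{u}) := hdW₂.trans hdW₁.symm
  have hiD₂ : i + 1 - 2 * ((j : ℤ) + 1) =
      i + 1 - 2 * (gDecomp ι Y₂ U'.1 hU'Y₂ hdU'₂ hcompl₂).codim := by rw [hcod₂]
  have hnD₂ : n - ((j : ℤ) + 1) = n - (gDecomp ι Y₂ U'.1 hU'Y₂ hdU'₂ hcompl₂).codim := by
    rw [hcod₂]
  have hrp := res_pull_piece T.toPreTheory ι hle hU'Y₂ hdU' hdU'₂ hcompl hcompl₂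
    hY₂Y (le_refl U'.1) (hdY₂.trans Y.2.2.symm) rfl hdZ M i n _ _ hiD hnD hiD₂ hnD₂ a
  rw [pull_resLE_refl] at hrp
  have hd₁ : WeilCoh.dim ((ι ⁻¹ᵁ Y₂ : Z.scheme.Opens) : Scheme.{u}) =
      WeilCoh.dim ((W₂.1 : Z.scheme.Opens) : Scheme.{u}) := hdW₂.trans W₂.2.2.symm
  have hzero' : (T.pull (Z.resLE
      (show ι ⁻¹ᵁ Y₂ ≤ ι ⁻¹ᵁ Y.1 from fun _ hz => hY₂Y hz) hdZ) M _ _).hom r = 0 := by
    have e := pull_resLE_trans T.toPreTheory Z hle₂ hW₂ hd₁ hd₂ hdZ M _ _ r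
    rw [hres0, map_zero] at e
    exact e.symm
  have hres₂ : (T.res (gDecomp ι Y₂ U'.1 hU'Y₂ hdU'₂ hcompl₂) M i n _ _ hiD₂ hnD₂).hom a = 0 :=
    hrp.symm.trans hzero'
  obtain ⟨ã, hã⟩ := (T.exact_pull_res (gDecomp ι Y₂ U'.1 hU'Y₂ hdU'₂ hcompl₂)
    M i n _ _ hiD₂ hnD₂ a).mp hres₂
  exact ⟨⟨Y₂, hFY₂, hdY₂⟩, hU'Y₂, ã, hã⟩

theorem inj_core
    (hdim : WeilCoh.dim Z.scheme + (j + 1) = WeilCoh.dim X.scheme)
    (hzero : IsZero (T.fjGp Z m M (i - 2 * ((j : ℤ) + 1)) (n - ((j : ℤ) + 1))))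
    (U : Idx X (ContainsFj X (j + 1 + m))) (U' : Idx X (ContainsFj X j)) (hle : U'.1 ≤ U.1)
    (hr : Set.range ι = ((U'.1 : X.scheme.Opens) : Set X.scheme)ᶜ)
    (a : T.gp (X.res U.1) M i n)
    (ha : (T.pull (X.resLE hle (U'.2.2.trans U.2.2.symm)) M i n).hom a = 0) :
    ((T.toPreTheory.ocolimι X (ContainsFj X (j + 1 + m)) i n U).app M).hom a = 0 := by
  obtain ⟨i₀, rfl⟩ : ∃ i₀, i = i₀ + 1 := ⟨i - 1, by ring⟩
  have hcompl : ∀ y : X.scheme, y ∈ U.1 → (y ∈ U'.1 ↔ y ∉ Set.range ι) := by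
    intro y _
    rw [hr]
    exact Set.notMem_compl_iff.symm
  have hdU' : WeilCoh.dim ((U'.1 : X.scheme.Opens) : Scheme.{u}) =
      WeilCoh.dim ((U.1 : X.scheme.Opens) : Scheme.{u}) := U'.2.2.trans U.2.2.symm
  have hF₁ : ContainsFj Z m (ι ⁻¹ᵁ U.1) := containsFj_preimage ι (j + 1) m hdim _ U.2.1
  have hdW₁ : WeilCoh.dim ((ι ⁻¹ᵁ U.1 : Z.scheme.Opens) : Scheme.{u}) = WeilCoh.dim Z.scheme :=
    dim_eq_of_containsFj Z m _ hF₁
  have hcod : (gDecomp ι U.1 U'.1 hle hdU' hcompl).codim = (j : ℤ) + 1 := by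
    show relCodim ((ι ⁻¹ᵁ U.1 : Z.scheme.Opens) : Scheme.{u})
      ((U.1 : X.scheme.Opens) : Scheme.{u}) = _
    unfold relCodim
    rw [hdW₁, U.2.2]
    omega
  have hi' : i₀ + 1 = (i₀ + 1 - 2 * ((j : ℤ) + 1)) + 2 * relCodim
      (gDecomp ι U.1 U'.1 hle hdU' hcompl).Z.scheme (X.res U.1).scheme := by
    have := hcod
    unfold Decomp.codim at this
    rw [this]; ring
  have hn' : n = (n - ((j : ℤ) + 1)) + relCodim
      (gDecomp ι U.1 U'.1 hle hdU' hcompl).Z.scheme (X.res U.1).scheme := by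
    have := hcod
    unfold Decomp.codim at this
    rw [this]; ring
  have haY : (T.pull (gDecomp ι U.1 U'.1 hle hdU' hcompl).j M (i₀ + 1) n).hom a = 0 := ha
  obtain ⟨b, hb⟩ := (T.exact_push_pull
    (gDecomp ι U.1 U'.1 hle hdU' hcompl) M i₀ n _ _ hi' hn' a).mp haY
  let W₁ : Idx Z (ContainsFj Z m) := ⟨ι ⁻¹ᵁ U.1, hF₁, hdW₁⟩
  have hz : ((T.toPreTheory.ocolimι Z (ContainsFj Z m) _ _ W₁).app M).hom b =
      ((T.toPreTheory.ocolimι Z (ContainsFj Z m) _ _ W₁).app M).hom 0 :=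
    (ModuleCat.subsingleton_of_isZero hzero).elim _ _
  obtain ⟨W₂, hW₂, hW₂b, hres⟩ := (ι_eq_iff T.toPreTheory Z _ _ _ M _ _).mp hz
  have hd₂ : WeilCoh.dim ((W₂.1 : Z.scheme.Opens) : Scheme.{u}) =
      WeilCoh.dim ((W₁.1 : Z.scheme.Opens) : Scheme.{u}) := W₂.2.2.trans W₁.2.2.symm
  have hres0 : (T.pull (Z.resLE hW₂ hd₂) M _ _).hom b = 0 := hres.trans (map_zero _)
  obtain ⟨Y₂, hY₂Y, hU'Y₂, hFY₂, hle₂⟩ :=
    exists_shrink ι (j + 1) m hdim U.1 U'.1 hle hr U.2.1 W₂.1 W₂.2.1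
  have hdY₂ : WeilCoh.dim ((Y₂ : X.scheme.Opens) : Scheme.{u}) = WeilCoh.dim X.scheme :=
    dim_eq_of_containsFj X _ _ hFY₂
  have hF₂ : ContainsFj Z m (ι ⁻¹ᵁ Y₂) := containsFj_preimage ι (j + 1) m hdim _ hFY₂
  have hdW₂ : WeilCoh.dim ((ι ⁻¹ᵁ Y₂ : Z.scheme.Opens) : Scheme.{u}) = WeilCoh.dim Z.scheme :=
    dim_eq_of_containsFj Z m _ hF₂
  have hdZ : WeilCoh.dim ((ι ⁻¹ᵁ Y₂ : Z.scheme.Opens) : Scheme.{u}) =
      WeilCoh.dim ((ι ⁻¹ᵁ U.1 : Z.scheme.Opens) : Scheme.{u}) := hdW₂.trans hdW₁.symm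
  have hrc₂ : relCodim (Z.res (ι ⁻¹ᵁ Y₂)).scheme (X.res Y₂).scheme =
      relCodim (gDecomp ι U.1 U'.1 hle hdU' hcompl).Z.scheme (X.res U.1).scheme := by
    show relCodim ((ι ⁻¹ᵁ Y₂ : Z.scheme.Opens) : Scheme.{u})
        ((Y₂ : X.scheme.Opens) : Scheme.{u}) =
      relCodim ((ι ⁻¹ᵁ U.1 : Z.scheme.Opens) : Scheme.{u})
        ((U.1 : X.scheme.Opens) : Scheme.{u})
    unfold relCodim
    rw [hdZ, hdY₂, U.2.2]
  have hbc := push_pull_piece T.toPreTheory ι hY₂Y (hdY₂.trans U.2.2.symm) hdZ M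
    _ _ (i₀ + 1) n hi' hn' (by rw [hrc₂]; exact hi') (by rw [hrc₂]; exact hn') b
  have hd₁ : WeilCoh.dim ((ι ⁻¹ᵁ Y₂ : Z.scheme.Opens) : Scheme.{u}) =
      WeilCoh.dim ((W₂.1 : Z.scheme.Opens) : Scheme.{u}) := hdW₂.trans W₂.2.2.symm
  have hzero' : (T.pull (Z.resLE
      (show ι ⁻¹ᵁ Y₂ ≤ ι ⁻¹ᵁ U.1 from fun _ hz => hY₂Y hz) hdZ) M _ _).hom b = 0 := by
    have e := pull_resLE_trans T.toPreTheory Z hle₂ hW₂ hd₁ hd₂ hdZ M _ _ b
    rw [hres0, map_zero] at e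
    exact e.symm
  rw [hzero', map_zero] at hbc
  have h1 : (T.pull (X.resLE hY₂Y (hdY₂.trans U.2.2.symm)) M (i₀ + 1) n).hom a = 0 := by
    rw [← hb]; exact hbc
  have hp := ι_pull T.toPreTheory X (ContainsFj X (j + 1 + m)) (i₀ + 1) n M
    (U := U) (U' := ⟨Y₂, hFY₂, hdY₂⟩) hY₂Y a
  have h2 : (T.pull ((idxDiag X (ContainsFj X (j + 1 + m))).map
      (homOfLE (show (⟨Y₂, hFY₂, hdY₂⟩ : Idx X (ContainsFj X (j + 1 + m))) ≤ U from hY₂Y)))
      M (i₀ + 1) n).hom a = 0 := h1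
  exact hp.symm.trans ((congrArg _ h2).trans (map_zero _))

end Core

section Main

variable (T : TheoryOn V R A) (X : Obj V) (M : A.Cat) (j m : ℕ) (i n : ℤ)

theorem inj_main (hjm : j ≤ j + 1 + m) (x₀ : X.scheme)
    (hx₀ : WeilCoh.codim X.scheme x₀ = j + 1)
    (hZ : ∀ C : Closeds X.scheme,
      WeilCoh.dim (redSub X C).scheme + (j + 1) = WeilCoh.dim X.scheme →
      IsZero (T.fjGp (redSub X C) m M (i - 2 * ((j : ℤ) + 1)) (n - ((j : ℤ) + 1)))) :
    Function.Injective ((T.fjRes X hjm i n).app M).hom := by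
  rw [injective_iff_map_eq_zero]
  intro α hα
  obtain ⟨U, a, rfl⟩ := exists_rep T.toPreTheory X (ContainsFj X (j + 1 + m)) i n M α
  have hα' := (ocolimMap_ι T.toPreTheory X (containsFj_mono X hjm) i n M U a).symm.trans hα
  have h0' := hα'.trans (map_zero ((T.toPreTheory.ocolimι X (ContainsFj X j) i n
    ⟨U.1, containsFj_mono X hjm U.1 U.2.1, U.2.2⟩).app M).hom).symm
  obtain ⟨U', hU', hU'b, hres⟩ :=
    (ι_eq_iff T.toPreTheory X (ContainsFj X j) i n M _ _).mp h0'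
  have hres0 : (T.pull (X.resLE (show U'.1 ≤ U.1 from hU') (U'.2.2.trans U.2.2.symm)) M
      i n).hom a = 0 := hres.trans (map_zero _)
  obtain ⟨U'', hU'', hdimZ⟩ := exists_shrink_idx X j x₀ hx₀ U'
  have hle'' : U''.1 ≤ U.1 := hU''.trans hU'
  have hres'' : (T.pull (X.resLE hle'' (U''.2.2.trans U.2.2.symm)) M i n).hom a = 0 := by
    have e := pull_resLE_trans T.toPreTheory X hU'' (show U'.1 ≤ U.1 from hU')
      (U''.2.2.trans U'.2.2.symm) (U'.2.2.trans U.2.2.symm) (U''.2.2.trans U.2.2.symm) M i n a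
    rw [hres0, map_zero] at e
    exact e.symm
  exact inj_core T (redSubι X _) M j m i n hdimZ (hZ _ hdimZ) U U'' hle''
    (range_redSubι X _) a hres''

theorem surj_main (hjm : j ≤ j + 1 + m) (x₀ : X.scheme)
    (hx₀ : WeilCoh.codim X.scheme x₀ = j + 1)
    (hZ : ∀ C : Closeds X.scheme,
      WeilCoh.dim (redSub X C).scheme + (j + 1) = WeilCoh.dim X.scheme →
      IsZero (T.fjGp (redSub X C) m M (i + 1 - 2 * ((j : ℤ) + 1)) (n - ((j : ℤ) + 1)))) :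
    Function.Surjective ((T.fjRes X hjm i n).app M).hom := by
  intro β
  obtain ⟨U', a, rfl⟩ := exists_rep T.toPreTheory X (ContainsFj X j) i n M β
  obtain ⟨U'', hU'', hdimZ⟩ := exists_shrink_idx X j x₀ hx₀ U'
  have hd'' : WeilCoh.dim ((U''.1 : X.scheme.Opens) : Scheme.{u}) =
      WeilCoh.dim ((U'.1 : X.scheme.Opens) : Scheme.{u}) := U''.2.2.trans U'.2.2.symm
  obtain ⟨U, hle, ã, hã⟩ := surj_core T (redSubι X _) M j m i n hdimZ (hZ _ hdimZ)
    ⟨⊤, fun _ _ => trivial, dim_top _⟩ U'' le_top (range_redSubι X _)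
    ((T.pull (X.resLE hU'' hd'') M i n).hom a)
  refine ⟨((T.toPreTheory.ocolimι X (ContainsFj X (j + 1 + m)) i n U).app M).hom ã, ?_⟩
  have e1 := ocolimMap_ι T.toPreTheory X (containsFj_mono X hjm) i n M U ã
  have e2 : ((T.toPreTheory.ocolimι X (ContainsFj X j) i n U'').app M).hom
      ((T.pull (X.resLE hle (U''.2.2.trans U.2.2.symm)) M i n).hom ã) =
      ((T.toPreTheory.ocolimι X (ContainsFj X j) i n
        ⟨U.1, containsFj_mono X hjm U.1 U.2.1, U.2.2⟩).app M).hom ã :=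
    ι_pull T.toPreTheory X (ContainsFj X j) i n M
      (U := ⟨U.1, containsFj_mono X hjm U.1 U.2.1, U.2.2⟩) (U' := U'') hle ã
  have e3 : ((T.toPreTheory.ocolimι X (ContainsFj X j) i n U'').app M).hom
      ((T.pull (X.resLE hU'' hd'') M i n).hom a) =
      ((T.toPreTheory.ocolimι X (ContainsFj X j) i n U').app M).hom a :=
    ι_pull T.toPreTheory X (ContainsFj X j) i n M (U := U') (U' := U'') hU'' a
  rw [hã] at e2
  exact e1.trans (e2.symm.trans e3)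

end Main

end Groth.Agent.H79.BMClosed
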