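import Groth.Agent.H79.BMGeom

set_option autoImplicit false
universe u
open AlgebraicGeometry CategoryTheory CategoryTheory.Limits Opposite TopologicalSpace Topology BMCoh

namespace Groth.Agent.H79.BMCore

open Groth.Agent.H79.BMDim Groth.Agent.H79.BMGeom

variable {V : ObjectProperty Scheme.{u}} [IsConstructible V] {R : Type u} [CommRing R]
  {A : Coefs R}

section Idx

instance nonempty_ptIdx (X : Obj V) (x : X.scheme) :
    Nonempty (Idx (X.ptSub x) (fun U => (U : Set (X.ptSub x).scheme).Nonempty)) :=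
  ⟨⟨⊤, ⟨ptGen X x, trivial⟩, dim_top _⟩⟩

instance codirected_ptIdx (X : Obj V) (x : X.scheme) :
    IsCodirectedOrder (Idx (X.ptSub x) (fun U => (U : Set (X.ptSub x).scheme).Nonempty)) :=
  ⟨fun W W' =>
    have hne : ((W.1 ⊓ W'.1 : (X.ptSub x).scheme.Opens) : Set (X.ptSub x).scheme).Nonempty :=
      nonempty_preirreducible_inter W.1.isOpen W'.1.isOpen W.2.1 W'.2.1
    ⟨⟨W.1 ⊓ W'.1, hne, (dim_open_ptSub X x _ hne).trans (dim_ptSub X x).symm⟩,
      (inf_le_left : W.1 ⊓ W'.1 ≤ W.1), (inf_le_right : W.1 ⊓ W'.1 ≤ W'.1)⟩⟩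

instance nonempty_fjIdx (X : Obj V) (j : ℕ) : Nonempty (Idx X (ContainsFj X j)) :=
  ⟨⟨⊤, fun _ _ => trivial, dim_top _⟩⟩

instance codirected_fjIdx (X : Obj V) (j : ℕ) : IsCodirectedOrder (Idx X (ContainsFj X j)) :=
  ⟨fun U U' =>
    have h : ContainsFj X j (U.1 ⊓ U'.1) := fun y hy => ⟨U.2.1 y hy, U'.2.1 y hy⟩
    ⟨⟨U.1 ⊓ U'.1, h, dim_eq_of_containsFj X j _ h⟩,
      (inf_le_left : U.1 ⊓ U'.1 ≤ U.1), (inf_le_right : U.1 ⊓ U'.1 ≤ U'.1)⟩⟩

def fjIdx (X : Obj V) (j : ℕ) (U : X.scheme.Opens) (h : ContainsFj X j U) :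
    Idx X (ContainsFj X j) := ⟨U, h, dim_eq_of_containsFj X j U h⟩

def ptIdxMk (X : Obj V) (x : X.scheme) (W : (X.ptSub x).scheme.Opens)
    (h : (W : Set (X.ptSub x).scheme).Nonempty) : ptIdx X x :=
  ⟨W, h, (dim_open_ptSub X x W h).trans (dim_ptSub X x).symm⟩

end Idx

section Pre

variable (T : PreTheory V R A)

theorem pull_comp {X Y Z : Obj V} (f : X ⟶ Y) (g : Y ⟶ Z) (M : A.Cat) (i n : ℤ)
    (a : T.gp Z M i n) :
    (T.pull (f ≫ g) M i n).hom a = (T.pull f M i n).hom ((T.pull g M i n).hom a) := by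
  have : T.pull (f ≫ g) M i n = T.pull g M i n ≫ T.pull f M i n := by
    show ((T.H i n).map (f ≫ g).op).app M = _
    rw [CategoryTheory.op_comp, CategoryTheory.Functor.map_comp, NatTrans.comp_app]
  rw [this]; rfl

theorem pull_id (X : Obj V) (M : A.Cat) (i n : ℤ) (a : T.gp X M i n) :
    (T.pull (𝟙 X) M i n).hom a = a := by
  have : T.pull (𝟙 X) M i n = 𝟙 _ := by
    show ((T.H i n).map (𝟙 X).op).app M = _
    rw [CategoryTheory.op_id, CategoryTheory.Functor.map_id, NatTrans.id_app]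
  rw [this]; rfl

theorem relCodim_self (X : Scheme.{u}) : relCodim X X = 0 := by unfold relCodim; ring

theorem relCodim_of_hom {X Y : Obj V} (f : X ⟶ Y) : relCodim X.scheme Y.scheme = 0 := by
  unfold relCodim; rw [f.dim_eq]; ring

theorem eq_zero_of_isEmpty (Y : Obj V) [IsEmpty Y.scheme] (M : A.Cat) (k n : ℤ)
    (a : T.gp Y M k n) : a = 0 := by
  obtain ⟨i₀, rfl⟩ : ∃ i₀, k = i₀ + 1 := ⟨k - 1, by ring⟩
  let D : Decomp Y := ⟨Y, Y, 𝟙 Y.scheme, inferInstance, 𝟙 Y, Set.ext fun z => isEmptyElim z⟩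
  have hr : relCodim Y.scheme Y.scheme = 0 := relCodim_self _
  have hi : i₀ + 1 = i₀ + 1 + 2 * relCodim D.Z.scheme Y.scheme := by
    show i₀ + 1 = i₀ + 1 + 2 * relCodim Y.scheme Y.scheme
    rw [hr]; ring
  have hn : n = n + relCodim D.Z.scheme Y.scheme := by
    show n = n + relCodim Y.scheme Y.scheme
    rw [hr]; ring
  have hex := T.exact_push_pull D M i₀ n (i₀ + 1) n hi hn
  have h1 : (T.pull D.j M (i₀ + 1) n).hom a = 0 := by
    refine (hex a).mpr ⟨a, ?_⟩
    have := T.push_id Y M (i₀ + 1) n hi hn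
    show (T.push (𝟙 Y.scheme) M (i₀ + 1) n (i₀ + 1) n hi hn).hom a = a
    rw [this]; rfl
  have h2 : (T.pull (𝟙 Y) M (i₀ + 1) n).hom a = 0 := h1
  rwa [pull_id] at h2

theorem isZero_of_isEmpty (Y : Obj V) [IsEmpty Y.scheme] (M : A.Cat) (k n : ℤ) :
    IsZero (T.gp Y M k n) := by
  rw [ModuleCat.isZero_iff_subsingleton]
  exact ⟨fun a b => (eq_zero_of_isEmpty T Y M k n a).trans (eq_zero_of_isEmpty T Y M k n b).symm⟩

theorem pull_injective_of_isZero {X : Obj V} (D : Decomp X) (M : A.Cat) (i n : ℤ)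
    (h : IsZero (T.gp D.Z M (i - 2 * D.codim) (n - D.codim))) :
    Function.Injective (T.pull D.j M i n).hom := by
  obtain ⟨i₀, rfl⟩ : ∃ i₀, i = i₀ + 1 := ⟨i - 1, by ring⟩
  have hi : i₀ + 1 = (i₀ + 1 - 2 * D.codim) + 2 * relCodim D.Z.scheme X.scheme := by ring
  have hn : n = (n - D.codim) + relCodim D.Z.scheme X.scheme := by ring
  have hex := T.exact_push_pull D M i₀ n _ _ hi hn
  rw [injective_iff_map_eq_zero]
  intro a ha
  obtain ⟨b, rfl⟩ := (hex a).mp ha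
  have : b = 0 := (ModuleCat.subsingleton_of_isZero h).elim _ _
  rw [this, map_zero]

theorem pull_surjective_of_isZero {X : Obj V} (D : Decomp X) (M : A.Cat) (i n : ℤ)
    (h : IsZero (T.gp D.Z M (i + 1 - 2 * D.codim) (n - D.codim))) :
    Function.Surjective (T.pull D.j M i n).hom := by
  have hex := T.exact_pull_res D M i n _ _ rfl rfl
  intro a'
  have : (T.res D M i n _ _ rfl rfl).hom a' = 0 :=
    (ModuleCat.subsingleton_of_isZero h).elim _ _
  exact (hex a').mp this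

section Colim

variable (X : Obj V) (P : X.scheme.Opens → Prop) (i n : ℤ) (M : A.Cat)

noncomputable def cCocone :
    Cocone (((idxDiag X P).op ⋙ T.H i n) ⋙ (evaluation A.Cat (ModuleCat.{u} R)).obj M) :=
  ((evaluation A.Cat (ModuleCat.{u} R)).obj M).mapCocone
    (colimit.cocone ((idxDiag X P).op ⋙ T.H i n))

noncomputable def cIsColimit : IsColimit (cCocone T X P i n M) :=
  isColimitOfPreserves _ (colimit.isColimit _)

theorem exists_rep [IsFiltered (Idx X P)ᵒᵖ] (a : (T.ocolim X P i n).obj M) :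
    ∃ (U : Idx X P) (b : T.gp (X.res U.1) M i n),
      ((T.ocolimι X P i n U).app M).hom b = a := by
  obtain ⟨j, y, hy⟩ := Concrete.isColimit_exists_rep _ (cIsColimit T X P i n M) a
  exact ⟨j.unop, y, hy⟩

theorem ι_eq_iff [IsFiltered (Idx X P)ᵒᵖ] {U U' : Idx X P} (b : T.gp (X.res U.1) M i n)
    (b' : T.gp (X.res U'.1) M i n) :
    ((T.ocolimι X P i n U).app M).hom b = ((T.ocolimι X P i n U').app M).hom b' ↔
    ∃ (U'' : Idx X P) (h : U'' ≤ U) (h' : U'' ≤ U'),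
      (T.pull ((idxDiag X P).map (homOfLE h)) M i n).hom b =
        (T.pull ((idxDiag X P).map (homOfLE h')) M i n).hom b' := by
  have key := Concrete.isColimit_rep_eq_iff_exists _ (cIsColimit T X P i n M)
    (i := op U) (j := op U') b b'
  constructor
  · intro h
    obtain ⟨k, f, g, hfg⟩ := key.mp h
    exact ⟨k.unop, leOfHom f.unop, leOfHom g.unop, hfg⟩
  · rintro ⟨U'', h, h', e⟩
    exact key.mpr ⟨op U'', (homOfLE h).op, (homOfLE h').op, e⟩

theorem ι_pull [IsFiltered (Idx X P)ᵒᵖ] {U U' : Idx X P} (h : U' ≤ U)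
    (b : T.gp (X.res U.1) M i n) :
    ((T.ocolimι X P i n U').app M).hom
      ((T.pull ((idxDiag X P).map (homOfLE h)) M i n).hom b) =
    ((T.ocolimι X P i n U).app M).hom b := by
  rw [ι_eq_iff]
  refine ⟨U', le_rfl, h, ?_⟩
  have : (idxDiag X P).map (homOfLE (le_refl U')) = 𝟙 _ := (idxDiag X P).map_id U'
  rw [this, pull_id]

end Colim

end Pre

end Groth.Agent.H79.BMCore
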