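import Groth.Prelude.Def_BMCoh3
import Mathlib

set_option autoImplicit false
universe u
open TopologicalSpace Topology Order Set

namespace Groth.Agent.H79.BMDim

variable {T : Type u} [TopologicalSpace T]

theorem le_natDim_of_coe_le {n : ℕ} (h : (n : WithBot ℕ∞) ≤ topologicalKrullDim T)
    (hfin : topologicalKrullDim T < ⊤) : n ≤ WeilCoh.natDim T := by
  unfold WeilCoh.natDim
  generalize topologicalKrullDim T = a at h hfin
  induction a with
  | bot => exact absurd h (by simp)
  | coe a =>
    have ha : a ≠ ⊤ := by rintro rfl; exact lt_irrefl _ hfin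
    lift a to ℕ using ha
    have h' : n ≤ a := by exact_mod_cast h
    simpa using h'

theorem coe_natDim_le_of_pos (hpos : 0 < WeilCoh.natDim T) :
    ((WeilCoh.natDim T : ℕ) : WithBot ℕ∞) ≤ topologicalKrullDim T := by
  unfold WeilCoh.natDim at hpos ⊢
  generalize topologicalKrullDim T = a at hpos ⊢
  induction a with
  | bot => simp at hpos
  | coe a =>
    simp only [WithBot.unbotD_coe] at hpos ⊢
    have ha : a ≠ ⊤ := by rintro rfl; simp at hpos
    lift a to ℕ using ha
    simp

theorem natDim_le_of_forall {m : ℕ}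
    (h : ∀ p : LTSeries (IrreducibleCloseds T), p.length ≤ m) : WeilCoh.natDim T ≤ m := by
  by_contra hlt
  push Not at hlt
  have hpos : 0 < WeilCoh.natDim T := by omega
  obtain ⟨l, hl⟩ := (Order.le_krullDim_iff).mp (coe_natDim_le_of_pos hpos)
  have := h l
  omega

theorem length_le_natDim (hfin : topologicalKrullDim T < ⊤)
    (p : LTSeries (IrreducibleCloseds T)) : p.length ≤ WeilCoh.natDim T :=
  le_natDim_of_coe_le (LTSeries.length_le_krullDim p) hfin

theorem natDim_mono {S : Type u} [TopologicalSpace S]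
    (h : topologicalKrullDim S ≤ topologicalKrullDim T) (hfin : topologicalKrullDim T < ⊤) :
    WeilCoh.natDim S ≤ WeilCoh.natDim T :=
  natDim_le_of_forall fun p =>
    le_natDim_of_coe_le ((LTSeries.length_le_krullDim p).trans h) hfin

theorem natDim_le_of_isInducing {S : Type u} [TopologicalSpace S] {f : S → T}
    (hf : IsInducing f) (hfin : topologicalKrullDim T < ⊤) :
    WeilCoh.natDim S ≤ WeilCoh.natDim T :=
  natDim_mono hf.topologicalKrullDim_le hfin

theorem natDim_eq_of_homeomorph {S : Type u} [TopologicalSpace S] (e : S ≃ₜ T) :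
    WeilCoh.natDim S = WeilCoh.natDim T := by
  unfold WeilCoh.natDim
  rw [IsHomeomorph.topologicalKrullDim_eq e e.isHomeomorph]

theorem natDim_congr_set {s t : Set T} (h : s = t) : WeilCoh.natDim ↥s = WeilCoh.natDim ↥t := by
  subst h; rfl

theorem natDim_of_isEmpty [IsEmpty T] : WeilCoh.natDim T = 0 := by
  have : topologicalKrullDim T = ⊥ := by
    unfold topologicalKrullDim
    rw [Order.krullDim_eq_bot_iff]
    exact ⟨fun Z => IsEmpty.elim ‹_› Z.isIrreducible.nonempty.some⟩
  unfold WeilCoh.natDim
  rw [this]; simp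

theorem finite_subtype (hfin : topologicalKrullDim T < ⊤) (s : Set T) :
    topologicalKrullDim ↥s < ⊤ :=
  lt_of_le_of_lt (topologicalKrullDim_subspace_le T s) hfin

theorem natDim_subtype_le (hfin : topologicalKrullDim T < ⊤) (s : Set T) :
    WeilCoh.natDim ↥s ≤ WeilCoh.natDim T :=
  natDim_le_of_isInducing IsInducing.subtypeVal hfin

theorem natDim_subtype_mono (hfin : topologicalKrullDim T < ⊤) {s t : Set T} (h : s ⊆ t) :
    WeilCoh.natDim ↥s ≤ WeilCoh.natDim ↥t :=
  natDim_le_of_isInducing (IsEmbedding.inclusion h).isInducing (finite_subtype hfin t)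

theorem exists_series_natDim [Nonempty T] (hfin : topologicalKrullDim T < ⊤) :
    ∃ p : LTSeries (IrreducibleCloseds T), p.length = WeilCoh.natDim T := by
  apply Order.le_krullDim_iff.mp
  have hne : topologicalKrullDim T ≠ ⊥ := by
    have : Nonempty (IrreducibleCloseds T) :=
      ⟨⟨closure {Classical.arbitrary T}, isIrreducible_singleton.closure, isClosed_closure⟩⟩
    exact Order.krullDim_ne_bot_iff.mpr this
  show ((WeilCoh.natDim T : ℕ) : WithBot ℕ∞) ≤ topologicalKrullDim T
  unfold WeilCoh.natDim
  generalize topologicalKrullDim T = a at hne hfin ⊢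
  induction a with
  | bot => exact absurd rfl hne
  | coe a =>
    have ha : a ≠ ⊤ := by rintro rfl; exact lt_irrefl _ hfin
    lift a to ℕ using ha
    simp

theorem isIrreducible_preimage_val {Z A : Set T} (hA : IsIrreducible A) (hAZ : A ⊆ Z) :
    IsIrreducible ((Subtype.val : Z → T) ⁻¹' A) := by
  obtain ⟨⟨a, ha⟩, hpre⟩ := hA
  refine ⟨⟨⟨a, hAZ ha⟩, ha⟩, ?_⟩
  intro u v hu hv hxu hyv
  obtain ⟨x, hxA, hxu⟩ := hxu
  obtain ⟨y, hyA, hyv⟩ := hyv
  obtain ⟨u', hu', rfl⟩ := isOpen_induced_iff.mp hu
  obtain ⟨v', hv', rfl⟩ := isOpen_induced_iff.mp hv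
  obtain ⟨z, hzA, hzu, hzv⟩ := hpre u' v' hu' hv' ⟨x.1, hxA, hxu⟩ ⟨y.1, hyA, hyv⟩
  exact ⟨⟨z, hAZ hzA⟩, hzA, hzu, hzv⟩

theorem exists_series_subtype {Z : Set T} (p : LTSeries (IrreducibleCloseds T))
    (h : (p.last : Set T) ⊆ Z) :
    ∃ q : LTSeries (IrreducibleCloseds ↥Z), q.length = p.length := by
  have hsub : ∀ k, ((p k : IrreducibleCloseds T) : Set T) ⊆ Z := fun k =>
    (SetLike.coe_subset_coe.mpr (p.strictMono.monotone (Fin.le_last k))).trans h
  refine ⟨LTSeries.mk p.length (fun k => ⟨Subtype.val ⁻¹' (p k : Set T),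
    isIrreducible_preimage_val (p k).isIrreducible (hsub k),
    (p k).isClosed.preimage continuous_subtype_val⟩) ?_, rfl⟩
  intro k l hkl
  have hlt := p.strictMono hkl
  obtain ⟨hle, x, hxl, hxk⟩ := SetLike.lt_iff_le_and_exists.mp hlt
  exact SetLike.lt_iff_le_and_exists.mpr ⟨fun z hz => hle hz, ⟨x, hsub l hxl⟩, hxl, hxk⟩

theorem natDim_closed_le [QuasiSober T] (hfin : topologicalKrullDim T < ⊤) {C : Set T}
    (hC : IsClosed C) {m : ℕ}
    (h : ∀ y ∈ C, WeilCoh.natDim ↥(closure ({y} : Set T)) ≤ m) : WeilCoh.natDim ↥C ≤ m := by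
  refine natDim_le_of_forall fun p => ?_
  let p' : LTSeries (IrreducibleCloseds T) :=
    p.map (IrreducibleCloseds.map Subtype.val continuous_subtype_val)
      (IrreducibleCloseds.map_strictMono_of_isInducing IsInducing.subtypeVal)
  have hlast : (p'.last : Set T) ⊆ C := by
    have : p'.last = IrreducibleCloseds.map Subtype.val continuous_subtype_val p.last :=
      LTSeries.last_map ..
    rw [this]
    show closure (Subtype.val '' (p.last : Set C)) ⊆ C
    exact closure_minimal (by rintro _ ⟨z, _, rfl⟩; exact z.2) hC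
  have hgen : IsGenericPoint p'.last.isIrreducible.genericPoint (p'.last : Set T) :=
    p'.last.isIrreducible.isGenericPoint_genericPoint p'.last.isClosed
  set y := p'.last.isIrreducible.genericPoint
  have hyC : y ∈ C := hlast hgen.mem
  obtain ⟨q, hq⟩ := exists_series_subtype (Z := closure {y}) p' (by rw [hgen.def])
  have h1 := length_le_natDim (finite_subtype hfin _) q
  have h2 := h y hyC
  have h3 : p'.length = p.length := LTSeries.map_length ..
  omega

theorem natDim_closure_lt (hfin : topologicalKrullDim T < ⊤) {x y : T}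
    (hxy : x ∈ closure ({y} : Set T)) (hyx : y ∉ closure ({x} : Set T)) :
    WeilCoh.natDim ↥(closure ({x} : Set T)) < WeilCoh.natDim ↥(closure ({y} : Set T)) := by
  have : Nonempty ↥(closure ({x} : Set T)) := ⟨⟨x, subset_closure rfl⟩⟩
  obtain ⟨p, hp⟩ := exists_series_natDim (finite_subtype hfin (closure ({x} : Set T)))
  let p' : LTSeries (IrreducibleCloseds T) :=
    p.map (IrreducibleCloseds.map Subtype.val continuous_subtype_val)
      (IrreducibleCloseds.map_strictMono_of_isInducing IsInducing.subtypeVal)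
  have hlast : (p'.last : Set T) ⊆ closure {x} := by
    have : p'.last = IrreducibleCloseds.map Subtype.val continuous_subtype_val p.last :=
      LTSeries.last_map ..
    rw [this]
    show closure (Subtype.val '' (p.last : Set (closure ({x} : Set T)))) ⊆ closure {x}
    exact closure_minimal (by rintro _ ⟨z, _, rfl⟩; exact z.2) isClosed_closure
  let top : IrreducibleCloseds T :=
    ⟨closure {y}, isIrreducible_singleton.closure, isClosed_closure⟩
  have hlt : p'.last < top := SetLike.lt_iff_le_and_exists.mpr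
    ⟨fun z hz => closure_minimal (singleton_subset_iff.mpr hxy) isClosed_closure (hlast hz),
      y, subset_closure rfl, fun hy => hyx (hlast hy)⟩
  let p'' : LTSeries (IrreducibleCloseds T) := p'.snoc top hlt
  have hl'' : (p''.last : Set T) ⊆ closure {y} := by
    have : p''.last = top := RelSeries.last_snoc ..
    rw [this]
    exact subset_rfl
  obtain ⟨q, hq⟩ := exists_series_subtype (Z := closure {y}) p'' hl''
  have h1 := length_le_natDim (finite_subtype hfin _) q
  have h2 : p''.length = p'.length + 1 := RelSeries.snoc_length ..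
  have h3 : p'.length = p.length := LTSeries.map_length ..
  omega

theorem exists_natDim_closure_eq [QuasiSober T] [Nonempty T] (hfin : topologicalKrullDim T < ⊤) :
    ∃ y : T, WeilCoh.natDim ↥(closure ({y} : Set T)) = WeilCoh.natDim T := by
  obtain ⟨p, hp⟩ := exists_series_natDim hfin
  have hgen : IsGenericPoint p.last.isIrreducible.genericPoint (p.last : Set T) :=
    p.last.isIrreducible.isGenericPoint_genericPoint p.last.isClosed
  set y := p.last.isIrreducible.genericPoint
  obtain ⟨q, hq⟩ := exists_series_subtype (Z := closure {y}) p (by rw [hgen.def])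
  have h1 := length_le_natDim (finite_subtype hfin _) q
  have h2 := natDim_subtype_le hfin (closure ({y} : Set T))
  exact ⟨y, by omega⟩

theorem exists_closed_complement [NoetherianSpace T] [QuasiSober T]
    (hfin : topologicalKrullDim T < ⊤) {C : Set T} (hC : IsClosed C) {x : T}
    (hmax : ∀ y ∈ C, WeilCoh.natDim ↥(closure ({y} : Set T)) ≤
      WeilCoh.natDim ↥(closure ({x} : Set T))) :
    ∃ C₁ : Set T, IsClosed C₁ ∧ C₁ ⊆ C ∧ x ∉ C₁ ∧ C ⊆ C₁ ∪ closure {x} := by
  obtain ⟨S, hSf, hSc, hSi, hSU⟩ := NoetherianSpace.exists_finite_set_isClosed_irreducible hC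
  refine ⟨⋃₀ {t ∈ S | x ∉ t}, ?_, ?_, ?_, ?_⟩
  · rw [Set.sUnion_eq_biUnion]
    have hfin' : {t ∈ S | x ∉ t}.Finite := hSf.subset (fun t ht => ht.1)
    exact hfin'.isClosed_biUnion (fun t ht => hSc t ht.1)
  · rintro z ⟨t, ⟨htS, _⟩, hzt⟩
    rw [hSU]; exact ⟨t, htS, hzt⟩
  · rintro ⟨t, ⟨_, hxt⟩, hxt'⟩
    exact hxt hxt'
  · intro c hc
    rw [hSU] at hc
    obtain ⟨t, htS, hct⟩ := hc
    by_cases hxt : x ∈ t
    · right
      have hgen : IsGenericPoint (hSi t htS).genericPoint t :=
        (hSi t htS).isGenericPoint_genericPoint (hSc t htS)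
      set y := (hSi t htS).genericPoint
      have hyC : y ∈ C := by rw [hSU]; exact ⟨t, htS, hgen.mem⟩
      have hxy : x ∈ closure ({y} : Set T) := by rw [hgen.def]; exact hxt
      by_contra hcx
      have hyx : y ∉ closure ({x} : Set T) := by
        intro hy
        apply hcx
        have : t ⊆ closure ({x} : Set T) := by
          rw [← hgen.def]
          exact closure_minimal (singleton_subset_iff.mpr hy) isClosed_closure
        exact this hct
      have := natDim_closure_lt hfin hxy hyx
      have := hmax y hyC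
      omega
    · left
      exact ⟨t, ⟨htS, hxt⟩, hct⟩

end Groth.Agent.H79.BMDim
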