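import Groth.Agent.H79.BMDim

set_option autoImplicit false
universe u
open AlgebraicGeometry CategoryTheory CategoryTheory.Limits Opposite TopologicalSpace Topology BMCoh

namespace Groth.Agent.H79.BMGeom

open Groth.Agent.H79.BMDim

section Schemes

theorem dim_le_of_isPreimmersion {Y X : Scheme.{u}} (f : Y ⟶ X) [IsPreimmersion f]
    (hfin : topologicalKrullDim X < ⊤) : WeilCoh.dim Y ≤ WeilCoh.dim X :=
  natDim_le_of_isInducing f.isEmbedding.isInducing hfin

theorem dim_eq_natDim_range {Y X : Scheme.{u}} (f : Y ⟶ X) [IsPreimmersion f] :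
    WeilCoh.dim Y = WeilCoh.natDim ↥(Set.range f) :=
  natDim_eq_of_homeomorph f.isEmbedding.toHomeomorph

theorem dim_of_isEmpty {Y : Scheme.{u}} [IsEmpty Y] : WeilCoh.dim Y = 0 :=
  natDim_of_isEmpty

theorem isOpenImmersion_of_isOpen_range {W Z : Scheme.{u}} (f : W ⟶ Z) [IsPreimmersion f]
    [IsReduced Z] (h : IsOpen (Set.range f)) : IsOpenImmersion f := by
  let O : Z.Opens := ⟨Set.range f, h⟩
  have hO : Set.range f ⊆ Set.range O.ι := by
    rw [Scheme.Opens.range_ι]; exact subset_rfl
  let f' : W ⟶ O := IsOpenImmersion.lift O.ι f hO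
  have hf' : f' ≫ O.ι = f := IsOpenImmersion.lift_fac _ _ _
  have : IsPreimmersion (f' ≫ O.ι) := by rw [hf']; infer_instance
  have : IsPreimmersion f' := IsPreimmersion.of_comp f' O.ι
  have hsurj : Function.Surjective f' := by
    intro z
    obtain ⟨w, hw⟩ : z.1 ∈ Set.range f := z.2
    refine ⟨w, ?_⟩
    apply Subtype.ext
    have := congrArg (fun g : W ⟶ Z => g w) hf'
    simp only [Scheme.Hom.comp_apply] at this
    rw [← hw, ← this]; rfl
  have : IsClosedImmersion f' :=
    IsClosedImmersion.of_isPreimmersion f' (by rw [hsurj.range_eq]; exact isClosed_univ)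
  have : Surjective f' := ⟨hsurj⟩
  have : IsIso f' := isIso_of_isClosedImmersion_of_surjective f'
  rw [← hf']; infer_instance

instance isReduced_vanishingIdeal_subscheme {X : Scheme.{u}} (C : Closeds X) :
    IsReduced (Scheme.IdealSheafData.vanishingIdeal C).subscheme := by
  have : ∀ U, IsReduced ((Scheme.IdealSheafData.vanishingIdeal C).subschemeCover.openCover.X U) := by
    intro U
    show IsReduced (Spec (CommRingCat.of
      (Γ(X, U.1) ⧸ (Scheme.IdealSheafData.vanishingIdeal C).ideal U)))
    have hrad : ((Scheme.IdealSheafData.vanishingIdeal C).ideal U).IsRadical := by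
      rw [Scheme.IdealSheafData.vanishingIdeal_ideal]
      exact PrimeSpectrum.isRadical_vanishingIdeal _
    have : _root_.IsReduced (Γ(X, U.1) ⧸ (Scheme.IdealSheafData.vanishingIdeal C).ideal U) :=
      (Ideal.isRadical_iff_quotient_reduced _).mp hrad
    infer_instance
  exact IsReduced.of_openCover _ (Scheme.IdealSheafData.vanishingIdeal C).subschemeCover.openCover

end Schemes

variable {V : ObjectProperty Scheme.{u}} [IsConstructible V]

theorem finiteDim (X : Obj V) : topologicalKrullDim X.scheme < ⊤ :=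
  IsConstructible.finiteDim X.mem

instance (X : Obj V) : IsNoetherian X.scheme := IsConstructible.isNoetherian X.mem

theorem pdim_le_dim (X : Obj V) (y : X.scheme) :
    WeilCoh.pdim X.scheme y ≤ WeilCoh.dim X.scheme :=
  natDim_subtype_le (finiteDim X) _

theorem pdim_le_of_mem_closure (X : Obj V) {x y : X.scheme}
    (hxy : x ∈ closure ({y} : Set X.scheme)) :
    WeilCoh.pdim X.scheme x ≤ WeilCoh.pdim X.scheme y :=
  natDim_subtype_mono (finiteDim X)
    (closure_minimal (Set.singleton_subset_iff.mpr hxy) isClosed_closure)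

theorem pdim_lt_of_mem_closure (X : Obj V) {x y : X.scheme}
    (hxy : x ∈ closure ({y} : Set X.scheme)) (hyx : y ∉ closure ({x} : Set X.scheme)) :
    WeilCoh.pdim X.scheme x < WeilCoh.pdim X.scheme y :=
  natDim_closure_lt (finiteDim X) hxy hyx

theorem exists_closed_complement (X : Obj V) {C : Set X.scheme} (hC : IsClosed C)
    {x : X.scheme}
    (hmax : ∀ y ∈ C, WeilCoh.pdim X.scheme y ≤ WeilCoh.pdim X.scheme x) :
    ∃ C₁ : Set X.scheme, IsClosed C₁ ∧ C₁ ⊆ C ∧ x ∉ C₁ ∧ C ⊆ C₁ ∪ closure {x} :=
  BMDim.exists_closed_complement (finiteDim X) hC hmax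

theorem exists_pdim_eq_dim (X : Obj V) [Nonempty X.scheme] :
    ∃ y : X.scheme, WeilCoh.pdim X.scheme y = WeilCoh.dim X.scheme :=
  exists_natDim_closure_eq (finiteDim X)

theorem range_ptSubι (X : Obj V) (x : X.scheme) :
    Set.range (X.ptSubι x) = closure ({x} : Set X.scheme) := by
  rw [Scheme.IdealSheafData.range_subschemeι, Scheme.IdealSheafData.coe_support_vanishingIdeal]
  rfl

theorem dim_ptSub (X : Obj V) (x : X.scheme) :
    WeilCoh.dim (X.ptSub x).scheme = WeilCoh.pdim X.scheme x := by
  rw [dim_eq_natDim_range (X.ptSubι x)]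
  exact natDim_congr_set (range_ptSubι X x)

theorem exists_ptGen (X : Obj V) (x : X.scheme) : ∃ z : (X.ptSub x).scheme, X.ptSubι x z = x := by
  have : x ∈ Set.range (X.ptSubι x) := by rw [range_ptSubι]; exact subset_closure rfl
  exact this

noncomputable def ptGen (X : Obj V) (x : X.scheme) : (X.ptSub x).scheme := (exists_ptGen X x).choose

theorem ptSubι_ptGen (X : Obj V) (x : X.scheme) : X.ptSubι x (ptGen X x) = x :=
  (exists_ptGen X x).choose_spec

instance irreducibleSpace_ptSub (X : Obj V) (x : X.scheme) :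
    IrreducibleSpace (X.ptSub x).scheme := by
  have hirr : IsIrreducible (Set.range (X.ptSubι x)) := by
    rw [range_ptSubι]; exact isIrreducible_singleton.closure
  have := (isIrreducible_iff_irreducibleSpace).mp hirr
  exact ((X.ptSubι x).isEmbedding.toHomeomorph).irreducibleSpace_iff.mpr this

theorem dim_open_ptSub (X : Obj V) (x : X.scheme) (W : (X.ptSub x).scheme.Opens)
    (hW : (W : Set (X.ptSub x).scheme).Nonempty) :
    WeilCoh.dim (W : Scheme.{u}) = WeilCoh.pdim X.scheme x := by
  rw [IsConstructible.dim_open (X.ptSub x).mem (irreducibleSpace_ptSub X x) W hW, dim_ptSub]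

theorem pdim_le_dim_of_mem (X : Obj V) (U : X.scheme.Opens) {x : X.scheme} (hx : x ∈ U) :
    WeilCoh.pdim X.scheme x ≤ WeilCoh.dim (U : Scheme.{u}) := by
  have hW : (((X.ptSubι x) ⁻¹ᵁ U : (X.ptSub x).scheme.Opens) : Set _).Nonempty :=
    ⟨ptGen X x, by
      show X.ptSubι x (ptGen X x) ∈ U
      rw [ptSubι_ptGen]; exact hx⟩
  rw [← dim_open_ptSub X x _ hW]
  exact dim_le_of_isPreimmersion ((X.ptSubι x) ∣_ U) (finiteDim (X.res U))

theorem dim_opens_le (X : Obj V) (U : X.scheme.Opens) :
    WeilCoh.dim (U : Scheme.{u}) ≤ WeilCoh.dim X.scheme :=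
  dim_le_of_isPreimmersion U.ι (finiteDim X)

theorem dim_eq_of_forall_codim_zero (X : Obj V) (U : X.scheme.Opens)
    (h : ∀ y : X.scheme, WeilCoh.codim X.scheme y = 0 → y ∈ U) :
    WeilCoh.dim (U : Scheme.{u}) = WeilCoh.dim X.scheme := by
  rcases isEmpty_or_nonempty X.scheme with he | hne
  · have : IsEmpty ↥(U : Scheme.{u}) := ⟨fun z => he.elim z.1⟩
    rw [dim_of_isEmpty, dim_of_isEmpty]
  · obtain ⟨y, hy⟩ := exists_pdim_eq_dim X
    have hyU : y ∈ U := h y (by unfold WeilCoh.codim; omega)
    have h1 := pdim_le_dim_of_mem X U hyU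
    have h2 := dim_opens_le X U
    omega

theorem dim_eq_of_containsFj (X : Obj V) (j : ℕ) (U : X.scheme.Opens) (h : ContainsFj X j U) :
    WeilCoh.dim (U : Scheme.{u}) = WeilCoh.dim X.scheme :=
  dim_eq_of_forall_codim_zero X U (fun y hy => h y (by omega))

noncomputable def redSub (X : Obj V) (C : Closeds X.scheme) : Obj V :=
  ⟨(Scheme.IdealSheafData.vanishingIdeal C).subscheme,
    IsConstructible.of_isClosedImmersion (Scheme.IdealSheafData.vanishingIdeal C).subschemeι
      (h := inferInstance) X.mem⟩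

noncomputable abbrev redSubι (X : Obj V) (C : Closeds X.scheme) : (redSub X C).scheme ⟶ X.scheme :=
  (Scheme.IdealSheafData.vanishingIdeal C).subschemeι

theorem range_redSubι (X : Obj V) (C : Closeds X.scheme) :
    Set.range (redSubι X C) = (C : Set X.scheme) := by
  have := Scheme.IdealSheafData.range_subschemeι (Scheme.IdealSheafData.vanishingIdeal C)
  rw [Scheme.IdealSheafData.coe_support_vanishingIdeal] at this
  exact this

instance (X : Obj V) (C : Closeds X.scheme) : IsReduced (redSub X C).scheme :=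
  isReduced_vanishingIdeal_subscheme C

instance (X : Obj V) (C : Closeds X.scheme) : IsClosedImmersion (redSubι X C) :=
  inferInstanceAs (IsClosedImmersion (Scheme.IdealSheafData.vanishingIdeal C).subschemeι)

theorem dim_redSub (X : Obj V) (C : Closeds X.scheme) :
    WeilCoh.dim (redSub X C).scheme = WeilCoh.natDim ↥(C : Set X.scheme) := by
  rw [dim_eq_natDim_range (redSubι X C)]
  exact natDim_congr_set (range_redSubι X C)

theorem dim_redSub_le (X : Obj V) (C : Closeds X.scheme) {m : ℕ}
    (h : ∀ y ∈ (C : Set X.scheme), WeilCoh.pdim X.scheme y ≤ m) :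
    WeilCoh.dim (redSub X C).scheme ≤ m := by
  rw [dim_redSub]
  exact natDim_closed_le (finiteDim X) C.isClosed h

theorem isEmpty_redSub (X : Obj V) (C : Closeds X.scheme) (h : (C : Set X.scheme) = ∅) :
    IsEmpty (redSub X C).scheme := by
  have := range_redSubι X C
  rw [h, Set.range_eq_empty_iff] at this
  exact this

noncomputable def decompOf {U X : Obj V} (j : U ⟶ X) : Decomp X where
  Z := redSub X ⟨(Set.range j.hom)ᶜ, j.hom.isOpenEmbedding.isOpen_range.isClosed_compl⟩
  U := U
  i := redSubι X _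
  closedImm := inferInstance
  j := j
  range_eq := by rw [range_redSubι]; simp

end Groth.Agent.H79.BMGeom
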