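import Groth.Agent.H79.BMCore

set_option autoImplicit false
universe u
open AlgebraicGeometry CategoryTheory CategoryTheory.Limits Opposite TopologicalSpace Topology BMCoh

namespace Groth.Agent.H79.BMNeg

open Groth.Agent.H79.BMDim Groth.Agent.H79.BMGeom Groth.Agent.H79.BMCore

variable {V : ObjectProperty Scheme.{u}} [IsConstructible V] {R : Type u} [CommRing R]
  {A : Coefs R}

instance isReduced_decompOf {U X : Obj V} (j : U ⟶ X) : IsReduced (decompOf j).Z.scheme :=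
  inferInstanceAs (IsReduced (redSub X _).scheme)

theorem neg_vanish_aux (T : TheoryOn V R A) (X₀ : Obj V) (C : Closeds X₀.scheme) :
    ∀ (Y : Obj V) [IsReduced Y.scheme] (ι : Y.scheme ⟶ X₀.scheme) [IsClosedImmersion ι],
      Set.range ι = (C : Set X₀.scheme) → ∀ (M : A.Cat) (k n : ℤ), k < 0 →
      ∀ a : T.gp Y M k n, a = 0 := by
  induction C using WellFoundedLT.induction with
  | ind C IH =>
  intro Y _ ι _ hι M k n hk a
  obtain ⟨i₀, rfl⟩ : ∃ i₀, k = i₀ + 1 := ⟨k - 1, by ring⟩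
  rcases isEmpty_or_nonempty Y.scheme with he | hne
  · exact eq_zero_of_isEmpty T.toPreTheory Y M _ n a
  obtain ⟨y, hy⟩ := exists_pdim_eq_dim Y
  obtain ⟨C₁, hC₁, -, hyC₁, hcov⟩ := exists_closed_complement Y isClosed_univ (x := y)
    (fun z _ => by rw [hy]; exact pdim_le_dim Y z)
  let N : Y.scheme.Opens := ⟨C₁ᶜ, hC₁.isOpen_compl⟩
  have hN : ∀ z, z ∈ N → z ∈ closure ({y} : Set Y.scheme) :=
    fun z hz => (hcov (Set.mem_univ z)).resolve_left hz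
  let W₀ : (Y.ptSub y).scheme.Opens := (Y.ptSubι y) ⁻¹ᵁ N
  have hW₀ : (W₀ : Set (Y.ptSub y).scheme).Nonempty := ⟨ptGen Y y, by
    show Y.ptSubι y (ptGen Y y) ∈ N
    rw [ptSubι_ptGen]; exact hyC₁⟩
  have hrange : Set.range (W₀.ι ≫ Y.ptSubι y) = (N : Set Y.scheme) := by
    ext z; constructor
    · rintro ⟨w, rfl⟩
      rw [Scheme.Hom.comp_apply]
      exact w.2
    · intro hz
      obtain ⟨p, hp⟩ : z ∈ Set.range (Y.ptSubι y) := by rw [range_ptSubι]; exact hN z hz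
      refine ⟨⟨p, ?_⟩, ?_⟩
      · show Y.ptSubι y p ∈ N
        rw [hp]; exact hz
      · rw [Scheme.Hom.comp_apply]; exact hp
  haveI : IsOpenImmersion (W₀.ι ≫ Y.ptSubι y) :=
    isOpenImmersion_of_isOpen_range _ (by rw [hrange]; exact N.isOpen)
  have hdim₀ : WeilCoh.dim ((Y.ptSub y).res W₀).scheme = WeilCoh.dim Y.scheme := by
    show WeilCoh.dim (W₀ : Scheme.{u}) = _
    rw [dim_open_ptSub Y y W₀ hW₀, hy]
  let g₀ : (Y.ptSub y).res W₀ ⟶ Y := ⟨W₀.ι ≫ Y.ptSubι y, inferInstance, hdim₀⟩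
  let W₀i : ptIdx Y y := ptIdxMk Y y W₀ hW₀
  have hz : ((T.toPreTheory.ptι Y y (i₀ + 1) n W₀i).app M).hom
      ((T.pull g₀ M (i₀ + 1) n).hom a) =
      ((T.toPreTheory.ptι Y y (i₀ + 1) n W₀i).app M).hom 0 :=
    (ModuleCat.subsingleton_of_isZero (T.pt_vanish Y y M (i₀ + 1) n hk)).elim _ _
  obtain ⟨W₁, h₁, h₁', hres⟩ := (ι_eq_iff T.toPreTheory (Y.ptSub y) _ (i₀ + 1) n M _ _).mp hz
  have hres2 : (T.pull ((idxDiag (Y.ptSub y) _).map (homOfLE h₁)) M (i₀ + 1) n).hom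
      ((T.pull g₀ M (i₀ + 1) n).hom a) = 0 := hres.trans (map_zero _)
  let g₁ : (Y.ptSub y).res W₁.1 ⟶ Y := (idxDiag (Y.ptSub y) _).map (homOfLE h₁) ≫ g₀
  have hg₁ : (T.pull g₁ M (i₀ + 1) n).hom a = 0 :=
    (pull_comp T.toPreTheory ((idxDiag (Y.ptSub y) _).map (homOfLE h₁)) g₀ M (i₀ + 1) n a).trans
      hres2
  let D := decompOf g₁
  haveI : IsReduced D.Z.scheme := isReduced_decompOf g₁
  have hi : i₀ + 1 = (i₀ + 1 - 2 * D.codim) + 2 * relCodim D.Z.scheme Y.scheme := by ring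
  have hn : n = (n - D.codim) + relCodim D.Z.scheme Y.scheme := by ring
  obtain ⟨b, rfl⟩ := (T.exact_push_pull D M i₀ n _ _ hi hn a).mp hg₁
  have hc : 0 ≤ D.codim := by
    show 0 ≤ relCodim D.Z.scheme Y.scheme
    have := dim_le_of_isPreimmersion D.i (finiteDim Y)
    unfold relCodim; omega
  let C' : Closeds X₀.scheme :=
    ⟨Set.range (D.i ≫ ι), (D.i ≫ ι).isClosedEmbedding.isClosed_range⟩
  have hlt : C' < C := by
    refine SetLike.lt_iff_le_and_exists.mpr ⟨?_, ?_⟩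
    · rintro _ ⟨z, rfl⟩
      show (D.i ≫ ι) z ∈ (C : Set X₀.scheme)
      rw [← hι, Scheme.Hom.comp_apply]
      exact ⟨_, rfl⟩
    · obtain ⟨w, hw⟩ := W₁.2.1
      refine ⟨ι (g₁.hom ⟨w, hw⟩), ?_, ?_⟩
      · show ι (g₁.hom ⟨w, hw⟩) ∈ (C : Set X₀.scheme)
        rw [← hι]; exact ⟨_, rfl⟩
      · rintro ⟨z, hz⟩
        rw [Scheme.Hom.comp_apply] at hz
        have hzz : D.i z = g₁.hom ⟨w, hw⟩ := ι.isClosedEmbedding.injective hz
        have hmem : g₁.hom ⟨w, hw⟩ ∈ Set.range D.j.hom := ⟨_, rfl⟩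
        rw [D.range_eq] at hmem
        exact hmem ⟨z, hzz⟩
  have hb : b = 0 := IH C' hlt D.Z (D.i ≫ ι) rfl M _ _ (by omega) b
  rw [hb, map_zero]

theorem neg_vanish (T : TheoryOn V R A) (Y : Obj V) [IsReduced Y.scheme] (M : A.Cat) (k n : ℤ)
    (hk : k < 0) : IsZero (T.gp Y M k n) := by
  rw [ModuleCat.isZero_iff_subsingleton]
  have := neg_vanish_aux T Y ⊤ Y (𝟙 _) (by ext z; simp) M k n hk
  exact ⟨fun a b => (this a).trans (this b).symm⟩

end Groth.Agent.H79.BMNeg
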