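import Groth.Agent.H79.BMNeg

set_option autoImplicit false
universe u
open AlgebraicGeometry CategoryTheory CategoryTheory.Limits Opposite TopologicalSpace Topology BMCoh

namespace Groth.Agent.H79.BMPiece

open Groth.Agent.H79.BMDim Groth.Agent.H79.BMGeom Groth.Agent.H79.BMCore

variable {V : ObjectProperty Scheme.{u}} [IsConstructible V] {R : Type u} [CommRing R]
  {A : Coefs R}

section Geo

variable {X Z : Obj V} (ι : Z.scheme ⟶ X.scheme) [IsClosedImmersion ι]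

noncomputable def Uof (W : Z.scheme.Opens) : X.scheme.Opens :=
  ⟨(ι '' (W : Set Z.scheme)ᶜ)ᶜ,
    (ι.isClosedEmbedding.isClosedMap _ W.isOpen.isClosed_compl).isOpen_compl⟩

theorem mem_Uof (W : Z.scheme.Opens) (y : X.scheme) :
    y ∈ Uof ι W ↔ ∀ z, ι z = y → z ∈ W := by
  show y ∈ (ι '' (W : Set Z.scheme)ᶜ)ᶜ ↔ _
  constructor
  · intro h z hz
    by_contra hzW
    exact h ⟨z, hzW, hz⟩
  · rintro h ⟨z, hzW, hz⟩
    exact hzW (h z hz)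

theorem mem_Uof_of_not_mem_range (W : Z.scheme.Opens) {y : X.scheme} (hy : y ∉ Set.range ι) :
    y ∈ Uof ι W :=
  (mem_Uof ι W y).mpr fun z hz => (hy ⟨z, hz⟩).elim

theorem preimage_Uof_le (W : Z.scheme.Opens) : ι ⁻¹ᵁ (Uof ι W) ≤ W := by
  intro z hz
  exact (mem_Uof ι W (ι z)).mp hz z rfl

theorem le_preimage_Uof (W : Z.scheme.Opens) : W ≤ ι ⁻¹ᵁ (Uof ι W) := by
  intro z hz
  refine (mem_Uof ι W (ι z)).mpr fun z' hz' => ?_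
  have : z' = z := ι.isClosedEmbedding.injective hz'
  rw [this]; exact hz

theorem range_restrict (Y : X.scheme.Opens) :
    Set.range (ι ∣_ Y) = {y : ↥Y | y.1 ∈ Set.range ι} := by
  ext y
  constructor
  · rintro ⟨z, rfl⟩
    exact ⟨z.1, (morphismRestrict_base_coe ι Y z).symm⟩
  · rintro ⟨z, hz⟩
    refine ⟨⟨z, ?_⟩, Subtype.ext ?_⟩
    · show ι z ∈ Y
      rw [hz]; exact y.2
    · rw [morphismRestrict_base_coe]; exact hz

theorem range_homOfLE {Y U₀ : X.scheme.Opens} (hle : U₀ ≤ Y) :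
    Set.range (X.scheme.homOfLE hle) = {y : ↥Y | y.1 ∈ U₀} := by
  ext y
  constructor
  · rintro ⟨z, rfl⟩
    show ((X.scheme.homOfLE hle) z).1 ∈ U₀
    rw [Scheme.homOfLE_apply]; exact z.2
  · intro hy
    exact ⟨⟨y.1, hy⟩, Subtype.ext (Scheme.homOfLE_apply hle _)⟩

noncomputable def gDecomp (Y U₀ : X.scheme.Opens) (hle : U₀ ≤ Y)
    (hd : WeilCoh.dim (U₀ : Scheme.{u}) = WeilCoh.dim (Y : Scheme.{u}))
    (hcompl : ∀ y : X.scheme, y ∈ Y → (y ∈ U₀ ↔ y ∉ Set.range ι)) : Decomp (X.res Y) where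
  Z := Z.res (ι ⁻¹ᵁ Y)
  U := X.res U₀
  i := ι ∣_ Y
  closedImm := inferInstance
  j := X.resLE hle hd
  range_eq := by
    show Set.range (X.scheme.homOfLE hle) = (Set.range (ι ∣_ Y))ᶜ
    rw [range_homOfLE, range_restrict]
    ext y
    exact hcompl y.1 y.2

theorem isPullback_restrict {Y Y₂ : X.scheme.Opens} (hY : Y₂ ≤ Y) :
    IsPullback (Z.scheme.homOfLE (show ι ⁻¹ᵁ Y₂ ≤ ι ⁻¹ᵁ Y from fun _ hz => hY hz)) (ι ∣_ Y₂)
      (ι ∣_ Y) (X.scheme.homOfLE hY) := by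
  have hcomm : Z.scheme.homOfLE (show ι ⁻¹ᵁ Y₂ ≤ ι ⁻¹ᵁ Y from fun _ hz => hY hz) ≫ ι ∣_ Y =
      ι ∣_ Y₂ ≫ X.scheme.homOfLE hY := by
    rw [← cancel_mono Y.ι]
    simp only [Category.assoc, morphismRestrict_ι, Scheme.homOfLE_ι, Scheme.homOfLE_ι_assoc]
  refine IsPullback.of_right ?_ hcomm (isPullback_morphismRestrict ι Y).flip
  have h1 : Z.scheme.homOfLE (show ι ⁻¹ᵁ Y₂ ≤ ι ⁻¹ᵁ Y from fun _ hz => hY hz) ≫ (ι ⁻¹ᵁ Y).ι =
      (ι ⁻¹ᵁ Y₂).ι := Scheme.homOfLE_ι _ _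
  have h2 : X.scheme.homOfLE hY ≫ Y.ι = Y₂.ι := Scheme.homOfLE_ι _ _
  rw [h1, h2]
  exact (isPullback_morphismRestrict ι Y₂).flip

end Geo

section Theory

variable (T : PreTheory V R A) {X Z : Obj V} (ι : Z.scheme ⟶ X.scheme) [IsClosedImmersion ι]

theorem push_pull_piece {Y Y₂ : X.scheme.Opens} (hY : Y₂ ≤ Y)
    (hdY : WeilCoh.dim (Y₂ : Scheme.{u}) = WeilCoh.dim (Y : Scheme.{u}))
    (hdZ : WeilCoh.dim ((ι ⁻¹ᵁ Y₂ : Z.scheme.Opens) : Scheme.{u}) =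
      WeilCoh.dim ((ι ⁻¹ᵁ Y : Z.scheme.Opens) : Scheme.{u}))
    (M : A.Cat) (i n i' n' : ℤ)
    (hi : i' = i + 2 * relCodim (Z.res (ι ⁻¹ᵁ Y)).scheme (X.res Y).scheme)
    (hn : n' = n + relCodim (Z.res (ι ⁻¹ᵁ Y)).scheme (X.res Y).scheme)
    (hi' : i' = i + 2 * relCodim (Z.res (ι ⁻¹ᵁ Y₂)).scheme (X.res Y₂).scheme)
    (hn' : n' = n + relCodim (Z.res (ι ⁻¹ᵁ Y₂)).scheme (X.res Y₂).scheme)
    (b : T.gp (Z.res (ι ⁻¹ᵁ Y)) M i n) :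
    (T.pull (X.resLE hY hdY) M i' n').hom
      ((T.push (X := Z.res (ι ⁻¹ᵁ Y)) (Y := X.res Y) (ι ∣_ Y) M i n i' n' hi hn).hom b) =
    (T.push (X := Z.res (ι ⁻¹ᵁ Y₂)) (Y := X.res Y₂) (ι ∣_ Y₂) M i n i' n' hi' hn').hom
      ((T.pull (Z.resLE (show ι ⁻¹ᵁ Y₂ ≤ ι ⁻¹ᵁ Y from fun _ hz => hY hz) hdZ) M i n).hom b) := by
  have := T.push_pull (X := Z.res (ι ⁻¹ᵁ Y)) (Y := X.res Y) (X' := Z.res (ι ⁻¹ᵁ Y₂))
    (Y' := X.res Y₂) (ι ∣_ Y) (ι ∣_ Y₂) (X.resLE hY hdY)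
    (Z.resLE (show ι ⁻¹ᵁ Y₂ ≤ ι ⁻¹ᵁ Y from fun _ hz => hY hz) hdZ)
    (isPullback_restrict ι hY) M i n i' n' hi hn hi' hn'
  exact congrArg (fun φ => φ.hom b) this

theorem res_pull_piece {Y Y₂ U₀ U₀₂ : X.scheme.Opens} (hle : U₀ ≤ Y) (hle₂ : U₀₂ ≤ Y₂)
    (hd : WeilCoh.dim (U₀ : Scheme.{u}) = WeilCoh.dim (Y : Scheme.{u}))
    (hd₂ : WeilCoh.dim (U₀₂ : Scheme.{u}) = WeilCoh.dim (Y₂ : Scheme.{u}))
    (hcompl : ∀ y : X.scheme, y ∈ Y → (y ∈ U₀ ↔ y ∉ Set.range ι))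
    (hcompl₂ : ∀ y : X.scheme, y ∈ Y₂ → (y ∈ U₀₂ ↔ y ∉ Set.range ι))
    (hY : Y₂ ≤ Y) (hU : U₀₂ ≤ U₀)
    (hdY : WeilCoh.dim (Y₂ : Scheme.{u}) = WeilCoh.dim (Y : Scheme.{u}))
    (hdU : WeilCoh.dim (U₀₂ : Scheme.{u}) = WeilCoh.dim (U₀ : Scheme.{u}))
    (hdZ : WeilCoh.dim ((ι ⁻¹ᵁ Y₂ : Z.scheme.Opens) : Scheme.{u}) =
      WeilCoh.dim ((ι ⁻¹ᵁ Y : Z.scheme.Opens) : Scheme.{u}))
    (M : A.Cat) (i n i' n' : ℤ)
    (hi : i' = i + 1 - 2 * (gDecomp ι Y U₀ hle hd hcompl).codim)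
    (hn : n' = n - (gDecomp ι Y U₀ hle hd hcompl).codim)
    (hi₂ : i' = i + 1 - 2 * (gDecomp ι Y₂ U₀₂ hle₂ hd₂ hcompl₂).codim)
    (hn₂ : n' = n - (gDecomp ι Y₂ U₀₂ hle₂ hd₂ hcompl₂).codim)
    (a : T.gp (X.res U₀) M i n) :
    (T.pull (Z.resLE (show ι ⁻¹ᵁ Y₂ ≤ ι ⁻¹ᵁ Y from fun _ hz => hY hz) hdZ) M i' n').hom
      ((T.res (gDecomp ι Y U₀ hle hd hcompl) M i n i' n' hi hn).hom a) =
    (T.res (gDecomp ι Y₂ U₀₂ hle₂ hd₂ hcompl₂) M i n i' n' hi₂ hn₂).hom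
      ((T.pull (X.resLE hU hdU) M i n).hom a) := by
  have := T.res_pull (gDecomp ι Y U₀ hle hd hcompl) (gDecomp ι Y₂ U₀₂ hle₂ hd₂ hcompl₂)
    (X.resLE hY hdY)
    (Z.resLE (show ι ⁻¹ᵁ Y₂ ≤ ι ⁻¹ᵁ Y from fun _ hz => hY hz) hdZ)
    (X.resLE hU hdU) (isPullback_restrict ι hY).w
    (Hom.ext (by
      show X.scheme.homOfLE hU ≫ X.scheme.homOfLE hle = X.scheme.homOfLE hle₂ ≫ X.scheme.homOfLE hY
      rw [Scheme.homOfLE_homOfLE, Scheme.homOfLE_homOfLE]))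
    M i n i' n' hi hn hi₂ hn₂
  exact congrArg (fun φ => φ.hom a) this

end Theory

section Codim

theorem pdim_add_codim (X : Obj V) (x : X.scheme) :
    WeilCoh.pdim X.scheme x + WeilCoh.codim X.scheme x = WeilCoh.dim X.scheme := by
  have := pdim_le_dim X x
  unfold WeilCoh.codim; omega

theorem gDecomp_codim_ptSub (X : Obj V) (x : X.scheme) (Y U₀ : X.scheme.Opens) (hle : U₀ ≤ Y)
    (hd : WeilCoh.dim (U₀ : Scheme.{u}) = WeilCoh.dim (Y : Scheme.{u}))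
    (hcompl : ∀ y : X.scheme, y ∈ Y → (y ∈ U₀ ↔ y ∉ Set.range (X.ptSubι x)))
    (hdY : WeilCoh.dim (Y : Scheme.{u}) = WeilCoh.dim X.scheme) (hx : x ∈ Y) :
    (gDecomp (X.ptSubι x) Y U₀ hle hd hcompl).codim = (WeilCoh.codim X.scheme x : ℤ) := by
  have hW : (((X.ptSubι x) ⁻¹ᵁ Y : (X.ptSub x).scheme.Opens) : Set _).Nonempty :=
    ⟨ptGen X x, by
      show X.ptSubι x (ptGen X x) ∈ Y
      rw [ptSubι_ptGen]; exact hx⟩
  have h1 := dim_open_ptSub X x _ hW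
  have h2 := pdim_add_codim X x
  show relCodim (((X.ptSubι x) ⁻¹ᵁ Y : (X.ptSub x).scheme.Opens) : Scheme.{u}) (Y : Scheme.{u}) = _
  unfold relCodim
  rw [h1, hdY]
  omega

theorem exists_piece (X : Obj V) (j : ℕ) (x : X.scheme) (hx : WeilCoh.codim X.scheme x = j + 1)
    (U : X.scheme.Opens) (hU : ContainsFj X j U) :
    ∃ (Y U₀ : X.scheme.Opens), U₀ ≤ U ∧ U₀ ≤ Y ∧ x ∈ Y ∧ ContainsFj X j U₀ ∧
      (∀ y : X.scheme, y ∈ Y → (y ∈ U₀ ↔ y ∉ closure ({x} : Set X.scheme))) ∧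
      (x ∉ U → U₀ = U) := by
  have hcl : ∀ y : X.scheme, y ∈ closure ({x} : Set X.scheme) → j + 1 ≤ WeilCoh.codim X.scheme y := by
    intro y hy
    have h1 := pdim_le_of_mem_closure X hy
    have h2 := pdim_add_codim X x
    have h3 := pdim_add_codim X y
    omega
  by_cases hxU : x ∈ U
  · refine ⟨U, U ⊓ ⟨(closure ({x} : Set X.scheme))ᶜ, isClosed_closure.isOpen_compl⟩,
      inf_le_left, inf_le_left, hxU, ?_, ?_, fun h => (h hxU).elim⟩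
    · intro y hy
      refine ⟨hU y hy, fun hyc => ?_⟩
      have := hcl y hyc
      omega
    · intro y hy
      exact ⟨fun h => h.2, fun h => ⟨hy, h⟩⟩
  · have hmax : ∀ y ∈ ((U : Set X.scheme)ᶜ), WeilCoh.pdim X.scheme y ≤ WeilCoh.pdim X.scheme x := by
      intro y hy
      have hcy : j + 1 ≤ WeilCoh.codim X.scheme y := by
        by_contra hlt
        exact hy (hU y (by omega))
      have h2 := pdim_add_codim X x
      have h3 := pdim_add_codim X y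
      omega
    obtain ⟨C₁, hC₁, hC₁sub, hxC₁, hcov⟩ :=
      exists_closed_complement X U.isOpen.isClosed_compl hmax
    refine ⟨⟨C₁ᶜ, hC₁.isOpen_compl⟩, U, le_rfl, ?_, hxC₁, hU, ?_, fun _ => rfl⟩
    · intro y hy hyC₁
      exact hC₁sub hyC₁ hy
    · intro y hy
      constructor
      · intro hyU hyc
        have hsp : x ⤳ y := specializes_iff_mem_closure.mpr hyc
        exact hxU (hsp.mem_open U.isOpen hyU)
      · intro hyc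
        by_contra hyU
        rcases hcov hyU with h | h
        · exact hy h
        · exact hyc h

end Codim

end Groth.Agent.H79.BMPiece
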