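import Groth.Agent.H79.BMZero2
import Groth.Prelude.Def_BMCoh4

set_option autoImplicit false
universe u
open AlgebraicGeometry CategoryTheory CategoryTheory.Limits Opposite TopologicalSpace Topology BMCoh

namespace Groth.Agent.H79.BMPtPush

open Groth.Agent.H79.BMDim Groth.Agent.H79.BMGeom Groth.Agent.H79.BMCore Groth.Agent.H79.BMPiece
  Groth.Agent.H79.BMStep

section Top

variable {A B : Type u} [TopologicalSpace A] [TopologicalSpace B]

theorem natDim_closure_le_of_isClosedMap [QuasiSober B] (hA : topologicalKrullDim A < ⊤)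
    (hB : topologicalKrullDim B < ⊤) {f : A → B} (hf : Continuous f) (hc : IsClosedMap f) :
    ∀ (r : ℕ) (a : A), r ≤ WeilCoh.natDim ↥(closure ({f a} : Set B)) →
      r ≤ WeilCoh.natDim ↥(closure ({a} : Set A)) := by
  intro r
  induction r with
  | zero => intro a _; exact Nat.zero_le _
  | succ r IH =>
    intro a ha
    obtain ⟨m', hm'⟩ : ∃ m', WeilCoh.natDim ↥(closure ({f a} : Set B)) = m' + 1 :=
      ⟨WeilCoh.natDim ↥(closure ({f a} : Set B)) - 1, by omega⟩
    obtain ⟨b', hb'cl, hb'⟩ := BMClosed.exists_natDim_closure_pred hB hm'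
    have himg : closure ({f a} : Set B) = f '' closure ({a} : Set A) := by
      rw [← hc.closure_image_eq_of_continuous hf, Set.image_singleton]
    rw [himg] at hb'cl
    obtain ⟨a', ha'cl, rfl⟩ := hb'cl
    have h1 : r ≤ WeilCoh.natDim ↥(closure ({a'} : Set A)) := IH a' (by omega)
    have hna : a ∉ closure ({a'} : Set A) := by
      intro h
      have himg' : closure ({f a'} : Set B) = f '' closure ({a'} : Set A) := by
        rw [← hc.closure_image_eq_of_continuous hf, Set.image_singleton]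
      have h2 : f a ∈ closure ({f a'} : Set B) := by rw [himg']; exact ⟨a, h, rfl⟩
      have h3 : closure ({f a} : Set B) ⊆ closure ({f a'} : Set B) :=
        closure_minimal (Set.singleton_subset_iff.mpr h2) isClosed_closure
      have := natDim_subtype_mono hB h3
      omega
    have := natDim_closure_lt hA ha'cl hna
    omega

end Top

section Schemes

theorem vanishingIdeal_le_ker {W Y : Scheme.{u}} [IsReduced W] (g : W ⟶ Y) (C : Closeds Y)
    (h : Set.range g ⊆ (C : Set Y)) : Scheme.IdealSheafData.vanishingIdeal C ≤ g.ker := by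
  have h1 : g.ker = Scheme.IdealSheafData.vanishingIdeal
      (.closure (g '' ((⊤ : Closeds W) : Set W))) := by
    rw [← Scheme.IdealSheafData.map_vanishingIdeal, Scheme.IdealSheafData.vanishingIdeal_top,
      Scheme.nilradical_eq_bot, Scheme.IdealSheafData.map_bot]
  rw [h1]
  apply Scheme.IdealSheafData.vanishingIdeal_antimono
  rw [Closeds.closure_le]
  rintro _ ⟨w, -, rfl⟩
  exact h ⟨w, rfl⟩

end Schemes

variable {V : ObjectProperty Scheme.{u}} [IsConstructible V] {R : Type u} [CommRing R]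
  {A : Coefs R}

section Geo

theorem pdim_le_of_isProper {Y X : Obj V} (φ : Y.scheme ⟶ X.scheme) [IsProper φ] (z : Y.scheme) :
    WeilCoh.pdim X.scheme (φ z) ≤ WeilCoh.pdim Y.scheme z :=
  natDim_closure_le_of_isClosedMap (finiteDim Y) (finiteDim X) φ.continuous φ.isClosedMap _ z
    le_rfl

theorem exists_psi (Y X : Obj V) (φ : Y.scheme ⟶ X.scheme) (y : Y.scheme) (x : X.scheme)
    (hyx : φ y = x) :
    ∃ ψ : (Y.ptSub y).scheme ⟶ (X.ptSub x).scheme, ψ ≫ X.ptSubι x = Y.ptSubι y ≫ φ := by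
  have hrange : Set.range (Y.ptSubι y ≫ φ) ⊆
      ((⟨closure ({x} : Set X.scheme), isClosed_closure⟩ : Closeds X.scheme) : Set X.scheme) := by
    rintro _ ⟨z, rfl⟩
    have hz : Y.ptSubι y z ∈ closure ({y} : Set Y.scheme) := by
      rw [← range_ptSubι]; exact ⟨z, rfl⟩
    have h1 : φ (Y.ptSubι y z) ∈ closure ((φ : Y.scheme → X.scheme) '' {y}) :=
      image_closure_subset_closure_image φ.continuous ⟨_, hz, rfl⟩
    rw [Set.image_singleton, hyx] at h1
    show (Y.ptSubι y ≫ φ) z ∈ closure ({x} : Set X.scheme)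
    rw [Scheme.Hom.comp_apply]
    exact h1
  have hker : (X.ptSubι x).ker ≤ (Y.ptSubι y ≫ φ).ker := by
    rw [show (X.ptSubι x).ker = Scheme.IdealSheafData.vanishingIdeal
      ⟨closure ({x} : Set X.scheme), isClosed_closure⟩ from
      Scheme.IdealSheafData.ker_subschemeι _]
    exact vanishingIdeal_le_ker _ _ hrange
  exact ⟨IsClosedImmersion.lift (X.ptSubι x) (Y.ptSubι y ≫ φ) hker,
    IsClosedImmersion.lift_fac _ _ _⟩

theorem exists_proper_piece (Y X : Obj V) (φ : Y.scheme ⟶ X.scheme) [IsProper φ] (y : Y.scheme)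
    (x : X.scheme) (hyx : φ y = x)
    (hdim : WeilCoh.dim (Y.ptSub y).scheme = WeilCoh.dim (X.ptSub x).scheme) (W : ptIdx Y y) :
    ∃ (W₀ : ptIdx Y y) (_ : W₀ ≤ W) (W'₀ : ptIdx X x)
      (f : ((Y.ptSub y).res W₀.1).scheme ⟶ ((X.ptSub x).res W'₀.1).scheme) (_ : IsProper f),
      f ≫ W'₀.1.ι ≫ X.ptSubι x = W₀.1.ι ≫ Y.ptSubι y ≫ φ := by
  obtain ⟨ψ, hψ⟩ := exists_psi Y X φ y x hyx
  haveI : IsProper (ψ ≫ X.ptSubι x) := by rw [hψ]; infer_instance
  haveI : IsProper ψ := IsProper.of_comp ψ (X.ptSubι x)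
  have hpt : ∀ z, X.ptSubι x (ψ z) = φ (Y.ptSubι y z) := fun z => by
    have := congrArg (fun h : (Y.ptSub y).scheme ⟶ X.scheme => h z) hψ
    simpa only [Scheme.Hom.comp_apply] using this
  have hclosed : IsClosed ((ψ : (Y.ptSub y).scheme → (X.ptSub x).scheme) ''
      ((W.1 : Set (Y.ptSub y).scheme)ᶜ)) :=
    ψ.isClosedMap _ W.1.isOpen.isClosed_compl
  have hgx : ptGen X x ∉ (ψ : (Y.ptSub y).scheme → (X.ptSub x).scheme) ''
      ((W.1 : Set (Y.ptSub y).scheme)ᶜ) := by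
    rintro ⟨z, hzW, hz⟩
    have hφz : φ (Y.ptSubι y z) = x := by rw [← hpt, hz, ptSubι_ptGen]
    have hzcl : Y.ptSubι y z ∈ closure ({y} : Set Y.scheme) := by
      rw [← range_ptSubι]; exact ⟨z, rfl⟩
    have hyz : y ∉ closure ({Y.ptSubι y z} : Set Y.scheme) := by
      intro h
      have h1 : y ⤳ Y.ptSubι y z := specializes_iff_mem_closure.mpr hzcl
      have h2 : Y.ptSubι y z ⤳ y := specializes_iff_mem_closure.mpr h
      have heq : Y.ptSubι y z = y := (h2.antisymm h1).eq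
      exact hzW (mem_of_ptSubι_eq Y y W.1 W.2.1 z heq)
    have hlt := pdim_lt_of_mem_closure Y hzcl hyz
    have hle := pdim_le_of_isProper φ (Y.ptSubι y z)
    rw [hφz] at hle
    have h1 := dim_ptSub Y y
    have h2 := dim_ptSub X x
    omega
  have hψgen : ψ (ptGen Y y) = ptGen X x := by
    apply (X.ptSubι x).isClosedEmbedding.injective
    rw [hpt, ptSubι_ptGen, ptSubι_ptGen, hyx]
  have hW'ne : (((⟨((ψ : (Y.ptSub y).scheme → (X.ptSub x).scheme) ''
      ((W.1 : Set (Y.ptSub y).scheme)ᶜ))ᶜ, hclosed.isOpen_compl⟩ :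
      (X.ptSub x).scheme.Opens)) : Set (X.ptSub x).scheme).Nonempty := ⟨ptGen X x, hgx⟩
  generalize hW'def : (⟨((ψ : (Y.ptSub y).scheme → (X.ptSub x).scheme) ''
      ((W.1 : Set (Y.ptSub y).scheme)ᶜ))ᶜ, hclosed.isOpen_compl⟩ :
      (X.ptSub x).scheme.Opens) = W' at hW'ne
  have hW'mem : ∀ t : (X.ptSub x).scheme, t ∈ W' ↔
      t ∉ (ψ : (Y.ptSub y).scheme → (X.ptSub x).scheme) '' ((W.1 : Set (Y.ptSub y).scheme)ᶜ) := by
    intro t; rw [← hW'def]; exact Iff.rfl
  have hW₀ne : ((ψ ⁻¹ᵁ W' : (Y.ptSub y).scheme.Opens) : Set (Y.ptSub y).scheme).Nonempty :=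
    ⟨ptGen Y y, by
      show ψ (ptGen Y y) ∈ W'
      rw [hψgen, hW'mem]; exact hgx⟩
  have hW₀le : ψ ⁻¹ᵁ W' ≤ W.1 := by
    intro z hz
    by_contra hzW
    exact (hW'mem _).mp hz ⟨z, hzW, rfl⟩
  refine ⟨ptIdxMk Y y _ hW₀ne, hW₀le, ptIdxMk X x W' hW'ne, ψ ∣_ W',
    (inferInstance : IsProper (ψ ∣_ W')), ?_⟩
  show (ψ ∣_ W') ≫ Scheme.Opens.ι W' ≫ X.ptSubι x = (ψ ⁻¹ᵁ W').ι ≫ Y.ptSubι y ≫ φ
  rw [← Category.assoc, morphismRestrict_ι, Category.assoc, hψ]

end Geo

section Main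

theorem ptPush_cpt_eq (T : PreTheory V R A) (Y X : Obj V) (φ : Y.scheme ⟶ X.scheme) [IsProper φ]
    (y : Y.scheme) (x : X.scheme) (L L' : T.PtPush φ y x) (M : A.Cat) (i n : ℤ)
    (β : T.ptGp Y y M i n) : (L.cpt M i n).hom β = (L'.cpt M i n).hom β := by
  obtain ⟨W, b, rfl⟩ := exists_rep T (Y.ptSub y) _ i n M β
  have hdim : WeilCoh.dim (Y.ptSub y).scheme = WeilCoh.dim (X.ptSub x).scheme := by
    have := L.codim_eq
    unfold relCodim at this
    omega
  have hyx : φ y = x := L.maps_pt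
  obtain ⟨W₀, hle, W'₀, f, hf, hcomm⟩ := exists_proper_piece Y X φ y x hyx hdim W
  have := hf
  have hrc : relCodim ((Y.ptSub y).res W₀.1).scheme ((X.ptSub x).res W'₀.1).scheme = 0 := by
    show relCodim ((W₀.1 : (Y.ptSub y).scheme.Opens) : Scheme.{u})
      ((W'₀.1 : (X.ptSub x).scheme.Opens) : Scheme.{u}) = 0
    unfold relCodim
    rw [W₀.2.2, W'₀.2.2, hdim]; ring
  have hi' : i = i + 2 * relCodim ((Y.ptSub y).res W₀.1).scheme
      ((X.ptSub x).res W'₀.1).scheme := by rw [hrc]; ring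
  have hn' : n = n + relCodim ((Y.ptSub y).res W₀.1).scheme
      ((X.ptSub x).res W'₀.1).scheme := by rw [hrc]; ring
  have e := ι_pull T (Y.ptSub y) _ i n M (U := W) (U' := W₀) hle b
  rw [← e]
  have s := L.cpt_spec M i n W₀ W'₀ f hcomm hi' hn'
  have s' := L'.cpt_spec M i n W₀ W'₀ f hcomm hi' hn'
  have hs := congrArg (fun g => g.hom ((T.pull ((idxDiag (Y.ptSub y)
    (fun U => (U : Set (Y.ptSub y).scheme).Nonempty)).map (homOfLE hle)) M i n).hom b)) s
  have hs' := congrArg (fun g => g.hom ((T.pull ((idxDiag (Y.ptSub y)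
    (fun U => (U : Set (Y.ptSub y).scheme).Nonempty)).map (homOfLE hle)) M i n).hom b)) s'
  exact hs.trans hs'.symm

theorem subsingleton_ptPush (T : PreTheory V R A) (Y X : Obj V) (φ : Y.scheme ⟶ X.scheme)
    [IsProper φ] (y : Y.scheme) (x : X.scheme) : Subsingleton (T.PtPush φ y x) := by
  refine ⟨fun L L' => ?_⟩
  have h : L.cpt = L'.cpt := by
    funext M i n
    apply ModuleCat.hom_ext
    apply LinearMap.ext
    intro β
    exact ptPush_cpt_eq T Y X φ y x L L' M i n β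
  obtain ⟨m1, c1, cpt1, s1⟩ := L
  obtain ⟨m2, c2, cpt2, s2⟩ := L'
  have h' : cpt1 = cpt2 := h
  subst h'
  rfl

end Main

end Groth.Agent.H79.BMPtPush
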