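import Groth.Agent.H79.BMPiece

set_option autoImplicit false
universe u
open AlgebraicGeometry CategoryTheory CategoryTheory.Limits Opposite TopologicalSpace Topology BMCoh

namespace Groth.Agent.H79.BMStep

open Groth.Agent.H79.BMDim Groth.Agent.H79.BMGeom Groth.Agent.H79.BMCore Groth.Agent.H79.BMPiece

variable {V : ObjectProperty Scheme.{u}} [IsConstructible V] {R : Type u} [CommRing R]
  {A : Coefs R}

theorem ocolimMap_ι (T : PreTheory V R A) (X : Obj V) {P Q : X.scheme.Opens → Prop}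
    (h : ∀ U, P U → Q U) (i n : ℤ) (M : A.Cat) (U : Idx X P) (b : T.gp (X.res U.1) M i n) :
    ((T.ocolimMap X h i n).app M).hom (((T.ocolimι X P i n U).app M).hom b) =
      ((T.ocolimι X Q i n ⟨U.1, h _ U.2.1, U.2.2⟩).app M).hom b := by
  have := colimit.ι_pre ((idxDiag X Q).op ⋙ T.H i n) (idxIncl X h).op (op U)
  exact congrArg (fun φ => (φ.app M).hom b) this

theorem pull_resLE_trans (T : PreTheory V R A) (X : Obj V) {U₁ U₂ U₃ : X.scheme.Opens}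
    (h₁ : U₁ ≤ U₂) (h₂ : U₂ ≤ U₃)
    (d₁ : WeilCoh.dim (U₁ : Scheme.{u}) = WeilCoh.dim (U₂ : Scheme.{u}))
    (d₂ : WeilCoh.dim (U₂ : Scheme.{u}) = WeilCoh.dim (U₃ : Scheme.{u}))
    (d₃ : WeilCoh.dim (U₁ : Scheme.{u}) = WeilCoh.dim (U₃ : Scheme.{u}))
    (M : A.Cat) (i n : ℤ) (a : T.gp (X.res U₃) M i n) :
    (T.pull (X.resLE h₁ d₁) M i n).hom ((T.pull (X.resLE h₂ d₂) M i n).hom a) =
      (T.pull (X.resLE (h₁.trans h₂) d₃) M i n).hom a := by
  have e : X.resLE h₁ d₁ ≫ X.resLE h₂ d₂ = X.resLE (h₁.trans h₂) d₃ :=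
    Hom.ext (Scheme.homOfLE_homOfLE X.scheme h₁ h₂)
  rw [← e, pull_comp]

theorem pull_resLE_refl (T : PreTheory V R A) (X : Obj V) (U : X.scheme.Opens)
    (d : WeilCoh.dim (U : Scheme.{u}) = WeilCoh.dim (U : Scheme.{u}))
    (M : A.Cat) (i n : ℤ) (a : T.gp (X.res U) M i n) :
    (T.pull (X.resLE (le_refl U) d) M i n).hom a = a := by
  have e : X.resLE (le_refl U) d = 𝟙 (X.res U) := Hom.ext (Scheme.homOfLE_rfl X.scheme U)
  rw [e, pull_id]

theorem mem_of_ptSubι_eq (X : Obj V) (x : X.scheme) (W : (X.ptSub x).scheme.Opens)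
    (hW : (W : Set (X.ptSub x).scheme).Nonempty) (z : (X.ptSub x).scheme)
    (hz : X.ptSubι x z = x) : z ∈ W := by
  obtain ⟨w, hw⟩ := hW
  have hwc : X.ptSubι x w ∈ closure ({x} : Set X.scheme) := by
    rw [← range_ptSubι]; exact ⟨w, rfl⟩
  have hsp : X.ptSubι x z ⤳ X.ptSubι x w := by
    rw [hz]; exact specializes_iff_mem_closure.mpr hwc
  have : z ⤳ w := (X.ptSubι x).isEmbedding.isInducing.specializes_iff.mp hsp
  exact this.mem_open W.isOpen hw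

theorem nonempty_preimage (X : Obj V) (x : X.scheme) (Y : X.scheme.Opens) (hx : x ∈ Y) :
    (((X.ptSubι x) ⁻¹ᵁ Y : (X.ptSub x).scheme.Opens) : Set (X.ptSub x).scheme).Nonempty :=
  ⟨ptGen X x, by
    show X.ptSubι x (ptGen X x) ∈ Y
    rw [ptSubι_ptGen]; exact hx⟩

theorem fjRes_surjective (T : TheoryOn V R A) (X : Obj V) (M : A.Cat) (j : ℕ) (i n : ℤ)
    (h1 : ∀ x : X.scheme, WeilCoh.codim X.scheme x = j + 1 →
      IsZero (T.ptGp X x M (i + 1 - 2 * ((j : ℤ) + 1)) (n - ((j : ℤ) + 1)))) :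
    Function.Surjective ((T.fjRes X (Nat.le_succ j) i n).app M).hom := by
  have claim : ∀ (C : Closeds X.scheme) (U' : Idx X (ContainsFj X j)),
      ((U'.1 : Set X.scheme)ᶜ = (C : Set X.scheme)) →
      ∀ a : T.gp (X.res U'.1) M i n, ∃ (U : Idx X (ContainsFj X (j + 1)))
        (ã : T.gp (X.res U.1) M i n),
        ((T.toPreTheory.ocolimι X (ContainsFj X j) i n
          ⟨U.1, containsFj_mono X (Nat.le_succ j) U.1 U.2.1, U.2.2⟩).app M).hom ã =
        ((T.toPreTheory.ocolimι X (ContainsFj X j) i n U').app M).hom a := by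
    intro C
    induction C using WellFoundedLT.induction with
    | ind C IH =>
    intro U' hC a
    by_cases hall : ContainsFj X (j + 1) U'.1
    · exact ⟨⟨U'.1, hall, U'.2.2⟩, a, rfl⟩
    · unfold ContainsFj at hall
      push Not at hall
      obtain ⟨x, hxc, hxU⟩ := hall
      have hx : WeilCoh.codim X.scheme x = j + 1 := by
        by_contra hne
        exact hxU (U'.2.1 x (by omega))
      obtain ⟨Y, U₀, -, hU₀Y, hxY, -, hcompl, hU₀eq⟩ := exists_piece X j x hx U'.1 U'.2.1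
      obtain rfl := hU₀eq hxU
      have hFY : ContainsFj X j Y := fun y hy => hU₀Y (U'.2.1 y hy)
      have hdY : WeilCoh.dim (Y : Scheme.{u}) = WeilCoh.dim X.scheme :=
        dim_eq_of_containsFj X j Y hFY
      have hcompl' : ∀ y : X.scheme, y ∈ Y → (y ∈ U'.1 ↔ y ∉ Set.range (X.ptSubι x)) := by
        rw [range_ptSubι]; exact hcompl
      have hdU' : WeilCoh.dim ((U'.1 : X.scheme.Opens) : Scheme.{u}) = WeilCoh.dim (Y : Scheme.{u}) :=
        U'.2.2.trans hdY.symm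
      have hcod : (gDecomp (X.ptSubι x) Y U'.1 hU₀Y hdU' hcompl').codim = (j : ℤ) + 1 := by
        rw [gDecomp_codim_ptSub X x Y U'.1 _ _ _ hdY hxY, hx]
        push_cast; ring
      have hiD : i + 1 - 2 * ((j : ℤ) + 1) =
          i + 1 - 2 * (gDecomp (X.ptSubι x) Y U'.1 hU₀Y hdU' hcompl').codim := by rw [hcod]
      have hnD : n - ((j : ℤ) + 1) =
          n - (gDecomp (X.ptSubι x) Y U'.1 hU₀Y hdU' hcompl').codim := by rw [hcod]
      let r := (T.res (gDecomp (X.ptSubι x) Y U'.1 hU₀Y hdU' hcompl') M i n _ _ hiD hnD).hom a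
      have hW := nonempty_preimage X x Y hxY
      let W : ptIdx X x := ptIdxMk X x _ hW
      have hz : ((T.toPreTheory.ptι X x _ _ W).app M).hom r =
          ((T.toPreTheory.ptι X x _ _ W).app M).hom 0 :=
        (ModuleCat.subsingleton_of_isZero (h1 x hx)).elim _ _
      obtain ⟨W₂, hW₂, hW₂b, hres⟩ := (ι_eq_iff T.toPreTheory (X.ptSub x) _ _ _ M _ _).mp hz
      have hd₂ : WeilCoh.dim ((W₂.1 : (X.ptSub x).scheme.Opens) : Scheme.{u}) =
          WeilCoh.dim ((W.1 : (X.ptSub x).scheme.Opens) : Scheme.{u}) :=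
        W₂.2.2.trans W.2.2.symm
      have hres0 : (T.pull ((X.ptSub x).resLE hW₂ hd₂) M _ _).hom r = 0 :=
        hres.trans (map_zero _)
      have hY₂Y : Y ⊓ Uof (X.ptSubι x) W₂.1 ≤ Y := inf_le_left
      have hU'Y₂ : U'.1 ≤ Y ⊓ Uof (X.ptSubι x) W₂.1 := fun y hy =>
        ⟨hU₀Y hy, mem_Uof_of_not_mem_range _ _ ((hcompl' y (hU₀Y hy)).mp hy)⟩
      have hxY₂ : x ∈ Y ⊓ Uof (X.ptSubι x) W₂.1 :=
        ⟨hxY, (mem_Uof _ _ _).mpr fun z hz => mem_of_ptSubι_eq X x W₂.1 W₂.2.1 z hz⟩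
      have hFY₂ : ContainsFj X j (Y ⊓ Uof (X.ptSubι x) W₂.1) := fun y hy => hU'Y₂ (U'.2.1 y hy)
      have hdY₂ : WeilCoh.dim ((Y ⊓ Uof (X.ptSubι x) W₂.1 : X.scheme.Opens) : Scheme.{u}) =
          WeilCoh.dim X.scheme := dim_eq_of_containsFj X j _ hFY₂
      have hcompl₂ : ∀ y : X.scheme, y ∈ Y ⊓ Uof (X.ptSubι x) W₂.1 →
          (y ∈ U'.1 ↔ y ∉ Set.range (X.ptSubι x)) := fun y hy => hcompl' y (hY₂Y hy)
      have hdU'₂ : WeilCoh.dim ((U'.1 : X.scheme.Opens) : Scheme.{u}) =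
          WeilCoh.dim ((Y ⊓ Uof (X.ptSubι x) W₂.1 : X.scheme.Opens) : Scheme.{u}) :=
        U'.2.2.trans hdY₂.symm
      have hcod₂ : (gDecomp (X.ptSubι x) _ U'.1 hU'Y₂ hdU'₂ hcompl₂).codim = (j : ℤ) + 1 := by
        rw [gDecomp_codim_ptSub X x _ U'.1 _ _ _ hdY₂ hxY₂, hx]
        push_cast; ring
      have hW2ne := nonempty_preimage X x _ hxY₂
      have hdZ : WeilCoh.dim (((X.ptSubι x) ⁻¹ᵁ (Y ⊓ Uof (X.ptSubι x) W₂.1) :
          (X.ptSub x).scheme.Opens) : Scheme.{u}) =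
          WeilCoh.dim (((X.ptSubι x) ⁻¹ᵁ Y : (X.ptSub x).scheme.Opens) : Scheme.{u}) :=
        (dim_open_ptSub X x _ hW2ne).trans (dim_open_ptSub X x _ hW).symm
      have hiD₂ : i + 1 - 2 * ((j : ℤ) + 1) =
          i + 1 - 2 * (gDecomp (X.ptSubι x) _ U'.1 hU'Y₂ hdU'₂ hcompl₂).codim := by rw [hcod₂]
      have hnD₂ : n - ((j : ℤ) + 1) =
          n - (gDecomp (X.ptSubι x) _ U'.1 hU'Y₂ hdU'₂ hcompl₂).codim := by rw [hcod₂]
      have hrp := res_pull_piece T.toPreTheory (X.ptSubι x) hU₀Y hU'Y₂ hdU' hdU'₂ hcompl' hcompl₂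
        hY₂Y (le_refl U'.1) (hdY₂.trans hdY.symm) rfl hdZ M i n _ _ hiD hnD hiD₂ hnD₂ a
      rw [pull_resLE_refl] at hrp
      have hle₂ : (X.ptSubι x) ⁻¹ᵁ (Y ⊓ Uof (X.ptSubι x) W₂.1) ≤ W₂.1 :=
        fun z hz => preimage_Uof_le _ _ hz.2
      have hd₁ : WeilCoh.dim (((X.ptSubι x) ⁻¹ᵁ (Y ⊓ Uof (X.ptSubι x) W₂.1) :
          (X.ptSub x).scheme.Opens) : Scheme.{u}) =
          WeilCoh.dim ((W₂.1 : (X.ptSub x).scheme.Opens) : Scheme.{u}) :=
        (dim_open_ptSub X x _ hW2ne).trans (W₂.2.2.trans (dim_ptSub X x)).symm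
      have hzero : (T.pull ((X.ptSub x).resLE
          (show (X.ptSubι x) ⁻¹ᵁ (Y ⊓ Uof (X.ptSubι x) W₂.1) ≤ (X.ptSubι x) ⁻¹ᵁ Y from
            fun _ hz => hY₂Y hz) hdZ) M _ _).hom r = 0 := by
        have e := pull_resLE_trans T.toPreTheory (X.ptSub x) hle₂ hW₂ hd₁ hd₂ hdZ M _ _ r
        rw [hres0, map_zero] at e
        exact e.symm
      have hres₂ : (T.res (gDecomp (X.ptSubι x) _ U'.1 hU'Y₂ hdU'₂ hcompl₂) M i n _ _
          hiD₂ hnD₂).hom a = 0 := hrp.symm.trans hzero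
      obtain ⟨ã, hã⟩ := (T.exact_pull_res (gDecomp (X.ptSubι x) _ U'.1 hU'Y₂ hdU'₂ hcompl₂)
        M i n _ _ hiD₂ hnD₂ a).mp hres₂
      have hlt : (⟨((Y ⊓ Uof (X.ptSubι x) W₂.1 : X.scheme.Opens) : Set X.scheme)ᶜ,
          (Y ⊓ Uof (X.ptSubι x) W₂.1).isOpen.isClosed_compl⟩ : Closeds X.scheme) < C := by
        refine SetLike.lt_iff_le_and_exists.mpr ⟨?_, x, ?_, ?_⟩
        · intro y hy
          show y ∈ (C : Set X.scheme)
          rw [← hC]
          exact fun hyU => hy (hU'Y₂ hyU)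
        · show x ∈ (C : Set X.scheme)
          rw [← hC]; exact hxU
        · exact fun h => h hxY₂
      obtain ⟨U, ã', hU⟩ := IH _ hlt (fjIdx X j _ hFY₂) rfl ã
      refine ⟨U, ã', hU.trans ?_⟩
      have hp := ι_pull T.toPreTheory X (ContainsFj X j) i n M
        (U := fjIdx X j _ hFY₂) (U' := U') hU'Y₂ ã
      rw [← hp]
      exact congrArg _ hã
  intro β
  obtain ⟨U', a, rfl⟩ := exists_rep T.toPreTheory X (ContainsFj X j) i n M β
  obtain ⟨U, ã, hU⟩ := claim ⟨(U'.1 : Set X.scheme)ᶜ, U'.1.isOpen.isClosed_compl⟩ U' rfl a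
  refine ⟨((T.toPreTheory.ocolimι X (ContainsFj X (j + 1)) i n U).app M).hom ã, ?_⟩
  rw [← hU]
  exact ocolimMap_ι T.toPreTheory X (containsFj_mono X (Nat.le_succ j)) i n M U ã

end Groth.Agent.H79.BMStep
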