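import Groth.Agent.H79.BMStep

set_option autoImplicit false
universe u
open AlgebraicGeometry CategoryTheory CategoryTheory.Limits Opposite TopologicalSpace Topology BMCoh

namespace Groth.Agent.H79.BMStep

open Groth.Agent.H79.BMDim Groth.Agent.H79.BMGeom Groth.Agent.H79.BMCore Groth.Agent.H79.BMPiece

variable {V : ObjectProperty Scheme.{u}} [IsConstructible V] {R : Type u} [CommRing R]
  {A : Coefs R}

theorem fjRes_injective (T : TheoryOn V R A) (X : Obj V) (M : A.Cat) (j : ℕ) (i n : ℤ)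
    (h0 : ∀ x : X.scheme, WeilCoh.codim X.scheme x = j + 1 →
      IsZero (T.ptGp X x M (i - 2 * ((j : ℤ) + 1)) (n - ((j : ℤ) + 1)))) :
    Function.Injective ((T.fjRes X (Nat.le_succ j) i n).app M).hom := by
  obtain ⟨i₀, rfl⟩ : ∃ i₀, i = i₀ + 1 := ⟨i - 1, by ring⟩
  have claim : ∀ (C : Closeds X.scheme) (U' : Idx X (ContainsFj X j)),
      ((U'.1 : Set X.scheme)ᶜ = (C : Set X.scheme)) →
      ∀ (U : Idx X (ContainsFj X (j + 1))) (hle : U'.1 ≤ U.1)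
        (a : T.gp (X.res U.1) M (i₀ + 1) n),
        (T.pull (X.resLE hle (U'.2.2.trans U.2.2.symm)) M (i₀ + 1) n).hom a = 0 →
        ((T.toPreTheory.ocolimι X (ContainsFj X (j + 1)) (i₀ + 1) n U).app M).hom a = 0 := by
    intro C
    induction C using WellFoundedLT.induction with
    | ind C IH =>
    intro U' hC U hle a ha
    by_cases hall : ContainsFj X (j + 1) U'.1
    · have hp := ι_pull T.toPreTheory X (ContainsFj X (j + 1)) (i₀ + 1) n M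
        (U := U) (U' := ⟨U'.1, hall, U'.2.2⟩) hle a
      have h2 : (T.pull ((idxDiag X (ContainsFj X (j + 1))).map
          (homOfLE (show (⟨U'.1, hall, U'.2.2⟩ : Idx X (ContainsFj X (j + 1))) ≤ U from hle)))
          M (i₀ + 1) n).hom a = 0 := ha
      exact hp.symm.trans ((congrArg _ h2).trans (map_zero _))
    · unfold ContainsFj at hall
      push Not at hall
      obtain ⟨x, hxc, hxU⟩ := hall
      have hx : WeilCoh.codim X.scheme x = j + 1 := by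
        by_contra hne
        exact hxU (U'.2.1 x (by omega))
      have hxU1 : x ∈ U.1 := U.2.1 x hxc
      obtain ⟨Y₀, U₀, -, hU₀Y₀, hxY₀, -, hcompl, hU₀eq⟩ := exists_piece X j x hx U'.1 U'.2.1
      obtain rfl := hU₀eq hxU
      have hU'Y : U'.1 ≤ Y₀ ⊓ U.1 := le_inf hU₀Y₀ hle
      have hxY : x ∈ Y₀ ⊓ U.1 := ⟨hxY₀, hxU1⟩
      have hFY : ContainsFj X j (Y₀ ⊓ U.1) := fun y hy => hU'Y (U'.2.1 y hy)
      have hdY : WeilCoh.dim ((Y₀ ⊓ U.1 : X.scheme.Opens) : Scheme.{u}) = WeilCoh.dim X.scheme :=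
        dim_eq_of_containsFj X j _ hFY
      have hcompl' : ∀ y : X.scheme, y ∈ Y₀ ⊓ U.1 →
          (y ∈ U'.1 ↔ y ∉ Set.range (X.ptSubι x)) := by
        rw [range_ptSubι]; exact fun y hy => hcompl y hy.1
      have hdU' : WeilCoh.dim ((U'.1 : X.scheme.Opens) : Scheme.{u}) =
          WeilCoh.dim ((Y₀ ⊓ U.1 : X.scheme.Opens) : Scheme.{u}) := U'.2.2.trans hdY.symm
      have hcod : (gDecomp (X.ptSubι x) (Y₀ ⊓ U.1) U'.1 hU'Y hdU' hcompl').codim = (j : ℤ) + 1 := by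
        rw [gDecomp_codim_ptSub X x _ U'.1 _ _ _ hdY hxY, hx]
        push_cast; ring
      have hdYU : WeilCoh.dim ((Y₀ ⊓ U.1 : X.scheme.Opens) : Scheme.{u}) =
          WeilCoh.dim ((U.1 : X.scheme.Opens) : Scheme.{u}) := hdY.trans U.2.2.symm
      let aY := (T.pull (X.resLE (inf_le_right : Y₀ ⊓ U.1 ≤ U.1) hdYU) M (i₀ + 1) n).hom a
      have haY : (T.pull (gDecomp (X.ptSubι x) (Y₀ ⊓ U.1) U'.1 hU'Y hdU' hcompl').j M
          (i₀ + 1) n).hom aY = 0 :=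
        (pull_resLE_trans T.toPreTheory X hU'Y inf_le_right hdU' hdYU
          (U'.2.2.trans U.2.2.symm) M _ n a).trans ha
      have hi' : i₀ + 1 = (i₀ + 1 - 2 * ((j : ℤ) + 1)) + 2 * relCodim
          (gDecomp (X.ptSubι x) (Y₀ ⊓ U.1) U'.1 hU'Y hdU' hcompl').Z.scheme
          (X.res (Y₀ ⊓ U.1)).scheme := by
        have := hcod
        unfold Decomp.codim at this
        rw [this]; ring
      have hn' : n = (n - ((j : ℤ) + 1)) + relCodim
          (gDecomp (X.ptSubι x) (Y₀ ⊓ U.1) U'.1 hU'Y hdU' hcompl').Z.scheme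
          (X.res (Y₀ ⊓ U.1)).scheme := by
        have := hcod
        unfold Decomp.codim at this
        rw [this]; ring
      obtain ⟨b, hb⟩ := (T.exact_push_pull
        (gDecomp (X.ptSubι x) (Y₀ ⊓ U.1) U'.1 hU'Y hdU' hcompl') M i₀ n _ _ hi' hn' aY).mp haY
      have hW := nonempty_preimage X x _ hxY
      let W : ptIdx X x := ptIdxMk X x _ hW
      have hz : ((T.toPreTheory.ptι X x _ _ W).app M).hom b =
          ((T.toPreTheory.ptι X x _ _ W).app M).hom 0 :=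
        (ModuleCat.subsingleton_of_isZero (h0 x hx)).elim _ _
      obtain ⟨W₂, hW₂, hW₂b, hres⟩ := (ι_eq_iff T.toPreTheory (X.ptSub x) _ _ _ M _ _).mp hz
      have hd₂ : WeilCoh.dim ((W₂.1 : (X.ptSub x).scheme.Opens) : Scheme.{u}) =
          WeilCoh.dim ((W.1 : (X.ptSub x).scheme.Opens) : Scheme.{u}) :=
        W₂.2.2.trans W.2.2.symm
      have hres0 : (T.pull ((X.ptSub x).resLE hW₂ hd₂) M _ _).hom b = 0 :=
        hres.trans (map_zero _)
      have hY₂Y : (Y₀ ⊓ U.1) ⊓ Uof (X.ptSubι x) W₂.1 ≤ Y₀ ⊓ U.1 := inf_le_left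
      have hU'Y₂ : U'.1 ≤ (Y₀ ⊓ U.1) ⊓ Uof (X.ptSubι x) W₂.1 := fun y hy =>
        ⟨hU'Y hy, mem_Uof_of_not_mem_range _ _ ((hcompl' y (hU'Y hy)).mp hy)⟩
      have hxY₂ : x ∈ (Y₀ ⊓ U.1) ⊓ Uof (X.ptSubι x) W₂.1 :=
        ⟨hxY, (mem_Uof _ _ _).mpr fun z hz => mem_of_ptSubι_eq X x W₂.1 W₂.2.1 z hz⟩
      have hFY₂ : ContainsFj X j ((Y₀ ⊓ U.1) ⊓ Uof (X.ptSubι x) W₂.1) :=
        fun y hy => hU'Y₂ (U'.2.1 y hy)
      have hdY₂ : WeilCoh.dim (((Y₀ ⊓ U.1) ⊓ Uof (X.ptSubι x) W₂.1 : X.scheme.Opens) : Scheme.{u}) =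
          WeilCoh.dim X.scheme := dim_eq_of_containsFj X j _ hFY₂
      have hW2ne := nonempty_preimage X x _ hxY₂
      have hdZ : WeilCoh.dim (((X.ptSubι x) ⁻¹ᵁ ((Y₀ ⊓ U.1) ⊓ Uof (X.ptSubι x) W₂.1) :
          (X.ptSub x).scheme.Opens) : Scheme.{u}) =
          WeilCoh.dim (((X.ptSubι x) ⁻¹ᵁ (Y₀ ⊓ U.1) : (X.ptSub x).scheme.Opens) : Scheme.{u}) :=
        (dim_open_ptSub X x _ hW2ne).trans (dim_open_ptSub X x _ hW).symm
      have hrc₂ : relCodim ((X.ptSub x).res ((X.ptSubι x) ⁻¹ᵁ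
          ((Y₀ ⊓ U.1) ⊓ Uof (X.ptSubι x) W₂.1))).scheme
          (X.res ((Y₀ ⊓ U.1) ⊓ Uof (X.ptSubι x) W₂.1)).scheme =
          relCodim (gDecomp (X.ptSubι x) (Y₀ ⊓ U.1) U'.1 hU'Y hdU' hcompl').Z.scheme
          (X.res (Y₀ ⊓ U.1)).scheme := by
        show relCodim (((X.ptSubι x) ⁻¹ᵁ ((Y₀ ⊓ U.1) ⊓ Uof (X.ptSubι x) W₂.1) :
            (X.ptSub x).scheme.Opens) : Scheme.{u})
          (((Y₀ ⊓ U.1) ⊓ Uof (X.ptSubι x) W₂.1 : X.scheme.Opens) : Scheme.{u}) =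
          relCodim (((X.ptSubι x) ⁻¹ᵁ (Y₀ ⊓ U.1) : (X.ptSub x).scheme.Opens) : Scheme.{u})
          ((Y₀ ⊓ U.1 : X.scheme.Opens) : Scheme.{u})
        unfold relCodim
        rw [hdZ, hdY₂, hdY]
      have hbc := push_pull_piece T.toPreTheory (X.ptSubι x) hY₂Y (hdY₂.trans hdY.symm) hdZ M
        _ _ (i₀ + 1) n hi' hn' (by rw [hrc₂]; exact hi') (by rw [hrc₂]; exact hn') b
      have hle₂ : (X.ptSubι x) ⁻¹ᵁ ((Y₀ ⊓ U.1) ⊓ Uof (X.ptSubι x) W₂.1) ≤ W₂.1 :=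
        fun z hz => preimage_Uof_le _ _ hz.2
      have hd₁ : WeilCoh.dim (((X.ptSubι x) ⁻¹ᵁ ((Y₀ ⊓ U.1) ⊓ Uof (X.ptSubι x) W₂.1) :
          (X.ptSub x).scheme.Opens) : Scheme.{u}) =
          WeilCoh.dim ((W₂.1 : (X.ptSub x).scheme.Opens) : Scheme.{u}) :=
        (dim_open_ptSub X x _ hW2ne).trans (W₂.2.2.trans (dim_ptSub X x)).symm
      have hzero : (T.pull ((X.ptSub x).resLE
          (show (X.ptSubι x) ⁻¹ᵁ ((Y₀ ⊓ U.1) ⊓ Uof (X.ptSubι x) W₂.1) ≤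
            (X.ptSubι x) ⁻¹ᵁ (Y₀ ⊓ U.1) from fun _ hz => hY₂Y hz) hdZ) M _ _).hom b = 0 := by
        have e := pull_resLE_trans T.toPreTheory (X.ptSub x) hle₂ hW₂ hd₁ hd₂ hdZ M _ _ b
        rw [hres0, map_zero] at e
        exact e.symm
      rw [hzero, map_zero] at hbc
      have h1 : (T.pull (X.resLE hY₂Y (hdY₂.trans hdY.symm)) M (i₀ + 1) n).hom aY = 0 := by
        rw [← hb]; exact hbc
      have h2 : (T.pull (X.resLE (hY₂Y.trans inf_le_right)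
          (hdY₂.trans U.2.2.symm)) M (i₀ + 1) n).hom a = 0 :=
        (pull_resLE_trans T.toPreTheory X hY₂Y inf_le_right (hdY₂.trans hdY.symm) hdYU
          (hdY₂.trans U.2.2.symm) M _ n a).symm.trans h1
      have hlt : (⟨(((Y₀ ⊓ U.1) ⊓ Uof (X.ptSubι x) W₂.1 : X.scheme.Opens) : Set X.scheme)ᶜ,
          ((Y₀ ⊓ U.1) ⊓ Uof (X.ptSubι x) W₂.1).isOpen.isClosed_compl⟩ : Closeds X.scheme) < C := by
        refine SetLike.lt_iff_le_and_exists.mpr ⟨?_, x, ?_, ?_⟩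
        · intro y hy
          show y ∈ (C : Set X.scheme)
          rw [← hC]
          exact fun hyU => hy (hU'Y₂ hyU)
        · show x ∈ (C : Set X.scheme)
          rw [← hC]; exact hxU
        · exact fun h => h hxY₂
      exact IH _ hlt (fjIdx X j _ hFY₂) rfl U (hY₂Y.trans inf_le_right) a h2
  rw [injective_iff_map_eq_zero]
  intro α hα
  obtain ⟨U, a, rfl⟩ := exists_rep T.toPreTheory X (ContainsFj X (j + 1)) (i₀ + 1) n M α
  have hα' := (ocolimMap_ι T.toPreTheory X (containsFj_mono X (Nat.le_succ j)) (i₀ + 1) n M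
    U a).symm.trans hα
  have h0' := hα'.trans (map_zero ((T.toPreTheory.ocolimι X (ContainsFj X j) (i₀ + 1) n
    ⟨U.1, containsFj_mono X (Nat.le_succ j) U.1 U.2.1, U.2.2⟩).app M).hom).symm
  obtain ⟨U', hU', hU'b, hres⟩ :=
    (ι_eq_iff T.toPreTheory X (ContainsFj X j) (i₀ + 1) n M _ _).mp h0'
  have hres0 : (T.pull (X.resLE (show U'.1 ≤ U.1 from hU') (U'.2.2.trans U.2.2.symm)) M
      (i₀ + 1) n).hom a = 0 := hres.trans (map_zero _)
  exact claim ⟨(U'.1 : Set X.scheme)ᶜ, U'.1.isOpen.isClosed_compl⟩ U' rfl U hU' a hres0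

end Groth.Agent.H79.BMStep
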