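import Groth.Agent.H79.BMStep2

set_option autoImplicit false
universe u
open AlgebraicGeometry CategoryTheory CategoryTheory.Limits Opposite TopologicalSpace Topology BMCoh

namespace Groth.Agent.H79.BMStep

open Groth.Agent.H79.BMDim Groth.Agent.H79.BMGeom Groth.Agent.H79.BMCore Groth.Agent.H79.BMPiece

variable {V : ObjectProperty Scheme.{u}} [IsConstructible V] {R : Type u} [CommRing R]
  {A : Coefs R}

theorem exists_piece' (X : Obj V) (x : X.scheme) (U' : X.scheme.Opens) (hxU : x ∉ U')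
    (hmax : ∀ y : X.scheme, y ∉ U' → WeilCoh.pdim X.scheme y ≤ WeilCoh.pdim X.scheme x) :
    ∃ Y : X.scheme.Opens, U' ≤ Y ∧ x ∈ Y ∧
      (∀ y : X.scheme, y ∈ Y → (y ∈ U' ↔ y ∉ closure ({x} : Set X.scheme))) := by
  obtain ⟨C₁, hC₁, hC₁sub, hxC₁, hcov⟩ :=
    exists_closed_complement X U'.isOpen.isClosed_compl (x := x) (fun y hy => hmax y hy)
  refine ⟨⟨C₁ᶜ, hC₁.isOpen_compl⟩, ?_, hxC₁, ?_⟩
  · intro y hy hyC₁
    exact hC₁sub hyC₁ hy
  · intro y hy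
    constructor
    · intro hyU hyc
      have hsp : x ⤳ y := specializes_iff_mem_closure.mpr hyc
      exact hxU (hsp.mem_open U'.isOpen hyU)
    · intro hyc
      by_contra hyU
      rcases hcov hyU with h | h
      · exact hy h
      · exact hyc h

theorem peel_vanish (T : TheoryOn V R A) (X : Obj V) (M : A.Cat) (k : ℕ) (i n : ℤ)
    (PP : X.scheme.Opens → Prop)
    (P1 : ∀ U', PP U' → WeilCoh.dim (U' : Scheme.{u}) = WeilCoh.dim X.scheme)
    (P2 : ∀ U' Y, PP U' → U' ≤ Y → PP Y)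
    (P3 : ∀ U', PP U' → ∀ y : X.scheme, y ∉ U' → k ≤ WeilCoh.codim X.scheme y)
    (h0 : ∀ x : X.scheme, WeilCoh.codim X.scheme x = k →
      IsZero (T.ptGp X x M (i - 2 * (k : ℤ)) (n - (k : ℤ))))
    (U' : X.scheme.Opens) (hU' : PP U') (U : Idx X (ContainsFj X k)) (hle : U' ≤ U.1)
    (a : T.gp (X.res U.1) M i n)
    (ha : (T.pull (X.resLE hle ((P1 U' hU').trans U.2.2.symm)) M i n).hom a = 0) :
    ((T.toPreTheory.ocolimι X (ContainsFj X k) i n U).app M).hom a = 0 := by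
  obtain ⟨i₀, rfl⟩ : ∃ i₀, i = i₀ + 1 := ⟨i - 1, by ring⟩
  have claim : ∀ (C : Closeds X.scheme) (U' : X.scheme.Opens) (hU' : PP U'),
      ((U' : Set X.scheme)ᶜ = (C : Set X.scheme)) →
      ∀ (hle : U' ≤ U.1),
        (T.pull (X.resLE hle ((P1 U' hU').trans U.2.2.symm)) M (i₀ + 1) n).hom a = 0 →
        ((T.toPreTheory.ocolimι X (ContainsFj X k) (i₀ + 1) n U).app M).hom a = 0 := by
    intro C
    induction C using WellFoundedLT.induction with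
    | ind C IH =>
    intro U' hU' hC hle ha
    by_cases hall : ContainsFj X k U'
    · have hp := ι_pull T.toPreTheory X (ContainsFj X k) (i₀ + 1) n M
        (U := U) (U' := ⟨U', hall, P1 U' hU'⟩) hle a
      have h2 : (T.pull ((idxDiag X (ContainsFj X k)).map
          (homOfLE (show (⟨U', hall, P1 U' hU'⟩ : Idx X (ContainsFj X k)) ≤ U from hle)))
          M (i₀ + 1) n).hom a = 0 := ha
      exact hp.symm.trans ((congrArg _ h2).trans (map_zero _))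
    · unfold ContainsFj at hall
      push Not at hall
      obtain ⟨x, hxc, hxU⟩ := hall
      have hx : WeilCoh.codim X.scheme x = k := le_antisymm hxc (P3 U' hU' x hxU)
      have hxU1 : x ∈ U.1 := U.2.1 x hxc
      have hmax : ∀ y : X.scheme, y ∉ U' →
          WeilCoh.pdim X.scheme y ≤ WeilCoh.pdim X.scheme x := by
        intro y hy
        have h1 := P3 U' hU' y hy
        have h2 := pdim_add_codim X x
        have h3 := pdim_add_codim X y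
        omega
      obtain ⟨Y₀, hU₀Y₀, hxY₀, hcompl⟩ := exists_piece' X x U' hxU hmax
      have hU'Y : U' ≤ Y₀ ⊓ U.1 := le_inf hU₀Y₀ hle
      have hxY : x ∈ Y₀ ⊓ U.1 := ⟨hxY₀, hxU1⟩
      have hPY : PP (Y₀ ⊓ U.1) := P2 U' _ hU' hU'Y
      have hdY : WeilCoh.dim ((Y₀ ⊓ U.1 : X.scheme.Opens) : Scheme.{u}) = WeilCoh.dim X.scheme :=
        P1 _ hPY
      have hcompl' : ∀ y : X.scheme, y ∈ Y₀ ⊓ U.1 →
          (y ∈ U' ↔ y ∉ Set.range (X.ptSubι x)) := by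
        rw [range_ptSubι]; exact fun y hy => hcompl y hy.1
      have hdU' : WeilCoh.dim (U' : Scheme.{u}) =
          WeilCoh.dim ((Y₀ ⊓ U.1 : X.scheme.Opens) : Scheme.{u}) := (P1 U' hU').trans hdY.symm
      have hcod : (gDecomp (X.ptSubι x) (Y₀ ⊓ U.1) U' hU'Y hdU' hcompl').codim = (k : ℤ) := by
        rw [gDecomp_codim_ptSub X x _ U' _ _ _ hdY hxY, hx]
      have hdYU : WeilCoh.dim ((Y₀ ⊓ U.1 : X.scheme.Opens) : Scheme.{u}) =
          WeilCoh.dim ((U.1 : X.scheme.Opens) : Scheme.{u}) := hdY.trans U.2.2.symm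
      let aY := (T.pull (X.resLE (inf_le_right : Y₀ ⊓ U.1 ≤ U.1) hdYU) M (i₀ + 1) n).hom a
      have haY : (T.pull (gDecomp (X.ptSubι x) (Y₀ ⊓ U.1) U' hU'Y hdU' hcompl').j M
          (i₀ + 1) n).hom aY = 0 :=
        (pull_resLE_trans T.toPreTheory X hU'Y inf_le_right hdU' hdYU
          ((P1 U' hU').trans U.2.2.symm) M _ n a).trans ha
      have hi' : i₀ + 1 = (i₀ + 1 - 2 * (k : ℤ)) + 2 * relCodim
          (gDecomp (X.ptSubι x) (Y₀ ⊓ U.1) U' hU'Y hdU' hcompl').Z.scheme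
          (X.res (Y₀ ⊓ U.1)).scheme := by
        have := hcod
        unfold Decomp.codim at this
        rw [this]; ring
      have hn' : n = (n - (k : ℤ)) + relCodim
          (gDecomp (X.ptSubι x) (Y₀ ⊓ U.1) U' hU'Y hdU' hcompl').Z.scheme
          (X.res (Y₀ ⊓ U.1)).scheme := by
        have := hcod
        unfold Decomp.codim at this
        rw [this]; ring
      obtain ⟨b, hb⟩ := (T.exact_push_pull
        (gDecomp (X.ptSubι x) (Y₀ ⊓ U.1) U' hU'Y hdU' hcompl') M i₀ n _ _ hi' hn' aY).mp haY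
      have hW := nonempty_preimage X x _ hxY
      let W : ptIdx X x := ptIdxMk X x _ hW
      have hz : ((T.toPreTheory.ptι X x _ _ W).app M).hom b =
          ((T.toPreTheory.ptι X x _ _ W).app M).hom 0 :=
        (ModuleCat.subsingleton_of_isZero (h0 x hx)).elim _ _
      obtain ⟨W₂, hW₂, hW₂b, hres⟩ := (ι_eq_iff T.toPreTheory (X.ptSub x) _ _ _ M _ _).mp hz
      have hd₂ : WeilCoh.dim ((W₂.1 : (X.ptSub x).scheme.Opens) : Scheme.{u}) =
          WeilCoh.dim ((W.1 : (X.ptSub x).scheme.Opens) : Scheme.{u}) :=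
        W₂.2.2.trans W.2.2.symm
      have hres0 : (T.pull ((X.ptSub x).resLE hW₂ hd₂) M _ _).hom b = 0 :=
        hres.trans (map_zero _)
      have hY₂Y : (Y₀ ⊓ U.1) ⊓ Uof (X.ptSubι x) W₂.1 ≤ Y₀ ⊓ U.1 := inf_le_left
      have hU'Y₂ : U' ≤ (Y₀ ⊓ U.1) ⊓ Uof (X.ptSubι x) W₂.1 := fun y hy =>
        ⟨hU'Y hy, mem_Uof_of_not_mem_range _ _ ((hcompl' y (hU'Y hy)).mp hy)⟩
      have hxY₂ : x ∈ (Y₀ ⊓ U.1) ⊓ Uof (X.ptSubι x) W₂.1 :=
        ⟨hxY, (mem_Uof _ _ _).mpr fun z hz => mem_of_ptSubι_eq X x W₂.1 W₂.2.1 z hz⟩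
      have hPY₂ : PP ((Y₀ ⊓ U.1) ⊓ Uof (X.ptSubι x) W₂.1) := P2 U' _ hU' hU'Y₂
      have hdY₂ : WeilCoh.dim (((Y₀ ⊓ U.1) ⊓ Uof (X.ptSubι x) W₂.1 : X.scheme.Opens) : Scheme.{u}) =
          WeilCoh.dim X.scheme := P1 _ hPY₂
      have hW2ne := nonempty_preimage X x _ hxY₂
      have hdZ : WeilCoh.dim (((X.ptSubι x) ⁻¹ᵁ ((Y₀ ⊓ U.1) ⊓ Uof (X.ptSubι x) W₂.1) :
          (X.ptSub x).scheme.Opens) : Scheme.{u}) =
          WeilCoh.dim (((X.ptSubι x) ⁻¹ᵁ (Y₀ ⊓ U.1) : (X.ptSub x).scheme.Opens) : Scheme.{u}) :=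
        (dim_open_ptSub X x _ hW2ne).trans (dim_open_ptSub X x _ hW).symm
      have hrc₂ : relCodim ((X.ptSub x).res ((X.ptSubι x) ⁻¹ᵁ
          ((Y₀ ⊓ U.1) ⊓ Uof (X.ptSubι x) W₂.1))).scheme
          (X.res ((Y₀ ⊓ U.1) ⊓ Uof (X.ptSubι x) W₂.1)).scheme =
          relCodim (gDecomp (X.ptSubι x) (Y₀ ⊓ U.1) U' hU'Y hdU' hcompl').Z.scheme
          (X.res (Y₀ ⊓ U.1)).scheme := by
        show relCodim (((X.ptSubι x) ⁻¹ᵁ ((Y₀ ⊓ U.1) ⊓ Uof (X.ptSubι x) W₂.1) :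
            (X.ptSub x).scheme.Opens) : Scheme.{u})
          (((Y₀ ⊓ U.1) ⊓ Uof (X.ptSubι x) W₂.1 : X.scheme.Opens) : Scheme.{u}) =
          relCodim (((X.ptSubι x) ⁻¹ᵁ (Y₀ ⊓ U.1) : (X.ptSub x).scheme.Opens) : Scheme.{u})
          ((Y₀ ⊓ U.1 : X.scheme.Opens) : Scheme.{u})
        unfold relCodim
        rw [hdZ, hdY₂, hdY]
      have hbc := push_pull_piece T.toPreTheory (X.ptSubι x) hY₂Y (hdY₂.trans hdY.symm) hdZ M
        _ _ (i₀ + 1) n hi' hn' (by rw [hrc₂]; exact hi') (by rw [hrc₂]; exact hn') b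
      have hle₂ : (X.ptSubι x) ⁻¹ᵁ ((Y₀ ⊓ U.1) ⊓ Uof (X.ptSubι x) W₂.1) ≤ W₂.1 :=
        fun z hz => preimage_Uof_le _ _ hz.2
      have hd₁ : WeilCoh.dim (((X.ptSubι x) ⁻¹ᵁ ((Y₀ ⊓ U.1) ⊓ Uof (X.ptSubι x) W₂.1) :
          (X.ptSub x).scheme.Opens) : Scheme.{u}) =
          WeilCoh.dim ((W₂.1 : (X.ptSub x).scheme.Opens) : Scheme.{u}) :=
        (dim_open_ptSub X x _ hW2ne).trans (W₂.2.2.trans (dim_ptSub X x)).symm
      have hzero : (T.pull ((X.ptSub x).resLE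
          (show (X.ptSubι x) ⁻¹ᵁ ((Y₀ ⊓ U.1) ⊓ Uof (X.ptSubι x) W₂.1) ≤
            (X.ptSubι x) ⁻¹ᵁ (Y₀ ⊓ U.1) from fun _ hz => hY₂Y hz) hdZ) M _ _).hom b = 0 := by
        have e := pull_resLE_trans T.toPreTheory (X.ptSub x) hle₂ hW₂ hd₁ hd₂ hdZ M _ _ b
        rw [hres0, map_zero] at e
        exact e.symm
      rw [hzero, map_zero] at hbc
      have h1 : (T.pull (X.resLE hY₂Y (hdY₂.trans hdY.symm)) M (i₀ + 1) n).hom aY = 0 := by
        rw [← hb]; exact hbc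
      have h2 : (T.pull (X.resLE (hY₂Y.trans inf_le_right)
          (hdY₂.trans U.2.2.symm)) M (i₀ + 1) n).hom a = 0 :=
        (pull_resLE_trans T.toPreTheory X hY₂Y inf_le_right (hdY₂.trans hdY.symm) hdYU
          (hdY₂.trans U.2.2.symm) M _ n a).symm.trans h1
      have hlt : (⟨(((Y₀ ⊓ U.1) ⊓ Uof (X.ptSubι x) W₂.1 : X.scheme.Opens) : Set X.scheme)ᶜ,
          ((Y₀ ⊓ U.1) ⊓ Uof (X.ptSubι x) W₂.1).isOpen.isClosed_compl⟩ : Closeds X.scheme) < C := by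
        refine SetLike.lt_iff_le_and_exists.mpr ⟨?_, x, ?_, ?_⟩
        · intro y hy
          show y ∈ (C : Set X.scheme)
          rw [← hC]
          exact fun hyU => hy (hU'Y₂ hyU)
        · show x ∈ (C : Set X.scheme)
          rw [← hC]; exact hxU
        · exact fun h => h hxY₂
      exact IH _ hlt _ hPY₂ rfl (hY₂Y.trans inf_le_right) h2
  exact claim ⟨(U' : Set X.scheme)ᶜ, U'.isOpen.isClosed_compl⟩ U' hU' rfl hle ha

theorem pull_injective_of_isIso (T : PreTheory V R A) {B C : Obj V} (φ : B ⟶ C) [IsIso φ.hom]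
    (M : A.Cat) (i n : ℤ) : Function.Injective (T.pull φ M i n).hom := by
  let ψ : C ⟶ B := ⟨inv φ.hom, inferInstance, φ.dim_eq.symm⟩
  have hψ : ψ ≫ φ = 𝟙 C := Hom.ext (IsIso.inv_hom_id φ.hom)
  intro a a' h
  have h1 := congrArg (T.pull ψ M i n).hom h
  rw [← pull_comp, ← pull_comp, hψ, pull_id, pull_id] at h1
  exact h1

end Groth.Agent.H79.BMStep
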