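import Groth.Agent.H79.BMStep3

set_option autoImplicit false
universe u
open AlgebraicGeometry CategoryTheory CategoryTheory.Limits Opposite TopologicalSpace Topology BMCoh

namespace Groth.Agent.H79.BMStep

open Groth.Agent.H79.BMDim Groth.Agent.H79.BMGeom Groth.Agent.H79.BMCore Groth.Agent.H79.BMPiece

variable {V : ObjectProperty Scheme.{u}} [IsConstructible V] {R : Type u} [CommRing R]
  {A : Coefs R}

theorem isIso_restrict_of_subset (X : Obj V) [IsReduced X.scheme] (x : X.scheme)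
    (N : X.scheme.Opens) (hN : ∀ y : X.scheme, y ∈ N → y ∈ closure ({x} : Set X.scheme)) :
    IsIso ((X.ptSubι x) ∣_ N) := by
  haveI : Surjective ((X.ptSubι x) ∣_ N) := ⟨fun y => by
    have : y ∈ Set.range ((X.ptSubι x) ∣_ N) := by
      rw [range_restrict]
      show y.1 ∈ Set.range (X.ptSubι x)
      rw [range_ptSubι]; exact hN y.1 y.2
    exact this⟩
  exact isIso_of_isClosedImmersion_of_surjective _

theorem dim_opens_mono (X : Obj V) {U' Y : X.scheme.Opens} (h : U' ≤ Y) :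
    WeilCoh.dim (U' : Scheme.{u}) ≤ WeilCoh.dim (Y : Scheme.{u}) :=
  dim_le_of_isPreimmersion (X.scheme.homOfLE h) (finiteDim (X.res Y))

theorem dim_eq_of_mem_of_pdim (X : Obj V) (N : X.scheme.Opens) {x : X.scheme} (hx : x ∈ N)
    (hp : WeilCoh.pdim X.scheme x = WeilCoh.dim X.scheme) :
    WeilCoh.dim (N : Scheme.{u}) = WeilCoh.dim X.scheme := by
  have h1 := pdim_le_dim_of_mem X N hx
  have h2 := dim_opens_le X N
  omega

theorem isZero_fjGp_zero (T : TheoryOn V R A) (X : Obj V) [IsReduced X.scheme] (M : A.Cat)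
    (i n : ℤ)
    (h : ∀ x : X.scheme, WeilCoh.codim X.scheme x = 0 → IsZero (T.ptGp X x M i n)) :
    IsZero (T.fjGp X 0 M i n) := by
  rw [ModuleCat.isZero_iff_subsingleton]
  suffices H : ∀ α : T.fjGp X 0 M i n, α = 0 from ⟨fun α β => (H α).trans (H β).symm⟩
  intro α
  obtain ⟨U, a, rfl⟩ := exists_rep T.toPreTheory X (ContainsFj X 0) i n M α
  rcases isEmpty_or_nonempty X.scheme with he | hne
  · haveI : IsEmpty (X.res U.1).scheme := ⟨fun z => he.elim z.1⟩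
    rw [eq_zero_of_isEmpty T.toPreTheory (X.res U.1) M i n a, map_zero]
  obtain ⟨x₁, hx₁⟩ := exists_pdim_eq_dim X
  have hcod : WeilCoh.codim X.scheme x₁ = 0 := by unfold WeilCoh.codim; omega
  have hx₁U : x₁ ∈ U.1 := U.2.1 x₁ (by omega)
  obtain ⟨C₁, hC₁, -, hxC₁, hcov⟩ := exists_closed_complement X isClosed_univ (x := x₁)
    (fun z _ => by rw [hx₁]; exact pdim_le_dim X z)
  have hxN : x₁ ∈ (⟨C₁ᶜ, hC₁.isOpen_compl⟩ : X.scheme.Opens) ⊓ U.1 := ⟨hxC₁, hx₁U⟩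
  have hNcl : ∀ y : X.scheme, y ∈ (⟨C₁ᶜ, hC₁.isOpen_compl⟩ : X.scheme.Opens) ⊓ U.1 →
      y ∈ closure ({x₁} : Set X.scheme) :=
    fun y hy => (hcov (Set.mem_univ y)).resolve_left hy.1
  generalize hNdef : (⟨C₁ᶜ, hC₁.isOpen_compl⟩ : X.scheme.Opens) ⊓ U.1 = N at hxN hNcl
  have hNU : N ≤ U.1 := by rw [← hNdef]; exact inf_le_right
  have hdN : WeilCoh.dim (N : Scheme.{u}) = WeilCoh.dim X.scheme :=
    dim_eq_of_mem_of_pdim X N hxN hx₁
  have hW := nonempty_preimage X x₁ N hxN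
  let W : ptIdx X x₁ := ptIdxMk X x₁ _ hW
  haveI hisoN : IsIso ((X.ptSubι x₁) ∣_ N) := isIso_restrict_of_subset X x₁ N hNcl
  have hdWN : WeilCoh.dim (((X.ptSub x₁).res ((X.ptSubι x₁) ⁻¹ᵁ N)).scheme) =
      WeilCoh.dim (X.res N).scheme := by
    show WeilCoh.dim (((X.ptSubι x₁) ⁻¹ᵁ N : (X.ptSub x₁).scheme.Opens) : Scheme.{u}) =
      WeilCoh.dim (N : Scheme.{u})
    rw [dim_open_ptSub X x₁ _ hW, hdN, hx₁]
  let φN : (X.ptSub x₁).res ((X.ptSubι x₁) ⁻¹ᵁ N) ⟶ X.res N :=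
    ⟨(X.ptSubι x₁) ∣_ N, inferInstance, hdWN⟩
  let aN := (T.pull (X.resLE hNU (hdN.trans U.2.2.symm)) M i n).hom a
  let r := (T.pull φN M i n).hom aN
  have hz : ((T.toPreTheory.ptι X x₁ i n W).app M).hom r =
      ((T.toPreTheory.ptι X x₁ i n W).app M).hom 0 :=
    (ModuleCat.subsingleton_of_isZero (h x₁ hcod)).elim _ _
  obtain ⟨W₂, hW₂, hW₂b, hres⟩ := (ι_eq_iff T.toPreTheory (X.ptSub x₁) _ i n M _ _).mp hz
  have hd₂ : WeilCoh.dim ((W₂.1 : (X.ptSub x₁).scheme.Opens) : Scheme.{u}) =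
      WeilCoh.dim ((W.1 : (X.ptSub x₁).scheme.Opens) : Scheme.{u}) :=
    W₂.2.2.trans W.2.2.symm
  have hres0 : (T.pull ((X.ptSub x₁).resLE hW₂ hd₂) M i n).hom r = 0 :=
    hres.trans (map_zero _)
  have hU'N : N ⊓ Uof (X.ptSubι x₁) W₂.1 ≤ N := inf_le_left
  have hxU' : x₁ ∈ N ⊓ Uof (X.ptSubι x₁) W₂.1 :=
    ⟨hxN, (mem_Uof _ _ _).mpr fun z hz => mem_of_ptSubι_eq X x₁ W₂.1 W₂.2.1 z hz⟩
  have hdU' : WeilCoh.dim ((N ⊓ Uof (X.ptSubι x₁) W₂.1 : X.scheme.Opens) : Scheme.{u}) =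
      WeilCoh.dim X.scheme := dim_eq_of_mem_of_pdim X _ hxU' hx₁
  have hW' := nonempty_preimage X x₁ _ hxU'
  haveI hisoU' : IsIso ((X.ptSubι x₁) ∣_ (N ⊓ Uof (X.ptSubι x₁) W₂.1)) :=
    isIso_restrict_of_subset X x₁ _ (fun y hy => hNcl y hy.1)
  have hdWU' : WeilCoh.dim (((X.ptSub x₁).res
      ((X.ptSubι x₁) ⁻¹ᵁ (N ⊓ Uof (X.ptSubι x₁) W₂.1))).scheme) =
      WeilCoh.dim (X.res (N ⊓ Uof (X.ptSubι x₁) W₂.1)).scheme := by
    show WeilCoh.dim (((X.ptSubι x₁) ⁻¹ᵁ (N ⊓ Uof (X.ptSubι x₁) W₂.1) :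
      (X.ptSub x₁).scheme.Opens) : Scheme.{u}) =
      WeilCoh.dim ((N ⊓ Uof (X.ptSubι x₁) W₂.1 : X.scheme.Opens) : Scheme.{u})
    rw [dim_open_ptSub X x₁ _ hW', hdU', hx₁]
  let φU' : (X.ptSub x₁).res ((X.ptSubι x₁) ⁻¹ᵁ (N ⊓ Uof (X.ptSubι x₁) W₂.1)) ⟶
      X.res (N ⊓ Uof (X.ptSubι x₁) W₂.1) :=
    ⟨(X.ptSubι x₁) ∣_ (N ⊓ Uof (X.ptSubι x₁) W₂.1), inferInstance, hdWU'⟩
  have hdZ : WeilCoh.dim (((X.ptSubι x₁) ⁻¹ᵁ (N ⊓ Uof (X.ptSubι x₁) W₂.1) :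
      (X.ptSub x₁).scheme.Opens) : Scheme.{u}) =
      WeilCoh.dim (((X.ptSubι x₁) ⁻¹ᵁ N : (X.ptSub x₁).scheme.Opens) : Scheme.{u}) :=
    (dim_open_ptSub X x₁ _ hW').trans (dim_open_ptSub X x₁ _ hW).symm
  have hsq : (X.ptSub x₁).resLE (show (X.ptSubι x₁) ⁻¹ᵁ (N ⊓ Uof (X.ptSubι x₁) W₂.1) ≤
      (X.ptSubι x₁) ⁻¹ᵁ N from fun _ hz => hU'N hz) hdZ ≫ φN =
      φU' ≫ X.resLE hU'N (hdU'.trans hdN.symm) :=
    Hom.ext (isPullback_restrict (X.ptSubι x₁) hU'N).w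
  have hle₂ : (X.ptSubι x₁) ⁻¹ᵁ (N ⊓ Uof (X.ptSubι x₁) W₂.1) ≤ W₂.1 :=
    fun z hz => preimage_Uof_le _ _ hz.2
  have hd₁ : WeilCoh.dim (((X.ptSubι x₁) ⁻¹ᵁ (N ⊓ Uof (X.ptSubι x₁) W₂.1) :
      (X.ptSub x₁).scheme.Opens) : Scheme.{u}) =
      WeilCoh.dim ((W₂.1 : (X.ptSub x₁).scheme.Opens) : Scheme.{u}) :=
    (dim_open_ptSub X x₁ _ hW').trans (W₂.2.2.trans (dim_ptSub X x₁)).symm
  have hzero : (T.pull ((X.ptSub x₁).resLE
      (show (X.ptSubι x₁) ⁻¹ᵁ (N ⊓ Uof (X.ptSubι x₁) W₂.1) ≤ (X.ptSubι x₁) ⁻¹ᵁ N from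
        fun _ hz => hU'N hz) hdZ) M i n).hom r = 0 := by
    have e := pull_resLE_trans T.toPreTheory (X.ptSub x₁) hle₂ hW₂ hd₁ hd₂ hdZ M i n r
    rw [hres0, map_zero] at e
    exact e.symm
  have h1 : (T.pull φU' M i n).hom
      ((T.pull (X.resLE hU'N (hdU'.trans hdN.symm)) M i n).hom aN) = 0 := by
    rw [← pull_comp, ← hsq, pull_comp]
    exact hzero
  have h2 : (T.pull (X.resLE hU'N (hdU'.trans hdN.symm)) M i n).hom aN = 0 := by
    apply pull_injective_of_isIso T.toPreTheory φU' M i n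
    rw [h1, map_zero]
  have h3 : (T.pull (X.resLE (hU'N.trans hNU) (hdU'.trans U.2.2.symm)) M i n).hom a = 0 :=
    (pull_resLE_trans T.toPreTheory X hU'N hNU (hdU'.trans hdN.symm) (hdN.trans U.2.2.symm)
      (hdU'.trans U.2.2.symm) M i n a).symm.trans h2
  have e1 : i - 2 * ((0 : ℕ) : ℤ) = i := by simp
  have e2 : n - ((0 : ℕ) : ℤ) = n := by simp
  exact peel_vanish T X M 0 i n
    (fun U' => WeilCoh.dim (U' : Scheme.{u}) = WeilCoh.dim X.scheme)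
    (fun _ h => h)
    (fun U' Y h hle => le_antisymm (dim_opens_le X Y) (h ▸ dim_opens_mono X hle))
    (fun _ _ _ _ => Nat.zero_le _)
    (fun x hx => by rw [e1, e2]; exact h x hx)
    _ hdU' U (hU'N.trans hNU) a h3

theorem isZero_fjGp (T : TheoryOn V R A) (X : Obj V) [IsReduced X.scheme] (M : A.Cat) (c : ℕ)
    (hc : ∀ (y : X.scheme) (i n : ℤ), (WeilCoh.pdim X.scheme y : ℤ) + c < i →
      IsZero (T.ptGp X y M i n)) (j : ℕ) :
    ∀ (i n : ℤ), (WeilCoh.dim X.scheme : ℤ) + j + c < i → IsZero (T.fjGp X j M i n) := by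
  induction j with
  | zero =>
    intro i n hi
    refine isZero_fjGp_zero T X M i n (fun x hx => hc x i n ?_)
    have := pdim_add_codim X x
    push_cast at hi
    omega
  | succ j IH =>
    intro i n hi
    have hinj := fjRes_injective T X M j i n (fun x hx => hc x _ _ (by
      have := pdim_add_codim X x
      push_cast at hi
      omega))
    have hz := IH i n (by push_cast at hi ⊢; omega)
    rw [ModuleCat.isZero_iff_subsingleton] at hz ⊢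
    exact ⟨fun a b => hinj (hz.elim _ _)⟩

end Groth.Agent.H79.BMStep
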