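import Groth.Agent.H79.BMClosed

set_option autoImplicit false
universe u
open AlgebraicGeometry CategoryTheory CategoryTheory.Limits Opposite TopologicalSpace Topology BMCoh

namespace Groth.Agent.H79.BMZero

open Groth.Agent.H79.BMDim Groth.Agent.H79.BMGeom Groth.Agent.H79.BMCore Groth.Agent.H79.BMPiece
  Groth.Agent.H79.BMStep

variable {V : ObjectProperty Scheme.{u}} [IsConstructible V] {R : Type u} [CommRing R]
  {A : Coefs R}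

section Basic

theorem pull_push_self (T : PreTheory V R A) {W Z : Obj V} (g : W ⟶ Z) [IsProper g.hom]
    (M : A.Cat) (a n : ℤ)
    (h1 : a = a + 2 * relCodim W.scheme Z.scheme) (h2 : n = n + relCodim W.scheme Z.scheme)
    (b : T.gp W M a n) :
    (T.pull g M a n).hom ((T.push g.hom M a n a n h1 h2).hom b) = b := by
  have hr : relCodim W.scheme W.scheme = 0 := relCodim_self _
  have h1' : a = a + 2 * relCodim W.scheme W.scheme := by rw [hr]; ring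
  have h2' : n = n + relCodim W.scheme W.scheme := by rw [hr]; ring
  have hpb : IsPullback (𝟙 W : W ⟶ W).hom (𝟙 W.scheme) g.hom g.hom :=
    IsKernelPair.id_of_mono g.hom
  have := T.push_pull g.hom (𝟙 W.scheme) g (𝟙 W) hpb M a n a n h1 h2 h1' h2'
  rw [T.push_id W M a n h1' h2'] at this
  have h3 := congrArg (fun φ => φ.hom b) this
  have h4 : (T.pull (𝟙 W) M a n).hom b = b := pull_id T W M a n b
  exact h3.trans h4

theorem pdim_eq_of_codim_zero (X : Obj V) (x : X.scheme) (hx : WeilCoh.codim X.scheme x = 0) :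
    WeilCoh.pdim X.scheme x = WeilCoh.dim X.scheme := by
  have := pdim_le_dim X x
  unfold WeilCoh.codim at hx
  omega

theorem mem_idx (X : Obj V) (x₀ : X.scheme)
    (hp : WeilCoh.pdim X.scheme x₀ = WeilCoh.dim X.scheme) (U : Idx X (ContainsFj X 0)) :
    x₀ ∈ U.1 :=
  U.2.1 x₀ (by unfold WeilCoh.codim; omega)

theorem mem_inf_idx (X : Obj V) (x₀ : X.scheme)
    (hp : WeilCoh.pdim X.scheme x₀ = WeilCoh.dim X.scheme) (N₀ : X.scheme.Opens) (hxN₀ : x₀ ∈ N₀)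
    (U : Idx X (ContainsFj X 0)) : x₀ ∈ N₀ ⊓ U.1 :=
  ⟨hxN₀, mem_idx X x₀ hp U⟩

theorem relCodim_preimage (X : Obj V) (x : X.scheme)
    (hp : WeilCoh.pdim X.scheme x = WeilCoh.dim X.scheme) (Y : X.scheme.Opens) (hx : x ∈ Y) :
    relCodim ((X.ptSub x).res ((X.ptSubι x) ⁻¹ᵁ Y)).scheme (X.res Y).scheme = 0 := by
  show relCodim (((X.ptSubι x) ⁻¹ᵁ Y : (X.ptSub x).scheme.Opens) : Scheme.{u})
    ((Y : X.scheme.Opens) : Scheme.{u}) = 0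
  unfold relCodim
  rw [dim_open_ptSub X x _ (nonempty_preimage X x Y hx), dim_eq_of_mem_of_pdim X Y hx hp, hp]
  ring

theorem not_mem_closure_of_ne (X : Obj V) {x x' : X.scheme}
    (hp : WeilCoh.pdim X.scheme x = WeilCoh.dim X.scheme)
    (hp' : WeilCoh.pdim X.scheme x' = WeilCoh.dim X.scheme) (hne : x' ≠ x) :
    x' ∉ closure ({x} : Set X.scheme) := by
  intro h
  by_cases h' : x ∈ closure ({x'} : Set X.scheme)
  · have h1 : x ⤳ x' := specializes_iff_mem_closure.mpr h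
    have h2 : x' ⤳ x := specializes_iff_mem_closure.mpr h'
    exact hne (h2.antisymm h1).eq
  · have := pdim_lt_of_mem_closure X h h'
    omega

theorem containsFj_zero_Uof (X : Obj V) (x : X.scheme)
    (hp : WeilCoh.pdim X.scheme x = WeilCoh.dim X.scheme) (W : (X.ptSub x).scheme.Opens)
    (hW : (W : Set (X.ptSub x).scheme).Nonempty) : ContainsFj X 0 (Uof (X.ptSubι x) W) := by
  intro y hy
  have hpy := pdim_eq_of_codim_zero X y (by omega)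
  by_cases hyx : y = x
  · subst hyx
    exact (mem_Uof _ _ _).mpr fun z hz => mem_of_ptSubι_eq X y W hW z hz
  · apply mem_Uof_of_not_mem_range
    rw [range_ptSubι]
    exact not_mem_closure_of_ne X hp hpy hyx

end Basic

section Phi

variable (X : Obj V) [IsReduced X.scheme] (x₀ : X.scheme)
  (hp : WeilCoh.pdim X.scheme x₀ = WeilCoh.dim X.scheme)

noncomputable def phi (N : X.scheme.Opens) (hx : x₀ ∈ N)
    (hN : ∀ y : X.scheme, y ∈ N → y ∈ closure ({x₀} : Set X.scheme)) :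
    (X.ptSub x₀).res ((X.ptSubι x₀) ⁻¹ᵁ N) ⟶ X.res N :=
  haveI : IsIso ((X.ptSubι x₀) ∣_ N) := isIso_restrict_of_subset X x₀ N hN
  ⟨(X.ptSubι x₀) ∣_ N, inferInstance, by
    show WeilCoh.dim (((X.ptSubι x₀) ⁻¹ᵁ N : (X.ptSub x₀).scheme.Opens) : Scheme.{u}) =
      WeilCoh.dim ((N : X.scheme.Opens) : Scheme.{u})
    rw [dim_open_ptSub X x₀ _ (nonempty_preimage X x₀ N hx), dim_eq_of_mem_of_pdim X N hx hp, hp]⟩

theorem isIso_phi_hom (N : X.scheme.Opens) (hx : x₀ ∈ N)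
    (hN : ∀ y : X.scheme, y ∈ N → y ∈ closure ({x₀} : Set X.scheme)) :
    IsIso (phi X x₀ hp N hx hN).hom :=
  isIso_restrict_of_subset X x₀ N hN

theorem isProper_phi_hom (N : X.scheme.Opens) (hx : x₀ ∈ N)
    (hN : ∀ y : X.scheme, y ∈ N → y ∈ closure ({x₀} : Set X.scheme)) :
    IsProper (phi X x₀ hp N hx hN).hom :=
  inferInstanceAs (IsProper ((X.ptSubι x₀) ∣_ N))

theorem pull_phi_natural (T : PreTheory V R A) {N' N : X.scheme.Opens} (hle : N' ≤ N)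
    (hx' : x₀ ∈ N') (hN : ∀ y : X.scheme, y ∈ N → y ∈ closure ({x₀} : Set X.scheme))
    (hdZ : WeilCoh.dim (((X.ptSubι x₀) ⁻¹ᵁ N' : (X.ptSub x₀).scheme.Opens) : Scheme.{u}) =
      WeilCoh.dim (((X.ptSubι x₀) ⁻¹ᵁ N : (X.ptSub x₀).scheme.Opens) : Scheme.{u}))
    (hd : WeilCoh.dim (N' : Scheme.{u}) = WeilCoh.dim (N : Scheme.{u}))
    (M : A.Cat) (i n : ℤ) (a : T.gp (X.res N) M i n) :
    (T.pull ((X.ptSub x₀).resLE
      (show (X.ptSubι x₀) ⁻¹ᵁ N' ≤ (X.ptSubι x₀) ⁻¹ᵁ N from fun _ hz => hle hz) hdZ) M i n).hom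
      ((T.pull (phi X x₀ hp N (hle hx') hN) M i n).hom a) =
    (T.pull (phi X x₀ hp N' hx' (fun y hy => hN y (hle hy))) M i n).hom
      ((T.pull (X.resLE hle hd) M i n).hom a) := by
  have hsq : (X.ptSub x₀).resLE
      (show (X.ptSubι x₀) ⁻¹ᵁ N' ≤ (X.ptSubι x₀) ⁻¹ᵁ N from fun _ hz => hle hz) hdZ ≫
      phi X x₀ hp N (hle hx') hN =
      phi X x₀ hp N' hx' (fun y hy => hN y (hle hy)) ≫ X.resLE hle hd :=
    Hom.ext (isPullback_restrict (X.ptSubι x₀) hle).w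
  rw [← pull_comp, ← pull_comp, hsq]

end Phi

section Rho

variable (T : PreTheory V R A) (X : Obj V) [IsReduced X.scheme] (x₀ : X.scheme)
  (hp : WeilCoh.pdim X.scheme x₀ = WeilCoh.dim X.scheme) (N₀ : X.scheme.Opens)
  (hxN₀ : x₀ ∈ N₀) (hN₀ : ∀ y : X.scheme, y ∈ N₀ → y ∈ closure ({x₀} : Set X.scheme))
  (M : A.Cat) (i n : ℤ)

noncomputable def rhoApp (U : Idx X (ContainsFj X 0)) :
    T.gp (X.res U.1) M i n ⟶ T.ptGp X x₀ M i n :=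
  T.pull (X.resLE (inf_le_right : N₀ ⊓ U.1 ≤ U.1)
      ((dim_eq_of_mem_of_pdim X _ (mem_inf_idx X x₀ hp N₀ hxN₀ U) hp).trans U.2.2.symm)) M i n ≫
    T.pull (phi X x₀ hp (N₀ ⊓ U.1) (mem_inf_idx X x₀ hp N₀ hxN₀ U) (fun y hy => hN₀ y hy.1)) M i n ≫
    (T.ptι X x₀ i n (ptIdxMk X x₀ _
      (nonempty_preimage X x₀ _ (mem_inf_idx X x₀ hp N₀ hxN₀ U)))).app M

theorem rhoApp_apply (U : Idx X (ContainsFj X 0)) (a : T.gp (X.res U.1) M i n) :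
    (rhoApp T X x₀ hp N₀ hxN₀ hN₀ M i n U).hom a =
      ((T.ptι X x₀ i n (ptIdxMk X x₀ _
        (nonempty_preimage X x₀ _ (mem_inf_idx X x₀ hp N₀ hxN₀ U)))).app M).hom
        ((T.pull (phi X x₀ hp (N₀ ⊓ U.1) (mem_inf_idx X x₀ hp N₀ hxN₀ U)
          (fun y hy => hN₀ y hy.1)) M i n).hom
          ((T.pull (X.resLE (inf_le_right : N₀ ⊓ U.1 ≤ U.1)
            ((dim_eq_of_mem_of_pdim X _ (mem_inf_idx X x₀ hp N₀ hxN₀ U) hp).trans U.2.2.symm))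
            M i n).hom a)) := rfl

theorem rhoApp_natural {U U' : Idx X (ContainsFj X 0)} (hle : U' ≤ U)
    (a : T.gp (X.res U.1) M i n) :
    (rhoApp T X x₀ hp N₀ hxN₀ hN₀ M i n U').hom
      ((T.pull ((idxDiag X (ContainsFj X 0)).map (homOfLE hle)) M i n).hom a) =
    (rhoApp T X x₀ hp N₀ hxN₀ hN₀ M i n U).hom a := by
  rw [rhoApp_apply, rhoApp_apply]
  have hxU := mem_idx X x₀ hp U
  have hxU' := mem_idx X x₀ hp U'
  have hNN : N₀ ⊓ U'.1 ≤ N₀ ⊓ U.1 := inf_le_inf_left N₀ hle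
  have hdN := dim_eq_of_mem_of_pdim X (N₀ ⊓ U.1) ⟨hxN₀, hxU⟩ hp
  have hdN' := dim_eq_of_mem_of_pdim X (N₀ ⊓ U'.1) ⟨hxN₀, hxU'⟩ hp
  have hWne := nonempty_preimage X x₀ (N₀ ⊓ U.1) ⟨hxN₀, hxU⟩
  have hWne' := nonempty_preimage X x₀ (N₀ ⊓ U'.1) ⟨hxN₀, hxU'⟩
  have hdZ : WeilCoh.dim (((X.ptSubι x₀) ⁻¹ᵁ (N₀ ⊓ U'.1) : (X.ptSub x₀).scheme.Opens) :
      Scheme.{u}) =
      WeilCoh.dim (((X.ptSubι x₀) ⁻¹ᵁ (N₀ ⊓ U.1) : (X.ptSub x₀).scheme.Opens) : Scheme.{u}) :=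
    (dim_open_ptSub X x₀ _ hWne').trans (dim_open_ptSub X x₀ _ hWne).symm
  have e1 := pull_resLE_trans T X (inf_le_right : N₀ ⊓ U'.1 ≤ U'.1) (show U'.1 ≤ U.1 from hle)
    (hdN'.trans U'.2.2.symm) (U'.2.2.trans U.2.2.symm) (hdN'.trans U.2.2.symm) M i n a
  have e2 := pull_resLE_trans T X hNN (inf_le_right : N₀ ⊓ U.1 ≤ U.1) (hdN'.trans hdN.symm)
    (hdN.trans U.2.2.symm) (hdN'.trans U.2.2.symm) M i n a
  have h12 : (T.pull (X.resLE (inf_le_right : N₀ ⊓ U'.1 ≤ U'.1) (hdN'.trans U'.2.2.symm))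
      M i n).hom ((T.pull ((idxDiag X (ContainsFj X 0)).map (homOfLE hle)) M i n).hom a) =
      (T.pull (X.resLE hNN (hdN'.trans hdN.symm)) M i n).hom
        ((T.pull (X.resLE (inf_le_right : N₀ ⊓ U.1 ≤ U.1) (hdN.trans U.2.2.symm))
          M i n).hom a) := e1.trans e2.symm
  have e3 := pull_phi_natural X x₀ hp T hNN ⟨hxN₀, hxU'⟩ (fun y hy => hN₀ y hy.1) hdZ
    (hdN'.trans hdN.symm) M i n
    ((T.pull (X.resLE (inf_le_right : N₀ ⊓ U.1 ≤ U.1) (hdN.trans U.2.2.symm)) M i n).hom a)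
  rw [h12, ← e3]
  exact ι_pull T (X.ptSub x₀) (fun U => (U : Set (X.ptSub x₀).scheme).Nonempty) i n M
    (U := ptIdxMk X x₀ _ hWne) (U' := ptIdxMk X x₀ _ hWne')
    (show (X.ptSubι x₀) ⁻¹ᵁ (N₀ ⊓ U'.1) ≤ (X.ptSubι x₀) ⁻¹ᵁ (N₀ ⊓ U.1) from fun _ hz => hNN hz) _

noncomputable def rhoCocone :
    Cocone (((idxDiag X (ContainsFj X 0)).op ⋙ T.H i n) ⋙
      (evaluation A.Cat (ModuleCat.{u} R)).obj M) where
  pt := T.ptGp X x₀ M i n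
  ι :=
    { app := fun U => rhoApp T X x₀ hp N₀ hxN₀ hN₀ M i n U.unop
      naturality := fun U U' f => by
        apply ModuleCat.hom_ext
        apply LinearMap.ext
        intro a
        exact rhoApp_natural T X x₀ hp N₀ hxN₀ hN₀ M i n (leOfHom f.unop) a }

noncomputable def rho : T.fjGp X 0 M i n ⟶ T.ptGp X x₀ M i n :=
  (cIsColimit T X (ContainsFj X 0) i n M).desc (rhoCocone T X x₀ hp N₀ hxN₀ hN₀ M i n)

theorem rho_ι (U : Idx X (ContainsFj X 0)) (a : T.gp (X.res U.1) M i n) :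
    (rho T X x₀ hp N₀ hxN₀ hN₀ M i n).hom (((T.fjι X 0 i n U).app M).hom a) =
      (rhoApp T X x₀ hp N₀ hxN₀ hN₀ M i n U).hom a := by
  have := (cIsColimit T X (ContainsFj X 0) i n M).fac
    (rhoCocone T X x₀ hp N₀ hxN₀ hN₀ M i n) (op U)
  exact congrArg (fun φ => φ.hom a) this

end Rho

section Push

variable (T : TheoryOn V R A) (X : Obj V) (P : T.PushData X 0) (M : A.Cat) (i n : ℤ)
  (hi : i = i + 2 * ((0 : ℕ) : ℤ)) (hn : n = n + ((0 : ℕ) : ℤ))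

theorem cpt_eq (x : X.cdPt 0) (Ũ : Idx X (ContainsFj X 0)) (hxŨ : x.1 ∈ Ũ.1)
    (b : T.gp ((X.ptSub x.1).res ((X.ptSubι x.1) ⁻¹ᵁ Ũ.1)) M i n)
    (hr : i = i + 2 * relCodim ((X.ptSub x.1).res ((X.ptSubι x.1) ⁻¹ᵁ Ũ.1)).scheme
      (X.res Ũ.1).scheme)
    (hr' : n = n + relCodim ((X.ptSub x.1).res ((X.ptSubι x.1) ⁻¹ᵁ Ũ.1)).scheme
      (X.res Ũ.1).scheme) :
    (P.cpt x M i n i n hi hn).hom
      (((T.ptι X x.1 i n (ptIdxMk X x.1 _ (nonempty_preimage X x.1 Ũ.1 hxŨ))).app M).hom b) =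
    ((T.fjι X 0 i n Ũ).app M).hom
      ((T.push ((X.ptSubι x.1) ∣_ Ũ.1) M i n i n hr hr').hom b) := by
  have h := P.cpt_spec x M i n i n hi hn Ũ
    (⟨(X.ptSubι x.1) ⁻¹ᵁ Ũ.1, nonempty_preimage X x.1 Ũ.1 hxŨ,
      (ptIdxMk X x.1 _ (nonempty_preimage X x.1 Ũ.1 hxŨ)).2.2⟩ : ptIdx X x.1)
    ((X.ptSubι x.1) ∣_ Ũ.1) (morphismRestrict_ι _ _) hr hr'
  exact congrArg (fun φ => φ.hom b) h

theorem cpt_rep (x : X.cdPt 0) (β : T.ptGp X x.1 M i n) :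
    ∃ (Ũ : Idx X (ContainsFj X 0)) (hxŨ : x.1 ∈ Ũ.1)
      (bt : T.gp ((X.ptSub x.1).res ((X.ptSubι x.1) ⁻¹ᵁ Ũ.1)) M i n)
      (hr : i = i + 2 * relCodim ((X.ptSub x.1).res ((X.ptSubι x.1) ⁻¹ᵁ Ũ.1)).scheme
        (X.res Ũ.1).scheme)
      (hr' : n = n + relCodim ((X.ptSub x.1).res ((X.ptSubι x.1) ⁻¹ᵁ Ũ.1)).scheme
        (X.res Ũ.1).scheme),
      ((T.ptι X x.1 i n (ptIdxMk X x.1 _ (nonempty_preimage X x.1 Ũ.1 hxŨ))).app M).hom bt = β ∧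
      (P.cpt x M i n i n hi hn).hom β = ((T.fjι X 0 i n Ũ).app M).hom
        ((T.push ((X.ptSubι x.1) ∣_ Ũ.1) M i n i n hr hr').hom bt) := by
  have hp := pdim_eq_of_codim_zero X x.1 x.2
  obtain ⟨W, b, rfl⟩ := exists_rep T.toPreTheory (X.ptSub x.1) _ i n M β
  have hFŨ : ContainsFj X 0 (Uof (X.ptSubι x.1) W.1) :=
    containsFj_zero_Uof X x.1 hp W.1 W.2.1
  have hxŨ : x.1 ∈ Uof (X.ptSubι x.1) W.1 := hFŨ x.1 (by rw [x.2])
  have hle : (X.ptSubι x.1) ⁻¹ᵁ (Uof (X.ptSubι x.1) W.1) ≤ W.1 := preimage_Uof_le _ _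
  have hne := nonempty_preimage X x.1 _ hxŨ
  have hd : WeilCoh.dim (((X.ptSubι x.1) ⁻¹ᵁ (Uof (X.ptSubι x.1) W.1) :
      (X.ptSub x.1).scheme.Opens) : Scheme.{u}) =
      WeilCoh.dim ((W.1 : (X.ptSub x.1).scheme.Opens) : Scheme.{u}) :=
    (dim_open_ptSub X x.1 _ hne).trans (W.2.2.trans (dim_ptSub X x.1)).symm
  have hrc := relCodim_preimage X x.1 hp _ hxŨ
  have hr : i = i + 2 * relCodim ((X.ptSub x.1).res
      ((X.ptSubι x.1) ⁻¹ᵁ (Uof (X.ptSubι x.1) W.1))).scheme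
      (X.res (Uof (X.ptSubι x.1) W.1)).scheme := by rw [hrc]; ring
  have hr' : n = n + relCodim ((X.ptSub x.1).res
      ((X.ptSubι x.1) ⁻¹ᵁ (Uof (X.ptSubι x.1) W.1))).scheme
      (X.res (Uof (X.ptSubι x.1) W.1)).scheme := by rw [hrc]; ring
  have h1 : ((T.ptι X x.1 i n (ptIdxMk X x.1 _ hne)).app M).hom
      ((T.pull ((X.ptSub x.1).resLE hle hd) M i n).hom b) =
      ((T.toPreTheory.ocolimι (X.ptSub x.1) _ i n W).app M).hom b :=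
    ι_pull T.toPreTheory (X.ptSub x.1) _ i n M (U := W) (U' := ptIdxMk X x.1 _ hne) hle b
  refine ⟨⟨_, hFŨ, dim_eq_of_containsFj X 0 _ hFŨ⟩, hxŨ,
    (T.pull ((X.ptSub x.1).resLE hle hd) M i n).hom b, hr, hr', h1, ?_⟩
  exact (congrArg (P.cpt x M i n i n hi hn).hom h1.symm).trans
    (cpt_eq T X P M i n hi hn x ⟨_, hFŨ, dim_eq_of_containsFj X 0 _ hFŨ⟩ hxŨ _ hr hr')

theorem step_aux (x : X.cdPt 0) (U : Idx X (ContainsFj X 0)) (a : T.gp (X.res U.1) M i n)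
    (Y : X.scheme.Opens) (hYU : Y ≤ U.1) (hxY : x.1 ∈ Y)
    (hdY : WeilCoh.dim (Y : Scheme.{u}) = WeilCoh.dim ((U.1 : X.scheme.Opens) : Scheme.{u}))
    (b : T.gp ((X.ptSub x.1).res ((X.ptSubι x.1) ⁻¹ᵁ Y)) M i n)
    (hr : i = i + 2 * relCodim ((X.ptSub x.1).res ((X.ptSubι x.1) ⁻¹ᵁ Y)).scheme
      (X.res Y).scheme)
    (hr' : n = n + relCodim ((X.ptSub x.1).res ((X.ptSubι x.1) ⁻¹ᵁ Y)).scheme
      (X.res Y).scheme)
    (hab : (T.pull (X.resLE hYU hdY) M i n).hom a =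
      (T.push ((X.ptSubι x.1) ∣_ Y) M i n i n hr hr').hom b)
    (Ũ : Idx X (ContainsFj X 0)) (hYŨ : Y ≤ Ũ.1)
    (hWtle : (X.ptSubι x.1) ⁻¹ᵁ Ũ.1 ≤ (X.ptSubι x.1) ⁻¹ᵁ Y) :
    ∃ (U₂ : Idx X (ContainsFj X 0)) (_ : U₂.1 ≤ U.1) (hY₂ : Y ≤ U₂.1)
      (a'' : T.gp (X.res U₂.1) M i n) (β : T.ptGp X x.1 M i n),
      (T.pull (X.resLE hY₂ (hdY.trans (U.2.2.trans U₂.2.2.symm))) M i n).hom a'' = 0 ∧
      ((T.fjι X 0 i n U).app M).hom a =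
        ((T.fjι X 0 i n U₂).app M).hom a'' + (P.cpt x M i n i n hi hn).hom β := by
  have hp := pdim_eq_of_codim_zero X x.1 x.2
  have hxŨ : x.1 ∈ Ũ.1 := hYŨ hxY
  have hWne := nonempty_preimage X x.1 Y hxY
  have hWtne := nonempty_preimage X x.1 Ũ.1 hxŨ
  have hdWt : WeilCoh.dim (((X.ptSubι x.1) ⁻¹ᵁ Ũ.1 : (X.ptSub x.1).scheme.Opens) : Scheme.{u}) =
      WeilCoh.dim (((X.ptSubι x.1) ⁻¹ᵁ Y : (X.ptSub x.1).scheme.Opens) : Scheme.{u}) :=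
    (dim_open_ptSub X x.1 _ hWtne).trans (dim_open_ptSub X x.1 _ hWne).symm
  have hrc := relCodim_preimage X x.1 hp Ũ.1 hxŨ
  have hrŨ : i = i + 2 * relCodim ((X.ptSub x.1).res ((X.ptSubι x.1) ⁻¹ᵁ Ũ.1)).scheme
      (X.res Ũ.1).scheme := by rw [hrc]; ring
  have hrŨ' : n = n + relCodim ((X.ptSub x.1).res ((X.ptSubι x.1) ⁻¹ᵁ Ũ.1)).scheme
      (X.res Ũ.1).scheme := by rw [hrc]; ring
  have hFU₂ : ContainsFj X 0 (U.1 ⊓ Ũ.1) := fun y hy => ⟨U.2.1 y hy, Ũ.2.1 y hy⟩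
  have hdU₂ : WeilCoh.dim ((U.1 ⊓ Ũ.1 : X.scheme.Opens) : Scheme.{u}) = WeilCoh.dim X.scheme :=
    dim_eq_of_containsFj X 0 _ hFU₂
  have hY₂ : Y ≤ U.1 ⊓ Ũ.1 := le_inf hYU hYŨ
  have hdYX : WeilCoh.dim (Y : Scheme.{u}) = WeilCoh.dim X.scheme := hdY.trans U.2.2
  obtain ⟨bt, hbt⟩ : ∃ bt, bt = (T.pull ((X.ptSub x.1).resLE hWtle hdWt) M i n).hom b := ⟨_, rfl⟩
  obtain ⟨ã, hã⟩ : ∃ ã, ã = (T.push ((X.ptSubι x.1) ∣_ Ũ.1) M i n i n hrŨ hrŨ').hom bt :=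
    ⟨_, rfl⟩
  obtain ⟨p, hpdef⟩ : ∃ p, p = (T.pull (X.resLE (inf_le_left : U.1 ⊓ Ũ.1 ≤ U.1)
      (hdU₂.trans U.2.2.symm)) M i n).hom a := ⟨_, rfl⟩
  obtain ⟨q, hqdef⟩ : ∃ q, q = (T.pull (X.resLE (inf_le_right : U.1 ⊓ Ũ.1 ≤ Ũ.1)
      (hdU₂.trans Ũ.2.2.symm)) M i n).hom ã := ⟨_, rfl⟩
  refine ⟨⟨U.1 ⊓ Ũ.1, hFU₂, hdU₂⟩, inf_le_left, hY₂, p - q,
    ((T.ptι X x.1 i n (ptIdxMk X x.1 _ hWtne)).app M).hom bt, ?_, ?_⟩
  · have hdYU₂ : WeilCoh.dim (Y : Scheme.{u}) =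
        WeilCoh.dim ((U.1 ⊓ Ũ.1 : X.scheme.Opens) : Scheme.{u}) := hdYX.trans hdU₂.symm
    have t1 : (T.pull (X.resLE hY₂ hdYU₂) M i n).hom p =
        (T.push ((X.ptSubι x.1) ∣_ Y) M i n i n hr hr').hom b := by
      rw [hpdef]
      exact (pull_resLE_trans T.toPreTheory X hY₂ inf_le_left hdYU₂ (hdU₂.trans U.2.2.symm)
        hdY M i n a).trans hab
    have hdZ' : WeilCoh.dim (((X.ptSubι x.1) ⁻¹ᵁ Y : (X.ptSub x.1).scheme.Opens) : Scheme.{u}) =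
        WeilCoh.dim (((X.ptSubι x.1) ⁻¹ᵁ Ũ.1 : (X.ptSub x.1).scheme.Opens) : Scheme.{u}) :=
      hdWt.symm
    have t3 := push_pull_piece T.toPreTheory (X.ptSubι x.1) hYŨ (hdYX.trans Ũ.2.2.symm) hdZ'
      M i n i n hrŨ hrŨ' hr hr' bt
    have t4 : (T.pull ((X.ptSub x.1).resLE
        (show (X.ptSubι x.1) ⁻¹ᵁ Y ≤ (X.ptSubι x.1) ⁻¹ᵁ Ũ.1 from fun _ hz => hYŨ hz) hdZ')
        M i n).hom bt = b := by
      rw [hbt]
      exact (pull_resLE_trans T.toPreTheory (X.ptSub x.1) _ hWtle hdZ' hdWt rfl M i n b).trans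
        (pull_resLE_refl T.toPreTheory (X.ptSub x.1) _ rfl M i n b)
    have t2 : (T.pull (X.resLE hY₂ hdYU₂) M i n).hom q =
        (T.push ((X.ptSubι x.1) ∣_ Y) M i n i n hr hr').hom b := by
      rw [hqdef]
      refine (pull_resLE_trans T.toPreTheory X hY₂ inf_le_right hdYU₂ (hdU₂.trans Ũ.2.2.symm)
        (hdYX.trans Ũ.2.2.symm) M i n ã).trans ?_
      rw [hã]
      exact t3.trans (congrArg _ t4)
    exact (map_sub _ p q).trans (by rw [t1, t2]; exact sub_self _)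
  · have s1 : ((T.fjι X 0 i n ⟨U.1 ⊓ Ũ.1, hFU₂, hdU₂⟩).app M).hom p =
        ((T.fjι X 0 i n U).app M).hom a := by
      rw [hpdef]
      exact ι_pull T.toPreTheory X (ContainsFj X 0) i n M (U := U)
        (U' := ⟨U.1 ⊓ Ũ.1, hFU₂, hdU₂⟩) (inf_le_left : U.1 ⊓ Ũ.1 ≤ U.1) a
    have s2 : ((T.fjι X 0 i n ⟨U.1 ⊓ Ũ.1, hFU₂, hdU₂⟩).app M).hom q =
        ((T.fjι X 0 i n Ũ).app M).hom ã := by
      rw [hqdef]
      exact ι_pull T.toPreTheory X (ContainsFj X 0) i n M (U := Ũ)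
        (U' := ⟨U.1 ⊓ Ũ.1, hFU₂, hdU₂⟩) (inf_le_right : U.1 ⊓ Ũ.1 ≤ Ũ.1) ã
    have s3 := cpt_eq T X P M i n hi hn x Ũ hxŨ bt hrŨ hrŨ'
    rw [map_sub, s1, s2, s3, ← hã]
    exact (sub_add_cancel _ _).symm

theorem step (x : X.cdPt 0) (U : Idx X (ContainsFj X 0)) (a : T.gp (X.res U.1) M i n)
    (Y : X.scheme.Opens) (hYU : Y ≤ U.1) (hxY : x.1 ∈ Y)
    (hdY : WeilCoh.dim (Y : Scheme.{u}) = WeilCoh.dim ((U.1 : X.scheme.Opens) : Scheme.{u}))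
    (b : T.gp ((X.ptSub x.1).res ((X.ptSubι x.1) ⁻¹ᵁ Y)) M i n)
    (hr : i = i + 2 * relCodim ((X.ptSub x.1).res ((X.ptSubι x.1) ⁻¹ᵁ Y)).scheme
      (X.res Y).scheme)
    (hr' : n = n + relCodim ((X.ptSub x.1).res ((X.ptSubι x.1) ⁻¹ᵁ Y)).scheme
      (X.res Y).scheme)
    (hab : (T.pull (X.resLE hYU hdY) M i n).hom a =
      (T.push ((X.ptSubι x.1) ∣_ Y) M i n i n hr hr').hom b) :
    ∃ (U₂ : Idx X (ContainsFj X 0)) (_ : U₂.1 ≤ U.1) (hY₂ : Y ≤ U₂.1)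
      (a'' : T.gp (X.res U₂.1) M i n) (β : T.ptGp X x.1 M i n),
      (T.pull (X.resLE hY₂ (hdY.trans (U.2.2.trans U₂.2.2.symm))) M i n).hom a'' = 0 ∧
      ((T.fjι X 0 i n U).app M).hom a =
        ((T.fjι X 0 i n U₂).app M).hom a'' + (P.cpt x M i n i n hi hn).hom β := by
  have hp := pdim_eq_of_codim_zero X x.1 x.2
  have hWne := nonempty_preimage X x.1 Y hxY
  have hFŨ : ContainsFj X 0 (Uof (X.ptSubι x.1) ((X.ptSubι x.1) ⁻¹ᵁ Y)) :=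
    containsFj_zero_Uof X x.1 hp _ hWne
  have hYŨ : Y ≤ Uof (X.ptSubι x.1) ((X.ptSubι x.1) ⁻¹ᵁ Y) := fun y hy =>
    (mem_Uof _ _ _).mpr fun z hz => by
      show (X.ptSubι x.1) z ∈ Y
      rw [hz]; exact hy
  exact step_aux T X P M i n hi hn x U a Y hYU hxY hdY b hr hr' hab
    ⟨_, hFŨ, dim_eq_of_containsFj X 0 _ hFŨ⟩ hYŨ (preimage_Uof_le _ _)

end Push

end Groth.Agent.H79.BMZero
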