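import Groth.Agent.H79.BMZero

set_option autoImplicit false
universe u
open AlgebraicGeometry CategoryTheory CategoryTheory.Limits Opposite TopologicalSpace Topology BMCoh

namespace Groth.Agent.H79.BMZero

open Groth.Agent.H79.BMDim Groth.Agent.H79.BMGeom Groth.Agent.H79.BMCore Groth.Agent.H79.BMPiece
  Groth.Agent.H79.BMStep

variable {V : ObjectProperty Scheme.{u}} [IsConstructible V] {R : Type u} [CommRing R]
  {A : Coefs R}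

section Surj

variable (T : TheoryOn V R A) (X : Obj V) (P : T.PushData X 0) (M : A.Cat)

theorem peel_range (i n : ℤ) (hi : i = i + 2 * ((0 : ℕ) : ℤ)) (hn : n = n + ((0 : ℕ) : ℤ)) :
    ∀ (C : Closeds X.scheme) (U : Idx X (ContainsFj X 0)) (a : T.gp (X.res U.1) M i n)
      (U' : X.scheme.Opens) (hle : U' ≤ U.1)
      (hd : WeilCoh.dim (U' : Scheme.{u}) = WeilCoh.dim X.scheme),
      ((U' : Set X.scheme)ᶜ = (C : Set X.scheme)) →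
      (T.pull (X.resLE hle (hd.trans U.2.2.symm)) M i n).hom a = 0 →
      ∃ s : T.ptSum X 0 M i n,
        (P.tot M i n i n hi hn).hom s = ((T.fjι X 0 i n U).app M).hom a := by
  classical
  obtain ⟨i₀, rfl⟩ : ∃ i₀, i = i₀ + 1 := ⟨i - 1, by ring⟩
  intro C
  induction C using WellFoundedLT.induction with
  | ind C IH =>
  intro U a U' hle hd hC ha
  by_cases hall : ContainsFj X 0 U'
  · refine ⟨0, ?_⟩
    have hp := ι_pull T.toPreTheory X (ContainsFj X 0) (i₀ + 1) n M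
      (U := U) (U' := ⟨U', hall, hd⟩) hle a
    have h2 : (T.pull ((idxDiag X (ContainsFj X 0)).map
        (homOfLE (show (⟨U', hall, hd⟩ : Idx X (ContainsFj X 0)) ≤ U from hle)))
        M (i₀ + 1) n).hom a = 0 := ha
    rw [map_zero]
    exact (hp.symm.trans ((congrArg _ h2).trans (map_zero _))).symm
  · unfold ContainsFj at hall
    push Not at hall
    obtain ⟨x₁, hxc, hxU⟩ := hall
    have hcod : WeilCoh.codim X.scheme x₁ = 0 := by omega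
    have hp : WeilCoh.pdim X.scheme x₁ = WeilCoh.dim X.scheme :=
      pdim_eq_of_codim_zero X x₁ hcod
    have hxU1 : x₁ ∈ U.1 := U.2.1 x₁ hxc
    have hmax : ∀ y : X.scheme, y ∉ U' →
        WeilCoh.pdim X.scheme y ≤ WeilCoh.pdim X.scheme x₁ :=
      fun y _ => by rw [hp]; exact pdim_le_dim X y
    obtain ⟨Y₀, hU₀Y₀, hxY₀, hcompl⟩ := exists_piece' X x₁ U' hxU hmax
    have hU'Y : U' ≤ Y₀ ⊓ U.1 := le_inf hU₀Y₀ hle
    have hxY : x₁ ∈ Y₀ ⊓ U.1 := ⟨hxY₀, hxU1⟩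
    have hdY : WeilCoh.dim ((Y₀ ⊓ U.1 : X.scheme.Opens) : Scheme.{u}) = WeilCoh.dim X.scheme :=
      dim_eq_of_mem_of_pdim X _ hxY hp
    have hcompl' : ∀ y : X.scheme, y ∈ Y₀ ⊓ U.1 →
        (y ∈ U' ↔ y ∉ Set.range (X.ptSubι x₁)) := by
      rw [range_ptSubι]; exact fun y hy => hcompl y hy.1
    have hdU' : WeilCoh.dim (U' : Scheme.{u}) =
        WeilCoh.dim ((Y₀ ⊓ U.1 : X.scheme.Opens) : Scheme.{u}) := hd.trans hdY.symm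
    have hdYU : WeilCoh.dim ((Y₀ ⊓ U.1 : X.scheme.Opens) : Scheme.{u}) =
        WeilCoh.dim ((U.1 : X.scheme.Opens) : Scheme.{u}) := hdY.trans U.2.2.symm
    have hrc := relCodim_preimage X x₁ hp (Y₀ ⊓ U.1) hxY
    have hi' : i₀ + 1 = (i₀ + 1) + 2 * relCodim
        ((X.ptSub x₁).res ((X.ptSubι x₁) ⁻¹ᵁ (Y₀ ⊓ U.1))).scheme (X.res (Y₀ ⊓ U.1)).scheme := by
      rw [hrc]; ring
    have hn' : n = n + relCodim
        ((X.ptSub x₁).res ((X.ptSubι x₁) ⁻¹ᵁ (Y₀ ⊓ U.1))).scheme (X.res (Y₀ ⊓ U.1)).scheme := by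
      rw [hrc]; ring
    have haY : (T.pull (gDecomp (X.ptSubι x₁) (Y₀ ⊓ U.1) U' hU'Y hdU' hcompl').j M
        (i₀ + 1) n).hom
        ((T.pull (X.resLE (inf_le_right : Y₀ ⊓ U.1 ≤ U.1) hdYU) M (i₀ + 1) n).hom a) = 0 :=
      (pull_resLE_trans T.toPreTheory X hU'Y inf_le_right hdU' hdYU
        (hd.trans U.2.2.symm) M _ n a).trans ha
    obtain ⟨b, hb⟩ := (T.exact_push_pull
      (gDecomp (X.ptSubι x₁) (Y₀ ⊓ U.1) U' hU'Y hdU' hcompl') M i₀ n (i₀ + 1) n hi' hn'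
      ((T.pull (X.resLE (inf_le_right : Y₀ ⊓ U.1 ≤ U.1) hdYU) M (i₀ + 1) n).hom a)).mp haY
    obtain ⟨U₂, -, hY₂, a'', β, h0, heq⟩ := step T X P M (i₀ + 1) n hi hn ⟨x₁, hcod⟩ U a
      (Y₀ ⊓ U.1) inf_le_right hxY hdYU b hi' hn' hb.symm
    have hlt : (⟨((Y₀ ⊓ U.1 : X.scheme.Opens) : Set X.scheme)ᶜ,
        (Y₀ ⊓ U.1).isOpen.isClosed_compl⟩ : Closeds X.scheme) < C := by
      refine SetLike.lt_iff_le_and_exists.mpr ⟨?_, x₁, ?_, ?_⟩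
      · intro y hy
        show y ∈ (C : Set X.scheme)
        rw [← hC]
        exact fun hyU => hy (hU'Y hyU)
      · show x₁ ∈ (C : Set X.scheme)
        rw [← hC]; exact hxU
      · exact fun h => h hxY
    obtain ⟨s', hs'⟩ := IH _ hlt U₂ a'' (Y₀ ⊓ U.1) hY₂ hdY rfl h0
    refine ⟨s' + DirectSum.lof R (X.cdPt 0) (fun y : X.cdPt 0 => T.ptGp X y.1 M (i₀ + 1) n)
      ⟨x₁, hcod⟩ β, ?_⟩
    rw [map_add, hs', PreTheory.PushData.tot_lof]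
    exact heq.symm

theorem surj [IsReduced X.scheme] (i n : ℤ) (hi : i = i + 2 * ((0 : ℕ) : ℤ))
    (hn : n = n + ((0 : ℕ) : ℤ)) : Function.Surjective (P.tot M i n i n hi hn).hom := by
  classical
  intro β
  obtain ⟨U, a, rfl⟩ := exists_rep T.toPreTheory X (ContainsFj X 0) i n M β
  rcases isEmpty_or_nonempty X.scheme with he | hne
  · haveI : IsEmpty (X.res U.1).scheme := ⟨fun z => he.elim z.1⟩
    refine ⟨0, ?_⟩
    rw [eq_zero_of_isEmpty T.toPreTheory (X.res U.1) M i n a, map_zero, map_zero]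
  obtain ⟨x₁, hx₁⟩ := exists_pdim_eq_dim X
  have hcod : WeilCoh.codim X.scheme x₁ = 0 := by unfold WeilCoh.codim; omega
  have hx₁U : x₁ ∈ U.1 := U.2.1 x₁ (by omega)
  obtain ⟨C₁, hC₁, -, hxC₁, hcov⟩ := exists_closed_complement X isClosed_univ (x := x₁)
    (fun z _ => by rw [hx₁]; exact pdim_le_dim X z)
  have hxN : x₁ ∈ (⟨C₁ᶜ, hC₁.isOpen_compl⟩ : X.scheme.Opens) ⊓ U.1 := ⟨hxC₁, hx₁U⟩
  have hNcl : ∀ y : X.scheme, y ∈ (⟨C₁ᶜ, hC₁.isOpen_compl⟩ : X.scheme.Opens) ⊓ U.1 →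
      y ∈ closure ({x₁} : Set X.scheme) :=
    fun y hy => (hcov (Set.mem_univ y)).resolve_left hy.1
  generalize hNdef : (⟨C₁ᶜ, hC₁.isOpen_compl⟩ : X.scheme.Opens) ⊓ U.1 = N at hxN hNcl
  have hNU : N ≤ U.1 := by rw [← hNdef]; exact inf_le_right
  have hdN : WeilCoh.dim (N : Scheme.{u}) = WeilCoh.dim X.scheme :=
    dim_eq_of_mem_of_pdim X N hxN hx₁
  have hdNU : WeilCoh.dim (N : Scheme.{u}) = WeilCoh.dim ((U.1 : X.scheme.Opens) : Scheme.{u}) :=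
    hdN.trans U.2.2.symm
  haveI := isIso_phi_hom X x₁ hx₁ N hxN hNcl
  haveI := isProper_phi_hom X x₁ hx₁ N hxN hNcl
  have hrc := relCodim_preimage X x₁ hx₁ N hxN
  have hr : i = i + 2 * relCodim ((X.ptSub x₁).res ((X.ptSubι x₁) ⁻¹ᵁ N)).scheme
      (X.res N).scheme := by rw [hrc]; ring
  have hr' : n = n + relCodim ((X.ptSub x₁).res ((X.ptSubι x₁) ⁻¹ᵁ N)).scheme
      (X.res N).scheme := by rw [hrc]; ring
  have hab : (T.pull (X.resLE hNU hdNU) M i n).hom a =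
      (T.push ((X.ptSubι x₁) ∣_ N) M i n i n hr hr').hom
        ((T.pull (phi X x₁ hx₁ N hxN hNcl) M i n).hom
          ((T.pull (X.resLE hNU hdNU) M i n).hom a)) := by
    apply pull_injective_of_isIso T.toPreTheory (phi X x₁ hx₁ N hxN hNcl) M i n
    exact (pull_push_self T.toPreTheory (phi X x₁ hx₁ N hxN hNcl) M i n hr hr' _).symm
  obtain ⟨U₂, -, hY₂, a'', β, h0, heq⟩ := step T X P M i n hi hn ⟨x₁, hcod⟩ U a N hNU hxN hdNU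
    _ hr hr' hab
  obtain ⟨s', hs'⟩ := peel_range T X P M i n hi hn
    ⟨(N : Set X.scheme)ᶜ, N.isOpen.isClosed_compl⟩ U₂ a'' N hY₂ hdN rfl h0
  refine ⟨s' + DirectSum.lof R (X.cdPt 0) (fun y : X.cdPt 0 => T.ptGp X y.1 M i n)
    ⟨x₁, hcod⟩ β, ?_⟩
  rw [map_add, hs', PreTheory.PushData.tot_lof]
  exact heq.symm

end Surj

section Inj

variable (T : TheoryOn V R A) (X : Obj V) [IsReduced X.scheme] (P : T.PushData X 0) (M : A.Cat)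

theorem rho_cpt_self (i n : ℤ) (hi : i = i + 2 * ((0 : ℕ) : ℤ)) (hn : n = n + ((0 : ℕ) : ℤ))
    (x₀ : X.cdPt 0) (hp : WeilCoh.pdim X.scheme x₀.1 = WeilCoh.dim X.scheme)
    (N₀ : X.scheme.Opens) (hxN₀ : x₀.1 ∈ N₀)
    (hN₀ : ∀ y : X.scheme, y ∈ N₀ → y ∈ closure ({x₀.1} : Set X.scheme))
    (β : T.ptGp X x₀.1 M i n) :
    (rho T.toPreTheory X x₀.1 hp N₀ hxN₀ hN₀ M i n).hom ((P.cpt x₀ M i n i n hi hn).hom β) = β := by
  obtain ⟨Ũ, hxŨ, bt, hr, hr', hβ, hc⟩ := cpt_rep T X P M i n hi hn x₀ β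
  rw [hc, rho_ι, rhoApp_apply]
  have hxN : x₀.1 ∈ N₀ ⊓ Ũ.1 := ⟨hxN₀, hxŨ⟩
  have hdN : WeilCoh.dim ((N₀ ⊓ Ũ.1 : X.scheme.Opens) : Scheme.{u}) = WeilCoh.dim X.scheme :=
    dim_eq_of_mem_of_pdim X _ hxN hp
  have hWne := nonempty_preimage X x₀.1 _ hxN
  have hWtne := nonempty_preimage X x₀.1 Ũ.1 hxŨ
  have hdZ : WeilCoh.dim (((X.ptSubι x₀.1) ⁻¹ᵁ (N₀ ⊓ Ũ.1) : (X.ptSub x₀.1).scheme.Opens) :
      Scheme.{u}) =
      WeilCoh.dim (((X.ptSubι x₀.1) ⁻¹ᵁ Ũ.1 : (X.ptSub x₀.1).scheme.Opens) : Scheme.{u}) :=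
    (dim_open_ptSub X x₀.1 _ hWne).trans (dim_open_ptSub X x₀.1 _ hWtne).symm
  have hrc := relCodim_preimage X x₀.1 hp _ hxN
  have hrN : i = i + 2 * relCodim ((X.ptSub x₀.1).res ((X.ptSubι x₀.1) ⁻¹ᵁ (N₀ ⊓ Ũ.1))).scheme
      (X.res (N₀ ⊓ Ũ.1)).scheme := by rw [hrc]; ring
  have hrN' : n = n + relCodim ((X.ptSub x₀.1).res ((X.ptSubι x₀.1) ⁻¹ᵁ (N₀ ⊓ Ũ.1))).scheme
      (X.res (N₀ ⊓ Ũ.1)).scheme := by rw [hrc]; ring
  have t3 := push_pull_piece T.toPreTheory (X.ptSubι x₀.1) (inf_le_right : N₀ ⊓ Ũ.1 ≤ Ũ.1)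
    (hdN.trans Ũ.2.2.symm) hdZ M i n i n hr hr' hrN hrN' bt
  rw [t3]
  haveI := isProper_phi_hom X x₀.1 hp (N₀ ⊓ Ũ.1) (mem_inf_idx X x₀.1 hp N₀ hxN₀ Ũ)
    (fun y hy => hN₀ y hy.1)
  have t4 : (T.pull (phi X x₀.1 hp (N₀ ⊓ Ũ.1) (mem_inf_idx X x₀.1 hp N₀ hxN₀ Ũ)
      (fun y hy => hN₀ y hy.1)) M i n).hom
      ((T.push ((X.ptSubι x₀.1) ∣_ (N₀ ⊓ Ũ.1)) M i n i n hrN hrN').hom
        ((T.pull ((X.ptSub x₀.1).resLE
          (show (X.ptSubι x₀.1) ⁻¹ᵁ (N₀ ⊓ Ũ.1) ≤ (X.ptSubι x₀.1) ⁻¹ᵁ Ũ.1 from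
            fun _ hz => (inf_le_right : N₀ ⊓ Ũ.1 ≤ Ũ.1) hz) hdZ) M i n).hom bt)) =
      (T.pull ((X.ptSub x₀.1).resLE
          (show (X.ptSubι x₀.1) ⁻¹ᵁ (N₀ ⊓ Ũ.1) ≤ (X.ptSubι x₀.1) ⁻¹ᵁ Ũ.1 from
            fun _ hz => (inf_le_right : N₀ ⊓ Ũ.1 ≤ Ũ.1) hz) hdZ) M i n).hom bt :=
    pull_push_self T.toPreTheory (phi X x₀.1 hp (N₀ ⊓ Ũ.1) (mem_inf_idx X x₀.1 hp N₀ hxN₀ Ũ)
      (fun y hy => hN₀ y hy.1)) M i n hrN hrN' _
  rw [t4, ← hβ]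
  exact ι_pull T.toPreTheory (X.ptSub x₀.1)
    (fun U => (U : Set (X.ptSub x₀.1).scheme).Nonempty) i n M
    (U := ptIdxMk X x₀.1 _ hWtne) (U' := ptIdxMk X x₀.1 _ hWne)
    (show (X.ptSubι x₀.1) ⁻¹ᵁ (N₀ ⊓ Ũ.1) ≤ (X.ptSubι x₀.1) ⁻¹ᵁ Ũ.1 from
      fun _ hz => (inf_le_right : N₀ ⊓ Ũ.1 ≤ Ũ.1) hz) bt

theorem rho_cpt_ne (i n : ℤ) (hi : i = i + 2 * ((0 : ℕ) : ℤ)) (hn : n = n + ((0 : ℕ) : ℤ))
    (x₀ : X.scheme) (hp : WeilCoh.pdim X.scheme x₀ = WeilCoh.dim X.scheme)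
    (N₀ : X.scheme.Opens) (hxN₀ : x₀ ∈ N₀)
    (hN₀ : ∀ y : X.scheme, y ∈ N₀ → y ∈ closure ({x₀} : Set X.scheme))
    (x : X.cdPt 0) (hne : x.1 ≠ x₀) (β : T.ptGp X x.1 M i n) :
    (rho T.toPreTheory X x₀ hp N₀ hxN₀ hN₀ M i n).hom ((P.cpt x M i n i n hi hn).hom β) = 0 := by
  obtain ⟨i₀, rfl⟩ : ∃ i₀, i = i₀ + 1 := ⟨i - 1, by ring⟩
  obtain ⟨Ũ, hxŨ, bt, hr, hr', -, hc⟩ := cpt_rep T X P M (i₀ + 1) n hi hn x β
  rw [hc, rho_ι, rhoApp_apply]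
  have hpx := pdim_eq_of_codim_zero X x.1 x.2
  have hx₀Ũ : x₀ ∈ Ũ.1 := mem_idx X x₀ hp Ũ
  have hx₀cl : x₀ ∉ closure ({x.1} : Set X.scheme) :=
    not_mem_closure_of_ne X hpx hp (Ne.symm hne)
  have hxcl : x.1 ∉ closure ({x₀} : Set X.scheme) := not_mem_closure_of_ne X hp hpx hne
  have hU₀le : Ũ.1 ⊓ ⟨(closure ({x.1} : Set X.scheme))ᶜ, isClosed_closure.isOpen_compl⟩ ≤ Ũ.1 :=
    inf_le_left
  have hx₀U₀ : x₀ ∈ Ũ.1 ⊓ ⟨(closure ({x.1} : Set X.scheme))ᶜ, isClosed_closure.isOpen_compl⟩ :=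
    ⟨hx₀Ũ, hx₀cl⟩
  have hdU₀X := dim_eq_of_mem_of_pdim X _ hx₀U₀ hp
  have hdU₀ : WeilCoh.dim ((Ũ.1 ⊓ ⟨(closure ({x.1} : Set X.scheme))ᶜ,
      isClosed_closure.isOpen_compl⟩ : X.scheme.Opens) : Scheme.{u}) =
      WeilCoh.dim ((Ũ.1 : X.scheme.Opens) : Scheme.{u}) := hdU₀X.trans Ũ.2.2.symm
  have hcompl : ∀ y : X.scheme, y ∈ Ũ.1 →
      (y ∈ Ũ.1 ⊓ ⟨(closure ({x.1} : Set X.scheme))ᶜ, isClosed_closure.isOpen_compl⟩ ↔
        y ∉ Set.range (X.ptSubι x.1)) := by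
    rw [range_ptSubι]; exact fun y hy => ⟨fun h => h.2, fun h => ⟨hy, h⟩⟩
  have hNle : N₀ ⊓ Ũ.1 ≤
      Ũ.1 ⊓ ⟨(closure ({x.1} : Set X.scheme))ᶜ, isClosed_closure.isOpen_compl⟩ :=
    fun y hy => ⟨hy.2, fun hyc => hxcl (hN₀ x.1
      ((specializes_iff_mem_closure.mpr hyc).mem_open N₀.isOpen hy.1))⟩
  have hex := T.exact_push_pull (gDecomp (X.ptSubι x.1) Ũ.1 _ hU₀le hdU₀ hcompl) M i₀ n
    (i₀ + 1) n hr hr'
  have h0 : (T.pull (X.resLE hU₀le hdU₀) M (i₀ + 1) n).hom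
      ((T.push ((X.ptSubι x.1) ∣_ Ũ.1) M (i₀ + 1) n (i₀ + 1) n hr hr').hom bt) = 0 :=
    (hex _).mpr ⟨bt, rfl⟩
  have hdN := dim_eq_of_mem_of_pdim X (N₀ ⊓ Ũ.1) ⟨hxN₀, hx₀Ũ⟩ hp
  have e := pull_resLE_trans T.toPreTheory X hNle hU₀le (hdN.trans hdU₀X.symm) hdU₀
    (hdN.trans Ũ.2.2.symm) M (i₀ + 1) n
    ((T.push ((X.ptSubι x.1) ∣_ Ũ.1) M (i₀ + 1) n (i₀ + 1) n hr hr').hom bt)
  rw [h0, map_zero] at e
  rw [← e, map_zero]
  exact map_zero _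

theorem inj (i n : ℤ) (hi : i = i + 2 * ((0 : ℕ) : ℤ)) (hn : n = n + ((0 : ℕ) : ℤ)) :
    Function.Injective (P.tot M i n i n hi hn).hom := by
  classical
  rw [injective_iff_map_eq_zero]
  intro s hs
  refine DirectSum.ext_component R fun x₀ => ?_
  have hp := pdim_eq_of_codim_zero X x₀.1 x₀.2
  obtain ⟨C₁, hC₁, -, hxC₁, hcov⟩ := exists_closed_complement X isClosed_univ (x := x₀.1)
    (fun z _ => by rw [hp]; exact pdim_le_dim X z)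
  have hN₀ : ∀ y : X.scheme, y ∈ (⟨C₁ᶜ, hC₁.isOpen_compl⟩ : X.scheme.Opens) →
      y ∈ closure ({x₀.1} : Set X.scheme) :=
    fun y hy => (hcov (Set.mem_univ y)).resolve_left hy
  have key : ∀ s' : (DirectSum (X.cdPt 0) fun y : X.cdPt 0 => T.ptGp X y.1 M i n),
      (rho T.toPreTheory X x₀.1 hp ⟨C₁ᶜ, hC₁.isOpen_compl⟩ hxC₁ hN₀ M i n).hom
        ((P.tot M i n i n hi hn).hom s') =
      DirectSum.component R (X.cdPt 0) (fun y : X.cdPt 0 => T.ptGp X y.1 M i n) x₀ s' := by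
    intro s'
    induction s' using DirectSum.induction_on with
    | zero => rw [map_zero, map_zero, map_zero]
    | of x β =>
      have h := PreTheory.PushData.tot_lof P M i n i n hi hn x β
      show (rho T.toPreTheory X x₀.1 hp ⟨C₁ᶜ, hC₁.isOpen_compl⟩ hxC₁ hN₀ M i n).hom
        ((P.tot M i n i n hi hn).hom (DirectSum.lof R (X.cdPt 0)
          (fun y : X.cdPt 0 => T.ptGp X y.1 M i n) x β)) =
        DirectSum.component R (X.cdPt 0) (fun y : X.cdPt 0 => T.ptGp X y.1 M i n) x₀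
          (DirectSum.lof R (X.cdPt 0) (fun y : X.cdPt 0 => T.ptGp X y.1 M i n) x β)
      rw [h]
      by_cases hx : x = x₀
      · subst hx
        rw [DirectSum.component.lof_self]
        exact rho_cpt_self T X P M i n hi hn x hp _ hxC₁ hN₀ β
      · rw [DirectSum.component.of, dif_neg hx]
        exact rho_cpt_ne T X P M i n hi hn x₀.1 hp _ hxC₁ hN₀ x
          (fun h => hx (Subtype.ext h)) β
    | add s₁ s₂ h₁ h₂ => rw [map_add, map_add, map_add, h₁, h₂]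
  have h := key s
  rw [hs, map_zero] at h
  rw [map_zero]
  exact h.symm

end Inj

end Groth.Agent.H79.BMZero
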