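import Mathlib
import Groth.Agent.H50.RingCartier

/-!
# Descent of "locally generated by one nonzerodivisor" along a flat map from a Noetherian ring
(helper79)

No finite presentation hypothesis on the flat map (e.g. a field extension `k → K`).
-/

set_option autoImplicit false
set_option linter.unusedVariables false
set_option linter.style.haveILetI false

universe u

namespace Groth.Agent.H79.CartierNoeth

/-- common multiplier over a finset -/
theorem exists_common_mult {A : Type*} [CommRing A] (p : Ideal A) [hp : p.IsPrime] (s : Finset A)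
    (P : A → A → Prop) (hmul : ∀ u u' b, P u b → P (u' * u) b)
    (hP : ∀ b ∈ s, ∃ u, u ∉ p ∧ P u b) : ∃ u, u ∉ p ∧ ∀ b ∈ s, P u b := by
  classical
  induction s using Finset.induction_on with
  | empty => exact ⟨1, fun h => hp.ne_top ((Ideal.eq_top_iff_one _).mpr h), by simp⟩
  | insert b s hb ih =>
    obtain ⟨u, hu, hus⟩ := ih (fun b' hb' => hP b' (Finset.mem_insert_of_mem hb'))
    obtain ⟨v, hv, hvb⟩ := hP b (Finset.mem_insert_self b s)
    refine ⟨u * v, fun h => (hp.mem_or_mem h).elim hu hv, ?_⟩
    intro b' hb'
    rcases Finset.mem_insert.mp hb' with rfl | hb'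
    · exact hmul v u _ hvb
    · rw [mul_comm]; exact hmul u v _ (hus b' hb')

/-- **Spreading out** a principal generator that is a nonzerodivisor in the local ring. -/
theorem spread_principal_nzd {A : Type u} [CommRing A] [IsNoetherianRing A] (I : Ideal A)
    (p : Ideal A) [hp : p.IsPrime] (a : A) (ha : a ∈ I)
    (hgen : I.map (algebraMap A (Localization.AtPrime p)) ≤
      Ideal.span {algebraMap A (Localization.AtPrime p) a})
    (hnzd : algebraMap A (Localization.AtPrime p) a ∈ nonZeroDivisors (Localization.AtPrime p)) :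
    ∃ h : A, h ∉ p ∧ ∀ (A' : Type u) [CommRing A'] [Algebra A A'] [IsLocalization.Away h A'],
      algebraMap A A' a ∈ nonZeroDivisors A' ∧
        I.map (algebraMap A A') = Ideal.span {algebraMap A A' a} := by
  classical
  obtain ⟨s, hs⟩ := (isNoetherianRing_iff_ideal_fg A).mp inferInstance I
  have h1 : ∀ b ∈ s, ∃ u, u ∉ p ∧ u * b ∈ Ideal.span {a} := by
    intro b hb
    have hbI : b ∈ I := hs ▸ Ideal.subset_span hb
    have h2 : algebraMap A (Localization.AtPrime p) b ∈
        (Ideal.span {a}).map (algebraMap A (Localization.AtPrime p)) := by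
      rw [Ideal.map_span, Set.image_singleton]
      exact hgen (Ideal.mem_map_of_mem _ hbI)
    obtain ⟨⟨i, t⟩, h3⟩ := (IsLocalization.mem_map_algebraMap_iff p.primeCompl
      (Localization.AtPrime p)).mp h2
    rw [← map_mul] at h3
    obtain ⟨c, hc⟩ := (IsLocalization.eq_iff_exists p.primeCompl (Localization.AtPrime p)).mp h3
    refine ⟨c * t, p.primeCompl.mul_mem c.2 t.2, ?_⟩
    have : (c : A) * t * b = c * i := by rw [← hc]; ring
    rw [this]
    exact Ideal.mul_mem_left _ _ i.2
  obtain ⟨u, hu, hus⟩ := exists_common_mult p s (fun u b => u * b ∈ Ideal.span {a})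
    (fun u u' b h => by rw [mul_assoc]; exact Ideal.mul_mem_left _ _ h) h1
  have huI : ∀ x ∈ I, u * x ∈ Ideal.span {a} := by
    intro x hx
    rw [← hs] at hx
    refine Submodule.span_induction ?_ ?_ ?_ ?_ hx
    · intro b hb; exact hus b hb
    · simp
    · intro x y _ _ hx hy; rw [mul_add]; exact Ideal.add_mem _ hx hy
    · intro r x _ hx; rw [smul_eq_mul, mul_left_comm]; exact Ideal.mul_mem_left _ _ hx
  -- the annihilator of `a`
  obtain ⟨K, hK⟩ : ∃ K : Ideal A, ∀ x, x ∈ K ↔ a * x = 0 :=
    ⟨LinearMap.ker (LinearMap.mulLeft A a), fun x => by simp⟩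
  obtain ⟨s', hs'⟩ := (isNoetherianRing_iff_ideal_fg A).mp inferInstance K
  have h3 : ∀ e ∈ s', ∃ v, v ∉ p ∧ v * e = 0 := by
    intro e he
    have heK : a * e = 0 := (hK e).mp (hs' ▸ Ideal.subset_span he)
    have h4 : algebraMap A (Localization.AtPrime p) e = 0 := by
      have h5 : algebraMap A (Localization.AtPrime p) e * algebraMap A (Localization.AtPrime p) a
          = 0 := by rw [← map_mul, mul_comm, heK, map_zero]
      exact (mem_nonZeroDivisors_iff_right.mp hnzd) _ h5
    obtain ⟨m, hm⟩ := (IsLocalization.map_eq_zero_iff p.primeCompl (Localization.AtPrime p) e).mp h4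
    exact ⟨m, m.2, hm⟩
  obtain ⟨v, hv, hvs⟩ := exists_common_mult p s' (fun v e => v * e = 0)
    (fun v v' e h => by rw [mul_assoc, h, mul_zero]) h3
  have hvK : ∀ x, a * x = 0 → v * x = 0 := by
    intro x hx
    have hxK : x ∈ K := (hK x).mpr hx
    rw [← hs'] at hxK
    refine Submodule.span_induction ?_ ?_ ?_ ?_ hxK
    · exact hvs
    · simp
    · intro x y _ _ hx hy; rw [mul_add, hx, hy, add_zero]
    · intro r x _ hx; rw [smul_eq_mul, mul_left_comm, hx, mul_zero]
  refine ⟨u * v, fun h => (hp.mem_or_mem h).elim hu hv, ?_⟩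
  intro A' _ _ _
  have huv : IsUnit (algebraMap A A' (u * v)) := IsLocalization.Away.algebraMap_isUnit (u * v)
  rw [map_mul] at huv
  have huu : IsUnit (algebraMap A A' u) := isUnit_of_mul_isUnit_left huv
  have hvu : IsUnit (algebraMap A A' v) := isUnit_of_mul_isUnit_right huv
  constructor
  · rw [mem_nonZeroDivisors_iff_right]
    intro x hx
    obtain ⟨⟨y, m⟩, hym⟩ := IsLocalization.surj (Submonoid.powers (u * v)) x
    have hmu : IsUnit (algebraMap A A' (m : A)) := IsLocalization.map_units A' m
    have h6 : algebraMap A A' (y * a) = 0 := by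
      rw [map_mul, ← hym]
      calc x * algebraMap A A' (m : A) * algebraMap A A' a
          = (x * algebraMap A A' a) * algebraMap A A' (m : A) := by ring
        _ = 0 := by rw [hx, zero_mul]
    obtain ⟨c, hc⟩ := (IsLocalization.map_eq_zero_iff (Submonoid.powers (u * v)) A' (y * a)).mp h6
    have h7 : a * ((c : A) * y) = 0 := by rw [← hc]; ring
    have h8 : v * ((c : A) * y) = 0 := hvK _ h7
    have hcu : IsUnit (algebraMap A A' (c : A)) := IsLocalization.map_units A' c
    have h9 : algebraMap A A' v * (algebraMap A A' (c : A) * algebraMap A A' y) = 0 := by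
      rw [← map_mul, ← map_mul, h8, map_zero]
    have h10 : algebraMap A A' y = 0 := by
      have := (hvu.mul_right_eq_zero).mp h9
      exact (hcu.mul_right_eq_zero).mp this
    rw [h10] at hym
    exact (hmu.mul_left_eq_zero).mp hym
  · apply le_antisymm
    · rw [Ideal.map_le_iff_le_comap]
      intro b hb
      rw [Ideal.mem_comap]
      obtain ⟨c, hc⟩ := Ideal.mem_span_singleton'.mp (huI b hb)
      have h11 : algebraMap A A' u * algebraMap A A' b = algebraMap A A' c * algebraMap A A' a := by
        rw [← map_mul, ← map_mul, hc]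
      rw [Ideal.mem_span_singleton']
      refine ⟨↑huu.unit⁻¹ * algebraMap A A' c, ?_⟩
      rw [mul_assoc, ← h11, ← mul_assoc, IsUnit.val_inv_mul, one_mul]
    · rw [Ideal.span_le, Set.singleton_subset_iff]
      exact Ideal.mem_map_of_mem _ ha

/-- **Descent of "locally generated by one nonzerodivisor" along a flat ring map with Noetherian
source**, pointwise. -/
theorem exists_away_span_singleton_of_flat_noeth {A B : Type u} [CommRing A] [IsNoetherianRing A]
    [CommRing B] (φ : A →+* B) (hflat : φ.Flat) (I : Ideal A) (t : B)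
    (ht : t ∈ nonZeroDivisors B) (hI : I.map φ = Ideal.span {t}) (q : Ideal B) [hq : q.IsPrime] :
    ∃ s : A, φ s ∉ q ∧ ∀ (A' : Type u) [CommRing A'] [Algebra A A'] [IsLocalization.Away s A'],
      ∃ a : A', a ∈ nonZeroDivisors A' ∧ I.map (algebraMap A A') = Ideal.span {a} := by
  obtain ⟨a₀, ha₀, c, hcq, hca⟩ := Groth.Agent.H50.exists_mem_map_eq_mul φ I t ht hI q
  haveI hpp : (q.comap φ).IsPrime := Ideal.comap_isPrime φ q
  have hψflat : (Localization.localRingHom (q.comap φ) q φ rfl).Flat :=
    RingHom.Flat.localRingHom hflat q (q.comap φ) rfl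
  letI algψ : Algebra (Localization.AtPrime (q.comap φ)) (Localization.AtPrime q) :=
    (Localization.localRingHom (q.comap φ) q φ rfl).toAlgebra
  haveI : Module.Flat (Localization.AtPrime (q.comap φ)) (Localization.AtPrime q) := hψflat
  haveI : IsLocalHom (algebraMap (Localization.AtPrime (q.comap φ)) (Localization.AtPrime q)) :=
    Localization.isLocalHom_localRingHom (q.comap φ) q φ rfl
  haveI : Module.FaithfullyFlat (Localization.AtPrime (q.comap φ)) (Localization.AtPrime q) :=
    Module.FaithfullyFlat.of_flat_of_isLocalHom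
  have hcu : IsUnit (algebraMap B (Localization.AtPrime q) c) :=
    IsLocalization.map_units (Localization.AtPrime q) (⟨c, hcq⟩ : q.primeCompl)
  have hkey : algebraMap (Localization.AtPrime (q.comap φ)) (Localization.AtPrime q)
      (algebraMap A (Localization.AtPrime (q.comap φ)) a₀) =
      algebraMap B (Localization.AtPrime q) c * algebraMap B (Localization.AtPrime q) t := by
    show Localization.localRingHom (q.comap φ) q φ rfl _ = _
    rw [Localization.localRingHom_to_map, hca, map_mul]
  have htn : algebraMap B (Localization.AtPrime q) t ∈ nonZeroDivisors (Localization.AtPrime q) :=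
    IsLocalization.map_nonZeroDivisors_le q.primeCompl (Localization.AtPrime q)
      (Submonoid.mem_map_of_mem _ ht)
  have ha₀n : algebraMap A (Localization.AtPrime (q.comap φ)) a₀ ∈
      nonZeroDivisors (Localization.AtPrime (q.comap φ)) := by
    apply mem_nonZeroDivisors_of_injective
      (f := algebraMap (Localization.AtPrime (q.comap φ)) (Localization.AtPrime q))
      (FaithfulSMul.algebraMap_injective _ _)
    rw [hkey]
    exact mul_mem hcu.mem_nonZeroDivisors htn
  have hcomp : (algebraMap (Localization.AtPrime (q.comap φ)) (Localization.AtPrime q)).comp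
      (algebraMap A (Localization.AtPrime (q.comap φ))) =
      (algebraMap B (Localization.AtPrime q)).comp φ := by
    ext x
    exact Localization.localRingHom_to_map _ _ _ rfl x
  have hle : I.map (algebraMap A (Localization.AtPrime (q.comap φ))) ≤
      Ideal.span {algebraMap A (Localization.AtPrime (q.comap φ)) a₀} := by
    rw [← Ideal.comap_map_eq_self_of_faithfullyFlat (B := Localization.AtPrime q)
      (Ideal.span {algebraMap A (Localization.AtPrime (q.comap φ)) a₀}),
      ← Ideal.map_le_iff_le_comap, Ideal.map_map, hcomp, ← Ideal.map_map, hI, Ideal.map_span,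
      Set.image_singleton, Ideal.map_span, Set.image_singleton, hkey,
      Ideal.span_singleton_le_span_singleton]
    exact ⟨↑hcu.unit⁻¹, by
      rw [mul_comm (algebraMap B (Localization.AtPrime q) c), mul_assoc, IsUnit.mul_val_inv,
        mul_one]⟩
  obtain ⟨h, hhp, hh⟩ := spread_principal_nzd I (q.comap φ) a₀ ha₀ hle ha₀n
  exact ⟨h, hhp, fun A' _ _ _ => ⟨algebraMap A A' a₀, (hh A').1, (hh A').2⟩⟩

end Groth.Agent.H79.CartierNoeth
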