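import Mathlib
import Groth.Prelude.Def_BlowUp2
import Groth.Agent.H79.CartierNoeth
import Groth.Agent.H50.CartierDescent
import Groth.Agent.H9.ComapIdeal
import Groth.Agent.H9.EffCartier

/-!
# Flat descent of effective Cartier divisors to a locally Noetherian scheme (helper79)

`g : W ⟶ V` flat (no finite presentation hypothesis), `V` locally Noetherian: if the inverse image
ideal sheaf `I.comap g` is effective Cartier then `I` is generated by one nonzerodivisor near every
point of the image of `g`; hence `I` is effective Cartier when `g` is surjective.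
-/

set_option autoImplicit false
set_option linter.unusedVariables false
set_option linter.style.haveILetI false

universe u

open CategoryTheory CategoryTheory.Limits AlgebraicGeometry

namespace Groth.Agent.H79.CartierNoethSch

theorem exists_isPrincipalNZD_of_comap_noeth {W V : Scheme.{u}} (g : W ⟶ V) [Flat g]
    [IsLocallyNoetherian V] (I : V.IdealSheafData)
    (h : BlowUp.IsEffCartierIdeal (I.comap g)) (w : W) :
    ∃ U : V.affineOpens, g w ∈ U.1 ∧ Groth.Agent.H9.IsPrincipalNZD I U := by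
  obtain ⟨_, ⟨U₀, hU₀, rfl⟩, hwU₀, -⟩ := V.isBasis_affineOpens.exists_subset_of_mem_open
    (Set.mem_univ (g w)) isOpen_univ
  obtain ⟨U', hwU', hU'le, t, ht, hIt⟩ :=
    Groth.Agent.H9.exists_affine_isPrincipalNZD h (g ⁻¹ᵁ U₀) w hwU₀
  have hflat : (g.appLE U₀ U'.1 hU'le).hom.Flat :=
    HasRingHomProperty.appLE (P := @Flat) g inferInstance ⟨U₀, hU₀⟩ U' hU'le
  haveI : IsNoetherianRing Γ(V, U₀) := IsLocallyNoetherian.component_noetherian ⟨U₀, hU₀⟩
  have hI : (I.ideal ⟨U₀, hU₀⟩).map (g.appLE U₀ U'.1 hU'le).hom = Ideal.span {t} := by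
    rw [← Groth.Agent.H9.comap_ideal g I ⟨U₀, hU₀⟩ U' hU'le, hIt]
  obtain ⟨s, hs, hloc⟩ := Groth.Agent.H79.CartierNoeth.exists_away_span_singleton_of_flat_noeth
    _ hflat _ t ht hI (U'.2.primeIdealOf ⟨w, hwU'⟩).asIdeal
  haveI := hU₀.isLocalization_basicOpen s
  obtain ⟨a, ha, hIa⟩ := hloc Γ(V, V.basicOpen s)
  refine ⟨V.affineBasicOpen (U := ⟨U₀, hU₀⟩) s, ?_, a, ha, ?_⟩
  · have h1 := Groth.Agent.H50.mem_basicOpen_of_notMem_primeIdealOf U'.2 w hwU' _ hs
    rw [Scheme.basicOpen_appLE] at h1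
    exact h1.2
  · rw [← I.map_ideal_basicOpen ⟨U₀, hU₀⟩ s]
    exact hIa

/-- **Flat surjective descent of effective Cartier ideal sheaves to a locally Noetherian
scheme.** -/
theorem isEffCartierIdeal_of_comap_noeth {W V : Scheme.{u}} (g : W ⟶ V) [Flat g] [Surjective g]
    [IsLocallyNoetherian V] (I : V.IdealSheafData)
    (h : BlowUp.IsEffCartierIdeal (I.comap g)) : BlowUp.IsEffCartierIdeal I := by
  intro v
  obtain ⟨w, rfl⟩ := g.surjective v
  obtain ⟨U, hU, t, ht, hI⟩ := exists_isPrincipalNZD_of_comap_noeth g I h w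
  exact ⟨U, hU, t, ht, hI⟩

end Groth.Agent.H79.CartierNoethSch
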