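import Groth.Agent.H79.EFGlobal

/-!
# A subfunctor which is Zariski-locally a closed subscheme is a closed subscheme

`Cl` a property of morphisms `T ⟶ S` stable under precomposition and Zariski-local on the source.  If
for every affine open `V` of `S` the restriction of `Cl` to `Spec Γ(S, V)` is cut out by an ideal sheaf,
then `Cl` is cut out by an ideal sheaf on `S`.
-/

set_option autoImplicit false
universe u
open CategoryTheory CategoryTheory.Limits AlgebraicGeometry

namespace Groth.Agent.H79.ClosedSubfunctor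

open Groth.Agent.H79.EFGlobal Groth.Agent.H79.EFFlatCover Groth.Agent.H79.EFFinCov

variable {S : Scheme.{u}} (Cl : ∀ ⦃T : Scheme.{u}⦄, (T ⟶ S) → Prop)

/-- `c` cuts out `Cl` over `r : R ⟶ S` -/
def ACuts {R : Scheme.{u}} (r : R ⟶ S) (c : R.IdealSheafData) : Prop :=
  ∀ (T : Scheme.{u}) (t : T ⟶ R), Cl (t ≫ r) ↔ c ≤ t.ker

variable {Cl}

theorem ACuts.le {R : Scheme.{u}} {r : R ⟶ S} {c c' : R.IdealSheafData} (h : ACuts Cl r c)
    (h' : ACuts Cl r c') : c' ≤ c := by
  have h1 := (h _ c.subschemeι).mpr (by rw [Scheme.IdealSheafData.ker_subschemeι])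
  have h2 := (h' _ c.subschemeι).mp h1
  rwa [Scheme.IdealSheafData.ker_subschemeι] at h2

theorem ACuts.unique {R : Scheme.{u}} {r : R ⟶ S} {c c' : R.IdealSheafData} (h : ACuts Cl r c)
    (h' : ACuts Cl r c') : c = c' :=
  le_antisymm (h'.le h) (h.le h')

theorem ACuts.comap {R R' : Scheme.{u}} {r : R ⟶ S} {c : R.IdealSheafData} (h : ACuts Cl r c)
    (p : R' ⟶ R) : ACuts Cl (p ≫ r) (c.comap p) := by
  intro T t
  rw [← le_ker_comp_iff, ← h T (t ≫ p), Category.assoc]

theorem ACuts.congr {R : Scheme.{u}} {r r' : R ⟶ S} (e : r = r') {c : R.IdealSheafData}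
    (h : ACuts Cl r c) : ACuts Cl r' c := by
  subst e; exact h

variable (Cl)

theorem exists_acuts
    (hbc : ∀ ⦃T T' : Scheme.{u}⦄ (g : T ⟶ S) (h : T' ⟶ T), Cl g → Cl (h ≫ g))
    (hloc : ∀ ⦃T : Scheme.{u}⦄ (g : T ⟶ S) {ι : Type u} (W : ι → Scheme.{u}) (p : ∀ i, W i ⟶ T),
      (∀ i, IsOpenImmersion (p i)) → (∀ x : T, ∃ i, ∃ w : W i, p i w = x) →
        (∀ i, Cl (p i ≫ g)) → Cl g)
    (hlocal : ∀ V : S.affineOpens, ∃ c : (Spec Γ(S, V.1)).IdealSheafData,
      ACuts Cl V.2.fromSpec c) :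
    ∃ c : S.IdealSheafData, ∀ (T : Scheme.{u}) (g : T ⟶ S), Cl g ↔ c ≤ g.ker := by
  choose c' hcuts using hlocal
  let G : ∀ V : S.affineOpens, Spec Γ(S, V.1) ⟶ S := fun V => V.2.fromSpec
  have hcov : ∀ s : S, ∃ V : S.affineOpens, s ∈ V.1 := by
    intro s
    obtain ⟨_, ⟨V, hV, rfl⟩, hsV, -⟩ :=
      S.isBasis_affineOpens.exists_subset_of_mem_open (Set.mem_univ s) isOpen_univ
    exact ⟨⟨V, hV⟩, hsV⟩
  have hGsurj : ∀ x : S, ∃ V : S.affineOpens, ∃ w : ↥(Spec Γ(S, V.1)), G V w = x := by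
    intro x
    obtain ⟨V, hxV⟩ := hcov x
    have : x ∈ Set.range (G V) := by
      rw [IsAffineOpen.range_fromSpec]; exact hxV
    obtain ⟨w, hw⟩ := this
    exact ⟨V, w, hw⟩
  have hfin : H49.IdealDescent.FinCov G :=
    finCov_of_affine_surj (fun V : S.affineOpens => V.1) (fun V => V.2) hcov
      (fun V => Spec Γ(S, V.1)) (fun V => inferInstance) (fun V => V.2.isoSpec.inv)
      (fun V => inferInstance)
  have hGfl : ∀ V, Flat (G V) := fun V => inferInstance
  have hcompat : H49.IdealDescent.Compat G c' := by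
    intro V V'
    exact (((hcuts V).comap (pullback.fst (G V) (G V'))).congr pullback.condition).unique
      ((hcuts V').comap (pullback.snd (G V) (G V')))
  obtain ⟨c, hc, -⟩ := H49.IdealDescent.existsUnique_comap_eq hfin hGfl hcompat
  refine ⟨c, ?_⟩
  intro T g
  have key : ∀ V, Cl (pullback.fst g (G V) ≫ g) ↔ c ≤ (pullback.fst g (G V) ≫ g).ker := by
    intro V
    rw [pullback.condition, hcuts V _ (pullback.snd g (G V)), ← hc V, ← le_ker_comp_iff]
  have hpsurj := jointly_surj_pullback G hGsurj g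
  constructor
  · intro hg
    refine le_ker_of_flat_cover (fun V => pullback.fst g (G V)) (fun V => inferInstance) hpsurj g c
      fun V => ?_
    exact (key V).mp (hbc g _ hg)
  · intro hcg
    refine hloc g (fun V => pullback g (G V)) (fun V => pullback.fst g (G V))
      (fun V => inferInstance) hpsurj fun V => ?_
    exact (key V).mpr (le_trans hcg (Scheme.Hom.le_ker_comp _ _))

end Groth.Agent.H79.ClosedSubfunctor
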