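import Mathlib.RingTheory.Ideal.Colon
import Mathlib.RingTheory.Localization.Ideal
import Mathlib.RingTheory.Localization.Away.Basic
import Mathlib.RingTheory.Finiteness.Ideal

/-!
# The colon ideal `(M : N)` commutes with localisation away from an element, for `N` finitely
generated
-/

set_option autoImplicit false
universe u

namespace Groth.Agent.H79.ColonLoc

theorem exists_pow_mul_mem_colon {R R' : Type u} [CommRing R] [CommRing R'] [Algebra R R'] (f : R)
    [IsLocalization.Away f R'] (M N : Ideal R) (hN : N.FG) :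
    ∀ r : R, (∀ y ∈ N.map (algebraMap R R'), algebraMap R R' r * y ∈ M.map (algebraMap R R')) →
      ∃ e ∈ Submonoid.powers f, ∀ x ∈ N, e * r * x ∈ M := by
  refine Submodule.fg_induction (R := R) (M := R) (motive := fun (N : Submodule R R) _ => ∀ r : R,
    (∀ y ∈ Ideal.map (algebraMap R R') N, algebraMap R R' r * y ∈ M.map (algebraMap R R')) →
      ∃ e ∈ Submonoid.powers f, ∀ x ∈ N, e * r * x ∈ M) ?_ ?_ N hN
  · intro n r h
    have h1 : algebraMap R R' (r * n) ∈ M.map (algebraMap R R') := by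
      rw [map_mul]
      exact h _ (Ideal.mem_map_of_mem _ (Submodule.mem_span_singleton_self n))
    obtain ⟨e, he, hen⟩ :=
      (IsLocalization.algebraMap_mem_map_algebraMap_iff (Submonoid.powers f) R' M (r * n)).mp h1
    refine ⟨e, he, fun x hx => ?_⟩
    obtain ⟨c, rfl⟩ := Submodule.mem_span_singleton.mp hx
    have : e * r * (c • n) = c * (e * (r * n)) := by rw [smul_eq_mul]; ring
    rw [this]
    exact M.mul_mem_left _ hen
  · intro N₁ N₂ _ _ h₁ h₂ r h
    obtain ⟨e₁, he₁, h1⟩ := h₁ r (fun y hy => h y (Ideal.map_mono le_sup_left hy))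
    obtain ⟨e₂, he₂, h2⟩ := h₂ r (fun y hy => h y (Ideal.map_mono le_sup_right hy))
    refine ⟨e₁ * e₂, mul_mem he₁ he₂, fun x hx => ?_⟩
    obtain ⟨x₁, hx₁, x₂, hx₂, rfl⟩ := Submodule.mem_sup.mp hx
    have : e₁ * e₂ * r * (x₁ + x₂) = e₂ * (e₁ * r * x₁) + e₁ * (e₂ * r * x₂) := by ring
    rw [this]
    exact M.add_mem (M.mul_mem_left _ (h1 x₁ hx₁)) (M.mul_mem_left _ (h2 x₂ hx₂))

theorem colon_map_away {R R' : Type u} [CommRing R] [CommRing R'] [Algebra R R'] (f : R)
    [IsLocalization.Away f R'] (M N : Ideal R) (hN : N.FG) :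
    (M.colon (N : Set R)).map (algebraMap R R') =
      (M.map (algebraMap R R')).colon ((N.map (algebraMap R R') : Ideal R') : Set R') := by
  apply le_antisymm
  · rw [Ideal.map_le_iff_le_comap]
    intro r hr
    rw [Ideal.mem_comap, Submodule.mem_colon]
    intro y hy
    obtain ⟨⟨⟨n, hn⟩, ⟨_, k, rfl⟩⟩, hyn⟩ :=
      (IsLocalization.mem_map_algebraMap_iff (Submonoid.powers f) R').mp hy
    simp only at hyn
    have hu : IsUnit (algebraMap R R' (f ^ k)) :=
      IsLocalization.map_units R' (⟨f ^ k, k, rfl⟩ : Submonoid.powers f)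
    rw [smul_eq_mul, ← Ideal.mul_unit_mem_iff_mem _ hu, mul_assoc, hyn, ← map_mul]
    exact Ideal.mem_map_of_mem _ (Submodule.mem_colon.mp hr n hn)
  · intro y hy
    obtain ⟨r, ⟨_, k, rfl⟩, rfl⟩ := IsLocalization.exists_mk'_eq (Submonoid.powers f) y
    have hr : ∀ z ∈ N.map (algebraMap R R'), algebraMap R R' r * z ∈ M.map (algebraMap R R') := by
      intro z hz
      have h1 := Submodule.mem_colon.mp hy z hz
      rw [smul_eq_mul] at h1
      have h2 : algebraMap R R' r * z = algebraMap R R' (f ^ k) *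
          (IsLocalization.mk' R' r (⟨f ^ k, k, rfl⟩ : Submonoid.powers f) * z) := by
        rw [← mul_assoc, mul_comm (algebraMap R R' (f ^ k)),
          IsLocalization.mk'_spec R' r (⟨f ^ k, k, rfl⟩ : Submonoid.powers f)]
      rw [h2]
      exact Ideal.mul_mem_left _ _ h1
    obtain ⟨e, he, hex⟩ := exists_pow_mul_mem_colon f M N hN r hr
    rw [IsLocalization.mk'_mem_map_algebraMap_iff (Submonoid.powers f)]
    refine ⟨e, he, ?_⟩
    rw [Submodule.mem_colon]
    intro x hx
    rw [smul_eq_mul]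
    exact hex x hx

end Groth.Agent.H79.ColonLoc
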