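import Mathlib
import Groth.Agent.H79.FibreSeqSpread
import Groth.Agent.H79.FibreBridge
import Groth.Agent.H56.RegImmComp
import Groth.Agent.H59.RegImmDesc
import Groth.Agent.S5803

/-!
# Closed subschemes whose fibres are cut out by regular sequences (helper79)

`p : X ⟶ S` flat l.f.p., `i : Y ⟶ X` a closed immersion with `Y` flat l.f.p. over `S`.  If at a
point `w` of the fibre `Y_s` (any pullback of `i` along `X_s ⟶ X`) the kernel of the stalk map of
`Y_s ⟶ X_s` is generated by a regular sequence, then near the image of `w` the ideal of `Y` in `X`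
is generated by a regular sequence of the same length on an affine open.
-/

set_option autoImplicit false
set_option linter.unusedVariables false
set_option linter.style.haveILetI false
set_option linter.unusedSectionVars false

universe u

open CategoryTheory CategoryTheory.Limits AlgebraicGeometry TopologicalSpace

namespace Groth.Agent.H79.FibreRegSch

open RingTheory.Sequence Groth.Agent.H79.FibreBridge

theorem isRegular_map_ringEquiv {R R' : Type u} [CommRing R] [CommRing R'] (e : R ≃+* R')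
    (rs : List R) : IsRegular R rs ↔ IsRegular R' (rs.map e) :=
  AddEquiv.isRegular_congr (e := e.toAddEquiv) <| List.forall₂_map_right_iff.mpr <|
    List.forall₂_same.mpr fun r _ x => map_mul e r x

open Groth.Agent.H56.RegImmComp in
set_option maxHeartbeats 1600000 in
/-- **Scheme level**: near the image of `w` the ideal of the closed subscheme `Y` is generated, on
an affine open, by a regular sequence of the same length as the one on the fibre. -/
theorem exists_affine_regular_of_fibre {X Y S : Scheme.{u}} (p : X ⟶ S) [Flat p]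
    [LocallyOfFinitePresentation p] (i : Y ⟶ X) [IsClosedImmersion i] [Flat (i ≫ p)]
    [LocallyOfFinitePresentation (i ≫ p)] (s : S) {Y' : Scheme.{u}} (g' : Y' ⟶ Y)
    (i' : Y' ⟶ p.fiber s) [IsClosedImmersion i'] (H : IsPullback g' i' i (p.fiberι s)) (w : Y')
    (rs : List ((p.fiber s).presheaf.stalk (i' w)))
    (hrs : IsRegular ((p.fiber s).presheaf.stalk (i' w)) rs)
    (hker : RingHom.ker (i'.stalkMap w).hom = Ideal.ofList rs) :
    ∃ (U : X.Opens) (hU : IsAffineOpen U), i (g' w) ∈ U ∧ ∃ gs : List Γ(X, U),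
      gs.length = rs.length ∧ RingTheory.Sequence.IsRegular Γ(X, U) gs ∧
        i.ker.ideal ⟨U, hU⟩ = Ideal.ofList gs := by
  obtain ⟨z, hz⟩ : ∃ z : Y, z = g' w := ⟨_, rfl⟩
  have hxz : i z = (p.fiberι s) (i' w) := by
    rw [hz]
    have := congrArg (fun f => f w) H.w
    simpa using this
  rw [← hz]
  obtain ⟨V, hV, hxV, -⟩ := exists_isAffineOpen_mem_and_subset (x := p (i z)) (U := ⊤) trivial
  obtain ⟨U, hU, hxU, hUV0⟩ := exists_isAffineOpen_mem_and_subset (x := i z) (U := p ⁻¹ᵁ V) hxV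
  have hUV : U ≤ p ⁻¹ᵁ V := hUV0
  have hcl : IsClosedImmersion (i ∣_ U) := inferInstance
  have hW : IsAffineOpen (i ⁻¹ᵁ U) := isAffineOpen_preimage i hU hcl
  have hWV : i ⁻¹ᵁ U ≤ (i ≫ p) ⁻¹ᵁ V := fun y hy => hUV hy
  have hzW : z ∈ i ⁻¹ᵁ U := hxU
  have hyU : (p.fiberι s) (i' w) ∈ U := hxz ▸ hxU
  letI algB := (p.appLE V U hUV).hom.toAlgebra
  letI algC := ((i ≫ p).appLE V (i ⁻¹ᵁ U) hWV).hom.toAlgebra
  haveI : Algebra.FinitePresentation Γ(S, V) Γ(X, U) := p.finitePresentation_appLE hV hU hUV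
  haveI : Module.Flat Γ(S, V) Γ(X, U) := p.flat_appLE hV hU hUV
  haveI : Algebra.FinitePresentation Γ(S, V) Γ(Y, i ⁻¹ᵁ U) :=
    (i ≫ p).finitePresentation_appLE hV hW hWV
  haveI : Module.Flat Γ(S, V) Γ(Y, i ⁻¹ᵁ U) := (i ≫ p).flat_appLE hV hW hWV
  let φ : Γ(X, U) →ₐ[Γ(S, V)] Γ(Y, i ⁻¹ᵁ U) :=
    { (i.app U).hom with
      commutes' := fun r => by
        show (i.app U).hom ((p.appLE V U hUV).hom r) =
          ((i ≫ p).appLE V (i ⁻¹ᵁ U) hWV).hom r
        have h1 : p.appLE V U hUV ≫ i.app U = (i ≫ p).appLE V (i ⁻¹ᵁ U) hWV := by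
          rw [i.app_eq_appLE, Scheme.Hom.appLE_comp_appLE]
        rw [← h1]
        rfl }
  have hφ : Function.Surjective φ := app_surjective i hU hcl
  have hfg : (RingHom.ker φ.toRingHom).FG :=
    Algebra.FinitePresentation.ker_fG_of_surjective φ hφ
  -- primes
  haveI hqC : (hW.primeIdealOf ⟨z, hzW⟩).asIdeal.IsPrime := (hW.primeIdealOf ⟨z, hzW⟩).isPrime
  have hP : (hU.primeIdealOf ⟨(p.fiberι s) (i' w), hyU⟩).asIdeal =
      (hW.primeIdealOf ⟨z, hzW⟩).asIdeal.comap φ.toRingHom := by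
    have h0 : hU.primeIdealOf ⟨(p.fiberι s) (i' w), hyU⟩ = hU.primeIdealOf ⟨i z, hxU⟩ :=
      congrArg hU.primeIdealOf (Subtype.ext hxz.symm)
    rw [h0]
    have h1 := IsAffineOpen.comap_primeIdealOf_appLE (f := i) U hU (i ⁻¹ᵁ U) hW le_rfl hzW
    have h2 := congrArg PrimeSpectrum.asIdeal h1
    rw [← h2]
    show Ideal.comap (i.appLE U (i ⁻¹ᵁ U) le_rfl).hom _ = Ideal.comap (i.app U).hom _
    rw [i.app_eq_appLE]
  -- the bridge
  obtain ⟨Ψ, hΨ⟩ := exists_fibLocEquiv p s (i' w) hV hU hUV hyU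
  -- an affine open of the fibre
  obtain ⟨U', hU', hyU', hUU'0⟩ := exists_isAffineOpen_mem_and_subset (x := i' w)
    (U := (p.fiberι s) ⁻¹ᵁ U) hyU
  have hUU' : U' ≤ (p.fiberι s) ⁻¹ᵁ U := hUU'0
  have hkerU' : RingHom.ker (i'.app U').hom =
      (RingHom.ker (i.app U).hom).map ((p.fiberι s).appLE U U' hUU').hom :=
    ker_app_of_isPullback H hU hU' hUU'
  have hkstalk : RingHom.ker (i'.stalkMap w).hom =
      (RingHom.ker (i.app U).hom).map
        (Ψ.toRingHom.comp (algebraMap Γ(X, U) _)) := by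
    rw [Groth.Agent.H9.ker_stalkMap_of_isClosedImmersion i' ⟨U', hU'⟩ w hyU',
      Scheme.Hom.ker_apply, hkerU', Ideal.map_map]
    congr 1
    ext b
    simp only [RingHom.comp_apply]
    have h := germ_stalkMap_appLE (p.fiberι s) hUU' (i' w) hyU'
    refine Eq.trans ?_ (hΨ b).symm
    exact (congrArg (fun f => f.hom b) h).symm
  have hrsL : IsRegular _ (rs.map Ψ.symm) := (isRegular_map_ringEquiv Ψ.symm rs).mp hrs
  have hrsK : Ideal.ofList (rs.map Ψ.symm) = (RingHom.ker (i.app U).hom).map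
      (algebraMap Γ(X, U) (EGA4.FibLocRing Γ(S, V) Γ(X, U)
        (hU.primeIdealOf ⟨(p.fiberι s) (i' w), hyU⟩).asIdeal)) := by
    have h1 : Ideal.ofList (rs.map Ψ.symm) = (Ideal.ofList rs).map Ψ.symm.toRingHom := by
      rw [Ideal.map_ofList]; rfl
    rw [h1, ← hker, hkstalk, Ideal.map_map]
    congr 1
    ext b
    simp
  have key : ∀ (P : Ideal Γ(X, U)) [P.IsPrime],
      P = (hW.primeIdealOf ⟨z, hzW⟩).asIdeal.comap φ.toRingHom →
      ∀ rsL : List (EGA4.FibLocRing Γ(S, V) Γ(X, U) P), rsL.length = rs.length →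
        IsRegular (EGA4.FibLocRing Γ(S, V) Γ(X, U) P) rsL →
        Ideal.ofList rsL = (RingHom.ker (i.app U).hom).map
          (algebraMap Γ(X, U) (EGA4.FibLocRing Γ(S, V) Γ(X, U) P)) →
      ∃ h : Γ(X, U), h ∉ P ∧ ∃ g : List Γ(X, U), g.length = rs.length ∧
        (∀ a ∈ g, a ∈ RingHom.ker φ.toRingHom) ∧
        ∀ (h' : Γ(X, U)) (B' : Type u) [CommRing B'] [Algebra Γ(X, U) B']
          [IsLocalization.Away (h * h') B'],
          IsWeaklyRegular B' (g.map (algebraMap Γ(X, U) B')) ∧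
          (RingHom.ker φ.toRingHom).map (algebraMap Γ(X, U) B') =
            Ideal.ofList (g.map (algebraMap Γ(X, U) B')) := by
    intro P _ hPeq rsL hlen h1 h2
    subst hPeq
    obtain ⟨h, hh, g, hg1, hg2, hg3⟩ :=
      Groth.Agent.H79.FibreSeqSpread.exists_regular_away_of_fibre_seq φ hφ hfg
        (hW.primeIdealOf ⟨z, hzW⟩).asIdeal
        (Module.Flat.trans Γ(S, V) Γ(X, U) _) (Module.Flat.trans Γ(S, V) Γ(Y, i ⁻¹ᵁ U) _)
        rsL h1 h2
    exact ⟨h, hh, g, hg1.trans hlen, hg2, hg3⟩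
  obtain ⟨h, hhP, g, hglen, hgK, hall⟩ := key _ hP (rs.map Ψ.symm) (List.length_map _) hrsL hrsK
  -- the point lies in the basic open
  have hhP' : h ∉ (hU.primeIdealOf ⟨i z, hxU⟩).asIdeal := by
    have h0 : hU.primeIdealOf ⟨(p.fiberι s) (i' w), hyU⟩ = hU.primeIdealOf ⟨i z, hxU⟩ :=
      congrArg hU.primeIdealOf (Subtype.ext hxz.symm)
    rw [← h0]; exact hhP
  have hfy : hU.fromSpec (hU.primeIdealOf ⟨i z, hxU⟩) = i z := hU.fromSpec_primeIdealOf ⟨i z, hxU⟩
  have hxh : i z ∈ X.basicOpen h := by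
    have h2 := hU.fromSpec_preimage_basicOpen h
    have h3 : hU.primeIdealOf ⟨i z, hxU⟩ ∈ (PrimeSpectrum.basicOpen h) :=
      (PrimeSpectrum.mem_basicOpen _ _).2 hhP'
    rw [← h2] at h3
    have h4 : hU.fromSpec (hU.primeIdealOf ⟨i z, hxU⟩) ∈ X.basicOpen h := h3
    rwa [hfy] at h4
  haveI hloc : IsLocalization.Away h Γ(X, X.basicOpen h) := hU.isLocalization_basicOpen h
  haveI : IsLocalization.Away (h * 1) Γ(X, X.basicOpen h) := by rw [mul_one]; exact hloc
  obtain ⟨hwr, hideal⟩ := hall 1 Γ(X, X.basicOpen h)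
  have hkeq : RingHom.ker (i.app (X.basicOpen h)).hom =
      Ideal.ofList (g.map (algebraMap Γ(X, U) Γ(X, X.basicOpen h))) := by
    rw [Groth.Agent.H59.RegImmDesc.ker_basicOpen i hU hcl h, ← hideal]
  refine ⟨X.basicOpen h, hU.basicOpen h, hxh,
    g.map (algebraMap Γ(X, U) Γ(X, X.basicOpen h)), by rw [List.length_map, hglen],
    ⟨hwr, ?_⟩, ?_⟩
  · simp only [smul_eq_mul, Ideal.mul_top]
    intro htop
    have hzg : z ∈ i ⁻¹ᵁ X.basicOpen h := hxh
    haveI : Nontrivial Γ(Y, i ⁻¹ᵁ X.basicOpen h) :=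
      @Scheme.component_nontrivial _ _ ⟨⟨z, hzg⟩⟩
    exact RingHom.ker_ne_top (i.app (X.basicOpen h)).hom (hkeq.trans htop.symm)
  · rw [← hkeq]
    exact Scheme.Hom.ker_apply i ⟨X.basicOpen h, hU.basicOpen h⟩

set_option backward.isDefEq.respectTransparency.types false in
/-- fibres of a morphism locally of finite type are locally Noetherian -/
theorem isLocallyNoetherian_fiber {X S : Scheme.{u}} (φ : X ⟶ S) [LocallyOfFiniteType φ] (s : S) :
    IsLocallyNoetherian (φ.fiber s) :=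
  have : LocallyOfFiniteType (φ.fiberToSpecResidueField s) :=
    MorphismProperty.pullback_snd _ _ inferInstance
  LocallyOfFiniteType.isLocallyNoetherian (φ.fiberToSpecResidueField s)

/-- In a Noetherian local ring a quasi-regular sequence generating a proper ideal is regular. -/
theorem isRegular_of_isQuasiRegular_local {R : Type u} [CommRing R] [IsLocalRing R]
    [IsNoetherianRing R] (rs : List R) (hq : CAlgX.IsQuasiRegular rs.get)
    (hne : Ideal.ofList rs ≠ ⊤) : IsRegular R rs := by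
  have hw := Groth.Agent.S5803.result R rs.length rs.get (fun j => by
    rw [← Ideal.jacobson_bot, IsLocalRing.jacobson_eq_maximalIdeal _ bot_ne_top]
    exact IsLocalRing.le_maximalIdeal hne (Ideal.subset_span (List.get_mem rs j))) hq
  rw [List.ofFn_get] at hw
  refine ⟨hw, ?_⟩
  simp only [smul_eq_mul, Ideal.mul_top]
  exact hne.symm

end Groth.Agent.H79.FibreRegSch
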