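import Mathlib
import Groth.Prelude.Def_BlowUp2
import Groth.Agent.H79.FibreRegSch

/-!
# Effective Cartier divisors from the fibres (helper79)
-/

set_option autoImplicit false
set_option linter.unusedVariables false
set_option linter.style.haveILetI false
set_option linter.unusedSectionVars false

universe u

open CategoryTheory CategoryTheory.Limits AlgebraicGeometry TopologicalSpace

namespace Groth.Agent.H79.FibreCartier

open RingTheory.Sequence Groth.Agent.H79.FibreBridge Groth.Agent.H79.FibreRegSch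

/-- away from the support an ideal sheaf is the unit ideal on a small affine open -/
theorem exists_ideal_eq_top {X : Scheme.{u}} (𝓘 : X.IdealSheafData) (x : X)
    (hx : x ∉ 𝓘.support) : ∃ U : X.affineOpens, x ∈ U.1 ∧ 𝓘.ideal U = ⊤ := by
  obtain ⟨U, hU, hxU, -⟩ := exists_isAffineOpen_mem_and_subset (x := x) (U := ⊤) trivial
  have h1 : x ∉ X.zeroLocus (U := U) (𝓘.ideal ⟨U, hU⟩) := fun h =>
    hx ((Scheme.IdealSheafData.mem_support_iff_of_mem (U := ⟨U, hU⟩) hxU).mpr h)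
  rw [Scheme.mem_zeroLocus_iff] at h1
  push Not at h1
  obtain ⟨f, hf, hxf⟩ := h1
  refine ⟨X.affineBasicOpen (U := ⟨U, hU⟩) f, hxf, ?_⟩
  have h2 := 𝓘.map_ideal_basicOpen ⟨U, hU⟩ f
  have h3 : (X.presheaf.map (homOfLE (X.basicOpen_le f)).op).hom f ∈
      𝓘.ideal (X.affineBasicOpen (U := ⟨U, hU⟩) f) := by
    rw [← h2]; exact Ideal.mem_map_of_mem _ hf
  exact Ideal.eq_top_of_isUnit_mem _ h3 (X.toRingedSpace.isUnit_res_basicOpen f)

theorem mem_nonZeroDivisors_of_isSMulRegular {R : Type u} [CommRing R] {g : R}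
    (h : IsSMulRegular R g) : g ∈ nonZeroDivisors R :=
  (isLeftRegular_iff_isRegular.mp h.isLeftRegular).mem_nonZeroDivisors

set_option maxHeartbeats 800000 in
/-- `φ : X ⟶ S` flat l.f.p., `𝓘` an ideal sheaf with `V(𝓘)` flat l.f.p. over `S`; if the inverse
image of `𝓘` on the fibre through a point `x` of the support is effective Cartier, then `𝓘` is
generated by one nonzerodivisor on an affine open neighbourhood of `x`. -/
theorem effCartier_at_of_fibre {X S : Scheme.{u}} (φ : X ⟶ S) [Flat φ]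
    [LocallyOfFinitePresentation φ] (𝓘 : X.IdealSheafData) [Flat (𝓘.subschemeι ≫ φ)]
    [LocallyOfFinitePresentation (𝓘.subschemeι ≫ φ)] (x : X) (hx : x ∈ 𝓘.support)
    (hfib : BlowUp.IsEffCartierIdeal (𝓘.comap (φ.fiberι (φ x)))) :
    ∃ U : X.affineOpens, x ∈ U.1 ∧ ∃ f : Γ(X, U.1), f ∈ nonZeroDivisors Γ(X, U.1) ∧
      𝓘.ideal U = Ideal.span {f} := by
  obtain ⟨z, hz⟩ : ∃ z, 𝓘.subschemeι z = x := by
    have : x ∈ Set.range 𝓘.subschemeι := by rw [𝓘.range_subschemeι]; exact hx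
    exact this
  obtain ⟨w, hw1, hw2⟩ := Scheme.Pullback.exists_preimage_pullback (f := φ.fiberι (φ x))
    (g := 𝓘.subschemeι) (φ.asFiber x) z ((φ.fiberι_asFiber x).trans hz.symm)
  obtain ⟨U', hyU', f, hf, hideal⟩ := hfib (pullback.fst (φ.fiberι (φ x)) 𝓘.subschemeι w)
  have hU' : IsAffineOpen U'.1 := U'.2
  have hcomap : (pullback.fst (φ.fiberι (φ x)) 𝓘.subschemeι).ker.ideal U' = Ideal.span {f} :=
    hideal
  letI : Algebra Γ(φ.fiber (φ x), U'.1) ((φ.fiber (φ x)).presheaf.stalk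
      (pullback.fst (φ.fiberι (φ x)) 𝓘.subschemeι w)) :=
    (φ.fiber (φ x)).presheaf.algebra_section_stalk ⟨_, hyU'⟩
  haveI : IsLocalization.AtPrime ((φ.fiber (φ x)).presheaf.stalk
      (pullback.fst (φ.fiberι (φ x)) 𝓘.subschemeι w))
      (hU'.primeIdealOf ⟨_, hyU'⟩).asIdeal := hU'.isLocalization_stalk ⟨_, hyU'⟩
  haveI : Module.Flat Γ(φ.fiber (φ x), U'.1) ((φ.fiber (φ x)).presheaf.stalk
      (pullback.fst (φ.fiberι (φ x)) 𝓘.subschemeι w)) :=
    IsLocalization.flat _ (hU'.primeIdealOf ⟨_, hyU'⟩).asIdeal.primeCompl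
  have hker : RingHom.ker ((pullback.fst (φ.fiberι (φ x)) 𝓘.subschemeι).stalkMap w).hom =
      Ideal.ofList ([f].map (algebraMap Γ(φ.fiber (φ x), U'.1) ((φ.fiber (φ x)).presheaf.stalk
        (pullback.fst (φ.fiberι (φ x)) 𝓘.subschemeι w)))) := by
    rw [Groth.Agent.H9.ker_stalkMap_of_isClosedImmersion _ U' w hyU', hcomap,
      ← Ideal.ofList_singleton, Ideal.map_ofList]
    rfl
  have hwr : IsWeaklyRegular Γ(φ.fiber (φ x), U'.1) [f] :=
    (isWeaklyRegular_singleton_iff _ f).mpr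
      (Module.Flat.isSMulRegular_of_nonZeroDivisors hf)
  have hreg : RingTheory.Sequence.IsRegular ((φ.fiber (φ x)).presheaf.stalk
      (pullback.fst (φ.fiberι (φ x)) 𝓘.subschemeι w))
      ([f].map (algebraMap Γ(φ.fiber (φ x), U'.1) ((φ.fiber (φ x)).presheaf.stalk
        (pullback.fst (φ.fiberι (φ x)) 𝓘.subschemeι w)))) := by
    refine ⟨hwr.of_flat, ?_⟩
    simp only [smul_eq_mul, Ideal.mul_top]
    intro htop
    exact RingHom.ker_ne_top _ (hker.trans htop.symm)
  obtain ⟨U, hU, hzU, gs, hlen, hgs, hidealU⟩ :=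
    exists_affine_regular_of_fibre φ 𝓘.subschemeι (φ x)
      (pullback.snd (φ.fiberι (φ x)) 𝓘.subschemeι) (pullback.fst (φ.fiberι (φ x)) 𝓘.subschemeι)
      (IsPullback.of_hasPullback _ _).flip w _ hreg hker
  rw [hw2, hz] at hzU
  rw [List.length_map, List.length_singleton] at hlen
  obtain ⟨g, rfl⟩ := List.length_eq_one_iff.mp hlen
  refine ⟨⟨U, hU⟩, hzU, g, ?_, ?_⟩
  · exact mem_nonZeroDivisors_of_isSMulRegular
      ((isWeaklyRegular_singleton_iff _ g).mp hgs.toIsWeaklyRegular)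
  · rw [← Ideal.ofList_singleton, ← hidealU, 𝓘.ker_subschemeι]

end Groth.Agent.H79.FibreCartier
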