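import Mathlib

/-!
# Key flatness lemma, part 1: algebra preliminaries (helper79)

* `mul_eq_zero_of_tensor_ann`: if `B₀ / f₀` is flat over `R₀`, the annihilator of `1 ⊗ f₀` in
  `S ⊗ B₀` is generated by the annihilator of `f₀` (in the form: whatever kills `1 ⊗ Ann f₀` kills
  `Ann (1 ⊗ f₀)`).
* `flat_tensor_quot_span_singleton`: base change of a flat quotient by one element.
* `flat_localization_quot_span_singleton`: localization of a flat quotient by one element.
-/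

set_option autoImplicit false

open TensorProduct

namespace Groth.Agent.H79.KeyFlat

universe u

section F1

variable {R₀ B₀ : Type u} [CommRing R₀] [CommRing B₀] [Algebra R₀ B₀] (f₀ : B₀)

/-- Multiplication by `f₀`, as an `R₀`-linear map. -/
noncomputable abbrev mulL : B₀ →ₗ[R₀] B₀ := LinearMap.mulLeft R₀ f₀

lemma lTensor_mulL (S : Type u) [CommRing S] [Algebra R₀ S] (w : S ⊗[R₀] B₀) :
    (mulL (R₀ := R₀) f₀).lTensor S w = ((1 : S) ⊗ₜ[R₀] f₀) * w := by
  induction w using TensorProduct.induction_on with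
  | zero => simp
  | tmul s b => simp [Algebra.TensorProduct.tmul_mul_tmul]
  | add a b ha hb => rw [map_add, ha, hb, mul_add]

lemma exact_mulL_mkQ :
    Function.Exact (mulL (R₀ := R₀) f₀)
      ((Submodule.mkQ (Ideal.span {f₀})).restrictScalars R₀) := by
  intro b
  constructor
  · intro hb
    have hb' : b ∈ Ideal.span {f₀} := (Submodule.Quotient.mk_eq_zero _).1 hb
    obtain ⟨c, rfl⟩ := Ideal.mem_span_singleton'.1 hb'
    exact ⟨c, mul_comm f₀ c⟩
  · rintro ⟨c, rfl⟩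
    exact (Submodule.Quotient.mk_eq_zero _).2 (Ideal.mem_span_singleton'.2 ⟨c, mul_comm c f₀⟩)

/-- **Annihilators commute with base change when the quotient is flat.** -/
theorem mul_eq_zero_of_tensor_ann [Module.Flat R₀ (B₀ ⧸ Ideal.span {f₀})]
    (S : Type u) [CommRing S] [Algebra R₀ S] (t w : S ⊗[R₀] B₀)
    (ht : ∀ z : B₀, f₀ * z = 0 → t * ((1 : S) ⊗ₜ[R₀] z) = 0)
    (hw : ((1 : S) ⊗ₜ[R₀] f₀) * w = 0) : t * w = 0 := by
  let μ : B₀ →ₗ[R₀] B₀ := mulL (R₀ := R₀) f₀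
  let π : B₀ →ₗ[R₀] (B₀ ⧸ Ideal.span {f₀}) := (Submodule.mkQ (Ideal.span {f₀})).restrictScalars R₀
  have hπs : Function.Surjective π := fun x => by
    obtain ⟨y, rfl⟩ := Submodule.Quotient.mk_surjective _ x
    exact ⟨y, rfl⟩
  -- the image of `μ`
  have hex2 : Function.Exact (LinearMap.range μ).subtype π := by
    intro b
    rw [(exact_mulL_mkQ (R₀ := R₀) f₀) b]
    constructor
    · rintro ⟨c, rfl⟩; exact ⟨⟨μ c, c, rfl⟩, rfl⟩
    · rintro ⟨⟨_, c, rfl⟩, rfl⟩; exact ⟨c, rfl⟩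
  have hinj : Function.Injective ((LinearMap.range μ).subtype.lTensor S) :=
    LinearMap.lTensor_injective_of_exact_of_flat π hπs _ (Submodule.subtype_injective _) hex2 S
  have hcomp : (LinearMap.range μ).subtype ∘ₗ μ.rangeRestrict = μ := by
    ext b; rfl
  have h1 : μ.rangeRestrict.lTensor S w = 0 := by
    apply hinj
    rw [map_zero, ← LinearMap.comp_apply, ← LinearMap.lTensor_comp, hcomp, lTensor_mulL, hw]
  have hex3 := lTensor_exact S (LinearMap.exact_subtype_ker_map μ.rangeRestrict)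
    (LinearMap.surjective_rangeRestrict μ)
  obtain ⟨ξ, rfl⟩ := (hex3 w).mp h1
  clear h1 hw
  induction ξ using TensorProduct.induction_on with
  | zero => simp
  | tmul s' k =>
    have hk : f₀ * (k : B₀) = 0 := by
      have := k.2
      rw [LinearMap.mem_ker] at this
      have h2 : ((μ.rangeRestrict (k : B₀) : LinearMap.range μ) : B₀) = 0 := by
        rw [this]; rfl
      exact h2
    have h3 := ht k hk
    rw [LinearMap.lTensor_tmul, Submodule.subtype_apply]
    have : s' ⊗ₜ[R₀] (k : B₀) = (s' ⊗ₜ[R₀] (1 : B₀)) * ((1 : S) ⊗ₜ[R₀] (k : B₀)) := by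
      rw [Algebra.TensorProduct.tmul_mul_tmul, mul_one, one_mul]
    rw [this, ← mul_assoc, mul_comm t, mul_assoc, h3, mul_zero]
  | add a b ha hb => rw [map_add, mul_add, ha, hb, add_zero]

/-- The quotient of `S ⊗ B₀` by `1 ⊗ f₀` is `S ⊗ (B₀ / f₀)`. -/
theorem nonempty_tensorQuotEquiv (S : Type u) [CommRing S] [Algebra R₀ S] :
    Nonempty (((S ⊗[R₀] B₀) ⧸ Ideal.span {(1 : S) ⊗ₜ[R₀] f₀}) ≃ₗ[S]
      S ⊗[R₀] (B₀ ⧸ Ideal.span {f₀})) := by
  let μ : B₀ →ₗ[R₀] B₀ := mulL (R₀ := R₀) f₀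
  let π : B₀ →ₗ[R₀] (B₀ ⧸ Ideal.span {f₀}) := (Submodule.mkQ (Ideal.span {f₀})).restrictScalars R₀
  have hπs : Function.Surjective π := fun x => by
    obtain ⟨y, rfl⟩ := Submodule.Quotient.mk_surjective _ x
    exact ⟨y, rfl⟩
  let Φ : S ⊗[R₀] B₀ →ₗ[S] S ⊗[R₀] (B₀ ⧸ Ideal.span {f₀}) :=
    TensorProduct.AlgebraTensorModule.lTensor S S π
  have hΦ : ∀ w, Φ w = π.lTensor S w := fun w => rfl
  have hΦs : Function.Surjective Φ := fun y => by
    obtain ⟨w, hw⟩ := LinearMap.lTensor_surjective S hπs y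
    exact ⟨w, hw⟩
  have hex := lTensor_exact S (exact_mulL_mkQ (R₀ := R₀) f₀) hπs
  have hker : LinearMap.ker Φ =
      (Ideal.span {(1 : S) ⊗ₜ[R₀] f₀} : Ideal (S ⊗[R₀] B₀)).restrictScalars S := by
    ext w
    rw [LinearMap.mem_ker, hΦ, Submodule.restrictScalars_mem, Ideal.mem_span_singleton']
    constructor
    · intro h
      obtain ⟨v, hv⟩ := (hex w).mp h
      rw [lTensor_mulL] at hv
      exact ⟨v, by rw [mul_comm]; exact hv⟩
    · rintro ⟨v, rfl⟩
      refine (hex _).mpr ⟨v, ?_⟩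
      rw [lTensor_mulL, mul_comm]
  let e1 : ((S ⊗[R₀] B₀) ⧸ LinearMap.ker Φ) ≃ₗ[S] S ⊗[R₀] (B₀ ⧸ Ideal.span {f₀}) :=
    Φ.quotKerEquivOfSurjective hΦs
  let e2 : ((S ⊗[R₀] B₀) ⧸
      (Ideal.span {(1 : S) ⊗ₜ[R₀] f₀} : Ideal (S ⊗[R₀] B₀)).restrictScalars S) ≃ₗ[S]
      ((S ⊗[R₀] B₀) ⧸ LinearMap.ker Φ) := Submodule.quotEquivOfEq _ _ hker.symm
  let e3 := Submodule.Quotient.restrictScalarsEquiv S
    (Ideal.span {(1 : S) ⊗ₜ[R₀] f₀} : Ideal (S ⊗[R₀] B₀))
  exact ⟨e3.symm ≪≫ₗ e2 ≪≫ₗ e1⟩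

/-- **Base change of a flat quotient by one element.** -/
theorem flat_tensor_quot_span_singleton [Module.Flat R₀ (B₀ ⧸ Ideal.span {f₀})]
    (S : Type u) [CommRing S] [Algebra R₀ S] :
    Module.Flat S ((S ⊗[R₀] B₀) ⧸ Ideal.span {(1 : S) ⊗ₜ[R₀] f₀}) := by
  obtain ⟨e⟩ := nonempty_tensorQuotEquiv (R₀ := R₀) f₀ S
  exact Module.Flat.of_linearEquiv e

end F1

section L3

/-- **Localization of a flat quotient by one element.** -/
theorem flat_localization_quot_span_singleton {A B : Type u} [CommRing A] [CommRing B]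
    [Algebra A B] (x : B) [Module.Flat A (B ⧸ Ideal.span {x})] (M : Submonoid B) (L : Type u)
    [CommRing L] [Algebra B L] [Algebra A L] [IsScalarTower A B L] [IsLocalization M L] :
    Module.Flat A (L ⧸ Ideal.span {algebraMap B L x}) := by
  have e : Ideal.span {algebraMap B L x} = (Ideal.span {x}).map (algebraMap B L) := by
    rw [Ideal.map_span, Set.image_singleton]
  rw [e]
  set I : Ideal B := Ideal.span {x} with hI
  haveI : IsLocalization (Algebra.algebraMapSubmonoid (B ⧸ I) M) (L ⧸ I.map (algebraMap B L)) :=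
    inferInstance
  haveI : Module.Flat (B ⧸ I) (L ⧸ I.map (algebraMap B L)) :=
    IsLocalization.flat _ (Algebra.algebraMapSubmonoid (B ⧸ I) M)
  haveI : IsScalarTower A (B ⧸ I) (L ⧸ I.map (algebraMap B L)) :=
    IsScalarTower.of_algebraMap_eq (fun a => by
      rw [IsScalarTower.algebraMap_apply A L (L ⧸ I.map (algebraMap B L)),
        IsScalarTower.algebraMap_apply A B L, IsScalarTower.algebraMap_apply A B (B ⧸ I)]
      rfl)
  exact Module.Flat.trans A (B ⧸ I) (L ⧸ I.map (algebraMap B L))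

end L3

end Groth.Agent.H79.KeyFlat
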