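import Mathlib
import Groth.Agent.H57.FlatPt3
import Groth.Agent.H9.FlatNak
import Groth.Agent.H79.KeyFlat1

/-!
# Key flatness lemma, part 2: the tensor form (helper79)

`R₀` Noetherian, `B₀` of finite type over `R₀`, `f₀ ∈ B₀` with `B₀ / f₀` flat over `R₀`, `T` any
`R₀`-algebra and `𝔔 ∋ 1 ⊗ f₀` a prime of `T ⊗ B₀` such that `1 ⊗ f₀` is a nonzerodivisor of
`(T ⊗ B₀)_𝔔`.  Then `(T ⊗ B₀)_𝔔` is flat over `T`.
-/

set_option autoImplicit false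
set_option linter.style.haveILetI false

open TensorProduct
open Groth.Agent.H48.FlatLimit

namespace Groth.Agent.H79.KeyFlat

universe u

/-- Noetherian step: if `B / f` is flat over `A`, `f ∈ q` and some `t ∉ q` kills the annihilator of
`f`, then `B_q` is flat over `A`. -/
theorem flat_atPrime_of_ann_killed {A B : Type u} [CommRing A] [CommRing B] [Algebra A B]
    [IsNoetherianRing B] (f : B) [Module.Flat A (B ⧸ Ideal.span {f})] (q : Ideal B) [q.IsPrime]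
    (hfq : f ∈ q) (t : B) (htq : t ∉ q) (h : ∀ w, f * w = 0 → t * w = 0) :
    Module.Flat A (Localization.AtPrime q) := by
  have hnzd : algebraMap B (Localization.AtPrime q) f ∈
      nonZeroDivisors (Localization.AtPrime q) := by
    rw [mem_nonZeroDivisors_iff_right]
    intro x hx
    obtain ⟨w, u, rfl⟩ := IsLocalization.exists_mk'_eq q.primeCompl x
    rw [← IsLocalization.mk'_one (M := q.primeCompl) (Localization.AtPrime q) f,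
      ← IsLocalization.mk'_mul, IsLocalization.mk'_eq_zero_iff] at hx
    obtain ⟨m, hm⟩ := hx
    rw [IsLocalization.mk'_eq_zero_iff]
    have h1 : f * ((m : B) * w) = 0 := by
      rw [← hm]; ring
    have h2 := h _ h1
    refine ⟨⟨t, htq⟩ * m, ?_⟩
    rw [Submonoid.coe_mul, mul_assoc]
    exact h2
  have hmem : algebraMap B (Localization.AtPrime q) f ∈
      IsLocalRing.maximalIdeal (Localization.AtPrime q) :=
    (IsLocalization.AtPrime.to_map_mem_maximal_iff (Localization.AtPrime q) q _).mpr hfq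
  haveI : Module.Flat A (Localization.AtPrime q ⧸
      Ideal.span {algebraMap B (Localization.AtPrime q) f}) :=
    flat_localization_quot_span_singleton (A := A) (B := B) f q.primeCompl (Localization.AtPrime q)
  exact Groth.Agent.H9.flat_of_flat_quot_nzd _ hmem hnzd

attribute [local instance] Algebra.TensorProduct.rightAlgebra in
/-- Flatness at a prime ascends from `S ⊗ B₀` to `T ⊗ B₀`. -/
theorem flat_atPrime_of_flat_comap_φ {R₀ B₀ T : Type u} [CommRing R₀] [CommRing B₀]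
    [Algebra R₀ B₀] [CommRing T] [Algebra R₀ T] (S : Subalgebra R₀ T)
    (𝔔 : Ideal (T ⊗[R₀] B₀)) [𝔔.IsPrime]
    (hflatS : Module.Flat ↥S (Localization.AtPrime (𝔔.comap (φ B₀ S)))) :
    Module.Flat T (Localization.AtPrime 𝔔) := by
  letI : Algebra (↥S ⊗[R₀] B₀) (T ⊗[R₀] B₀) := (φ B₀ S).toRingHom.toAlgebra
  have hφ : ∀ x, algebraMap (↥S ⊗[R₀] B₀) (T ⊗[R₀] B₀) x = φ B₀ S x := fun _ => rfl
  haveI : IsScalarTower (↥S) (↥S ⊗[R₀] B₀) (T ⊗[R₀] B₀) :=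
    IsScalarTower.of_algebraMap_eq (R := ↥S) (S := ↥S ⊗[R₀] B₀) (A := T ⊗[R₀] B₀) (fun s => by
    rw [hφ, Algebra.TensorProduct.algebraMap_apply, φ_tmul]
    rfl)
  haveI : IsScalarTower R₀ (↥S ⊗[R₀] B₀) (T ⊗[R₀] B₀) :=
    IsScalarTower.of_algebraMap_eq (R := R₀) (S := ↥S ⊗[R₀] B₀) (A := T ⊗[R₀] B₀) (fun r => by
    rw [hφ, AlgHom.commutes])
  haveI : IsScalarTower B₀ (↥S ⊗[R₀] B₀) (T ⊗[R₀] B₀) :=
    IsScalarTower.of_algebraMap_eq (R := B₀) (S := ↥S ⊗[R₀] B₀) (A := T ⊗[R₀] B₀) (fun c => by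
    rw [hφ]
    show (1 : T) ⊗ₜ[R₀] c = φ B₀ S ((1 : ↥S) ⊗ₜ[R₀] c)
    rw [φ_tmul]
    rfl)
  haveI po : Algebra.IsPushout (↥S) T (↥S ⊗[R₀] B₀) (T ⊗[R₀] B₀) :=
    (Algebra.IsPushout.comp_iff R₀ (↥S) B₀ (S' := ↥S ⊗[R₀] B₀) (T := T)
      (T' := T ⊗[R₀] B₀)).mp inferInstance
  haveI : Algebra.IsPushout (↥S) (↥S ⊗[R₀] B₀) T (T ⊗[R₀] B₀) := po.symm
  haveI : 𝔔.LiesOver (𝔔.comap (algebraMap (↥S ⊗[R₀] B₀) (T ⊗[R₀] B₀))) := ⟨rfl⟩
  exact Groth.Agent.H48.flat_localization_of_isPushout (↥S) (↥S ⊗[R₀] B₀) T (T ⊗[R₀] B₀)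
    (𝔔.comap (algebraMap (↥S ⊗[R₀] B₀) (T ⊗[R₀] B₀))) 𝔔 hflatS

theorem flat_atPrime_tensor_of_regular
    {R₀ B₀ T : Type u} [CommRing R₀] [IsNoetherianRing R₀] [CommRing B₀] [Algebra R₀ B₀]
    [Algebra.FiniteType R₀ B₀] (f₀ : B₀) [Module.Flat R₀ (B₀ ⧸ Ideal.span {f₀})]
    [CommRing T] [Algebra R₀ T] (𝔔 : Ideal (T ⊗[R₀] B₀)) [𝔔.IsPrime]
    (hf𝔔 : (1 : T) ⊗ₜ[R₀] f₀ ∈ 𝔔)
    (hreg : ∀ x : Localization.AtPrime 𝔔,
      algebraMap (T ⊗[R₀] B₀) (Localization.AtPrime 𝔔) ((1 : T) ⊗ₜ[R₀] f₀) * x = 0 → x = 0) :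
    Module.Flat T (Localization.AtPrime 𝔔) := by
  classical
  obtain ⟨n, π₀, hπ₀⟩ := Algebra.FiniteType.iff_quotient_mvPolynomial''.mp
    (inferInstance : Algebra.FiniteType R₀ B₀)
  haveI : IsNoetherianRing B₀ := Algebra.FiniteType.isNoetherianRing R₀ B₀
  -- the annihilator of `f₀`
  let K₀ : Ideal B₀ := LinearMap.ker (LinearMap.mulLeft B₀ f₀)
  have hK₀ : ∀ z, z ∈ K₀ ↔ f₀ * z = 0 := fun z => by
    rw [LinearMap.mem_ker, LinearMap.mulLeft_apply]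
  obtain ⟨s, hs⟩ := (isNoetherianRing_iff_ideal_fg B₀).mp inferInstance K₀
  -- step 4: a single `tt ∉ 𝔔` killing `1 ⊗ z`, `z ∈ s`
  have h4 : ∀ z ∈ s, ∃ t : T ⊗[R₀] B₀, t ∉ 𝔔 ∧ t * ((1 : T) ⊗ₜ[R₀] z) = 0 := by
    intro z hz
    have hzK : z ∈ K₀ := by rw [← hs]; exact Ideal.subset_span hz
    have h0 : algebraMap (T ⊗[R₀] B₀) (Localization.AtPrime 𝔔) ((1 : T) ⊗ₜ[R₀] z) = 0 := by
      apply hreg
      rw [← map_mul, Algebra.TensorProduct.tmul_mul_tmul, (hK₀ z).mp hzK, mul_one, tmul_zero,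
        map_zero]
    obtain ⟨m, hm⟩ := (IsLocalization.map_eq_zero_iff 𝔔.primeCompl _ _).mp h0
    exact ⟨m, m.2, hm⟩
  choose! t ht1 ht2 using h4
  have htt1 : (∏ z ∈ s, t z) ∉ 𝔔 := by
    intro hmem
    obtain ⟨z, hz, hzm⟩ := (Ideal.IsPrime.prod_mem_iff).mp hmem
    exact ht1 z hz hzm
  have htt2 : ∀ z ∈ s, (∏ z ∈ s, t z) * ((1 : T) ⊗ₜ[R₀] z) = 0 := by
    intro z hz
    rw [← Finset.mul_prod_erase s t hz, mul_comm (t z), mul_assoc, ht2 z hz, mul_zero]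
  -- step 5: lifts to the polynomial ring
  obtain ⟨tl, htl⟩ := map_id_surjective π₀ T hπ₀ (∏ z ∈ s, t z)
  have hlift : ∀ z : B₀, ∃ zl : MvPolynomial (Fin n) R₀, π₀ zl = z := fun z => hπ₀ z
  choose zl hzl using hlift
  have h5 : ∀ z ∈ s, tl * (Algebra.TensorProduct.includeRight (zl z) :
      T ⊗[R₀] MvPolynomial (Fin n) R₀) ∈ ext R₀ T (RingHom.ker π₀) := by
    intro z hz
    rw [← ker_map_id_eq π₀ hπ₀ T, RingHom.mem_ker, map_mul, htl]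
    have : πT π₀ T (Algebra.TensorProduct.includeRight (zl z)) = (1 : T) ⊗ₜ[R₀] z := by
      simp [hzl]
    rw [this, htt2 z hz]
  -- step 6: descend to a finitely generated subalgebra
  have hev1 := ev_mem_range (P₀ := MvPolynomial (Fin n) R₀) (T := T) tl
  have hev2 : Ev T (fun S : Subalgebra R₀ T => ∀ z ∈ s, ∃ x' ∈ ext R₀ (↥S) (RingHom.ker π₀),
      φ (MvPolynomial (Fin n) R₀) S x' =
        tl * (Algebra.TensorProduct.includeRight (zl z) : T ⊗[R₀] MvPolynomial (Fin n) R₀)) :=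
    Ev.forall_finset s (fun z hz => ev_mem_ext (RingHom.ker π₀) _ (h5 z hz))
  obtain ⟨S, hSfg, hS⟩ := hev1.and hev2
  obtain ⟨⟨tS, htS⟩, hS2⟩ := hS S le_rfl
  haveI : Algebra.FiniteType R₀ ↥S := (Subalgebra.fg_iff_finiteType S).mp hSfg
  haveI : IsNoetherianRing ↥S := Algebra.FiniteType.isNoetherianRing R₀ ↥S
  haveI : IsNoetherianRing (↥S ⊗[R₀] B₀) := Algebra.FiniteType.isNoetherianRing ↥S _
  -- the element `t_S`
  set tS' : ↥S ⊗[R₀] B₀ := πT π₀ ↥S tS with htS'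
  have h7 : ∀ z ∈ s, tS' * ((1 : ↥S) ⊗ₜ[R₀] z) = 0 := by
    intro z hz
    obtain ⟨x', hx'1, hx'2⟩ := hS2 z hz
    have hx'eq : x' = tS * (Algebra.TensorProduct.includeRight (zl z) :
        ↥S ⊗[R₀] MvPolynomial (Fin n) R₀) := by
      apply φ_injective S
      rw [hx'2, map_mul, htS]
      congr 1
    rw [hx'eq, ← ker_map_id_eq π₀ hπ₀ ↥S, RingHom.mem_ker, map_mul] at hx'1
    have : πT π₀ ↥S (Algebra.TensorProduct.includeRight (zl z)) = (1 : ↥S) ⊗ₜ[R₀] z := by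
      simp [hzl]
    rw [this] at hx'1
    exact hx'1
  have h7' : ∀ z : B₀, f₀ * z = 0 → tS' * ((1 : ↥S) ⊗ₜ[R₀] z) = 0 := by
    intro z hz
    have hzK : z ∈ Ideal.span (s : Set B₀) := by rw [hs]; exact (hK₀ z).mpr hz
    refine Submodule.span_induction (p := fun z _ => tS' * ((1 : ↥S) ⊗ₜ[R₀] z) = 0)
      (fun z hz => h7 z hz) (by simp) (fun a b _ _ ha hb => ?_) (fun a b _ hb => ?_) hzK
    · rw [tmul_add, mul_add, ha, hb, add_zero]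
    · have : (1 : ↥S) ⊗ₜ[R₀] (a • b) = ((1 : ↥S) ⊗ₜ[R₀] a) * ((1 : ↥S) ⊗ₜ[R₀] b) := by
        rw [Algebra.TensorProduct.tmul_mul_tmul, mul_one, smul_eq_mul]
      rw [this, mul_left_comm, hb, mul_zero]
  -- the prime `𝔔_S`
  set 𝔔S : Ideal (↥S ⊗[R₀] B₀) := 𝔔.comap (φ B₀ S) with h𝔔S
  haveI : 𝔔S.IsPrime := Ideal.comap_isPrime _ _
  have htS'𝔔 : tS' ∉ 𝔔S := by
    intro hmem
    rw [h𝔔S, Ideal.mem_comap, htS', Groth.Agent.H57.FlatPt.phi_piT, htS, htl] at hmem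
    exact htt1 hmem
  have hfS : ((1 : ↥S) ⊗ₜ[R₀] f₀ : ↥S ⊗[R₀] B₀) ∈ 𝔔S := by
    rw [h𝔔S, Ideal.mem_comap, φ_tmul]
    exact hf𝔔
  -- step 8
  have h8 : ∀ w : ↥S ⊗[R₀] B₀, ((1 : ↥S) ⊗ₜ[R₀] f₀) * w = 0 → tS' * w = 0 :=
    fun w hw => mul_eq_zero_of_tensor_ann (R₀ := R₀) f₀ ↥S tS' w h7' hw
  haveI := flat_tensor_quot_span_singleton (R₀ := R₀) f₀ ↥S
  have hflatS : Module.Flat ↥S (Localization.AtPrime 𝔔S) :=
    flat_atPrime_of_ann_killed (A := ↥S) ((1 : ↥S) ⊗ₜ[R₀] f₀) 𝔔S hfS tS' htS'𝔔 h8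
  exact flat_atPrime_of_flat_comap_φ S 𝔔 hflatS

end Groth.Agent.H79.KeyFlat
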