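import Mathlib
import Groth.Agent.H48.FlatLimit4
import Groth.Agent.H57.FlatPt3
import Groth.Agent.H79.KeyFlat2

/-!
# Key flatness lemma, part 3: finitely presented algebras (helper79)

`flat_atPrime_of_regular_of_flat_quot` (EGA IV 11.3.8 b ⇒ c, no Noetherian hypothesis):
`A → B` finitely presented, `f ∈ P` a prime of `B`, `f` a nonzerodivisor of `B_P` and `B / f` flat
over `A`.  Then `B_P` is flat over `A`.
-/

set_option autoImplicit false
set_option linter.style.haveILetI false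

open TensorProduct
open Groth.Agent.H48.FlatLimit

namespace Groth.Agent.H79.KeyFlat

universe u

/-- Transfer along a bijective algebra map `D → B`. -/
theorem transfer_bijective {A D B : Type u} [CommRing A] [CommRing D] [CommRing B] [Algebra A D]
    [Algebra D B] [Algebra A B] [IsScalarTower A D B]
    (hbij : Function.Bijective (algebraMap D B)) (P : Ideal B) [P.IsPrime] (g : D)
    (hreg : ∀ x : Localization.AtPrime P,
      algebraMap B (Localization.AtPrime P) (algebraMap D B g) * x = 0 → x = 0) :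
    (∀ x : Localization.AtPrime (P.comap (algebraMap D B)),
      algebraMap D (Localization.AtPrime (P.comap (algebraMap D B))) g * x = 0 → x = 0) ∧
    (Module.Flat A (Localization.AtPrime (P.comap (algebraMap D B))) →
      Module.Flat A (Localization.AtPrime P)) := by
  haveI : IsLocalization.Away (1 : D) B :=
    IsLocalization.away_of_isUnit_of_bijective B isUnit_one hbij
  haveI h1 : IsLocalization.AtPrime (Localization.AtPrime P) (P.comap (algebraMap D B)) :=
    IsLocalization.isLocalization_isLocalization_atPrime_isLocalization (Submonoid.powers (1 : D))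
      (Localization.AtPrime P) P
  let ψ : Localization.AtPrime (P.comap (algebraMap D B)) ≃ₐ[D] Localization.AtPrime P :=
    IsLocalization.algEquiv (P.comap (algebraMap D B)).primeCompl _ _
  refine ⟨fun x hx => ?_, fun h => ?_⟩
  · have h2 : ψ (algebraMap D (Localization.AtPrime (P.comap (algebraMap D B))) g * x) = 0 := by
      rw [hx, map_zero]
    rw [map_mul, AlgEquiv.commutes, IsScalarTower.algebraMap_apply D B (Localization.AtPrime P)]
      at h2
    have h3 := hreg _ h2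
    exact (EmbeddingLike.map_eq_zero_iff (f := ψ)).mp h3
  · exact (Groth.Agent.H57.FlatPt.flat_atPrime_comap_iff (A := A)
      (Submonoid.powers (1 : D)) P).mp h

/-- Transfer along an algebra isomorphism `E : D ≃ₐ[A] B`. -/
theorem transfer_equiv {A D B : Type u} [CommRing A] [CommRing D] [CommRing B] [Algebra A D]
    [Algebra A B] (E : D ≃ₐ[A] B) (P : Ideal B) [P.IsPrime] (g : D)
    (hreg : ∀ x : Localization.AtPrime P,
      algebraMap B (Localization.AtPrime P) (E g) * x = 0 → x = 0) :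
    (∀ x : Localization.AtPrime (P.comap E),
      algebraMap D (Localization.AtPrime (P.comap E)) g * x = 0 → x = 0) ∧
    (Module.Flat A (Localization.AtPrime (P.comap E)) →
      Module.Flat A (Localization.AtPrime P)) := by
  letI : Algebra D B := E.toRingHom.toAlgebra
  haveI : IsScalarTower A D B :=
    IsScalarTower.of_algebraMap_eq (R := A) (S := D) (A := B) (fun a => (E.commutes a).symm)
  have hbij : Function.Bijective (algebraMap D B) := E.bijective
  exact transfer_bijective (A := A) hbij P g hreg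

set_option maxHeartbeats 1000000 in
/-- The key lemma, given a Noetherian model `(R₀, M, f₀)` of `(B, f)`. -/
theorem flat_atPrime_of_model {A B R₀ M : Type u} [CommRing A] [CommRing B] [Algebra A B]
    [CommRing R₀] [IsNoetherianRing R₀] [Algebra R₀ A] [CommRing M] [Algebra R₀ M]
    [Algebra.FiniteType R₀ M] (e : A ⊗[R₀] M ≃ₐ[A] B) (f₀ : M) (f : B)
    (he : e ((1 : A) ⊗ₜ[R₀] f₀) = f) [Module.Flat A (B ⧸ Ideal.span {f})]
    (P : Ideal B) [P.IsPrime] (hfP : f ∈ P)
    (hreg : ∀ x : Localization.AtPrime P,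
      algebraMap B (Localization.AtPrime P) f * x = 0 → x = 0) :
    Module.Flat A (Localization.AtPrime P) := by
  classical
  -- flatness of the base change of the quotient model
  haveI hC : Module.Flat A (A ⊗[R₀] (M ⧸ Ideal.span {f₀})) := by
    obtain ⟨e1⟩ := nonempty_tensorQuotEquiv (R₀ := R₀) f₀ A
    let e2 : ((A ⊗[R₀] M) ⧸ Ideal.span {(1 : A) ⊗ₜ[R₀] f₀}) ≃ₐ[A] (B ⧸ Ideal.span {f}) :=
      Ideal.quotientEquivAlg _ _ e (by
        rw [Ideal.map_span, Set.image_singleton]
        congr 2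
        exact he.symm)
    exact Module.Flat.of_linearEquiv (e1.symm ≪≫ₗ e2.toLinearEquiv)
  haveI : Algebra.FiniteType R₀ (M ⧸ Ideal.span {f₀}) :=
    Algebra.FiniteType.of_surjective (Ideal.Quotient.mkₐ R₀ (Ideal.span {f₀}))
      (Ideal.Quotient.mkₐ_surjective _ _)
  obtain ⟨S₁, hS₁fg, hS₁⟩ := exists_fg_flat (R₀ := R₀) (M ⧸ Ideal.span {f₀}) A
  haveI hflat1 := hS₁ S₁ le_rfl hS₁fg
  haveI : Algebra.FiniteType R₀ ↥S₁ := (Subalgebra.fg_iff_finiteType S₁).mp hS₁fg
  haveI : IsNoetherianRing ↥S₁ := Algebra.FiniteType.isNoetherianRing R₀ ↥S₁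
  -- re-base over `S₁`
  haveI : Module.Flat ↥S₁ ((↥S₁ ⊗[R₀] M) ⧸ Ideal.span {(1 : ↥S₁) ⊗ₜ[R₀] f₀}) := by
    obtain ⟨e1⟩ := nonempty_tensorQuotEquiv (R₀ := R₀) f₀ ↥S₁
    exact Module.Flat.of_linearEquiv e1
  let E : A ⊗[↥S₁] (↥S₁ ⊗[R₀] M) ≃ₐ[A] B :=
    (Algebra.TensorProduct.cancelBaseChange R₀ ↥S₁ A A M).trans e
  have hE : E ((1 : A) ⊗ₜ[↥S₁] ((1 : ↥S₁) ⊗ₜ[R₀] f₀)) = f := by
    show e ((Algebra.TensorProduct.cancelBaseChange R₀ ↥S₁ A A M)
      ((1 : A) ⊗ₜ[↥S₁] ((1 : ↥S₁) ⊗ₜ[R₀] f₀))) = f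
    rw [Algebra.TensorProduct.cancelBaseChange_tmul, one_smul, he]
  obtain ⟨hreg', hback⟩ := transfer_equiv (A := A) E P
    ((1 : A) ⊗ₜ[↥S₁] ((1 : ↥S₁) ⊗ₜ[R₀] f₀)) (by rw [hE]; exact hreg)
  apply hback
  exact flat_atPrime_tensor_of_regular (R₀ := ↥S₁) (B₀ := ↥S₁ ⊗[R₀] M) (T := A)
    ((1 : ↥S₁) ⊗ₜ[R₀] f₀) (P.comap E)
    (by rw [Ideal.mem_comap, hE]; exact hfP) hreg'

/-- **EGA IV 11.3.8 b ⇒ c without Noetherian hypotheses** (global quotient form). -/
theorem flat_atPrime_of_regular_of_flat_quot {A B : Type u} [CommRing A] [CommRing B]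
    [Algebra A B] [Algebra.FinitePresentation A B] (f : B) [Module.Flat A (B ⧸ Ideal.span {f})]
    (P : Ideal B) [P.IsPrime] (hfP : f ∈ P)
    (hreg : ∀ x : Localization.AtPrime P,
      algebraMap B (Localization.AtPrime P) f * x = 0 → x = 0) :
    Module.Flat A (Localization.AtPrime P) := by
  classical
  let Pr := Algebra.Presentation.ofFinitePresentation A B
  obtain ⟨F, hF⟩ : ∃ F : MvPolynomial _ A, MvPolynomial.aeval Pr.val F = f := by
    obtain ⟨F, hF⟩ := Pr.algebraMap_surjective f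
    exact ⟨F, by rw [← hF, Algebra.Generators.algebraMap_apply]⟩
  let R₀ : Subalgebra Pr.Core A := Algebra.adjoin Pr.Core (F.coeffs : Set A)
  haveI : Algebra.FiniteType Pr.Core ↥R₀ :=
    Algebra.FiniteType.adjoin_of_finite (Finset.finite_toSet _)
  haveI : Algebra.FiniteType ℤ ↥R₀ :=
    Algebra.FiniteType.trans (inferInstance : Algebra.FiniteType ℤ Pr.Core) inferInstance
  haveI : IsNoetherianRing ↥R₀ := Algebra.FiniteType.isNoetherianRing ℤ ↥R₀
  obtain ⟨F₀, hF₀⟩ : ∃ F₀ : MvPolynomial _ ↥R₀, MvPolynomial.map (algebraMap ↥R₀ A) F₀ = F := by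
    have : F ∈ Set.range (MvPolynomial.map (algebraMap ↥R₀ A)) := by
      rw [MvPolynomial.mem_range_map_iff_coeffs_subset]
      intro a ha
      exact ⟨⟨a, Algebra.subset_adjoin ha⟩, rfl⟩
    exact this
  have he : Pr.tensorModelOfHasCoeffsEquiv ↥R₀
      ((1 : A) ⊗ₜ[↥R₀] (Ideal.Quotient.mk _ F₀ : Pr.ModelOfHasCoeffs ↥R₀)) = f := by
    rw [Algebra.Presentation.tensorModelOfHasCoeffsEquiv_tmul, map_one, one_mul,
      ← MvPolynomial.aeval_map_algebraMap A, hF₀, hF]
  exact flat_atPrime_of_model (R₀ := ↥R₀) (M := Pr.ModelOfHasCoeffs ↥R₀)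
    (Pr.tensorModelOfHasCoeffsEquiv ↥R₀) _ f he P hfP hreg

end Groth.Agent.H79.KeyFlat
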