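import Mathlib
import Groth.Agent.H79.KeyFlat3
import Groth.Agent.H3.FlatHens

/-!
# Key flatness lemma, local form and sequences (helper79)

* `flat_atPrime_of_regular_of_flat_quot_atPrime` (EGA IV 11.3.8 b ⇒ c, pointwise form): `A → B`
  finitely presented, `ψ : B → B₁` surjective with kernel `(f)`, `Q₁` a prime of `B₁` at which `B₁`
  is `A`-flat, `f` a nonzerodivisor on `B_P`, `P = ψ⁻¹ Q₁`. Then `B_P` is `A`-flat.
* `flat_atPrime_of_weaklyRegular_of_flat_quot`: the same for a weakly regular sequence.
-/

set_option autoImplicit false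
set_option linter.style.haveILetI false
set_option linter.unusedVariables false

namespace Groth.Agent.H79.KeyFlat

universe u

open Groth.Agent.H57.FlatPt

theorem flatAt_congr {A B : Type u} [CommRing A] [CommRing B] [Algebra A B] {P P' : Ideal B}
    [P.IsPrime] [P'.IsPrime] (h : P = P') (hf : Module.Flat A (Localization.AtPrime P)) :
    Module.Flat A (Localization.AtPrime P') := by
  subst h; exact hf

theorem regular_congr {B : Type u} [CommRing B] {P P' : Ideal B} [P.IsPrime] [P'.IsPrime]
    (h : P = P') (f : B)
    (hreg : ∀ x : Localization.AtPrime P, algebraMap B (Localization.AtPrime P) f * x = 0 → x = 0) :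
    ∀ x : Localization.AtPrime P', algebraMap B (Localization.AtPrime P') f * x = 0 → x = 0 := by
  subst h; exact hreg

/-- Regularity of an element on `D_{P ∩ D}` passes to `L_P` for a localization `L` of `D`. -/
theorem regular_of_regular_comap {D L : Type u} [CommRing D] [CommRing L] [Algebra D L]
    (M : Submonoid D) [IsLocalization M L] (P : Ideal L) [P.IsPrime] (g : D)
    (hreg : ∀ x : Localization.AtPrime (P.comap (algebraMap D L)),
      algebraMap D (Localization.AtPrime (P.comap (algebraMap D L))) g * x = 0 → x = 0) :
    ∀ x : Localization.AtPrime P,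
      algebraMap L (Localization.AtPrime P) (algebraMap D L g) * x = 0 → x = 0 := by
  haveI h1 : IsLocalization.AtPrime (Localization.AtPrime P) (P.comap (algebraMap D L)) :=
    IsLocalization.isLocalization_isLocalization_atPrime_isLocalization M
      (Localization.AtPrime P) P
  let ψ : Localization.AtPrime (P.comap (algebraMap D L)) ≃ₐ[D] Localization.AtPrime P :=
    IsLocalization.algEquiv (P.comap (algebraMap D L)).primeCompl _ _
  intro x hx
  have h2 : algebraMap D (Localization.AtPrime (P.comap (algebraMap D L))) g * ψ.symm x = 0 := by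
    apply ψ.injective
    rw [map_mul, AlgEquiv.commutes, AlgEquiv.apply_symm_apply, map_zero,
      IsScalarTower.algebraMap_apply D L (Localization.AtPrime P)]
    exact hx
  have h3 := hreg _ h2
  exact (EmbeddingLike.map_eq_zero_iff (f := ψ.symm)).mp h3

set_option maxHeartbeats 1000000 in
/-- **EGA IV 11.3.8 b ⇒ c, pointwise form.** -/
theorem flat_atPrime_of_regular_of_flat_quot_atPrime {A B B₁ : Type u} [CommRing A] [CommRing B]
    [CommRing B₁] [Algebra A B] [Algebra A B₁] [Algebra.FinitePresentation A B]
    (ψ : B →ₐ[A] B₁) (hψ : Function.Surjective ψ) (f : B)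
    (hker : RingHom.ker ψ.toRingHom = Ideal.span {f})
    (Q₁ : Ideal B₁) [Q₁.IsPrime] (hflat : Module.Flat A (Localization.AtPrime Q₁))
    (hreg : ∀ x : Localization.AtPrime (Q₁.comap ψ.toRingHom),
      algebraMap B (Localization.AtPrime (Q₁.comap ψ.toRingHom)) f * x = 0 → x = 0) :
    Module.Flat A (Localization.AtPrime (Q₁.comap ψ.toRingHom)) := by
  classical
  haveI : Algebra.FinitePresentation A B₁ :=
    Algebra.FinitePresentation.of_surjective hψ (by rw [hker]; exact Submodule.fg_span_singleton f)
  have hopen := isOpen_flatLocus A B₁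
  have hmem : (⟨Q₁, inferInstance⟩ : PrimeSpectrum B₁) ∈ flatLocus A B₁ := hflat
  obtain ⟨_, ⟨h₁, rfl⟩, hQh, hsub⟩ :=
    PrimeSpectrum.isTopologicalBasis_basic_opens.exists_subset_of_mem_open hmem hopen
  obtain ⟨h, rfl⟩ := hψ h₁
  have hhQ : ψ h ∉ Q₁ := hQh
  have hfP : f ∈ Q₁.comap ψ.toRingHom := by
    have : f ∈ RingHom.ker ψ.toRingHom := by rw [hker]; exact Ideal.mem_span_singleton_self f
    rw [Ideal.mem_comap]
    rw [RingHom.mem_ker] at this
    rw [this]; exact Q₁.zero_mem
  have hhP : h ∉ Q₁.comap ψ.toRingHom := hhQ
  -- the quotient of `B[1/h]` by `f`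
  let g₀ : B →+* (Localization.Away h ⧸ Ideal.span {algebraMap B (Localization.Away h) f}) :=
    (Ideal.Quotient.mk _).comp (algebraMap B (Localization.Away h))
  have hg₀ : RingHom.ker ψ.toRingHom ≤ RingHom.ker g₀ := by
    rw [hker, Ideal.span_le]
    intro x hx
    rw [Set.mem_singleton_iff] at hx
    subst hx
    show g₀ x = 0
    exact Ideal.Quotient.eq_zero_iff_mem.mpr (Ideal.mem_span_singleton_self _)
  let l : B₁ →+* (Localization.Away h ⧸ Ideal.span {algebraMap B (Localization.Away h) f}) :=
    ψ.toRingHom.liftOfSurjective hψ ⟨g₀, hg₀⟩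
  have hl : ∀ b, l (ψ b) = g₀ b := fun b =>
    RingHom.liftOfSurjective_comp_apply ψ.toRingHom hψ ⟨g₀, hg₀⟩ b
  letI algB₁ : Algebra B₁
      (Localization.Away h ⧸ Ideal.span {algebraMap B (Localization.Away h) f}) := l.toAlgebra
  haveI hloc : IsLocalization.Away (ψ h)
      (Localization.Away h ⧸ Ideal.span {algebraMap B (Localization.Away h) f}) := by
    have h1 := IsLocalization.of_surjective (Submonoid.powers h) (Localization.Away h)
      ψ.toRingHom hψ
      (Ideal.Quotient.mk (Ideal.span {algebraMap B (Localization.Away h) f}))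
      Ideal.Quotient.mk_surjective
      (by
        ext b
        exact (hl b).symm)
      (by
        rw [Ideal.mk_ker, hker, Ideal.map_span, Set.image_singleton])
    have h2 : (Submonoid.powers h).map ψ.toRingHom = Submonoid.powers (ψ h) :=
      Submonoid.map_powers _ _
    rw [h2] at h1
    exact h1
  haveI : IsScalarTower A B₁
      (Localization.Away h ⧸ Ideal.span {algebraMap B (Localization.Away h) f}) :=
    IsScalarTower.of_algebraMap_eq (fun a => by
      show _ = l (algebraMap A B₁ a)
      rw [← ψ.commutes a, hl]
      show _ = Ideal.Quotient.mk _ (algebraMap B (Localization.Away h) (algebraMap A B a))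
      rw [← IsScalarTower.algebraMap_apply A B (Localization.Away h)]
      rfl)
  haveI hLq : Module.Flat A
      (Localization.Away h ⧸ Ideal.span {algebraMap B (Localization.Away h) f}) :=
    Groth.Agent.H3.flat_away_of_subset_flatLocus (A := A) (R := B₁) (ψ h) _ hsub
  -- apply the global form to `B[1/h]`
  haveI : Algebra.FinitePresentation B (Localization.Away h) :=
    IsLocalization.Away.finitePresentation h
  haveI : Algebra.FinitePresentation A (Localization.Away h) :=
    Algebra.FinitePresentation.trans A B (Localization.Away h)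
  have hdisj : Disjoint (Submonoid.powers h : Set B) (Q₁.comap ψ.toRingHom : Set B) := by
    rw [Set.disjoint_left]
    rintro _ ⟨n, rfl⟩ hn
    exact hhP (Ideal.IsPrime.mem_of_pow_mem inferInstance n hn)
  haveI hPL : ((Q₁.comap ψ.toRingHom).map (algebraMap B (Localization.Away h))).IsPrime :=
    IsLocalization.isPrime_of_isPrime_disjoint (Submonoid.powers h) _ _ inferInstance hdisj
  have hcomap : ((Q₁.comap ψ.toRingHom).map (algebraMap B (Localization.Away h))).comap
      (algebraMap B (Localization.Away h)) = Q₁.comap ψ.toRingHom :=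
    IsLocalization.comap_map_of_isPrime_disjoint (Submonoid.powers h) _ inferInstance hdisj
  have hregL := regular_of_regular_comap (Submonoid.powers h)
    ((Q₁.comap ψ.toRingHom).map (algebraMap B (Localization.Away h))) f
    (regular_congr hcomap.symm f hreg)
  have hfl := flat_atPrime_of_regular_of_flat_quot (A := A) (B := Localization.Away h)
    (algebraMap B (Localization.Away h) f)
    ((Q₁.comap ψ.toRingHom).map (algebraMap B (Localization.Away h)))
    (Ideal.mem_map_of_mem _ hfP) hregL
  exact flatAt_congr hcomap
    ((flat_atPrime_comap_iff (A := A) (D := B) (Submonoid.powers h) _).mpr hfl)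

end Groth.Agent.H79.KeyFlat
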