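import Mathlib
import Groth.Agent.H79.KeyFlat3
import Groth.Agent.H9.CMFlatSch
import Groth.Agent.S0386

/-!
# Key flatness lemma, scheme form (helper79)

`flat_stalkMap_of_regular_of_flat_quot`: `f : X ⟶ S` locally of finite presentation, `U ⊆ f⁻¹ V`
affine opens, `t ∈ Γ(X, U)` a nonzerodivisor with `Γ(X, U) / t` flat over `Γ(S, V)`.  Then `f` is
flat at every point of `V(t) ⊆ U`.
-/

set_option autoImplicit false
set_option linter.style.haveILetI false

universe u

open CategoryTheory AlgebraicGeometry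

namespace Groth.Agent.H79.KeyFlatSch

variable {X S : Scheme.{u}}

/-- Ring-level flatness at a prime of an affine chart gives flatness of the stalk map. -/
theorem flat_stalkMap_of_flat_atPrime (f : X ⟶ S) {V : S.Opens} (hV : IsAffineOpen V)
    {U : X.Opens} (hU : IsAffineOpen U) (e : U ≤ f ⁻¹ᵁ V) (pt : PrimeSpectrum Γ(X, U))
    (h : letI := (f.appLE V U e).hom.toAlgebra
      Module.Flat Γ(S, V) (Localization.AtPrime pt.asIdeal)) :
    (f.stalkMap (hU.fromSpec pt)).hom.Flat := by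
  have h1 := IsAffineOpen.SpecMap_appLE_fromSpec f hV hU e
  have h2 : ((Spec.map (f.appLE V U e) ≫ hV.fromSpec).stalkMap (pt : ↥(Spec Γ(X, U)))).hom.Flat :=
    (Groth.Agent.H9.CMFlatSch.flat_stalkMap_comp_right (Spec.map (f.appLE V U e)) hV.fromSpec
      (pt : ↥(Spec Γ(X, U)))).mpr
      ((Groth.Agent.H9.CMFlatSch.flat_SpecMap_stalkMap_iff _ pt).mpr h)
  rw [h1] at h2
  exact (Groth.Agent.H9.CMFlatSch.flat_stalkMap_comp_left hU.fromSpec f
    (pt : ↥(Spec Γ(X, U)))).mp h2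

theorem flat_stalkMap_of_regular_of_flat_quot (f : X ⟶ S) [LocallyOfFinitePresentation f]
    {V : S.Opens} (hV : IsAffineOpen V) {U : X.Opens} (hU : IsAffineOpen U) (e : U ≤ f ⁻¹ᵁ V)
    (t : Γ(X, U)) (ht : t ∈ nonZeroDivisors Γ(X, U))
    (hflat : ((Ideal.Quotient.mk (Ideal.span {t})).comp (f.appLE V U e).hom).Flat)
    (x : X) (hxU : x ∈ U) (hxt : t ∈ (hU.primeIdealOf ⟨x, hxU⟩).asIdeal) :
    (f.stalkMap x).hom.Flat := by
  have hfp : (f.appLE V U e).hom.FinitePresentation :=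
    HasRingHomProperty.appLE (P := @LocallyOfFinitePresentation) f inferInstance ⟨V, hV⟩ ⟨U, hU⟩ e
  have hx : hU.fromSpec (hU.primeIdealOf ⟨x, hxU⟩) = x := hU.fromSpec_primeIdealOf ⟨x, hxU⟩
  rw [← hx]
  apply flat_stalkMap_of_flat_atPrime f hV hU e
  letI := (f.appLE V U e).hom.toAlgebra
  haveI : Algebra.FinitePresentation Γ(S, V) Γ(X, U) := hfp
  have he : (Ideal.Quotient.mk (Ideal.span {t})).comp (f.appLE V U e).hom =
      algebraMap Γ(S, V) (Γ(X, U) ⧸ Ideal.span {t}) := rfl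
  rw [he, RingHom.flat_algebraMap_iff] at hflat
  haveI := hflat
  refine Groth.Agent.H79.KeyFlat.flat_atPrime_of_regular_of_flat_quot (A := Γ(S, V)) t
    (hU.primeIdealOf ⟨x, hxU⟩).asIdeal hxt (fun y hy => ?_)
  have h2 : algebraMap Γ(X, U) (Localization.AtPrime (hU.primeIdealOf ⟨x, hxU⟩).asIdeal) t ∈
      nonZeroDivisors (Localization.AtPrime (hU.primeIdealOf ⟨x, hxU⟩).asIdeal) :=
    IsLocalization.map_nonZeroDivisors_le (hU.primeIdealOf ⟨x, hxU⟩).asIdeal.primeCompl _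
      (Submonoid.mem_map_of_mem _ ht)
  exact (mem_nonZeroDivisors_iff_right.mp h2) y (by rw [mul_comm]; exact hy)

end Groth.Agent.H79.KeyFlatSch
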