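import Mathlib
import Groth.Prelude.Def_CAlgX
import Groth.Agent.S5068
import Groth.Agent.H19.QRegBC
import Groth.Agent.H48.GrLimLoc

/-!
# Quasi-regular sequence with flat quotient ⇒ flat along the quotient (helper79)

`B` a finitely presented `A`-algebra, `rs` a quasi-regular sequence in `B` with `B/(rs)` flat over
`A`.  Then `B_q` is `A`-flat for every prime `q ⊇ (rs)` (no Noetherian hypothesis): all `B/(rs)^n`
are flat (`H19.QRegBC.flat_quot_pow`) and then `H48.GrLimLoc.flat_localized_of_flat_trunc` applies.
-/

set_option autoImplicit false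
set_option linter.unusedVariables false
set_option linter.style.haveILetI false
set_option linter.unusedSectionVars false

universe u

open scoped Pointwise

namespace Groth.Agent.H79.RelH1Ring

theorem span_range_get {B : Type u} [CommRing B] (rs : List B) :
    Ideal.span (Set.range rs.get) = Ideal.ofList rs := by
  congr 1
  ext x
  simp only [Set.mem_range, Set.mem_setOf_eq]
  exact (List.mem_iff_get).symm

theorem flat_atPrime_of_quasiRegular_of_flat_quot {A B C : Type u} [CommRing A] [CommRing B]
    [CommRing C] [Algebra A B] [Algebra A C] [Algebra.FinitePresentation A B]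
    (φ : B →ₐ[A] C) (hφ : Function.Surjective φ) (rs : List B)
    (hq : CAlgX.IsQuasiRegular rs.get) (hker : RingHom.ker φ.toRingHom = Ideal.ofList rs)
    [Module.Flat A C] (q : Ideal B) [q.IsPrime] (hq' : RingHom.ker φ.toRingHom ≤ q) :
    Module.Flat A (Localization.AtPrime q) := by
  have hspan := span_range_get rs
  haveI hfl0 : Module.Flat A (B ⧸ Ideal.span (Set.range rs.get)) := by
    have e : (B ⧸ RingHom.ker φ.toRingHom) ≃ₗ[A] C :=
      (Ideal.quotientKerAlgEquivOfSurjective hφ).toLinearEquiv
    have h1 : Module.Flat A (B ⧸ RingHom.ker φ.toRingHom) := Module.Flat.of_linearEquiv e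
    rw [hker, ← hspan] at h1
    exact h1
  have hpow := Groth.Agent.H19.QRegBC.flat_quot_pow A rs.get hq
  have h48 := Groth.Agent.H48.GrLimLoc.flat_localized_of_flat_trunc (A := A) (B := B) rs.get B
    (fun k => (Groth.Agent.S5068.flat_quot_iff A _).mpr (hpow k)) q
    (by
      show Ideal.span (Set.range rs.get) ≤ q
      rw [hspan, ← hker]; exact hq')
  let e : LocalizedModule q.primeCompl B ≃ₗ[B] Localization.AtPrime q :=
    IsLocalizedModule.iso q.primeCompl (Algebra.linearMap B (Localization.AtPrime q))
  exact Module.Flat.of_linearEquiv (e.restrictScalars A).symm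

end Groth.Agent.H79.RelH1Ring
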