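import Mathlib
import Groth.Agent.S5068

/-!
# Two-out-of-three for regular ideals in a Noetherian local ring (helper79)

`A` Noetherian local, `φ : A → B` surjective, `ψ : B → C`.  If `ker (ψ ∘ φ)` and `ker ψ` are
generated by regular sequences then so is `ker φ` (EGA IV 19.1.2 / Stacks 0690-type).

The proof is by induction on the length of the regular sequence generating `ker ψ`; the inductive
step is `exists_isRegular_of_sup_span_singleton`: if `I ⊔ (g)` is generated by a regular sequence
and `g` is a non-zero-divisor modulo `I`, then `I` is generated by a regular sequence (exchange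
`g` with one member of the sequence, then correct the others by multiples of `g`).
-/

set_option autoImplicit false
set_option linter.unusedVariables false
set_option linter.style.haveILetI false
set_option linter.unusedSectionVars false

universe u

open RingTheory.Sequence IsLocalRing
open scoped Pointwise

namespace Groth.Agent.H79.RegTwoThree

variable {A : Type u} [CommRing A]

/-- In a local ring, a weakly regular sequence of elements of the maximal ideal is regular. -/
theorem isRegular_of_mem_maximalIdeal [IsLocalRing A] {rs : List A} (h : IsWeaklyRegular A rs)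
    (hm : ∀ r ∈ rs, r ∈ maximalIdeal A) : IsRegular A rs := by
  refine ⟨h, fun e => ?_⟩
  have h1 : Ideal.ofList rs ≤ maximalIdeal A := Ideal.span_le.mpr fun r hr => hm r hr
  have h2 : (Ideal.ofList rs • (⊤ : Submodule A A)) = Ideal.ofList rs := by simp
  rw [h2] at e
  exact (maximalIdeal.isMaximal A).ne_top (top_le_iff.mp (e ▸ h1))

/-- Members of a regular sequence in a local ring lie in the maximal ideal. -/
theorem ofList_le_maximalIdeal [IsLocalRing A] {rs : List A} (h : IsRegular A rs) :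
    Ideal.ofList rs ≤ maximalIdeal A := by
  apply IsLocalRing.le_maximalIdeal
  intro e
  apply h.top_ne_smul
  rw [e]
  simp

/-- Splitting a combination: either `g ∈ 𝔪 · (xs)` or some coefficient is a unit. -/
theorem exists_split [IsLocalRing A] : ∀ (xs : List A) (g : A), g ∈ Ideal.ofList xs →
    g ∈ maximalIdeal A * Ideal.ofList xs ∨
      ∃ (l₁ : List A) (x : A) (l₂ : List A) (c e : A), xs = l₁ ++ x :: l₂ ∧ IsUnit c ∧
        e ∈ Ideal.ofList (l₁ ++ l₂) ∧ g = c * x + e := by
  intro xs
  induction xs with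
  | nil =>
    intro g hg
    left
    rw [Ideal.ofList_nil] at hg
    rw [Ideal.mem_bot.mp hg]
    exact Ideal.zero_mem _
  | cons x xs ih =>
    intro g hg
    rw [Ideal.ofList_cons, Submodule.mem_sup] at hg
    obtain ⟨a, ha, e, he, rfl⟩ := hg
    obtain ⟨c, rfl⟩ := Ideal.mem_span_singleton'.mp ha
    by_cases hc : IsUnit c
    · right
      exact ⟨[], x, xs, c, e, rfl, hc, by simpa using he, rfl⟩
    · have hcm : c ∈ maximalIdeal A := (IsLocalRing.mem_maximalIdeal c).mpr hc
      rcases ih e he with h | ⟨l₁, y, l₂, c', e', hxs, hc', he', rfl⟩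
      · left
        refine Ideal.add_mem _ ?_ ?_
        · refine Ideal.mul_mem_mul hcm ?_
          rw [Ideal.ofList_cons]
          exact Ideal.mem_sup_left (Ideal.mem_span_singleton_self x)
        · refine Ideal.mul_mono_right ?_ h
          rw [Ideal.ofList_cons]
          exact le_sup_right
      · right
        refine ⟨x :: l₁, y, l₂, c', c * x + e', by rw [hxs]; rfl, hc', ?_, by ring⟩
        rw [List.cons_append, Ideal.ofList_cons]
        refine Ideal.add_mem _ (Ideal.mem_sup_left ?_) (Ideal.mem_sup_right he')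
        exact Ideal.mul_mem_left _ _ (Ideal.mem_span_singleton_self x)

theorem exists_forall₂ {α β : Type*} (R : α → β → Prop) : ∀ l : List α,
    (∀ x ∈ l, ∃ y, R x y) → ∃ l', List.Forall₂ R l l' := by
  intro l
  induction l with
  | nil => intro _; exact ⟨[], List.Forall₂.nil⟩
  | cons x l ih =>
    intro h
    obtain ⟨y, hy⟩ := h x (List.mem_cons_self)
    obtain ⟨l', hl'⟩ := ih fun z hz => h z (List.mem_cons_of_mem _ hz)
    exact ⟨y :: l', List.Forall₂.cons hy hl'⟩

/-- Elements of `I'` kill `A ⧸ I' • ⊤`. -/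
theorem smul_quot_eq_zero (I' : Ideal A) {e : A} (he : e ∈ I')
    (v : A ⧸ (I' • (⊤ : Submodule A A))) : e • v = 0 := by
  obtain ⟨a, rfl⟩ := Submodule.Quotient.mk_surjective _ v
  rw [← Submodule.Quotient.mk_smul, Submodule.Quotient.mk_eq_zero]
  exact Submodule.smul_mem_smul he Submodule.mem_top

/-- `g` kills `QuotSMulTop g A`. -/
theorem smul_quotSMulTop_eq_zero (g : A) (v : QuotSMulTop g A) : g • v = 0 := by
  obtain ⟨a, rfl⟩ := Submodule.Quotient.mk_surjective _ v
  rw [← Submodule.Quotient.mk_smul, Submodule.Quotient.mk_eq_zero]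
  exact Submodule.smul_mem_pointwise_smul _ _ _ Submodule.mem_top

theorem smul_add_mul_quotSMulTop (g s a : A) (v : QuotSMulTop g A) :
    (s + a * g) • v = s • v := by
  have h1 : (a * g) • v = 0 := by
    rw [mul_smul, smul_quotSMulTop_eq_zero g v, smul_zero]
  rw [add_smul, h1, add_zero]

theorem forall₂_mem_right {α β : Type*} {R : α → β → Prop} {l : List α} {l' : List β}
    (h : List.Forall₂ R l l') : ∀ y ∈ l', ∃ x ∈ l, R x y := by
  induction h with
  | nil => intro y hy; simp at hy
  | cons hxy _ ih =>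
    intro y hy
    rcases List.mem_cons.mp hy with rfl | hy'
    · exact ⟨_, List.mem_cons_self, hxy⟩
    · obtain ⟨x, hx, hR⟩ := ih y hy'
      exact ⟨x, List.mem_cons_of_mem _ hx, hR⟩

theorem forall₂_mem_left {α β : Type*} {R : α → β → Prop} {l : List α} {l' : List β}
    (h : List.Forall₂ R l l') : ∀ x ∈ l, ∃ y ∈ l', R x y := by
  induction h with
  | nil => intro y hy; simp at hy
  | cons hxy _ ih =>
    intro x hx
    rcases List.mem_cons.mp hx with rfl | hx'
    · exact ⟨_, List.mem_cons_self, hxy⟩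
    · obtain ⟨y, hy, hR⟩ := ih x hx'
      exact ⟨y, List.mem_cons_of_mem _ hy, hR⟩

set_option maxHeartbeats 1000000 in
/-- **Exchange step.**  `A` Noetherian local, `g` a non-zero-divisor modulo `I`, and `I ⊔ (g)`
generated by a regular sequence: then `I` is generated by a regular sequence. -/
theorem exists_isRegular_of_sup_span_singleton [IsLocalRing A] [IsNoetherianRing A]
    (I : Ideal A) (g : A) (hg : ∀ a, g * a ∈ I → a ∈ I)
    (xs : List A) (hxs : IsRegular A xs) (hJ : I ⊔ Ideal.span {g} = Ideal.ofList xs) :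
    ∃ fs : List A, IsRegular A fs ∧ I = Ideal.ofList fs := by
  have hJm : Ideal.ofList xs ≤ maximalIdeal A := ofList_le_maximalIdeal hxs
  have hIJ : I ≤ Ideal.ofList xs := hJ ▸ le_sup_left
  have hgJ : g ∈ Ideal.ofList xs :=
    hJ ▸ Ideal.mem_sup_right (Ideal.mem_span_singleton_self g)
  have hgm : g ∈ maximalIdeal A := hJm hgJ
  have hjac : maximalIdeal A ≤ Ideal.jacobson ⊥ := by
    rw [IsLocalRing.jacobson_eq_maximalIdeal ⊥ bot_ne_top]
  -- `g ∉ 𝔪 J`
  have hnot : g ∉ maximalIdeal A * Ideal.ofList xs := by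
    intro hmem
    have h1 : Ideal.ofList xs ≤ I ⊔ maximalIdeal A • Ideal.ofList xs := by
      intro z hz
      have hz' : z ∈ I ⊔ Ideal.span {g} := by rw [hJ]; exact hz
      obtain ⟨a, ha, b, hb, rfl⟩ := Submodule.mem_sup.mp hz'
      obtain ⟨c, rfl⟩ := Ideal.mem_span_singleton'.mp hb
      exact Submodule.add_mem _ (Submodule.mem_sup_left ha)
        (Submodule.mem_sup_right (Ideal.mul_mem_left _ c hmem))
    have h2 : Ideal.ofList xs ≤ I :=
      Submodule.le_of_le_smul_of_le_jacobson_bot (IsNoetherian.noetherian _) hjac h1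
    have h3 : (1 : A) ∈ I := hg 1 (by rw [mul_one]; exact h2 hgJ)
    have h4 : (1 : A) ∈ maximalIdeal A := hJm (hIJ h3)
    exact (maximalIdeal.isMaximal A).ne_top ((Ideal.eq_top_iff_one _).mpr h4)
  rcases exists_split xs g hgJ with h | ⟨l₁, x, l₂, c, e, hxs_eq, hc, he, hge⟩
  · exact absurd h hnot
  subst hxs_eq
  have hperm1 : (l₁ ++ x :: l₂).Perm ((l₁ ++ l₂) ++ [x]) :=
    (List.perm_middle (a := x) (l₁ := l₁) (l₂ := l₂)).trans
      (List.perm_append_singleton x (l₁ ++ l₂)).symm
  have hreg1 : IsRegular A ((l₁ ++ l₂) ++ [x]) := IsLocalRing.isRegular_of_perm hxs hperm1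
  have hw1 := (isWeaklyRegular_append_iff A (l₁ ++ l₂) [x]).mp hreg1.toIsWeaklyRegular
  have hx : IsSMulRegular (A ⧸ (Ideal.ofList (l₁ ++ l₂) • (⊤ : Submodule A A))) x :=
    (isWeaklyRegular_singleton_iff _ x).mp hw1.2
  have hgact : ∀ v : A ⧸ (Ideal.ofList (l₁ ++ l₂) • (⊤ : Submodule A A)),
      g • v = (c * x) • v := by
    intro v
    rw [hge, add_smul, smul_quot_eq_zero _ he v, add_zero]
  have hgreg : IsSMulRegular (A ⧸ (Ideal.ofList (l₁ ++ l₂) • (⊤ : Submodule A A))) g := by
    have h1 : IsSMulRegular (A ⧸ (Ideal.ofList (l₁ ++ l₂) • (⊤ : Submodule A A))) (c * x) :=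
      (hc.isSMulRegular _).mul hx
    intro v w hvw
    apply h1
    show (c * x) • v = (c * x) • w
    rw [← hgact, ← hgact]
    exact hvw
  have hw2 : IsWeaklyRegular A ((l₁ ++ l₂) ++ [g]) :=
    (isWeaklyRegular_append_iff A (l₁ ++ l₂) [g]).mpr
      ⟨hw1.1, (isWeaklyRegular_singleton_iff _ g).mpr hgreg⟩
  have hxs'J : Ideal.ofList (l₁ ++ l₂) ≤ Ideal.ofList (l₁ ++ x :: l₂) := by
    apply Ideal.span_mono
    intro r hr
    have hr' : r ∈ l₁ ++ l₂ := hr
    show r ∈ l₁ ++ x :: l₂
    rcases List.mem_append.mp hr' with h | h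
    · exact List.mem_append_left _ h
    · exact List.mem_append_right _ (List.mem_cons_of_mem _ h)
  have hreg2 : IsRegular A ((l₁ ++ l₂) ++ [g]) := isRegular_of_mem_maximalIdeal hw2 (by
    intro r hr
    rcases List.mem_append.mp hr with h | h
    · exact hJm (hxs'J (Ideal.subset_span h))
    · rw [List.mem_singleton.mp h]; exact hgm)
  have hreg3 : IsRegular A (g :: (l₁ ++ l₂)) :=
    IsLocalRing.isRegular_of_perm hreg2 (List.perm_append_singleton g (l₁ ++ l₂))
  have hex : ∀ x' ∈ l₁ ++ l₂, ∃ f, f ∈ I ∧ ∃ a, x' = f + a * g := by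
    intro x' hx'
    have h1 : x' ∈ I ⊔ Ideal.span {g} := by rw [hJ]; exact hxs'J (Ideal.subset_span hx')
    obtain ⟨f, hf, b, hb, rfl⟩ := Submodule.mem_sup.mp h1
    obtain ⟨a, rfl⟩ := Ideal.mem_span_singleton'.mp hb
    exact ⟨f, hf, a, rfl⟩
  obtain ⟨fs, hfs⟩ := exists_forall₂ _ (l₁ ++ l₂) hex
  have hw3 := (isWeaklyRegular_cons_iff A g (l₁ ++ l₂)).mp hreg3.toIsWeaklyRegular
  have hcong : List.Forall₂ (fun (r s : A) => ∀ v : QuotSMulTop g A,
      (AddEquiv.refl (QuotSMulTop g A)) (r • v) = s • (AddEquiv.refl (QuotSMulTop g A)) v)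
      (l₁ ++ l₂) fs := by
    refine hfs.imp ?_
    rintro r s ⟨hs, a, rfl⟩ v
    exact smul_add_mul_quotSMulTop g s a v
  have hw4 : IsWeaklyRegular (QuotSMulTop g A) fs :=
    ((AddEquiv.refl (QuotSMulTop g A)).isWeaklyRegular_congr hcong).mp hw3.2
  have hw5 : IsWeaklyRegular A (g :: fs) := (isWeaklyRegular_cons_iff A g fs).mpr ⟨hw3.1, hw4⟩
  have hfsI : ∀ f ∈ fs, f ∈ I := by
    intro f hf
    obtain ⟨x', -, hfI, -⟩ := forall₂_mem_right hfs f hf
    exact hfI
  have hreg4 : IsRegular A (g :: fs) := isRegular_of_mem_maximalIdeal hw5 (by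
    intro r hr
    rcases List.mem_cons.mp hr with rfl | h
    · exact hgm
    · exact hJm (hIJ (hfsI r h)))
  have hreg5 : IsRegular A (fs ++ [g]) :=
    IsLocalRing.isRegular_of_perm hreg4 (List.perm_append_singleton g fs).symm
  have hfsw : IsWeaklyRegular A fs :=
    ((isWeaklyRegular_append_iff A fs [g]).mp hreg5.toIsWeaklyRegular).1
  have hfsreg : IsRegular A fs :=
    isRegular_of_mem_maximalIdeal hfsw (fun f hf => hJm (hIJ (hfsI f hf)))
  refine ⟨fs, hfsreg, le_antisymm ?_ (Ideal.span_le.mpr hfsI)⟩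
  have hxs'le : Ideal.ofList (l₁ ++ l₂) ≤ Ideal.ofList fs ⊔ Ideal.span {g} := by
    apply Ideal.span_le.mpr
    intro x' hx'
    obtain ⟨f, hf, hfI, a, rfl⟩ := forall₂_mem_left hfs x' hx'
    exact Ideal.add_mem _ (Ideal.mem_sup_left (Ideal.subset_span hf))
      (Ideal.mem_sup_right (Ideal.mul_mem_left _ _ (Ideal.mem_span_singleton_self g)))
  have hxle : x ∈ Ideal.ofList fs ⊔ Ideal.span {g} := by
    obtain ⟨c', hc'⟩ := hc.exists_left_inv
    have hxeq : x = c' * (g - e) := by
      rw [hge, add_sub_cancel_right, ← mul_assoc, hc', one_mul]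
    rw [hxeq]
    exact Ideal.mul_mem_left _ _ (Ideal.sub_mem _
      (Ideal.mem_sup_right (Ideal.mem_span_singleton_self g)) (hxs'le he))
  have hJle : Ideal.ofList (l₁ ++ x :: l₂) ≤ Ideal.ofList fs ⊔ Ideal.span {g} := by
    apply Ideal.span_le.mpr
    intro r hr
    have hr' : r ∈ l₁ ++ x :: l₂ := hr
    rcases List.mem_append.mp hr' with h | h
    · exact hxs'le (Ideal.subset_span (List.mem_append_left _ h))
    · rcases List.mem_cons.mp h with rfl | h
      · exact hxle
      · exact hxs'le (Ideal.subset_span (List.mem_append_right _ h))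
  have h1 : I ≤ Ideal.ofList fs ⊔ maximalIdeal A • I := by
    intro z hz
    obtain ⟨w, hw, b', hb', rfl⟩ := Submodule.mem_sup.mp (hJle (hIJ hz))
    obtain ⟨b, rfl⟩ := Ideal.mem_span_singleton'.mp hb'
    have hbI : b ∈ I := by
      apply hg
      have h2 : g * b = (w + b * g) - w := by ring
      rw [h2]
      exact Ideal.sub_mem _ hz (Ideal.span_le.mpr hfsI hw)
    refine Submodule.add_mem _ (Submodule.mem_sup_left hw) (Submodule.mem_sup_right ?_)
    rw [mul_comm]
    exact Submodule.smul_mem_smul hgm hbI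
  exact Submodule.le_of_le_smul_of_le_jacobson_bot (IsNoetherian.noetherian _) hjac h1

set_option maxHeartbeats 1000000 in
theorem exists_isRegular_ker_aux [IsLocalRing A] [IsNoetherianRing A] :
    ∀ (m : ℕ) (B : Type u) [CommRing B] (π : A →+* B), Function.Surjective π →
      ∀ (ys : List B), ys.length = m → IsWeaklyRegular B ys →
      ∀ xs : List A, IsRegular A xs → Ideal.comap π (Ideal.ofList ys) = Ideal.ofList xs →
      ∃ fs : List A, IsRegular A fs ∧ RingHom.ker π = Ideal.ofList fs := by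
  intro m
  induction m with
  | zero =>
    intro B _ π hπ ys hlen hys xs hxs hcomap
    have hnil : ys = [] := List.length_eq_zero_iff.mp hlen
    subst hnil
    rw [Ideal.ofList_nil] at hcomap
    exact ⟨xs, hxs, by rw [← hcomap]; rfl⟩
  | succ n ih =>
    intro B _ π hπ ys hlen hys xs hxs hcomap
    obtain ⟨y, ys', rfl⟩ : ∃ y ys', ys = y :: ys' := by
      cases ys with
      | nil => simp at hlen
      | cons y ys' => exact ⟨y, ys', rfl⟩
    have hreg' := (isWeaklyRegular_cons_iff B y ys').mp hys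
    let π₁ : A →+* B ⧸ Ideal.span {y} := (Ideal.Quotient.mk (Ideal.span {y})).comp π
    have hπ₁ : Function.Surjective π₁ := Ideal.Quotient.mk_surjective.comp hπ
    have hreg₁ : IsWeaklyRegular (B ⧸ Ideal.span {y})
        (ys'.map (Ideal.Quotient.mk (Ideal.span {y}))) := by
      rw [← Groth.Agent.S5068.isWeaklyRegular_quot_iff]
      have h : (y • (⊤ : Submodule B B)) = Ideal.span {y} • (⊤ : Submodule B B) :=
        (Submodule.ideal_span_singleton_smul y ⊤).symm
      exact ((Submodule.quotEquivOfEq _ _ h).isWeaklyRegular_congr ys').mp hreg'.2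
    have hcomap₁ : Ideal.comap π₁
        (Ideal.ofList (ys'.map (Ideal.Quotient.mk (Ideal.span {y})))) = Ideal.ofList xs := by
      rw [← hcomap]
      ext a
      rw [Ideal.mem_comap, Ideal.mem_comap, ← Ideal.map_ofList]
      show Ideal.Quotient.mk _ (π a) ∈ _ ↔ _
      rw [Ideal.mem_quotient_iff_mem_sup, Ideal.ofList_cons, sup_comm]
    obtain ⟨fs₁, hfs₁, hker₁⟩ := ih (B ⧸ Ideal.span {y}) π₁ hπ₁ _
      (by rw [List.length_map]; simpa using hlen) hreg₁ xs hxs hcomap₁
    obtain ⟨g, rfl⟩ := hπ y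
    have hkersup : RingHom.ker π ⊔ Ideal.span {g} = Ideal.ofList fs₁ := by
      rw [← hker₁]
      ext a
      rw [RingHom.mem_ker]
      show _ ↔ Ideal.Quotient.mk _ (π a) = 0
      rw [Ideal.Quotient.eq_zero_iff_mem, ← Ideal.mem_comap, ← Set.image_singleton,
        ← Ideal.map_span, Ideal.comap_map_of_surjective π hπ, sup_comm]
      rfl
    have hg : ∀ a, g * a ∈ RingHom.ker π → a ∈ RingHom.ker π := by
      intro a ha
      rw [RingHom.mem_ker, map_mul] at ha
      rw [RingHom.mem_ker]
      apply hreg'.1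
      show π g • π a = π g • 0
      rw [smul_zero, smul_eq_mul]
      exact ha
    exact exists_isRegular_of_sup_span_singleton (RingHom.ker π) g hg fs₁ hfs₁ hkersup

/-- **Two-out-of-three** in a Noetherian local ring: `φ : A → B` surjective, `ψ : B → C`; if
`ker (ψ ∘ φ)` and `ker ψ` are generated by regular sequences, so is `ker φ`. -/
theorem exists_isRegular_ker_of_comp [IsLocalRing A] [IsNoetherianRing A] {B C : Type u}
    [CommRing B] [CommRing C] (φ : A →+* B) (ψ : B →+* C) (hφ : Function.Surjective φ)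
    (h1 : ∃ rs : List A, IsRegular A rs ∧ RingHom.ker (ψ.comp φ) = Ideal.ofList rs)
    (h2 : ∃ rs : List B, IsRegular B rs ∧ RingHom.ker ψ = Ideal.ofList rs) :
    ∃ rs : List A, IsRegular A rs ∧ RingHom.ker φ = Ideal.ofList rs := by
  obtain ⟨xs, hxs, hk1⟩ := h1
  obtain ⟨ys, hys, hk2⟩ := h2
  refine exists_isRegular_ker_aux ys.length B φ hφ ys rfl hys.toIsWeaklyRegular xs hxs ?_
  rw [← hk1, ← hk2]
  exact (RingHom.comap_ker ψ φ)

end Groth.Agent.H79.RegTwoThree
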