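import Mathlib
import Groth.Agent.H79.KeyFlatLoc
import Groth.Agent.S5068

/-!
# Key flatness lemma for weakly regular sequences (helper79)

`flat_atPrime_of_weaklyRegular_of_flat_quot` (EGA IV 11.3.8 b ⇒ c for sequences, pointwise form):
`A → B` finitely presented, `φ : B → C` a surjection of `A`-algebras whose kernel is generated by a
weakly regular sequence of `B`, `Q` a prime of `C` at which `C` is `A`-flat. Then `B` is `A`-flat at
`φ⁻¹ Q`.
-/

set_option autoImplicit false
set_option linter.style.haveILetI false
set_option linter.unusedVariables false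

namespace Groth.Agent.H79.KeyFlat

universe u

open Groth.Agent.H57.FlatPt RingTheory.Sequence
open scoped Pointwise

set_option maxHeartbeats 1000000 in
theorem flat_atPrime_of_weaklyRegular_of_flat_quot {A : Type u} [CommRing A] :
    ∀ (n : ℕ) (B : Type u) [CommRing B] [Algebra A B] [Algebra.FinitePresentation A B]
      (C : Type u) [CommRing C] [Algebra A C] (φ : B →ₐ[A] C) (hφ : Function.Surjective φ)
      (rs : List B) (hlen : rs.length = n) (hreg : IsWeaklyRegular B rs)
      (hker : RingHom.ker φ.toRingHom = Ideal.ofList rs) (Q : Ideal C) [Q.IsPrime]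
      (hflat : Module.Flat A (Localization.AtPrime Q)),
      Module.Flat A (Localization.AtPrime (Q.comap φ.toRingHom)) := by
  intro n
  induction n with
  | zero =>
    intro B _ _ _ C _ _ φ hφ rs hlen hreg hker Q _ hflat
    have hrs : rs = [] := List.length_eq_zero_iff.mp hlen
    subst hrs
    rw [Ideal.ofList_nil] at hker
    have hinj : Function.Injective φ := (RingHom.injective_iff_ker_eq_bot φ.toRingHom).mpr hker
    letI : Algebra B C := φ.toRingHom.toAlgebra
    haveI : IsScalarTower A B C :=
      IsScalarTower.of_algebraMap_eq (R := A) (S := B) (A := C) (fun a => (φ.commutes a).symm)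
    haveI : IsLocalization.Away (1 : B) C :=
      IsLocalization.away_of_isUnit_of_bijective C isUnit_one ⟨hinj, hφ⟩
    exact (flat_atPrime_comap_iff (A := A) (D := B) (Submonoid.powers (1 : B)) Q).mpr hflat
  | succ n ih =>
    intro B _ _ _ C _ _ φ hφ rs hlen hreg hker Q _ hflat
    obtain ⟨r, rs', rfl⟩ : ∃ r rs', rs = r :: rs' := by
      cases rs with
      | nil => simp at hlen
      | cons r rs' => exact ⟨r, rs', rfl⟩
    have hreg' := (isWeaklyRegular_cons_iff B r rs').mp hreg
    have hI : ∀ a ∈ Ideal.span {r}, φ a = 0 := by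
      intro a ha
      have h1 : Ideal.span {r} ≤ Ideal.ofList (r :: rs') := by
        rw [Ideal.ofList_cons]; exact le_sup_left
      have : a ∈ RingHom.ker φ.toRingHom := by rw [hker]; exact h1 ha
      exact this
    let φ₁ : (B ⧸ Ideal.span {r}) →ₐ[A] C := Ideal.Quotient.liftₐ (Ideal.span {r}) φ hI
    have hφ₁ : Function.Surjective φ₁ := fun c => by
      obtain ⟨b, rfl⟩ := hφ c
      exact ⟨Ideal.Quotient.mk _ b, rfl⟩
    haveI : Algebra.FinitePresentation A (B ⧸ Ideal.span {r}) :=
      Algebra.FinitePresentation.quotient (Submodule.fg_span_singleton r)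
    have hreg₁ : IsWeaklyRegular (B ⧸ Ideal.span {r})
        (rs'.map (Ideal.Quotient.mk (Ideal.span {r}))) := by
      rw [← Groth.Agent.S5068.isWeaklyRegular_quot_iff]
      have h : (r • (⊤ : Submodule B B)) = Ideal.span {r} • (⊤ : Submodule B B) :=
        (Submodule.ideal_span_singleton_smul r ⊤).symm
      exact ((Submodule.quotEquivOfEq _ _ h).isWeaklyRegular_congr rs').mp hreg'.2
    have hker₁ : RingHom.ker φ₁.toRingHom =
        Ideal.ofList (rs'.map (Ideal.Quotient.mk (Ideal.span {r}))) := by
      ext x₁
      obtain ⟨x, rfl⟩ := Ideal.Quotient.mk_surjective x₁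
      rw [RingHom.mem_ker, ← Ideal.map_ofList, Ideal.mem_quotient_iff_mem_sup]
      have h1 : φ₁.toRingHom (Ideal.Quotient.mk (Ideal.span {r}) x) = φ.toRingHom x := rfl
      rw [h1, ← RingHom.mem_ker, hker, Ideal.ofList_cons, sup_comm]
    have ih₁ := ih (B ⧸ Ideal.span {r}) C φ₁ hφ₁ (rs'.map (Ideal.Quotient.mk (Ideal.span {r})))
      (by rw [List.length_map]; simpa using hlen) hreg₁ hker₁ Q hflat
    have hψ : Function.Surjective (Ideal.Quotient.mkₐ A (Ideal.span {r})) :=
      Ideal.Quotient.mkₐ_surjective A _
    have hkerψ : RingHom.ker (Ideal.Quotient.mkₐ A (Ideal.span {r})).toRingHom =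
        Ideal.span {r} := Ideal.Quotient.mkₐ_ker A _
    have hcomp : (Q.comap φ₁.toRingHom).comap (Ideal.Quotient.mkₐ A (Ideal.span {r})).toRingHom =
        Q.comap φ.toRingHom := by
      rw [Ideal.comap_comap]
      rfl
    have hr : r ∈ nonZeroDivisors B := by
      rw [mem_nonZeroDivisors_iff_right]
      intro x hx
      apply hreg'.1
      show r • x = r • 0
      rw [smul_zero, smul_eq_mul, mul_comm]
      exact hx
    have hregP : ∀ x : Localization.AtPrime
        ((Q.comap φ₁.toRingHom).comap (Ideal.Quotient.mkₐ A (Ideal.span {r})).toRingHom),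
        algebraMap B _ r * x = 0 → x = 0 := by
      intro x hx
      have h2 := IsLocalization.map_nonZeroDivisors_le
        ((Q.comap φ₁.toRingHom).comap
          (Ideal.Quotient.mkₐ A (Ideal.span {r})).toRingHom).primeCompl
        (Localization.AtPrime ((Q.comap φ₁.toRingHom).comap
          (Ideal.Quotient.mkₐ A (Ideal.span {r})).toRingHom))
        (Submonoid.mem_map_of_mem _ hr)
      exact (mem_nonZeroDivisors_iff_right.mp h2) x (by rw [mul_comm]; exact hx)
    have hfin := flat_atPrime_of_regular_of_flat_quot_atPrime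
      (Ideal.Quotient.mkₐ A (Ideal.span {r})) hψ r hkerψ (Q.comap φ₁.toRingHom) ih₁ hregP
    exact flatAt_congr hcomp hfin

end Groth.Agent.H79.KeyFlat
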