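import Mathlib
import Groth.Prelude.Def_RegImm
import Groth.Agent.H79.RegKindSeq
import Groth.Agent.H9.RegImmStalk

/-!
# Regular immersions of any kind at a point and the kernel of the stalk map (helper79)

* `exists_seq_ker_stalkMap`: if `i` is a regular immersion of kind `k` at `z`, the kernel of the
  stalk map `O_{X, i z} → O_{Z, z}` is generated by a sequence of kind `k`.
-/

set_option autoImplicit false
set_option linter.unusedVariables false
set_option linter.style.haveILetI false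
set_option maxHeartbeats 400000

universe u

open CategoryTheory AlgebraicGeometry TopologicalSpace RingTheory.Sequence

namespace Groth.Agent.H79.RegImmStalkK

/-- Transfer of "kernel generated by a sequence of kind `k`" along a commuting square of ring
isomorphisms. -/
theorem exists_seq_ker_of_equiv (k : RegImm.Kind) {A B A' B' : Type u} [CommRing A] [CommRing B]
    [CommRing A'] [CommRing B'] [Nontrivial B'] (φ : A →+* B) (φ' : A' →+* B') (σ : A ≃+* A')
    (τ : B ≃+* B') (hcomm : ∀ a, φ' (σ a) = τ (φ a))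
    (h : ∃ rs : List A, k.Seq A rs ∧ RingHom.ker φ = Ideal.ofList rs) :
    ∃ rs : List A', k.Seq A' rs ∧ RingHom.ker φ' = Ideal.ofList rs := by
  obtain ⟨rs, hrs, hker⟩ := h
  letI : Algebra A A' := σ.toRingHom.toAlgebra
  haveI : Module.Flat A A' := RingHom.Flat.of_bijective σ.bijective
  have hk : RingHom.ker φ' = Ideal.ofList (rs.map (algebraMap A A')) := by
    rw [← Ideal.map_ofList, ← hker]
    apply le_antisymm
    · intro a' ha'
      rw [RingHom.mem_ker] at ha'
      have h1 : φ (σ.symm a') = 0 := by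
        apply τ.injective
        rw [← hcomm, σ.apply_symm_apply, ha', map_zero]
      have h2 : σ.symm a' ∈ RingHom.ker φ := h1
      have h3 := Ideal.mem_map_of_mem (algebraMap A A') h2
      have h4 : algebraMap A A' (σ.symm a') = a' := σ.apply_symm_apply a'
      rwa [h4] at h3
    · rw [Ideal.map_le_iff_le_comap]
      intro a ha
      rw [RingHom.mem_ker] at ha
      rw [Ideal.mem_comap, RingHom.mem_ker]
      change φ' (σ a) = 0
      rw [hcomm, ha, map_zero]
  refine ⟨rs.map (algebraMap A A'),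
    Groth.Agent.H79.RegKindSeq.seq_map_of_flat k rs hrs ?_, hk⟩
  rw [← hk]
  exact RingHom.ker_ne_top _

theorem exists_seq_ker_of_arrow_iso (k : RegImm.Kind) {A B A' B' : CommRingCat.{u}} [Nontrivial B']
    (φ : A ⟶ B) (φ' : A' ⟶ B') (e : Arrow.mk φ ≅ Arrow.mk φ')
    (h : ∃ rs : List A, k.Seq A rs ∧ RingHom.ker φ.hom = Ideal.ofList rs) :
    ∃ rs : List A', k.Seq A' rs ∧ RingHom.ker φ'.hom = Ideal.ofList rs := by
  refine exists_seq_ker_of_equiv k φ.hom φ'.hom
    (Arrow.leftFunc.mapIso e).commRingCatIsoToRingEquiv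
    (Arrow.rightFunc.mapIso e).commRingCatIsoToRingEquiv ?_ h
  intro a
  have hw : e.hom.left ≫ φ' = φ ≫ e.hom.right := Arrow.w e.hom
  exact congrArg (fun f => f.hom a) hw

/-- closed immersion case -/
theorem forward_k (k : RegImm.Kind) {X Z : Scheme.{u}} (i : Z ⟶ X) [IsClosedImmersion i] (z : Z)
    (U : X.affineOpens) (hxU : i z ∈ U.1) (rs : List Γ(X, U.1)) (hrs : k.Seq Γ(X, U.1) rs)
    (hker : i.ker.ideal U = Ideal.ofList rs) :
    ∃ rs : List ↑(X.presheaf.stalk (i z)), k.Seq ↑(X.presheaf.stalk (i z)) rs ∧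
      RingHom.ker (i.stalkMap z).hom = Ideal.ofList rs := by
  have hU : IsAffineOpen U.1 := U.2
  letI : Algebra Γ(X, U.1) (X.presheaf.stalk (i z)) :=
    X.presheaf.algebra_section_stalk ⟨i z, hxU⟩
  haveI : IsLocalization.AtPrime (X.presheaf.stalk (i z))
      (hU.primeIdealOf ⟨i z, hxU⟩).asIdeal := hU.isLocalization_stalk ⟨_, hxU⟩
  haveI : Module.Flat Γ(X, U.1) (X.presheaf.stalk (i z)) :=
    IsLocalization.flat _ (hU.primeIdealOf ⟨i z, hxU⟩).asIdeal.primeCompl
  have hk : RingHom.ker (i.stalkMap z).hom =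
      Ideal.ofList (rs.map (algebraMap Γ(X, U.1) (X.presheaf.stalk (i z)))) := by
    rw [Groth.Agent.H9.ker_stalkMap_of_isClosedImmersion i U z hxU, hker, Ideal.map_ofList]
    rfl
  refine ⟨rs.map (algebraMap Γ(X, U.1) (X.presheaf.stalk (i z))),
    Groth.Agent.H79.RegKindSeq.seq_map_of_flat k rs hrs ?_, hk⟩
  rw [← hk]
  exact RingHom.ker_ne_top _

/-- **Kernel of the stalk map of a regular immersion of kind `k` at a point.** -/
theorem exists_seq_ker_stalkMap (k : RegImm.Kind) {Z X : Scheme.{u}} (i : Z ⟶ X) (z : Z)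
    (h : RegImm.IsRegularImmersionAt k i z) :
    ∃ rs : List (X.presheaf.stalk (i z)), k.Seq (X.presheaf.stalk (i z)) rs ∧
      RingHom.ker (i.stalkMap z).hom = Ideal.ofList rs := by
  obtain ⟨U, hzU, hcl, rs, hrs, hker⟩ := h
  have hzU' : z ∈ i ⁻¹ᵁ U.1 := hzU
  haveI : IsAffine U.1.toScheme := U.2
  have hT : IsAffineOpen (⊤ : U.1.toScheme.Opens) := isAffineOpen_top _
  have key : ∀ U' : X.Opens, U' = U.1 → ∃ rs' : List Γ(X, U'), k.Seq Γ(X, U') rs' ∧
      RingHom.ker (i.app U').hom = Ideal.ofList rs' := by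
    rintro _ rfl; exact ⟨rs, hrs, hker⟩
  obtain ⟨rs', hrs', hker'⟩ := key (U.1.ι ''ᵁ ⊤) (Scheme.Opens.ι_image_top _)
  have hjker : (i ∣_ U.1).ker.ideal ⟨⊤, hT⟩ = Ideal.ofList rs' := by
    refine Eq.trans ?_ hker'
    rw [Scheme.Hom.ker_apply]
    exact Groth.Agent.H9.ker_morphismRestrict_app i U.1 ⊤
  have h1 := forward_k k (i ∣_ U.1) ⟨z, hzU'⟩ ⟨⊤, hT⟩ trivial rs' hrs' hjker
  exact exists_seq_ker_of_arrow_iso k _ _ (morphismRestrictStalkMap i U.1 ⟨z, hzU'⟩) h1

end Groth.Agent.H79.RegImmStalkK
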