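import Mathlib
import Groth.Prelude.Def_CInt
import Groth.Agent.H79.FibreRegSch2
import Groth.Agent.H79.KeyFlatSeq
import Groth.Agent.H79.RegImmRel
import Groth.Agent.H79.RegImmStalkK
import Groth.Agent.H9.RegImmStalk
import Groth.Agent.H19.QReg

/-!
# Transversally regular closed immersions: flat + regular ⇔ fibrewise regular (helper79)

`u : Y ⟶ X` a closed immersion, `g : X ⟶ S` locally of finite presentation.

* `flat_stalkMap_of_regularImmersion`: `Y` flat over `S`, `u` regular ⇒ `g` flat along `u(Y)`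
  (EGA IV 11.3.8 b ⇒ c, no Noetherian hypothesis).
* `regular_fiberMap_of_regularImmersion`: `Y` flat over `S`, `u` regular ⇒ all `Y_s ⟶ X_s` regular.
* `regularImmersion_of_fibrewise`: `g` flat along `u(Y)`, `Y` flat l.f.p. over `S`, all `Y_s ⟶ X_s`
  regular ⇒ `u` regular.
-/

set_option autoImplicit false
set_option linter.unusedVariables false
set_option linter.style.haveILetI false
set_option linter.unusedSectionVars false

universe u

open CategoryTheory CategoryTheory.Limits AlgebraicGeometry TopologicalSpace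

namespace Groth.Agent.H79.TransRegSch

open RingTheory.Sequence Groth.Agent.H79.FibreRegSch

variable {X Y S : Scheme.{u}}

theorem isPullback_fiberMap (u : Y ⟶ X) (g : X ⟶ S) (s : S) :
    IsPullback ((u ≫ g).fiberι s) (CInt.fiberMap u g s) u (g.fiberι s) := by
  have t : IsPullback (pullback.snd g (S.fromSpecResidueField s)) (g.fiberι s)
      (S.fromSpecResidueField s) g := (IsPullback.of_hasPullback g _).flip
  have o : IsPullback (CInt.fiberMap u g s ≫
      pullback.snd g (S.fromSpecResidueField s)) ((u ≫ g).fiberι s)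
      (S.fromSpecResidueField s) (u ≫ g) := by
    have h1 : CInt.fiberMap u g s ≫ pullback.snd g (S.fromSpecResidueField s) =
        pullback.snd (u ≫ g) (S.fromSpecResidueField s) := by
      unfold CInt.fiberMap
      exact (pullback.lift_snd _ _ _).trans (Category.comp_id _)
    rw [h1]
    exact (IsPullback.of_hasPullback (u ≫ g) _).flip
  have p : CInt.fiberMap u g s ≫ g.fiberι s = (u ≫ g).fiberι s ≫ u := by
    unfold CInt.fiberMap Scheme.Hom.fiberι
    exact pullback.lift_fst _ _ _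
  exact (IsPullback.of_right o p t).flip

set_option maxHeartbeats 1000000 in
theorem flat_stalkMap_of_regularImmersion (u : Y ⟶ X) (g : X ⟶ S) [IsClosedImmersion u]
    [LocallyOfFinitePresentation g] (hflat : Flat (u ≫ g))
    (hreg : Mor2.IsRegularClosedImmersion u) (y : Y) : (g.stalkMap (u y)).hom.Flat := by
  haveI := hflat
  obtain ⟨U, hU, hyU, rs, hrs, hker⟩ := hreg.2 y
  obtain ⟨V, hV, hxV, -⟩ := exists_isAffineOpen_mem_and_subset (x := g (u y)) (U := ⊤) trivial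
  obtain ⟨U₁, hU₁, hyU₁, hU₁le⟩ :=
    exists_isAffineOpen_mem_and_subset (x := u y) (U := U ⊓ g ⁻¹ᵁ V) ⟨hyU, hxV⟩
  have hle : U₁ ≤ U := fun x hx => (hU₁le hx).1
  have hUV : U₁ ≤ g ⁻¹ᵁ V := fun x hx => (hU₁le hx).2
  have hker' : RingHom.ker (u.app U).hom = Ideal.ofList rs :=
    (Scheme.Hom.ker_apply u ⟨U, hU⟩).symm.trans hker
  obtain ⟨hcl₁, rs₁, hrs₁, hker₁⟩ := Groth.Agent.H79.RegImmRel.regImm_data_restrict u
    RegImm.Kind.regular hU hU₁ hle inferInstance rs hrs hker' y hyU₁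
  have hrs₁' : IsRegular Γ(X, U₁) rs₁ := hrs₁
  have hW : IsAffineOpen (u ⁻¹ᵁ U₁) := hU₁.preimage u
  have hWV : u ⁻¹ᵁ U₁ ≤ (u ≫ g) ⁻¹ᵁ V := fun z hz => hUV hz
  have hyW : y ∈ u ⁻¹ᵁ U₁ := hyU₁
  letI algB := (g.appLE V U₁ hUV).hom.toAlgebra
  letI algC := ((u ≫ g).appLE V (u ⁻¹ᵁ U₁) hWV).hom.toAlgebra
  haveI : Algebra.FinitePresentation Γ(S, V) Γ(X, U₁) := g.finitePresentation_appLE hV hU₁ hUV
  haveI : Module.Flat Γ(S, V) Γ(Y, u ⁻¹ᵁ U₁) := (u ≫ g).flat_appLE hV hW hWV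
  let φ : Γ(X, U₁) →ₐ[Γ(S, V)] Γ(Y, u ⁻¹ᵁ U₁) :=
    { (u.app U₁).hom with
      commutes' := fun r => by
        show (u.app U₁).hom ((g.appLE V U₁ hUV).hom r) =
          ((u ≫ g).appLE V (u ⁻¹ᵁ U₁) hWV).hom r
        have h1 : g.appLE V U₁ hUV ≫ u.app U₁ = (u ≫ g).appLE V (u ⁻¹ᵁ U₁) hWV := by
          rw [u.app_eq_appLE, Scheme.Hom.appLE_comp_appLE]
        rw [← h1]
        rfl }
  have hφ : Function.Surjective φ := u.app_surjective U₁ hU₁
  haveI hqC : (hW.primeIdealOf ⟨y, hyW⟩).asIdeal.IsPrime := (hW.primeIdealOf ⟨y, hyW⟩).isPrime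
  have hfl := Groth.Agent.H79.KeyFlat.flat_atPrime_of_weaklyRegular_of_flat_quot (A := Γ(S, V))
    rs₁.length Γ(X, U₁) Γ(Y, u ⁻¹ᵁ U₁) φ hφ rs₁ rfl hrs₁'.toIsWeaklyRegular hker₁
    (hW.primeIdealOf ⟨y, hyW⟩).asIdeal (Module.Flat.trans Γ(S, V) Γ(Y, u ⁻¹ᵁ U₁) _)
  have hP : (hU₁.primeIdealOf ⟨u y, hyU₁⟩).asIdeal =
      (hW.primeIdealOf ⟨y, hyW⟩).asIdeal.comap φ.toRingHom := by
    have h1 := IsAffineOpen.comap_primeIdealOf_appLE (f := u) U₁ hU₁ (u ⁻¹ᵁ U₁) hW le_rfl hyW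
    have h2 := congrArg PrimeSpectrum.asIdeal h1
    rw [← h2]
    show Ideal.comap (u.appLE U₁ (u ⁻¹ᵁ U₁) le_rfl).hom _ = Ideal.comap (u.app U₁).hom _
    rw [u.app_eq_appLE]
  have h1 := Groth.Agent.H79.KeyFlat.flatAt_congr hP.symm hfl
  have h2 := Groth.Agent.H79.KeyFlatSch.flat_stalkMap_of_flat_atPrime g hV hU₁ hUV
    (hU₁.primeIdealOf ⟨u y, hyU₁⟩) h1
  exact flat_stalkMap_congr g (hU₁.fromSpec_primeIdealOf ⟨u y, hyU₁⟩) h2

set_option maxHeartbeats 1000000 in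
theorem regular_fiberMap_of_regularImmersion (u : Y ⟶ X) (g : X ⟶ S) [IsClosedImmersion u]
    [LocallyOfFinitePresentation g] (hflat : Flat (u ≫ g))
    (hreg : Mor2.IsRegularClosedImmersion u) (s : S) :
    Mor2.IsRegularClosedImmersion (CInt.fiberMap u g s) := by
  haveI := hflat
  have hZ := isPullback_fiberMap u g s
  haveI hcl : IsClosedImmersion (CInt.fiberMap u g s) :=
    MorphismProperty.of_isPullback (P := @IsClosedImmersion) hZ inferInstance
  refine ⟨hcl, fun z' => ?_⟩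
  obtain ⟨U, hU, hyU, rs, hrs, hker⟩ := hreg.2 (((u ≫ g).fiberι s) z')
  have hat : RegImm.IsRegularImmersionAt RegImm.Kind.quasi u (((u ≫ g).fiberι s) z') := by
    refine ⟨⟨U, hU⟩, hyU, inferInstance, rs, ?_, (Scheme.Hom.ker_apply u ⟨U, hU⟩).symm.trans hker⟩
    show CAlgX.IsQuasiRegular rs.get
    apply Groth.Agent.H19.QReg.isQuasiRegular_of_isWeaklyRegular
    rw [List.ofFn_get]
    exact hrs.toIsWeaklyRegular
  have hX : IsPullback (g.fiberι s) (g.fiberToSpecResidueField s) g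
      (S.fromSpecResidueField s) := IsPullback.of_hasPullback _ _
  have hq := Groth.Agent.H79.RegImmRel.regImmAt_relBaseChange g u (S.fromSpecResidueField s)
    (g.fiberι s) (g.fiberToSpecResidueField s) hX ((u ≫ g).fiberι s) (CInt.fiberMap u g s) hZ
    RegImm.Kind.quasi (Or.inr rfl) z' hat
  obtain ⟨rs₂, hrs₂, hker₂⟩ := Groth.Agent.H79.RegImmStalkK.exists_seq_ker_stalkMap
    RegImm.Kind.quasi _ z' hq
  haveI : IsLocallyNoetherian (g.fiber s) := isLocallyNoetherian_fiber g s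
  have hne : Ideal.ofList rs₂ ≠ ⊤ := by
    rw [← hker₂]; exact RingHom.ker_ne_top _
  have hreg₂ := isRegular_of_isQuasiRegular_local rs₂ hrs₂ hne
  haveI : IsClosedImmersion ((CInt.fiberMap u g s) ∣_ ⊤) := inferInstance
  have hat₂ := Groth.Agent.H9.isRegularImmersionAt_of_exists_isRegular_ker_stalkMap
    (CInt.fiberMap u g s) z' ⊤ trivial ⟨rs₂, hreg₂, hker₂⟩
  obtain ⟨U', hzU', hcl', rs', hrs', hker'⟩ := hat₂
  exact ⟨U'.1, U'.2, hzU', rs', hrs', (Scheme.Hom.ker_apply _ U').trans hker'⟩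

set_option maxHeartbeats 1000000 in
theorem regularImmersion_of_fibrewise (u : Y ⟶ X) (g : X ⟶ S) [IsClosedImmersion u]
    [LocallyOfFinitePresentation g] [LocallyOfFinitePresentation (u ≫ g)]
    (hflatpt : ∀ y : Y, (g.stalkMap (u y)).hom.Flat) (hflat : Flat (u ≫ g))
    (hfib : ∀ s : S, Mor2.IsRegularClosedImmersion (CInt.fiberMap u g s)) :
    Mor2.IsRegularClosedImmersion u := by
  haveI := hflat
  refine ⟨inferInstance, fun z => ?_⟩
  have hw : ((u ≫ g).fiberι ((u ≫ g) z)) ((u ≫ g).asFiber z) = z :=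
    Scheme.Hom.fiberι_asFiber _ z
  have hZ := isPullback_fiberMap u g ((u ≫ g) z)
  haveI hcl : IsClosedImmersion (CInt.fiberMap u g ((u ≫ g) z)) := (hfib _).1
  obtain ⟨U', hU', hwU', rs, hrs, hker⟩ := (hfib ((u ≫ g) z)).2 ((u ≫ g).asFiber z)
  have hat : RegImm.IsRegularImmersionAt RegImm.Kind.regular (CInt.fiberMap u g ((u ≫ g) z))
      ((u ≫ g).asFiber z) :=
    ⟨⟨U', hU'⟩, hwU', inferInstance, rs, hrs,
      (Scheme.Hom.ker_apply _ ⟨U', hU'⟩).symm.trans hker⟩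
  obtain ⟨rs₂, hrs₂, hker₂⟩ :=
    Groth.Agent.H9.exists_isRegular_ker_stalkMap_of_isRegularImmersionAt _ _ hat
  obtain ⟨U, hU, hzU, gs, -, hgs, hkerU⟩ := exists_affine_regular_of_fibre' g u ((u ≫ g) z)
    ((u ≫ g).fiberι ((u ≫ g) z)) (CInt.fiberMap u g ((u ≫ g) z)) hZ ((u ≫ g).asFiber z)
    rs₂ hrs₂ hker₂ (by rw [hw]; exact hflatpt z)
  rw [hw] at hzU
  exact ⟨U, hU, hzU, gs, hgs, hkerU⟩

end Groth.Agent.H79.TransRegSch
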