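import Mathlib
import Groth.Prelude.Def_CInt
import Groth.Agent.H79.TransRegSch
import Groth.Agent.H79.RegTwoThree

/-!
# Two-out-of-three for transversally regular closed immersions: global core (helper79)

`Z ⟶ Y ⟶ X` closed immersions over `S`, everything locally of finite presentation over `S`.

* `RegData i z`: pointwise regular data for `i` at `z` (an affine open of the target around `i z`
  on which the kernel of `i` is generated by a regular sequence);
  `regData_of_restrict`, `restrict_of_regData` pass between `RegData` and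
  `Mor2.IsRegularClosedImmersion (i ∣_ V)`.
* `exists_isRegular_ker_stalkMap_of_isPullback`: a regular closed immersion with flat source stays
  regular (stalkwise) on every base change to a fibre.
* `flat_of_comp`, `exists_affine_regular_of_comp`: the global two-out-of-three statements.
-/

set_option autoImplicit false
set_option linter.unusedVariables false
set_option linter.style.haveILetI false
set_option linter.unusedSectionVars false

universe u

open CategoryTheory CategoryTheory.Limits AlgebraicGeometry TopologicalSpace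

namespace Groth.Agent.H79.TransReg3

open RingTheory.Sequence Groth.Agent.H79.FibreRegSch Groth.Agent.H79.TransRegSch

variable {X Y Z S : Scheme.{u}}

/-- Pointwise regular data for `i` at `z`. -/
def RegData (i : Z ⟶ X) (z : Z) : Prop :=
  ∃ (U : X.Opens) (hU : IsAffineOpen U), i z ∈ U ∧ ∃ rs : List Γ(X, U),
    IsRegular Γ(X, U) rs ∧ RingHom.ker (i.app U).hom = Ideal.ofList rs

theorem ι_morphismRestrict_apply (i : Z ⟶ X) (V : X.Opens) (z' : ↥(i ⁻¹ᵁ V)) :
    V.ι ((i ∣_ V) z') = i z'.1 := morphismRestrict_base_coe i V z'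

theorem regData_of_restrict (i : Z ⟶ X) [IsClosedImmersion i] (V : X.Opens)
    (h : Mor2.IsRegularClosedImmersion (i ∣_ V)) (z : Z) (hz : i z ∈ V) : RegData i z := by
  obtain ⟨U, hU, hzU, rs, hrs, hker⟩ := h.2 ⟨z, hz⟩
  refine ⟨V.ι ''ᵁ U, hU.image_of_isOpenImmersion V.ι, ?_, rs, hrs, ?_⟩
  · have h1 : V.ι ((i ∣_ V) ⟨z, hz⟩) = i z := ι_morphismRestrict_apply i V ⟨z, hz⟩
    rw [← h1]
    exact ⟨_, hzU, rfl⟩
  · exact (Groth.Agent.H9.ker_morphismRestrict_app i V U).symm.trans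
      ((Scheme.Hom.ker_apply (i ∣_ V) ⟨U, hU⟩).symm.trans hker)

theorem restrict_of_regData (i : Z ⟶ X) [IsClosedImmersion i] (V : X.Opens)
    (h : ∀ z, i z ∈ V → RegData i z) : Mor2.IsRegularClosedImmersion (i ∣_ V) := by
  refine ⟨inferInstance, fun z' => ?_⟩
  obtain ⟨U, hU, hzU, rs, hrs, hker⟩ := h z'.1 z'.2
  obtain ⟨U₁, hU₁, hzU₁, hU₁le⟩ :=
    exists_isAffineOpen_mem_and_subset (x := i z'.1) (U := U ⊓ V) ⟨hzU, z'.2⟩
  have hle : U₁ ≤ U := fun x hx => (hU₁le hx).1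
  have hleV : U₁ ≤ V := fun x hx => (hU₁le hx).2
  obtain ⟨-, rs₁, hrs₁, hker₁⟩ := Groth.Agent.H79.RegImmRel.regImm_data_restrict i
    RegImm.Kind.regular hU hU₁ hle inferInstance rs hrs hker z'.1 hzU₁
  have hrs₁' : IsRegular Γ(X, U₁) rs₁ := hrs₁
  have himg : V.ι ''ᵁ (V.ι ⁻¹ᵁ U₁) = U₁ := by
    rw [Scheme.Hom.image_preimage_eq_opensRange_inf, Scheme.Opens.opensRange_ι]
    exact inf_eq_right.mpr hleV
  have key : ∀ U' : X.Opens, U' = U₁ → ∃ rs' : List Γ(X, U'), IsRegular Γ(X, U') rs' ∧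
      RingHom.ker (i.app U').hom = Ideal.ofList rs' := by
    rintro _ rfl; exact ⟨rs₁, hrs₁', hker₁⟩
  obtain ⟨rs', hrs', hker'⟩ := key _ himg
  have hU₂ : IsAffineOpen (V.ι ⁻¹ᵁ U₁) := by
    rw [← Scheme.Hom.isAffineOpen_iff_of_isOpenImmersion V.ι, himg]; exact hU₁
  refine ⟨V.ι ⁻¹ᵁ U₁, hU₂, ?_, rs', hrs', ?_⟩
  · show V.ι ((i ∣_ V) z') ∈ U₁
    rw [ι_morphismRestrict_apply]
    exact hzU₁
  · exact (Scheme.Hom.ker_apply (i ∣_ V) ⟨V.ι ⁻¹ᵁ U₁, hU₂⟩).trans
      ((Groth.Agent.H9.ker_morphismRestrict_app i V (V.ι ⁻¹ᵁ U₁)).trans hker')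

set_option maxHeartbeats 1000000 in
/-- A regular closed immersion with flat source stays regular, stalkwise, after base change to a
fibre (general pullback square). -/
theorem exists_isRegular_ker_stalkMap_of_isPullback (u : Y ⟶ X) (g : X ⟶ S)
    [IsClosedImmersion u] [LocallyOfFinitePresentation g] (hflat : Flat (u ≫ g))
    (hreg : Mor2.IsRegularClosedImmersion u) (s : S) {Z' : Scheme.{u}} (pZ : Z' ⟶ Y)
    (i' : Z' ⟶ g.fiber s) (hZ : IsPullback pZ i' u (g.fiberι s)) (z' : Z') :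
    ∃ rs₂ : List ((g.fiber s).presheaf.stalk (i' z')),
      IsRegular ((g.fiber s).presheaf.stalk (i' z')) rs₂ ∧
        RingHom.ker (i'.stalkMap z').hom = Ideal.ofList rs₂ := by
  haveI := hflat
  obtain ⟨U, hU, hyU, rs, hrs, hker⟩ := hreg.2 (pZ z')
  have hat : RegImm.IsRegularImmersionAt RegImm.Kind.quasi u (pZ z') := by
    refine ⟨⟨U, hU⟩, hyU, inferInstance, rs, ?_, (Scheme.Hom.ker_apply u ⟨U, hU⟩).symm.trans hker⟩
    show CAlgX.IsQuasiRegular rs.get
    apply Groth.Agent.H19.QReg.isQuasiRegular_of_isWeaklyRegular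
    rw [List.ofFn_get]
    exact hrs.toIsWeaklyRegular
  have hX : IsPullback (g.fiberι s) (g.fiberToSpecResidueField s) g
      (S.fromSpecResidueField s) := IsPullback.of_hasPullback _ _
  have hq := Groth.Agent.H79.RegImmRel.regImmAt_relBaseChange g u (S.fromSpecResidueField s)
    (g.fiberι s) (g.fiberToSpecResidueField s) hX pZ i' hZ
    RegImm.Kind.quasi (Or.inr rfl) z' hat
  obtain ⟨rs₂, hrs₂, hker₂⟩ := Groth.Agent.H79.RegImmStalkK.exists_seq_ker_stalkMap
    RegImm.Kind.quasi _ z' hq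
  haveI : IsLocallyNoetherian (g.fiber s) := isLocallyNoetherian_fiber g s
  have hne : Ideal.ofList rs₂ ≠ ⊤ := by
    rw [← hker₂]; exact RingHom.ker_ne_top _
  exact ⟨rs₂, isRegular_of_isQuasiRegular_local rs₂ hrs₂ hne, hker₂⟩

/-- **Global two-out-of-three, flatness part.** -/
theorem flat_of_comp (p : X ⟶ S) [LocallyOfFinitePresentation p] (f : Y ⟶ X) (g : Z ⟶ Y)
    [IsClosedImmersion f] [IsClosedImmersion g] [LocallyOfFinitePresentation (f ≫ p)]
    (hZ : Flat (g ≫ f ≫ p)) (hg : Mor2.IsRegularClosedImmersion g)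
    (hgf : Mor2.IsRegularClosedImmersion (g ≫ f)) (z : Z) :
    ((f ≫ p).stalkMap (g z)).hom.Flat ∧ (p.stalkMap (f (g z))).hom.Flat := by
  refine ⟨flat_stalkMap_of_regularImmersion g (f ≫ p) hZ hg z, ?_⟩
  have hZ' : Flat ((g ≫ f) ≫ p) := by rw [Category.assoc]; exact hZ
  exact flat_stalkMap_of_regularImmersion (g ≫ f) p hZ' hgf z

set_option maxHeartbeats 1000000 in
/-- **Global two-out-of-three, regularity part.** -/
theorem exists_affine_regular_of_comp (p : X ⟶ S) [LocallyOfFinitePresentation p] (f : Y ⟶ X)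
    (g : Z ⟶ Y) [IsClosedImmersion f] [IsClosedImmersion g]
    [LocallyOfFinitePresentation (f ≫ p)] [Flat (f ≫ p)]
    (hZ : Flat (g ≫ f ≫ p)) (hg : Mor2.IsRegularClosedImmersion g)
    (hgf : Mor2.IsRegularClosedImmersion (g ≫ f)) (z : Z)
    (hflatX : (p.stalkMap (f (g z))).hom.Flat) :
    ∃ (U : X.Opens) (hU : IsAffineOpen U), f (g z) ∈ U ∧ ∃ gs : List Γ(X, U),
      IsRegular Γ(X, U) gs ∧ f.ker.ideal ⟨U, hU⟩ = Ideal.ofList gs := by
  obtain ⟨s, hs⟩ : ∃ s : S, s = (g ≫ f ≫ p) z := ⟨_, rfl⟩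
  obtain ⟨zs, hzs⟩ : ∃ zs : (g ≫ f ≫ p).fiber s, ((g ≫ f ≫ p).fiberι s) zs = z := by
    subst hs
    exact ⟨(g ≫ f ≫ p).asFiber z, Scheme.Hom.fiberι_asFiber _ z⟩
  have hPa := isPullback_fiberMap g (f ≫ p) s
  have hPb := isPullback_fiberMap f p s
  have hPab : IsPullback ((g ≫ f ≫ p).fiberι s)
      (CInt.fiberMap g (f ≫ p) s ≫ CInt.fiberMap f p s) (g ≫ f) (p.fiberι s) :=
    hPa.paste_vert hPb
  haveI hcla : IsClosedImmersion (CInt.fiberMap g (f ≫ p) s) :=
    MorphismProperty.of_isPullback (P := @IsClosedImmersion) hPa inferInstance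
  haveI hclb : IsClosedImmersion (CInt.fiberMap f p s) :=
    MorphismProperty.of_isPullback (P := @IsClosedImmersion) hPb inferInstance
  have hZ' : Flat ((g ≫ f) ≫ p) := by rw [Category.assoc]; exact hZ
  have d₁ := exists_isRegular_ker_stalkMap_of_isPullback g (f ≫ p) hZ hg s
    ((g ≫ f ≫ p).fiberι s) (CInt.fiberMap g (f ≫ p) s) hPa zs
  have d₂ := exists_isRegular_ker_stalkMap_of_isPullback (g ≫ f) p hZ' hgf s
    ((g ≫ f ≫ p).fiberι s) (CInt.fiberMap g (f ≫ p) s ≫ CInt.fiberMap f p s) hPab zs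
  haveI : IsLocallyNoetherian (p.fiber s) := isLocallyNoetherian_fiber p s
  have hcomp : ((CInt.fiberMap g (f ≫ p) s ≫ CInt.fiberMap f p s).stalkMap zs).hom =
      ((CInt.fiberMap g (f ≫ p) s).stalkMap zs).hom.comp
        ((CInt.fiberMap f p s).stalkMap ((CInt.fiberMap g (f ≫ p) s) zs)).hom := by
    rw [Scheme.Hom.stalkMap_comp]
    rfl
  have hsurj : Function.Surjective
      ((CInt.fiberMap f p s).stalkMap ((CInt.fiberMap g (f ≫ p) s) zs)).hom :=
    (CInt.fiberMap f p s).stalkMap_surjective _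
  obtain ⟨rs, hrs, hker⟩ := Groth.Agent.H79.RegTwoThree.exists_isRegular_ker_of_comp
    ((CInt.fiberMap f p s).stalkMap ((CInt.fiberMap g (f ≫ p) s) zs)).hom
    ((CInt.fiberMap g (f ≫ p) s).stalkMap zs).hom hsurj (by rw [← hcomp]; exact d₂) d₁
  have hw : ((f ≫ p).fiberι s) ((CInt.fiberMap g (f ≫ p) s) zs) = g z := by
    have h1 := congrArg (fun k => k zs) hPa.w
    simp only [Scheme.Hom.comp_apply] at h1
    rw [← h1, hzs]
  obtain ⟨U, hU, hzU, gs, -, hgs, hkerU⟩ := exists_affine_regular_of_fibre' p f s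
    ((f ≫ p).fiberι s) (CInt.fiberMap f p s) hPb ((CInt.fiberMap g (f ≫ p) s) zs)
    rs hrs hker (by rw [hw]; exact hflatX)
  rw [hw] at hzU
  exact ⟨U, hU, hzU, gs, hgs, hkerU⟩

end Groth.Agent.H79.TransReg3
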