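import Mathlib
import Groth.Prelude.Def_CInt
import Groth.Agent.H79.TransReg3
import Groth.Agent.H9.CMFlatSch
import Groth.Agent.S0386

/-!
# Two-out-of-three for transversally regular closed immersions: local form (helper79)

Shrinking lemmas reducing the local statement (EGA IV 19.2.7-type: `Z ⟶ Y ⟶ X` closed immersions,
l.f.p. over `S`, `Z` flat over `S` near `z`, `Z ⟶ Y` and `Z ⟶ X` regular near `z` ⇒ `Y` flat near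
`g z` and `Y ⟶ X` regular near `g z`) to the global core of `H79/TransReg3`.
-/

set_option autoImplicit false
set_option linter.unusedVariables false
set_option linter.style.haveILetI false
set_option linter.unusedSectionVars false

universe u

open CategoryTheory CategoryTheory.Limits AlgebraicGeometry TopologicalSpace

namespace Groth.Agent.H79.TransReg3

open RingTheory.Sequence Groth.Agent.H79.FibreRegSch Groth.Agent.H79.TransRegSch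
open Groth.Agent.H9.CMFlatSch

variable {X Y Z S : Scheme.{u}}

theorem flat_stalkMap_of_eq {A B : Scheme.{u}} {a b : A ⟶ B} (e : a = b) (x : A)
    (h : (a.stalkMap x).hom.Flat) : (b.stalkMap x).hom.Flat := by
  subst e; exact h

/-- Flatness at a point of the restricted composite versus the original one. -/
theorem flat_restrict_comp_iff (p : X ⟶ S) (f : Y ⟶ X) (X' : X.Opens) (y' : ↥(f ⁻¹ᵁ X')) :
    (((f ∣_ X') ≫ X'.ι ≫ p).stalkMap y').hom.Flat ↔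
      ((f ≫ p).stalkMap ((f ⁻¹ᵁ X').ι y')).hom.Flat := by
  have e : (f ∣_ X') ≫ X'.ι ≫ p = (f ⁻¹ᵁ X').ι ≫ (f ≫ p) := morphismRestrict_ι_assoc f X' p
  rw [← flat_stalkMap_comp_left (f ⁻¹ᵁ X').ι (f ≫ p) y']
  exact ⟨flat_stalkMap_of_eq e y', flat_stalkMap_of_eq e.symm y'⟩

/-- An open of the source of a closed immersion is the preimage of an open of the target. -/
theorem exists_opens_preimage_eq (f : Y ⟶ X) [IsClosedImmersion f] (V : Y.Opens) :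
    ∃ O : X.Opens, f ⁻¹ᵁ O = V := by
  obtain ⟨t, ht, hpre⟩ := (f.isClosedEmbedding.isInducing.isOpen_iff).mp V.2
  exact ⟨⟨t, ht⟩, TopologicalSpace.Opens.ext hpre⟩

/-- Restricting the hypotheses to an open `X'` of `X`. -/
theorem shrink_hyps (p : X ⟶ S) (f : Y ⟶ X) (g : Z ⟶ Y) [IsClosedImmersion f]
    [IsClosedImmersion g] (X' : X.Opens) (W : Z.Opens) (hW : Flat (W.ι ≫ g ≫ f ≫ p))
    (hdg : ∀ z', g z' ∈ f ⁻¹ᵁ X' → RegData g z')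
    (hdgf : ∀ z', (g ≫ f) z' ∈ X' → RegData (g ≫ f) z')
    (h3 : g ⁻¹ᵁ (f ⁻¹ᵁ X') ≤ W) :
    Flat ((g ∣_ (f ⁻¹ᵁ X')) ≫ (f ∣_ X') ≫ X'.ι ≫ p) ∧
      Mor2.IsRegularClosedImmersion (g ∣_ (f ⁻¹ᵁ X')) ∧
      Mor2.IsRegularClosedImmersion ((g ∣_ (f ⁻¹ᵁ X')) ≫ (f ∣_ X')) := by
  refine ⟨?_, restrict_of_regData g _ hdg, ?_⟩
  · have e : (g ∣_ (f ⁻¹ᵁ X')) ≫ (f ∣_ X') ≫ X'.ι ≫ p =
        Z.homOfLE h3 ≫ W.ι ≫ g ≫ f ≫ p := by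
      rw [morphismRestrict_ι_assoc, morphismRestrict_ι_assoc, Scheme.homOfLE_ι_assoc]
    rw [e]
    haveI := hW
    infer_instance
  · rw [← morphismRestrict_comp]
    exact restrict_of_regData (g ≫ f) X' hdgf

set_option maxHeartbeats 1000000 in
/-- **Local two-out-of-three for transversal regularity.** -/
theorem local_two_out_of_three (p : X ⟶ S) [LocallyOfFinitePresentation p]
    (f : Y ⟶ X) (g : Z ⟶ Y) [IsClosedImmersion f] [IsClosedImmersion g]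
    [LocallyOfFinitePresentation (f ≫ p)] (z : Z)
    (hZ : ∃ W : Z.Opens, z ∈ W ∧ Flat (W.ι ≫ g ≫ f ≫ p))
    (hg : ∃ V : Y.Opens, g z ∈ V ∧ Mor2.IsRegularClosedImmersion (g ∣_ V))
    (hgf : ∃ V : X.Opens, (g ≫ f) z ∈ V ∧ Mor2.IsRegularClosedImmersion ((g ≫ f) ∣_ V)) :
    (∃ W : Y.Opens, g z ∈ W ∧ Flat (W.ι ≫ f ≫ p)) ∧
      (∃ V : X.Opens, f (g z) ∈ V ∧ Mor2.IsRegularClosedImmersion (f ∣_ V)) := by
  obtain ⟨W, hzW, hWflat⟩ := hZ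
  obtain ⟨VY, hgzVY, hgreg⟩ := hg
  obtain ⟨VX, hVX, hgfreg⟩ := hgf
  have hdg : ∀ z', g z' ∈ VY → RegData g z' := fun z' hz' =>
    regData_of_restrict g VY hgreg z' hz'
  have hdgf : ∀ z', (g ≫ f) z' ∈ VX → RegData (g ≫ f) z' := fun z' hz' =>
    regData_of_restrict (g ≫ f) VX hgfreg z' hz'
  obtain ⟨O₁, hO₁⟩ := exists_opens_preimage_eq f VY
  obtain ⟨O₂, hO₂⟩ := exists_opens_preimage_eq (g ≫ f) W
  -- the flat loci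
  let FX : X.Opens := ⟨{x | (p.stalkMap x).hom.Flat}, Groth.Agent.S0386.result p⟩
  let FY : Y.Opens := ⟨{y | ((f ≫ p).stalkMap y).hom.Flat}, Groth.Agent.S0386.result (f ≫ p)⟩
  obtain ⟨O₃, hO₃⟩ := exists_opens_preimage_eq f FY
  -- general facts for an open `X' ≤ VX ⊓ O₁ ⊓ O₂`
  have hgen : ∀ X' : X.Opens, X' ≤ VX ⊓ O₁ ⊓ O₂ →
      Flat ((g ∣_ (f ⁻¹ᵁ X')) ≫ (f ∣_ X') ≫ X'.ι ≫ p) ∧
      Mor2.IsRegularClosedImmersion (g ∣_ (f ⁻¹ᵁ X')) ∧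
      Mor2.IsRegularClosedImmersion ((g ∣_ (f ⁻¹ᵁ X')) ≫ (f ∣_ X')) := by
    intro X' hX'
    refine shrink_hyps p f g X' W hWflat ?_ ?_ ?_
    · intro z' hz'
      apply hdg
      rw [← hO₁]
      exact (hX' hz').1.2
    · intro z' hz'
      exact hdgf z' (hX' hz').1.1
    · intro z' hz'
      rw [← hO₂]
      exact (hX' hz').2
  have hzX₀ : f (g z) ∈ VX ⊓ O₁ ⊓ O₂ := by
    refine ⟨⟨hVX, ?_⟩, ?_⟩
    · show g z ∈ f ⁻¹ᵁ O₁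
      rw [hO₁]; exact hgzVY
    · show z ∈ (g ≫ f) ⁻¹ᵁ O₂
      rw [hO₂]; exact hzW
  -- stage 1: flatness at the point
  obtain ⟨hfl₀, hg₀, hgf₀⟩ := hgen (VX ⊓ O₁ ⊓ O₂) le_rfl
  have hlfp₀ : LocallyOfFinitePresentation ((f ∣_ (VX ⊓ O₁ ⊓ O₂)) ≫ (VX ⊓ O₁ ⊓ O₂).ι ≫ p) := by
    rw [morphismRestrict_ι_assoc]; infer_instance
  obtain ⟨hY₀, hX₀⟩ := flat_of_comp ((VX ⊓ O₁ ⊓ O₂).ι ≫ p) (f ∣_ (VX ⊓ O₁ ⊓ O₂))
    (g ∣_ (f ⁻¹ᵁ (VX ⊓ O₁ ⊓ O₂))) hfl₀ hg₀ hgf₀ ⟨z, hzX₀⟩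
  have hpt₁ : ∀ (X' : X.Opens) (hz' : f (g z) ∈ X'),
      (f ⁻¹ᵁ X').ι ((g ∣_ (f ⁻¹ᵁ X')) ⟨z, hz'⟩) = g z := fun X' hz' =>
    ι_morphismRestrict_apply g (f ⁻¹ᵁ X') ⟨z, hz'⟩
  have hpt₂ : ∀ (X' : X.Opens) (hz' : f (g z) ∈ X'),
      X'.ι ((f ∣_ X') ((g ∣_ (f ⁻¹ᵁ X')) ⟨z, hz'⟩)) = f (g z) := fun X' hz' =>
    (ι_morphismRestrict_apply f X' _).trans (congrArg (fun y => f y) (hpt₁ X' hz'))
  have hflatY : ((f ≫ p).stalkMap (g z)).hom.Flat :=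
    flat_stalkMap_congr (f ≫ p) (hpt₁ _ hzX₀) ((flat_restrict_comp_iff p f _ _).mp hY₀)
  have hflatX : (p.stalkMap (f (g z))).hom.Flat :=
    flat_stalkMap_congr p (hpt₂ _ hzX₀) ((flat_stalkMap_comp_left (VX ⊓ O₁ ⊓ O₂).ι p _).mp hX₀)
  refine ⟨⟨FY, hflatY, ?_⟩, ?_⟩
  · rw [Flat.iff_flat_stalkMap]
    intro w
    exact (flat_stalkMap_comp_left FY.ι (f ≫ p) w).mpr w.2
  -- stage 2
  obtain ⟨X₁, hX₁⟩ : ∃ X₁ : X.Opens, X₁ = VX ⊓ O₁ ⊓ O₂ ⊓ FX ⊓ O₃ := ⟨_, rfl⟩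
  have hX₁le : X₁ ≤ VX ⊓ O₁ ⊓ O₂ := by rw [hX₁]; exact inf_le_left.trans inf_le_left
  have hX₁O₃ : X₁ ≤ O₃ := by rw [hX₁]; exact inf_le_right
  have hzX₁ : f (g z) ∈ X₁ := by
    rw [hX₁]
    refine ⟨⟨hzX₀, hflatX⟩, ?_⟩
    show g z ∈ f ⁻¹ᵁ O₃
    rw [hO₃]; exact hflatY
  obtain ⟨hfl₁, hg₁, hgf₁⟩ := hgen X₁ hX₁le
  haveI hlfp₁ : LocallyOfFinitePresentation ((f ∣_ X₁) ≫ X₁.ι ≫ p) := by
    rw [morphismRestrict_ι_assoc]; infer_instance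
  haveI hflat₁ : Flat ((f ∣_ X₁) ≫ X₁.ι ≫ p) := by
    rw [Flat.iff_flat_stalkMap]
    intro y'
    rw [flat_restrict_comp_iff]
    have h1 : (f ⁻¹ᵁ X₁).ι y' ∈ f ⁻¹ᵁ O₃ := by
      have h2 : f ((f ⁻¹ᵁ X₁).ι y') ∈ X₁ := y'.2
      exact hX₁O₃ h2
    rw [hO₃] at h1
    exact h1
  have hflatX₁ : ((X₁.ι ≫ p).stalkMap ((f ∣_ X₁) ((g ∣_ (f ⁻¹ᵁ X₁)) ⟨z, hzX₁⟩))).hom.Flat :=
    (flat_stalkMap_comp_left X₁.ι p _).mpr (flat_stalkMap_congr p (hpt₂ X₁ hzX₁).symm hflatX)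
  obtain ⟨U, hU, hzU, gs, hgs, hkerU⟩ := exists_affine_regular_of_comp (X₁.ι ≫ p) (f ∣_ X₁)
    (g ∣_ (f ⁻¹ᵁ X₁)) hfl₁ hg₁ hgf₁ ⟨z, hzX₁⟩ hflatX₁
  have hUaff : IsAffineOpen (X₁.ι ''ᵁ U) := hU.image_of_isOpenImmersion X₁.ι
  refine ⟨X₁.ι ''ᵁ U, ?_, ?_⟩
  · rw [← hpt₂ X₁ hzX₁]
    exact ⟨_, hzU, rfl⟩
  · refine restrict_of_regData f _ fun y hy => ⟨X₁.ι ''ᵁ U, hUaff, hy, gs, hgs, ?_⟩
    exact (Groth.Agent.H9.ker_morphismRestrict_app f X₁ U).symm.trans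
      ((Scheme.Hom.ker_apply (f ∣_ X₁) ⟨U, hU⟩).symm.trans hkerU)

end Groth.Agent.H79.TransReg3
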