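import Mathlib
import Groth.Prelude.Def_CInt
import Groth.Prelude.Def_RegImm
import Groth.Agent.H79.TransReg3b
import Groth.Agent.H79.RelH1Ring
import Groth.Agent.S2103

/-!
# Relative quasi-regular or H₁-regular immersions are flat nearby and regular (helper79)

`f : X ⟶ S` locally of finite presentation, `i : Z ⟶ X` with `Z` flat over `S`, `i` quasi-regular
(or `H₁`-regular) at `z`.  Then `f` is flat at `i z` and `i` is a regular immersion at `z`
(Stacks 063U, no Noetherian hypothesis).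
-/

set_option autoImplicit false
set_option linter.unusedVariables false
set_option linter.style.haveILetI false
set_option linter.unusedSectionVars false

universe u

open CategoryTheory CategoryTheory.Limits AlgebraicGeometry TopologicalSpace

namespace Groth.Agent.H79.RelH1Sch

open RingTheory.Sequence Groth.Agent.H79.FibreRegSch Groth.Agent.H79.TransRegSch
open Groth.Agent.H79.TransReg3 Groth.Agent.H9.CMFlatSch

variable {X Y Z S : Scheme.{u}}

set_option maxHeartbeats 1000000 in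
/-- Closed immersion, quasi-regular at `y`, flat source ⇒ target flat at `u y`. -/
theorem flat_stalkMap_of_quasiRegularAt (u : Y ⟶ X) (g : X ⟶ S) [IsClosedImmersion u]
    [LocallyOfFinitePresentation g] (hflat : Flat (u ≫ g)) (y : Y)
    (hat : RegImm.IsRegularImmersionAt RegImm.Kind.quasi u y) :
    (g.stalkMap (u y)).hom.Flat := by
  haveI := hflat
  obtain ⟨⟨U, hU⟩, hyU, hcl, rs, hrs, hker'⟩ := hat
  obtain ⟨V, hV, hxV, -⟩ := exists_isAffineOpen_mem_and_subset (x := g (u y)) (U := ⊤) trivial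
  obtain ⟨U₁, hU₁, hyU₁, hU₁le⟩ :=
    exists_isAffineOpen_mem_and_subset (x := u y) (U := U ⊓ g ⁻¹ᵁ V) ⟨hyU, hxV⟩
  have hle : U₁ ≤ U := fun x hx => (hU₁le hx).1
  have hUV : U₁ ≤ g ⁻¹ᵁ V := fun x hx => (hU₁le hx).2
  obtain ⟨hcl₁, rs₁, hrs₁, hker₁⟩ := Groth.Agent.H79.RegImmRel.regImm_data_restrict u
    RegImm.Kind.quasi hU hU₁ hle hcl rs hrs hker' y hyU₁
  have hrs₁' : CAlgX.IsQuasiRegular rs₁.get := hrs₁
  have hW : IsAffineOpen (u ⁻¹ᵁ U₁) := hU₁.preimage u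
  have hWV : u ⁻¹ᵁ U₁ ≤ (u ≫ g) ⁻¹ᵁ V := fun z hz => hUV hz
  have hyW : y ∈ u ⁻¹ᵁ U₁ := hyU₁
  letI algB := (g.appLE V U₁ hUV).hom.toAlgebra
  letI algC := ((u ≫ g).appLE V (u ⁻¹ᵁ U₁) hWV).hom.toAlgebra
  haveI : Algebra.FinitePresentation Γ(S, V) Γ(X, U₁) := g.finitePresentation_appLE hV hU₁ hUV
  haveI : Module.Flat Γ(S, V) Γ(Y, u ⁻¹ᵁ U₁) := (u ≫ g).flat_appLE hV hW hWV
  let φ : Γ(X, U₁) →ₐ[Γ(S, V)] Γ(Y, u ⁻¹ᵁ U₁) :=
    { (u.app U₁).hom with
      commutes' := fun r => by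
        show (u.app U₁).hom ((g.appLE V U₁ hUV).hom r) =
          ((u ≫ g).appLE V (u ⁻¹ᵁ U₁) hWV).hom r
        have h1 : g.appLE V U₁ hUV ≫ u.app U₁ = (u ≫ g).appLE V (u ⁻¹ᵁ U₁) hWV := by
          rw [u.app_eq_appLE, Scheme.Hom.appLE_comp_appLE]
        rw [← h1]
        rfl }
  have hφ : Function.Surjective φ := u.app_surjective U₁ hU₁
  haveI hqC : (hW.primeIdealOf ⟨y, hyW⟩).asIdeal.IsPrime := (hW.primeIdealOf ⟨y, hyW⟩).isPrime
  have hfl := Groth.Agent.H79.RelH1Ring.flat_atPrime_of_quasiRegular_of_flat_quot (A := Γ(S, V))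
    φ hφ rs₁ hrs₁' hker₁ ((hW.primeIdealOf ⟨y, hyW⟩).asIdeal.comap φ.toRingHom)
    (fun x hx => by
      rw [Ideal.mem_comap, RingHom.mem_ker.mp hx]; exact zero_mem _)
  have hP : (hU₁.primeIdealOf ⟨u y, hyU₁⟩).asIdeal =
      (hW.primeIdealOf ⟨y, hyW⟩).asIdeal.comap φ.toRingHom := by
    have h1 := IsAffineOpen.comap_primeIdealOf_appLE (f := u) U₁ hU₁ (u ⁻¹ᵁ U₁) hW le_rfl hyW
    have h2 := congrArg PrimeSpectrum.asIdeal h1
    rw [← h2]
    show Ideal.comap (u.appLE U₁ (u ⁻¹ᵁ U₁) le_rfl).hom _ = Ideal.comap (u.app U₁).hom _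
    rw [u.app_eq_appLE]
  have h1 := Groth.Agent.H79.KeyFlat.flatAt_congr hP.symm hfl
  have h2 := Groth.Agent.H79.KeyFlatSch.flat_stalkMap_of_flat_atPrime g hV hU₁ hUV
    (hU₁.primeIdealOf ⟨u y, hyU₁⟩) h1
  exact flat_stalkMap_congr g (hU₁.fromSpec_primeIdealOf ⟨u y, hyU₁⟩) h2

set_option maxHeartbeats 1000000 in
/-- Closed immersion, quasi-regular at `y`, flat l.f.p. source ⇒ regular on an affine open around
`u y`. -/
theorem exists_affine_regular_of_quasiRegularAt (u : Y ⟶ X) (g : X ⟶ S) [IsClosedImmersion u]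
    [LocallyOfFinitePresentation g] [LocallyOfFinitePresentation (u ≫ g)]
    (hflat : Flat (u ≫ g)) (y : Y)
    (hat : RegImm.IsRegularImmersionAt RegImm.Kind.quasi u y) :
    ∃ (U : X.Opens) (hU : IsAffineOpen U), u y ∈ U ∧ ∃ gs : List Γ(X, U),
      IsRegular Γ(X, U) gs ∧ u.ker.ideal ⟨U, hU⟩ = Ideal.ofList gs := by
  haveI := hflat
  have hw : ((u ≫ g).fiberι ((u ≫ g) y)) ((u ≫ g).asFiber y) = y :=
    Scheme.Hom.fiberι_asFiber _ y
  have hZ := isPullback_fiberMap u g ((u ≫ g) y)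
  haveI hcl : IsClosedImmersion (CInt.fiberMap u g ((u ≫ g) y)) :=
    MorphismProperty.of_isPullback (P := @IsClosedImmersion) hZ inferInstance
  have hX : IsPullback (g.fiberι ((u ≫ g) y)) (g.fiberToSpecResidueField ((u ≫ g) y)) g
      (S.fromSpecResidueField ((u ≫ g) y)) := IsPullback.of_hasPullback _ _
  have hq := Groth.Agent.H79.RegImmRel.regImmAt_relBaseChange g u
    (S.fromSpecResidueField ((u ≫ g) y)) (g.fiberι ((u ≫ g) y))
    (g.fiberToSpecResidueField ((u ≫ g) y)) hX ((u ≫ g).fiberι ((u ≫ g) y))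
    (CInt.fiberMap u g ((u ≫ g) y)) hZ RegImm.Kind.quasi (Or.inr rfl) ((u ≫ g).asFiber y)
    (by rw [hw]; exact hat)
  obtain ⟨rs₂, hrs₂, hker₂⟩ := Groth.Agent.H79.RegImmStalkK.exists_seq_ker_stalkMap
    RegImm.Kind.quasi _ ((u ≫ g).asFiber y) hq
  haveI : IsLocallyNoetherian (g.fiber ((u ≫ g) y)) := isLocallyNoetherian_fiber g _
  have hne : Ideal.ofList rs₂ ≠ ⊤ := by
    rw [← hker₂]; exact RingHom.ker_ne_top _
  have hreg₂ := isRegular_of_isQuasiRegular_local rs₂ hrs₂ hne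
  obtain ⟨U, hU, hzU, gs, -, hgs, hkerU⟩ := exists_affine_regular_of_fibre' g u ((u ≫ g) y)
    ((u ≫ g).fiberι ((u ≫ g) y)) (CInt.fiberMap u g ((u ≫ g) y)) hZ ((u ≫ g).asFiber y)
    rs₂ hreg₂ hker₂ (by rw [hw]; exact flat_stalkMap_of_quasiRegularAt u g hflat y hat)
  rw [hw] at hzU
  exact ⟨U, hU, hzU, gs, hgs, hkerU⟩

/-- A closed immersion of affine schemes with finitely generated kernel is l.f.p. -/
theorem lfp_of_closedImmersion_affine {Z' X' : Scheme.{u}} [IsAffine X'] (j : Z' ⟶ X')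
    [IsClosedImmersion j] (hfg : (RingHom.ker (j.app ⊤).hom).FG) :
    LocallyOfFinitePresentation j := by
  haveI : IsAffine Z' := isAffine_of_isAffineHom j
  rw [HasRingHomProperty.iff_of_isAffine (P := @LocallyOfFinitePresentation)]
  exact RingHom.FinitePresentation.of_surjective _ (j.app_surjective ⊤ (isAffineOpen_top _)) hfg

set_option maxHeartbeats 1000000 in
/-- **Main pointwise statement** for an arbitrary morphism `i` (intended: immersion). -/
theorem flat_and_regularAt_of_quasiRegularAt (f : X ⟶ S) [LocallyOfFinitePresentation f]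
    (i : Z ⟶ X) (hflat : Flat (i ≫ f)) (z : Z)
    (hat : RegImm.IsRegularImmersionAt RegImm.Kind.quasi i z) :
    (f.stalkMap (i z)).hom.Flat ∧ RegImm.IsRegularImmersionAt RegImm.Kind.regular i z := by
  haveI := hflat
  obtain ⟨U, hzU, hcl, rs, hrs, hker⟩ := hat
  haveI := hcl
  haveI : IsAffine U.1.toScheme := U.2
  have hT : IsAffineOpen (⊤ : U.1.toScheme.Opens) := isAffineOpen_top _
  have key : ∀ U' : X.Opens, U' = U.1 → ∃ rs' : List Γ(X, U'),
      RegImm.Kind.quasi.Seq Γ(X, U') rs' ∧ RingHom.ker (i.app U').hom = Ideal.ofList rs' := by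
    rintro _ rfl; exact ⟨rs, hrs, hker⟩
  obtain ⟨rs', hrs', hker'⟩ := key (U.1.ι ''ᵁ ⊤) (Scheme.Opens.ι_image_top _)
  have hkerT : RingHom.ker ((i ∣_ U.1).app ⊤).hom = Ideal.ofList rs' :=
    (Groth.Agent.H9.ker_morphismRestrict_app i U.1 ⊤).trans hker'
  have hat' : RegImm.IsRegularImmersionAt RegImm.Kind.quasi (i ∣_ U.1) ⟨z, hzU⟩ :=
    ⟨⟨⊤, hT⟩, trivial, inferInstance, rs', hrs', hkerT⟩
  have hflat' : Flat ((i ∣_ U.1) ≫ U.1.ι ≫ f) := by
    rw [morphismRestrict_ι_assoc]; infer_instance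
  haveI hlfp_i : LocallyOfFinitePresentation (i ∣_ U.1) := by
    apply lfp_of_closedImmersion_affine
    rw [hkerT]
    exact Submodule.fg_span (List.finite_toSet rs')
  have hA := flat_stalkMap_of_quasiRegularAt (i ∣_ U.1) (U.1.ι ≫ f) hflat' ⟨z, hzU⟩ hat'
  obtain ⟨U'', hU'', hzU'', gs, hgs, hkerU''⟩ :=
    exists_affine_regular_of_quasiRegularAt (i ∣_ U.1) (U.1.ι ≫ f) hflat' ⟨z, hzU⟩ hat'
  have hpt : U.1.ι ((i ∣_ U.1) ⟨z, hzU⟩) = i z := ι_morphismRestrict_apply i U.1 ⟨z, hzU⟩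
  refine ⟨flat_stalkMap_congr f hpt ((flat_stalkMap_comp_left U.1.ι f _).mp hA), ?_⟩
  refine ⟨⟨U.1.ι ''ᵁ U'', hU''.image_of_isOpenImmersion U.1.ι⟩, ?_, ?_, gs, hgs, ?_⟩
  · rw [← hpt]
    exact ⟨_, hzU'', rfl⟩
  · exact (MorphismProperty.arrow_mk_iso_iff @IsClosedImmersion
      (morphismRestrictRestrict i U.1 U'')).mp inferInstance
  · exact (Groth.Agent.H9.ker_morphismRestrict_app i U.1 U'').symm.trans
      ((Scheme.Hom.ker_apply (i ∣_ U.1) ⟨U'', hU''⟩).symm.trans hkerU'')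

/-- `H₁`-regular at a point ⇒ quasi-regular at that point. -/
theorem quasiAt_of_h1At (i : Z ⟶ X) (z : Z)
    (h : RegImm.IsRegularImmersionAt RegImm.Kind.h1 i z) :
    RegImm.IsRegularImmersionAt RegImm.Kind.quasi i z := by
  obtain ⟨U, hzU, hcl, rs, hrs, hker⟩ := h
  exact ⟨U, hzU, hcl, rs, Groth.Agent.S2103.result rs.get hrs, hker⟩

end Groth.Agent.H79.RelH1Sch
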