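import Mathlib
import Groth.Prelude.Def_BlowUp2
import Groth.Prelude.Def_Mor2
import Groth.Prelude.Def_Flat
import Groth.Agent.H79.FibreRegSch2
import Groth.Agent.H79.TransRegSch
import Groth.Agent.H79.FibreCartier
import Groth.Agent.H79.RegSpreadSch
import Groth.Agent.H79.RelH1Sch
import Groth.Agent.H70.SmoothFibreDim
import Groth.Agent.H54.SchemeDim2
import Groth.Agent.H52.IsolatedPt
import Groth.Agent.H52.Codim0Qf
import Groth.Agent.H7.DedekindOpen

/-!
# Relative effective Cartier divisors on a smooth relative curve (helper79)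

Tools for: on `f : X ⟶ S` smooth of relative dimension one, a closed subscheme `D` flat over `S`
is an effective Cartier divisor iff `D ⟶ S` is locally quasi-finite (and l.f.p.).
-/

set_option autoImplicit false
set_option linter.unusedVariables false
set_option linter.style.haveILetI false
set_option linter.unusedSectionVars false

universe u

open CategoryTheory CategoryTheory.Limits AlgebraicGeometry TopologicalSpace

namespace Groth.Agent.H79.CurveDiv

open RingTheory.Sequence

/-- Every point of a fibre `f.fiber s` is `f.asFiber x` for some `x` (induction principle). -/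
theorem fiber_induction {X S : Scheme.{u}} (f : X ⟶ S)
    {motive : ∀ s : S, ↥(f.fiber s) → Prop}
    (h : ∀ x : X, motive (f x) (f.asFiber x)) (s : S) (y : ↥(f.fiber s)) : motive s y := by
  have hs : f (f.fiberι s y) = s := by
    have h1 : f.fiberι s y ∈ Set.range (f.fiberι s) := ⟨y, rfl⟩
    rw [f.range_fiberι] at h1
    exact h1
  obtain ⟨x, hx⟩ : ∃ x, x = f.fiberι s y := ⟨_, rfl⟩
  rw [← hx] at hs
  subst hs
  have h2 : y = f.asFiber x :=
    (f.fiberι (f x)).isEmbedding.injective (by rw [f.fiberι_asFiber]; exact hx.symm)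
  rw [h2]; exact h x

/-- The local rings of the fibres of a morphism smooth of relative dimension one are principal
ideal domains. -/
theorem fiberStalk_pid {X S : Scheme.{u}} (f : X ⟶ S) [SmoothOfRelativeDimension 1 f] (s : S)
    (y : ↥(f.fiber s)) :
    ∃ (_ : IsDomain ((f.fiber s).presheaf.stalk y)),
      IsPrincipalIdealRing ((f.fiber s).presheaf.stalk y) := by
  refine fiber_induction f (motive := fun s y =>
    ∃ (_ : IsDomain ((f.fiber s).presheaf.stalk y)),
      IsPrincipalIdealRing ((f.fiber s).presheaf.stalk y)) ?_ s y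
  intro x
  haveI : Smooth f := SmoothOfRelativeDimension.smooth 1 f
  haveI : IsRegularLocalRing ((f.fiber (f x)).presheaf.stalk (f.asFiber x)) :=
    Groth.Agent.H79.RegSpreadSch.isRegularLocalRing_fiberStalk_of_smooth f x
  apply Groth.Agent.H7.isDomain_isPrincipalIdealRing_of_regular_dim_le_one
  have h1 : FlatMor.localDim (f.fiber (f x)) (f.asFiber x) = ((1 : ℕ) : WithBot ℕ∞) :=
    Groth.Agent.H70.SmoothFibreDim.fibreDimAt_eq 1 f x
  haveI : LocallyOfFinitePresentation f := inferInstance
  haveI : LocallyOfFiniteType f := inferInstance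
  haveI : LocallyOfFiniteType (f.fiberToSpecResidueField (f x)) := by
    unfold Scheme.Hom.fiberToSpecResidueField
    exact MorphismProperty.pullback_snd (P := @LocallyOfFiniteType) _ _ inferInstance
  have hfin := Groth.Agent.H54.coheight_ne_top (k := S.residueField (f x))
    (f.fiberToSpecResidueField (f x)) (f.asFiber x)
  obtain ⟨b, hb⟩ := ENat.ne_top_iff_exists.mp hfin
  have h2 := Groth.Agent.H54.localDim_eq (k := S.residueField (f x))
    (f.fiberToSpecResidueField (f x)) (f.asFiber x) b hb.symm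
  rw [h1] at h2
  have h3 : 1 = Groth.Agent.H54.tdeg (k := S.residueField (f x))
    (f.fiberToSpecResidueField (f x)) (f.asFiber x) + b := by exact_mod_cast h2
  rw [ringKrullDim_stalk_eq_coheight, ← hb]
  have h4 : b ≤ 1 := by omega
  exact_mod_cast h4

/-- the fibre of the closed subscheme as a closed subscheme of the fibre -/
instance isClosedImmersion_fiberMap {X Y S : Scheme.{u}} (u : Y ⟶ X) (g : X ⟶ S)
    [IsClosedImmersion u] (s : S) : IsClosedImmersion (CInt.fiberMap u g s) :=
  MorphismProperty.of_isPullback (P := @IsClosedImmersion)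
    (Groth.Agent.H79.TransRegSch.isPullback_fiberMap u g s) inferInstance

/-- **Spreading out from the fibre** for the closed subscheme of an ideal sheaf: a regular
sequence generating the ideal of `D_s` in the local ring of `X_s` lifts to a regular sequence of
the same length generating the ideal sheaf on an affine neighbourhood. -/
theorem exists_affine_regular_of_fibre_ker {X S : Scheme.{u}} (f : X ⟶ S)
    [LocallyOfFinitePresentation f] [Flat f] (I : X.IdealSheafData)
    [Flat (I.subschemeι ≫ f)] [LocallyOfFinitePresentation (I.subschemeι ≫ f)]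
    (z : I.subscheme)
    (rs : List ((f.fiber ((I.subschemeι ≫ f) z)).presheaf.stalk
      (CInt.fiberMap I.subschemeι f ((I.subschemeι ≫ f) z) ((I.subschemeι ≫ f).asFiber z))))
    (hrs : IsRegular ((f.fiber ((I.subschemeι ≫ f) z)).presheaf.stalk
      (CInt.fiberMap I.subschemeι f ((I.subschemeι ≫ f) z) ((I.subschemeι ≫ f).asFiber z))) rs)
    (hker : RingHom.ker ((CInt.fiberMap I.subschemeι f ((I.subschemeι ≫ f) z)).stalkMap
      ((I.subschemeι ≫ f).asFiber z)).hom = Ideal.ofList rs) :
    ∃ (U : X.Opens) (hU : IsAffineOpen U), I.subschemeι z ∈ U ∧ ∃ gs : List Γ(X, U),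
      gs.length = rs.length ∧ IsRegular Γ(X, U) gs ∧ I.ideal ⟨U, hU⟩ = Ideal.ofList gs := by
  have hflatp : (f.stalkMap (I.subschemeι (((I.subschemeι ≫ f).fiberι ((I.subschemeι ≫ f) z))
      ((I.subschemeι ≫ f).asFiber z)))).hom.Flat :=
    (Flat.iff_flat_stalkMap f).mp inferInstance _
  obtain ⟨U, hU, hxU, gs, hlen, hgs, hk⟩ :=
    Groth.Agent.H79.FibreRegSch.exists_affine_regular_of_fibre' f I.subschemeι
      ((I.subschemeι ≫ f) z) ((I.subschemeι ≫ f).fiberι ((I.subschemeι ≫ f) z))
      (CInt.fiberMap I.subschemeι f ((I.subschemeι ≫ f) z))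
      (Groth.Agent.H79.TransRegSch.isPullback_fiberMap I.subschemeι f ((I.subschemeι ≫ f) z))
      ((I.subschemeι ≫ f).asFiber z) rs hrs hker hflatp
  rw [Scheme.Hom.fiberι_asFiber] at hxU
  refine ⟨U, hU, hxU, gs, hlen, hgs, ?_⟩
  rw [← hk, I.ker_subschemeι]

/-- On a relative curve, the ideal of a flat l.f.p. locally quasi-finite closed subscheme does not
vanish in the fibre local rings. -/
theorem fibre_ker_ne_bot_of_lqf {X S : Scheme.{u}} (f : X ⟶ S) [SmoothOfRelativeDimension 1 f]
    (I : X.IdealSheafData) [LocallyQuasiFinite (I.subschemeι ≫ f)]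
    [Flat (I.subschemeι ≫ f)] [LocallyOfFinitePresentation (I.subschemeι ≫ f)]
    (z : I.subscheme) :
    RingHom.ker ((CInt.fiberMap I.subschemeι f ((I.subschemeι ≫ f) z)).stalkMap
      ((I.subschemeι ≫ f).asFiber z)).hom ≠ ⊥ := by
  intro h0
  haveI : Smooth f := SmoothOfRelativeDimension.smooth 1 f
  haveI : LocallyOfFinitePresentation f := inferInstance
  haveI : LocallyOfFiniteType f := inferInstance
  haveI : Flat f := inferInstance
  obtain ⟨U, hU, hxU, gs, hlen, hgs, hk⟩ := exists_affine_regular_of_fibre_ker f I z []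
    (IsRegular.nil _ _) (by rw [h0, Ideal.ofList_nil])
  have hgs0 : gs = [] := List.length_eq_zero_iff.mp hlen
  rw [hgs0, Ideal.ofList_nil] at hk
  have hinj : Function.Injective (I.subschemeι.stalkMap z).hom := by
    rw [RingHom.injective_iff_ker_eq_bot,
      Groth.Agent.H9.ker_stalkMap_of_isClosedImmersion I.subschemeι ⟨U, hU⟩ z hxU,
      I.ker_subschemeι, hk, Ideal.map_bot]
  have hsurj : Function.Surjective (I.subschemeι.stalkMap z).hom :=
    I.subschemeι.stalkMap_surjective z
  haveI hiso : IsIso (I.subschemeι.stalkMap z) :=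
    (ConcreteCategory.isIso_iff_bijective _).mpr ⟨hinj, hsurj⟩
  have hq : (I.subschemeι ≫ f).QuasiFiniteAt z := (I.subschemeι ≫ f).quasiFiniteAt z
  have hq' : f.QuasiFiniteAt (I.subschemeι z) := by
    unfold Scheme.Hom.QuasiFiniteAt at hq ⊢
    rw [Scheme.Hom.stalkMap_comp] at hq
    exact (RingHom.QuasiFinite.respectsIso.cancel_right_isIso _ _).mp hq
  have hopen := Scheme.Hom.quasiFiniteAt_iff_isOpen_singleton_asFiber.mp hq'
  have h0 := Groth.Agent.H52.localDim_eq_zero_of_isOpen_singleton _ hopen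
  have h1 : FlatMor.localDim (f.fiber (f (I.subschemeι z))) (f.asFiber (I.subschemeι z)) =
      ((1 : ℕ) : WithBot ℕ∞) := Groth.Agent.H70.SmoothFibreDim.fibreDimAt_eq 1 f _
  rw [h0] at h1
  exact absurd h1 (by norm_num)

/-- **Quasi-finite flat l.f.p. closed subschemes of a relative curve are effective Cartier.** -/
theorem effCartier_of_lqf {X S : Scheme.{u}} (f : X ⟶ S) [SmoothOfRelativeDimension 1 f]
    (I : X.IdealSheafData) [LocallyQuasiFinite (I.subschemeι ≫ f)]
    [Flat (I.subschemeι ≫ f)] [LocallyOfFinitePresentation (I.subschemeι ≫ f)] :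
    BlowUp.IsEffCartierIdeal I := by
  haveI : Smooth f := SmoothOfRelativeDimension.smooth 1 f
  haveI : LocallyOfFinitePresentation f := inferInstance
  haveI : Flat f := inferInstance
  intro x
  by_cases hx : x ∈ I.support
  · obtain ⟨z, rfl⟩ : ∃ z, I.subschemeι z = x := by
      have : x ∈ Set.range I.subschemeι := by rw [I.range_subschemeι]; exact hx
      exact this
    obtain ⟨hdom, hpid⟩ := fiberStalk_pid f ((I.subschemeι ≫ f) z)
      (CInt.fiberMap I.subschemeι f ((I.subschemeι ≫ f) z) ((I.subschemeι ≫ f).asFiber z))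
    have hKbot := fibre_ker_ne_bot_of_lqf f I z
    have hKtop : RingHom.ker ((CInt.fiberMap I.subschemeι f ((I.subschemeι ≫ f) z)).stalkMap
        ((I.subschemeι ≫ f).asFiber z)).hom ≠ ⊤ := RingHom.ker_ne_top _
    obtain ⟨t, ht⟩ : ∃ t, RingHom.ker
        ((CInt.fiberMap I.subschemeι f ((I.subschemeι ≫ f) z)).stalkMap
          ((I.subschemeι ≫ f).asFiber z)).hom = Ideal.span {t} :=
      ⟨_, ((IsPrincipalIdealRing.principal _).span_singleton_generator).symm⟩
    have ht0 : t ≠ 0 := by
      rintro rfl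
      apply hKbot
      rw [ht, Ideal.span_singleton_eq_bot]
    have hreg : IsRegular ((f.fiber ((I.subschemeι ≫ f) z)).presheaf.stalk
        (CInt.fiberMap I.subschemeι f ((I.subschemeι ≫ f) z)
          ((I.subschemeι ≫ f).asFiber z))) [t] := by
      refine ⟨(isWeaklyRegular_singleton_iff _ t).mpr ?_, ?_⟩
      · exact (IsRegular.of_ne_zero ht0).isSMulRegular
      · rw [Ideal.ofList_singleton]
        intro h
        apply hKtop
        rw [ht]
        rw [smul_eq_mul, Ideal.mul_top] at h
        exact h.symm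
    obtain ⟨U, hU, hxU, gs, hlen, hgs, hk⟩ := exists_affine_regular_of_fibre_ker f I z [t] hreg
      (by rw [Ideal.ofList_singleton]; exact ht)
    obtain ⟨g, rfl⟩ : ∃ g, gs = [g] := List.length_eq_one_iff.mp hlen
    refine ⟨⟨U, hU⟩, hxU, g, ?_, by rw [hk, Ideal.ofList_singleton]⟩
    exact Groth.Agent.H79.FibreCartier.mem_nonZeroDivisors_of_isSMulRegular
      ((isWeaklyRegular_singleton_iff _ g).mp hgs.toIsWeaklyRegular)
  · obtain ⟨U, hxU, hU⟩ := Groth.Agent.H79.FibreCartier.exists_ideal_eq_top I x hx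
    exact ⟨U, hxU, 1, one_mem _, by rw [hU, Ideal.span_singleton_one]⟩

/-- the closed immersion of an effective Cartier divisor is locally of finite presentation -/
theorem lfp_subschemeι_of_effCartier {X : Scheme.{u}} (I : X.IdealSheafData)
    (hI : BlowUp.IsEffCartierIdeal I) : LocallyOfFinitePresentation I.subschemeι := by
  choose U hxU g hg hUg using hI
  apply IsZariskiLocalAtTarget.of_iSup_eq_top (P := @LocallyOfFinitePresentation)
    (fun x => (U x).1)
  · exact eq_top_iff.mpr fun x _ => Opens.mem_iSup.mpr ⟨x, hxU x⟩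
  · intro x
    haveI : IsAffine (U x).1.toScheme := (U x).2
    apply Groth.Agent.H79.RelH1Sch.lfp_of_closedImmersion_affine
    have key : ∀ U' : X.Opens, U' = (U x).1 → (RingHom.ker (I.subschemeι.app U').hom).FG := by
      rintro _ rfl
      rw [I.ker_subschemeι_app (U x), hUg x]
      exact ⟨{g x}, by simp⟩
    rw [Groth.Agent.H9.ker_morphismRestrict_app I.subschemeι (U x).1 ⊤]
    exact key _ (Scheme.Opens.ι_image_top _)

/-- a ring-level lemma: a proper nonzero quotient of a principal ideal domain has dimension 0 -/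
theorem ringKrullDim_quotient_eq_zero_of_pid {R : Type u} [CommRing R] [IsDomain R]
    [IsPrincipalIdealRing R] (K : Ideal R) (h0 : K ≠ ⊥) (h1 : K ≠ ⊤) :
    ringKrullDim (R ⧸ K) = 0 := by
  haveI : Nontrivial (R ⧸ K) := Ideal.Quotient.nontrivial_iff.mpr h1
  haveI : Ring.KrullDimLE 0 (R ⧸ K) := by
    rw [Ring.krullDimLE_zero_iff]
    intro P hP
    have hsurj : Function.Surjective (Ideal.Quotient.mk K) := Ideal.Quotient.mk_surjective
    have hcp : (P.comap (Ideal.Quotient.mk K)).IsPrime := Ideal.comap_isPrime _ P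
    have hne : P.comap (Ideal.Quotient.mk K) ≠ ⊥ := by
      intro hb
      apply h0
      rw [eq_bot_iff, ← hb]
      intro a ha
      rw [Ideal.mem_comap, Ideal.Quotient.eq_zero_iff_mem.mpr ha]
      exact P.zero_mem
    have hmax : (P.comap (Ideal.Quotient.mk K)).IsMaximal := hcp.isMaximal hne
    rcases Ideal.map_eq_top_or_isMaximal_of_surjective (Ideal.Quotient.mk K) hsurj hmax with h | h
    · rw [Ideal.map_comap_of_surjective _ hsurj] at h
      exact absurd h hP.ne_top
    · rwa [Ideal.map_comap_of_surjective _ hsurj] at h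
  exact ringKrullDimZero_iff_ringKrullDim_eq_zero.mp inferInstance

/-- An effective Cartier ideal does not vanish on any nonempty affine open. -/
theorem ideal_ne_bot_of_effCartier {X : Scheme.{u}} (I : X.IdealSheafData)
    (hI : BlowUp.IsEffCartierIdeal I) (x : X) (U : X.Opens) (hU : IsAffineOpen U) (hxU : x ∈ U) :
    I.ideal ⟨U, hU⟩ ≠ ⊥ := by
  intro hk
  obtain ⟨U₀, hxU₀, g, hg, hU₀g⟩ := hI x
  obtain ⟨W, hW, hxW, hWle⟩ := exists_isAffineOpen_mem_and_subset (x := x) (U := U ⊓ U₀.1)
    ⟨hxU, hxU₀⟩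
  have hWU : W ≤ U := fun a ha => (hWle ha).1
  have hWU₀ : W ≤ U₀.1 := fun a ha => (hWle ha).2
  have h1 : I.ideal ⟨W, hW⟩ = ⊥ := by
    rw [← I.map_ideal (U := ⟨W, hW⟩) (V := ⟨U, hU⟩) hWU, hk, Ideal.map_bot]
  have h2 : I.ideal ⟨W, hW⟩ = Ideal.span {(X.presheaf.map (homOfLE hWU₀).op).hom g} := by
    rw [← I.map_ideal (U := ⟨W, hW⟩) (V := U₀) hWU₀, hU₀g, Ideal.map_span, Set.image_singleton]
    rfl
  rw [h1] at h2
  have h3 : (X.presheaf.map (homOfLE hWU₀).op).hom g = 0 := Ideal.span_singleton_eq_bot.mp h2.symm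
  have hle : W ≤ (𝟙 X) ⁻¹ᵁ U₀.1 := hWU₀
  have hflat : ((𝟙 X : X ⟶ X).appLE U₀.1 W hle).hom.Flat :=
    Scheme.Hom.flat_appLE (𝟙 X) U₀.2 hW hle
  letI := ((𝟙 X : X ⟶ X).appLE U₀.1 W hle).hom.toAlgebra
  haveI : Module.Flat Γ(X, U₀.1) Γ(X, W) := hflat
  have hsm : IsSMulRegular Γ(X, W) g := Module.Flat.isSMulRegular_of_nonZeroDivisors hg
  have h4 : algebraMap Γ(X, U₀.1) Γ(X, W) g = 0 := by
    refine Eq.trans ?_ h3
    show ((𝟙 X : X ⟶ X).appLE U₀.1 W hle).hom g = _
    rw [Scheme.Hom.appLE]
    simp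
    rfl
  haveI : Nontrivial Γ(X, W) := @Scheme.component_nontrivial _ _ ⟨⟨x, hxW⟩⟩
  have h5 : (1 : Γ(X, W)) = 0 := hsm (by simp [Algebra.smul_def, h4])
  exact one_ne_zero h5

/-- the ideal of a flat effective Cartier divisor does not vanish in the fibre local rings -/
theorem fibre_ker_ne_bot_of_effCartier {X S : Scheme.{u}} (f : X ⟶ S)
    [LocallyOfFinitePresentation f] [Flat f]
    (I : X.IdealSheafData) (hI : BlowUp.IsEffCartierIdeal I)
    [Flat (I.subschemeι ≫ f)] [LocallyOfFinitePresentation (I.subschemeι ≫ f)]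
    (z : I.subscheme) :
    RingHom.ker ((CInt.fiberMap I.subschemeι f ((I.subschemeι ≫ f) z)).stalkMap
      ((I.subschemeι ≫ f).asFiber z)).hom ≠ ⊥ := by
  intro h0
  obtain ⟨U, hU, hxU, gs, hlen, hgs, hk⟩ := exists_affine_regular_of_fibre_ker f I z []
    (IsRegular.nil _ _) (by rw [h0, Ideal.ofList_nil])
  have hgs0 : gs = [] := List.length_eq_zero_iff.mp hlen
  rw [hgs0, Ideal.ofList_nil] at hk
  exact ideal_ne_bot_of_effCartier I hI _ U hU hxU hk

/-- the local rings of the fibres of `D ⟶ S` have dimension zero as soon as the ideal of `D`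
does not vanish in the fibre local rings of the relative curve -/
theorem ringKrullDim_fibre_stalk_eq_zero {X S : Scheme.{u}} (f : X ⟶ S)
    [SmoothOfRelativeDimension 1 f] (I : X.IdealSheafData)
    (hK : ∀ z : I.subscheme,
      RingHom.ker ((CInt.fiberMap I.subschemeι f ((I.subschemeι ≫ f) z)).stalkMap
        ((I.subschemeι ≫ f).asFiber z)).hom ≠ ⊥)
    (s : S) (w : ↥((I.subschemeι ≫ f).fiber s)) :
    ringKrullDim (((I.subschemeι ≫ f).fiber s).presheaf.stalk w) = 0 := by
  refine fiber_induction (I.subschemeι ≫ f) (motive := fun s w =>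
    ringKrullDim (((I.subschemeι ≫ f).fiber s).presheaf.stalk w) = 0) ?_ s w
  intro z
  obtain ⟨hdom, hpid⟩ := fiberStalk_pid f ((I.subschemeι ≫ f) z)
    (CInt.fiberMap I.subschemeι f ((I.subschemeι ≫ f) z) ((I.subschemeι ≫ f).asFiber z))
  have hsurj : Function.Surjective
      ((CInt.fiberMap I.subschemeι f ((I.subschemeι ≫ f) z)).stalkMap
        ((I.subschemeι ≫ f).asFiber z)).hom :=
    (CInt.fiberMap I.subschemeι f ((I.subschemeι ≫ f) z)).stalkMap_surjective _
  rw [← ringKrullDim_eq_of_ringEquiv (RingHom.quotientKerEquivOfSurjective hsurj)]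
  exact ringKrullDim_quotient_eq_zero_of_pid _ (hK z) (RingHom.ker_ne_top _)

/-- **A flat effective Cartier divisor on a relative curve is quasi-finite and l.f.p. over the
base.** -/
theorem lqf_lfp_of_effCartier {X S : Scheme.{u}} (f : X ⟶ S) [SmoothOfRelativeDimension 1 f]
    (I : X.IdealSheafData) (hI : BlowUp.IsEffCartierIdeal I) [Flat (I.subschemeι ≫ f)] :
    LocallyQuasiFinite (I.subschemeι ≫ f) ∧ LocallyOfFinitePresentation (I.subschemeι ≫ f) := by
  haveI : Smooth f := SmoothOfRelativeDimension.smooth 1 f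
  haveI : LocallyOfFinitePresentation f := inferInstance
  haveI : Flat f := inferInstance
  haveI : LocallyOfFinitePresentation I.subschemeι := lfp_subschemeι_of_effCartier I hI
  haveI hlfp : LocallyOfFinitePresentation (I.subschemeι ≫ f) := inferInstance
  haveI : LocallyOfFiniteType (I.subschemeι ≫ f) := inferInstance
  refine ⟨?_, hlfp⟩
  apply LocallyQuasiFinite.of_fiberToSpecResidueField
  intro s
  haveI : LocallyOfFiniteType ((I.subschemeι ≫ f).fiberToSpecResidueField s) := by
    unfold Scheme.Hom.fiberToSpecResidueField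
    exact MorphismProperty.pullback_snd (P := @LocallyOfFiniteType) _ _ inferInstance
  rw [← Scheme.Hom.quasiFiniteLocus_eq_top_iff]
  refine top_unique fun w _ => ?_
  exact Groth.Agent.H52.quasiFiniteAt_of_fibre_codim_zero _ w (fun w' _ =>
    ringKrullDim_fibre_stalk_eq_zero f I (fibre_ker_ne_bot_of_effCartier f I hI) s w')

end Groth.Agent.H79.CurveDiv
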