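import Groth.Agent.S1702
import Groth.Agent.H79.CurveDiv
import Groth.Agent.H4.ProperOver2
import Groth.Prelude.Def_Mor2
import Mathlib.AlgebraicGeometry.ZariskisMainTheorem

/-!
# Sum of finite locally free divisors on a relative curve: finiteness, flatness, presentation
-/

set_option autoImplicit false
universe u
open CategoryTheory CategoryTheory.Limits AlgebraicGeometry

namespace Groth.Agent.H79.DivSum

instance isClosedImmersion_inclusion {X : Scheme.{u}} {I J : X.IdealSheafData} (h : I ≤ J) :
    IsClosedImmersion (Scheme.IdealSheafData.inclusion h) := by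
  have h1 : IsClosedImmersion (Scheme.IdealSheafData.inclusion h ≫ I.subschemeι) := by
    rw [Scheme.IdealSheafData.inclusion_subschemeι]; infer_instance
  exact IsClosedImmersion.of_comp (Scheme.IdealSheafData.inclusion h) I.subschemeι

/-- finite locally free divisors on a relative curve are relative effective Cartier -/
theorem effCartier_of_finLocFree {X S : Scheme.{u}} (f : X ⟶ S) [SmoothOfRelativeDimension 1 f]
    (I : X.IdealSheafData) (h : Mor2.IsFinLocFree (I.subschemeι ≫ f)) :
    BlowUp.IsEffCartierIdeal I := by
  obtain ⟨hfin, hflat, hlfp⟩ := h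
  have := hfin; have := hflat; have := hlfp
  have : LocallyQuasiFinite (I.subschemeι ≫ f) := inferInstance
  exact Groth.Agent.H79.CurveDiv.effCartier_of_lqf f I

/-- A closed subscheme of `X` whose support is covered by two closed subschemes finite over `S`,
and which is locally quasi-finite over `S`, is finite over `S`. -/
theorem isFinite_of_le {X S : Scheme.{u}} (f : X ⟶ S) (I₁ I₂ I : X.IdealSheafData)
    (hle₁ : I ≤ I₁) (hle₂ : I ≤ I₂) (hsupp : I.support ≤ I₁.support ⊔ I₂.support)
    [IsFinite (I₁.subschemeι ≫ f)] [IsFinite (I₂.subschemeι ≫ f)]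
    [LocallyQuasiFinite (I.subschemeι ≫ f)] [LocallyOfFiniteType (I.subschemeι ≫ f)] :
    IsFinite (I.subschemeι ≫ f) := by
  let T' : Bool → Scheme.{u} := fun b => cond b I₁.subscheme I₂.subscheme
  let j : ∀ b, T' b ⟶ I.subscheme := fun b =>
    Bool.rec (motive := fun b => T' b ⟶ I.subscheme)
      (Scheme.IdealSheafData.inclusion hle₂) (Scheme.IdealSheafData.inclusion hle₁) b
  have hj : ∀ b, IsClosedImmersion (j b) := fun b => by
    cases b
    · exact isClosedImmersion_inclusion hle₂
    · exact isClosedImmersion_inclusion hle₁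
  have hjuc : ∀ b, UniversallyClosed (j b) := fun b => by have := hj b; infer_instance
  have hjsep : ∀ b, IsSeparated (j b ≫ I.subschemeι ≫ f) := fun b => by
    cases b
    · have e : j false ≫ I.subschemeι ≫ f = I₂.subschemeι ≫ f := by
        rw [← Category.assoc]; congr 1; exact Scheme.IdealSheafData.inclusion_subschemeι hle₂
      rw [e]; infer_instance
    · have e : j true ≫ I.subschemeι ≫ f = I₁.subschemeι ≫ f := by
        rw [← Category.assoc]; congr 1; exact Scheme.IdealSheafData.inclusion_subschemeι hle₁
      rw [e]; infer_instance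
  have hjucc : ∀ b, UniversallyClosed (j b ≫ I.subschemeι ≫ f) := fun b => by
    cases b
    · have e : j false ≫ I.subschemeι ≫ f = I₂.subschemeι ≫ f := by
        rw [← Category.assoc]; congr 1; exact Scheme.IdealSheafData.inclusion_subschemeι hle₂
      rw [e]; infer_instance
    · have e : j true ≫ I.subschemeι ≫ f = I₁.subschemeι ≫ f := by
        rw [← Category.assoc]; congr 1; exact Scheme.IdealSheafData.inclusion_subschemeι hle₁
      rw [e]; infer_instance
  have hsurj : ∀ t : I.subscheme, ∃ b, t ∈ Set.range (j b) := by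
    intro t
    have ht : I.subschemeι t ∈ I.support := by
      rw [← SetLike.mem_coe, ← I.range_subschemeι]; exact ⟨t, rfl⟩
    have hinj : Function.Injective I.subschemeι := I.subschemeι.isEmbedding.injective
    rcases hsupp ht with h | h
    · rw [← I₁.range_subschemeι] at h
      obtain ⟨t₁, ht₁⟩ := h
      refine ⟨true, t₁, hinj ?_⟩
      rw [← ht₁, ← Scheme.Hom.comp_apply]
      exact congrArg (fun φ : I₁.subscheme ⟶ X => φ t₁)
        (Scheme.IdealSheafData.inclusion_subschemeι hle₁)
    · rw [← I₂.range_subschemeι] at h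
      obtain ⟨t₂, ht₂⟩ := h
      refine ⟨false, t₂, hinj ?_⟩
      rw [← ht₂, ← Scheme.Hom.comp_apply]
      exact congrArg (fun φ : I₂.subscheme ⟶ X => φ t₂)
        (Scheme.IdealSheafData.inclusion_subschemeι hle₂)
  have hsep : IsSeparated (I.subschemeι ≫ f) :=
    Groth.Agent.H4.isSeparated_of_family j (I.subschemeι ≫ f) hsurj
  have huc : UniversallyClosed (I.subschemeι ≫ f) :=
    Groth.Agent.H4.universallyClosed_of_family j (I.subschemeι ≫ f) hsurj
  have hprop : IsProper (I.subschemeι ≫ f) := {}
  exact IsFinite.of_isProper_of_locallyQuasiFinite _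

end Groth.Agent.H79.DivSum
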