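import Groth.Agent.H79.DivRank
import Groth.Agent.H79.DivSum
import Mathlib.AlgebraicGeometry.Morphisms.FlatRank

/-!
# Additivity of the degree for sums of divisors on a relative curve (scheme level)
-/

set_option autoImplicit false
universe u
open CategoryTheory CategoryTheory.Limits AlgebraicGeometry

namespace Groth.Agent.H79.DivRankSch

/-- the pullback square of a morphism over an affine open of the base, in `Spec` form -/
theorem isPullback_fromSpec {Y S : Scheme.{u}} (g : Y ⟶ S) {V : S.Opens} (hV : IsAffineOpen V)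
    (hW : IsAffineOpen (g ⁻¹ᵁ V)) :
    IsPullback hW.fromSpec (Spec.map (g.app V)) g hV.fromSpec := by
  have hsq : Spec.map (g.app V) ≫ hV.fromSpec = hW.fromSpec ≫ g := by
    have := IsAffineOpen.SpecMap_appLE_fromSpec g hV hW le_rfl
    rwa [← Scheme.Hom.app_eq_appLE] at this
  refine (isPullback_morphismRestrict g V).flip.of_iso hW.isoSpec (Iso.refl _) hV.isoSpec
    (Iso.refl _) ?_ ?_ ?_ ?_
  · rw [Iso.refl_hom, Category.comp_id, ← hW.isoSpec_inv_ι, Iso.hom_inv_id_assoc]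
  · rw [← cancel_mono hV.isoSpec.inv, ← cancel_mono V.ι]
    simp only [Category.assoc, Iso.hom_inv_id, Category.comp_id]
    rw [morphismRestrict_ι, hV.isoSpec_inv_ι, hsq, ← hW.isoSpec_inv_ι, Category.assoc,
      Iso.hom_inv_id_assoc]
  · simp
  · rw [Iso.refl_hom, Category.comp_id, ← hV.isoSpec_inv_ι, Iso.hom_inv_id_assoc]

theorem flat_app {Y S : Scheme.{u}} (g : Y ⟶ S) [IsAffineHom g] [Flat g]
    {V : S.Opens} (hV : IsAffineOpen V) : (g.app V).hom.Flat := by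
  have hW : IsAffineOpen (g ⁻¹ᵁ V) := hV.preimage g
  have := HasRingHomProperty.appLE (P := @Flat) g inferInstance ⟨V, hV⟩ ⟨g ⁻¹ᵁ V, hW⟩ le_rfl
  rwa [← Scheme.Hom.app_eq_appLE] at this

/-- the rank of a finite flat morphism, computed on an affine open of the base -/
theorem finrank_eq_rankAtStalk {Y S : Scheme.{u}} (g : Y ⟶ S) [IsFinite g] [Flat g]
    {V : S.Opens} (hV : IsAffineOpen V) (s : S) (hs : s ∈ V) :
    g.finrank s = (g.app V).hom.finrank (hV.primeIdealOf ⟨s, hs⟩) := by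
  have hW : IsAffineOpen (g ⁻¹ᵁ V) := hV.preimage g
  have h1 := Scheme.Hom.finrank_of_isPullback _ _ _ _ (isPullback_fromSpec g hV hW)
    (hV.primeIdealOf ⟨s, hs⟩)
  rw [hV.fromSpec_primeIdealOf] at h1
  rw [← h1, Scheme.Hom.finrank_SpecMap_eq_finrank (IsFinite.finite_app g V hV) (flat_app g hV)]

/-- the local structure of a pair of closed subschemes `D₁, D₂` of `D` with `D = D₁ + D₂` -/
def LocStr {D D₁ D₂ : Scheme.{u}} (j₁ : D₁ ⟶ D) (j₂ : D₂ ⟶ D) (U : D.affineOpens) : Prop :=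
  ∃ a₁ a₂ : Γ(D, U.1), j₁.ker.ideal U = Ideal.span {a₁} ∧ j₂.ker.ideal U = Ideal.span {a₂} ∧
    a₁ * a₂ = 0 ∧ ∀ r : Γ(D, U.1), r * a₁ = 0 → r ∈ Ideal.span {a₂}

theorem LocStr.basicOpen {D D₁ D₂ : Scheme.{u}} {j₁ : D₁ ⟶ D} {j₂ : D₂ ⟶ D} {U : D.affineOpens}
    (h : LocStr j₁ j₂ U) (g : Γ(D, U.1)) : LocStr j₁ j₂ (D.affineBasicOpen g) := by
  obtain ⟨a₁, a₂, h₁, h₂, h12, hann⟩ := h
  have := U.2.isLocalization_basicOpen g
  refine ⟨algebraMap Γ(D, U.1) Γ(D, D.basicOpen g) a₁, algebraMap Γ(D, U.1) Γ(D, D.basicOpen g) a₂,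
    ?_, ?_, ?_, ?_⟩
  · rw [← j₁.ker.map_ideal_basicOpen U g, h₁, Ideal.map_span, Set.image_singleton]
    rfl
  · rw [← j₂.ker.map_ideal_basicOpen U g, h₂, Ideal.map_span, Set.image_singleton]
    rfl
  · show (algebraMap Γ(D, U.1) Γ(D, D.basicOpen g) a₁ *
      algebraMap Γ(D, U.1) Γ(D, D.basicOpen g) a₂ : Γ(D, D.basicOpen g)) = 0
    rw [← map_mul, h12, map_zero]
  · intro r hr
    exact Groth.Agent.H79.DivRank.ann_away (R' := Γ(D, D.basicOpen g)) g a₁ a₂ hann r hr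

theorem fp_app {Y S : Scheme.{u}} (g : Y ⟶ S) [IsAffineHom g] [LocallyOfFinitePresentation g]
    {V : S.Opens} (hV : IsAffineOpen V) : (g.app V).hom.FinitePresentation := by
  have hW : IsAffineOpen (g ⁻¹ᵁ V) := hV.preimage g
  have := HasRingHomProperty.appLE (P := @LocallyOfFinitePresentation) g inferInstance ⟨V, hV⟩
    ⟨g ⁻¹ᵁ V, hW⟩ le_rfl
  rwa [← Scheme.Hom.app_eq_appLE] at this

/-- **Additivity of the degree** for `D = D₁ + D₂` (in the sense of the local structure). -/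
theorem finrank_add {D D₁ D₂ S : Scheme.{u}} (g : D ⟶ S) (j₁ : D₁ ⟶ D) (j₂ : D₂ ⟶ D)
    [IsClosedImmersion j₁] [IsClosedImmersion j₂] [IsFinite g] [Flat g]
    [LocallyOfFinitePresentation g] [Flat (j₁ ≫ g)] [Flat (j₂ ≫ g)]
    [LocallyOfFinitePresentation (j₁ ≫ g)]
    (hloc : ∀ z : D, ∃ U : D.affineOpens, z ∈ U.1 ∧ LocStr j₁ j₂ U)
    (s : S) : g.finrank s = (j₁ ≫ g).finrank s + (j₂ ≫ g).finrank s := by
  obtain ⟨V, hV, hsV, -⟩ := exists_isAffineOpen_mem_and_subset (x := s) (U := ⊤) trivial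
  have hW : IsAffineOpen (g ⁻¹ᵁ V) := hV.preimage g
  have : IsFinite (j₁ ≫ g) := inferInstance
  have : IsFinite (j₂ ≫ g) := inferInstance
  rw [finrank_eq_rankAtStalk g hV s hsV, finrank_eq_rankAtStalk (j₁ ≫ g) hV s hsV,
    finrank_eq_rankAtStalk (j₂ ≫ g) hV s hsV]
  have hc₁ : ((j₁ ≫ g).app V).hom = (j₁.app (g ⁻¹ᵁ V)).hom.comp (g.app V).hom := by
    rw [Scheme.Hom.comp_app]; rfl
  have hc₂ : ((j₂ ≫ g).app V).hom = (j₂.app (g ⁻¹ᵁ V)).hom.comp (g.app V).hom := by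
    rw [Scheme.Hom.comp_app]; rfl
  have hF₁ := flat_app (j₁ ≫ g) hV
  have hF₂ := flat_app (j₂ ≫ g) hV
  have hP₁ := fp_app (j₁ ≫ g) hV
  rw [hc₁] at hF₁ hP₁ ⊢
  rw [hc₂] at hF₂ ⊢
  refine Groth.Agent.H79.DivRank.ringHom_finrank_add (g.app V).hom (j₁.app (g ⁻¹ᵁ V)).hom
    (j₂.app (g ⁻¹ᵁ V)).hom (j₁.app_surjective _ hW) (j₂.app_surjective _ hW)
    (IsFinite.finite_app g V hV) (flat_app g hV) (fp_app g hV) hF₁ hF₂ hP₁ ?_ _
  intro q hq
  have hzW : hW.fromSpec ⟨q, hq⟩ ∈ g ⁻¹ᵁ V := by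
    rw [← SetLike.mem_coe, ← hW.range_fromSpec]; exact ⟨_, rfl⟩
  obtain ⟨U, hzU, hU⟩ := hloc (hW.fromSpec ⟨q, hq⟩)
  obtain ⟨f₀, g', heq, hz⟩ := exists_basicOpen_le_affine_inter hW U.2 _ ⟨hzW, hzU⟩
  have hf₀ : f₀ ∉ q := by
    have h1 : (⟨q, hq⟩ : PrimeSpectrum Γ(D, g ⁻¹ᵁ V)) ∈ hW.fromSpec ⁻¹ᵁ D.basicOpen f₀ := hz
    rw [hW.fromSpec_preimage_basicOpen] at h1
    exact h1
  have hU' : LocStr j₁ j₂ (D.affineBasicOpen (U := ⟨g ⁻¹ᵁ V, hW⟩) f₀) := by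
    have e : D.affineBasicOpen (U := ⟨g ⁻¹ᵁ V, hW⟩) f₀ = D.affineBasicOpen g' := Subtype.ext heq
    rw [e]; exact hU.basicOpen g'
  obtain ⟨a₁, a₂, h₁, h₂, h12, hann⟩ := hU'
  have := hW.isLocalization_basicOpen f₀
  refine ⟨f₀, hf₀, Γ(D, D.basicOpen f₀), inferInstance, inferInstance, this, a₁, a₂, ?_, ?_, h12,
    hann⟩
  · refine Eq.trans ?_ h₁
    rw [← j₁.ker.map_ideal_basicOpen ⟨g ⁻¹ᵁ V, hW⟩ f₀, Scheme.Hom.ker_apply]
    rfl
  · refine Eq.trans ?_ h₂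
    rw [← j₂.ker.map_ideal_basicOpen ⟨g ⁻¹ᵁ V, hW⟩ f₀, Scheme.Hom.ker_apply]
    rfl

end Groth.Agent.H79.DivRankSch
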