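import Groth.Agent.H79.DivRankSch

/-!
# Sum of finite locally free divisors on a relative curve: the degree is additive
-/

set_option autoImplicit false
universe u
open CategoryTheory CategoryTheory.Limits AlgebraicGeometry

namespace Groth.Agent.H79.DivSumDeg

open Groth.Agent.H79.DivRankSch Groth.Agent.H79.DivSum

/-- the kernel of the inclusion `V(I') ⟶ V(I)` on the preimage of an affine open -/
theorem ker_inclusion_app {X : Scheme.{u}} {I I' : X.IdealSheafData} (hle : I ≤ I')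
    (U : X.affineOpens) :
    RingHom.ker ((Scheme.IdealSheafData.inclusion hle).app (I.subschemeι ⁻¹ᵁ U.1)).hom =
      (I'.ideal U).map (I.subschemeι.app U.1).hom := by
  have e := Scheme.IdealSheafData.inclusion_subschemeι hle
  have h1 : RingHom.ker ((Scheme.IdealSheafData.inclusion hle ≫ I.subschemeι).app U.1).hom =
      I'.ideal U := by
    rw [Scheme.Hom.congr_app e U.1, CommRingCat.hom_comp, RingHom.ker_comp_of_injective]
    · exact I'.ker_subschemeι_app U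
    · exact (ConcreteCategory.bijective_of_isIso _).1
  have h2 : RingHom.ker (((Scheme.IdealSheafData.inclusion hle).app (I.subschemeι ⁻¹ᵁ U.1)).hom.comp
      (I.subschemeι.app U.1).hom) = I'.ideal U := h1
  rw [← RingHom.comap_ker] at h2
  rw [← h2, Ideal.map_comap_of_surjective _ (I.subschemeι_app_surjective U)]

/-- the local structure of `V(I₁) , V(I₂) ⊆ V(I₁ I₂)` for effective Cartier ideals -/
theorem locStr_inclusion {X : Scheme.{u}} (I₁ I₂ : X.IdealSheafData)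
    (hc₁ : BlowUp.IsEffCartierIdeal I₁) (hc₂ : BlowUp.IsEffCartierIdeal I₂)
    (hle₁ : I₁ * I₂ ≤ I₁) (hle₂ : I₁ * I₂ ≤ I₂) (z : (I₁ * I₂).subscheme) :
    ∃ U : (I₁ * I₂).subscheme.affineOpens, z ∈ U.1 ∧
      LocStr (Scheme.IdealSheafData.inclusion hle₁) (Scheme.IdealSheafData.inclusion hle₂) U := by
  obtain ⟨U, hxU, -, ⟨t₁, ht₁, hI₁⟩, ⟨t₂, ht₂, hI₂⟩⟩ :=
    Groth.Agent.H9.exists_affine_isPrincipalNZD₂ hc₁ hc₂ ⊤ ((I₁ * I₂).subschemeι z) trivial
  refine ⟨⟨(I₁ * I₂).subschemeι ⁻¹ᵁ U.1, U.2.preimage _⟩, hxU,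
    ((I₁ * I₂).subschemeι.app U.1).hom t₁, ((I₁ * I₂).subschemeι.app U.1).hom t₂, ?_, ?_, ?_, ?_⟩
  · rw [Scheme.Hom.ker_apply]
    refine (ker_inclusion_app hle₁ U).trans ?_
    rw [hI₁, Ideal.map_span, Set.image_singleton]
  · rw [Scheme.Hom.ker_apply]
    refine (ker_inclusion_app hle₂ U).trans ?_
    rw [hI₂, Ideal.map_span, Set.image_singleton]
  · rw [← map_mul, ← RingHom.mem_ker, (I₁ * I₂).ker_subschemeι_app U,
      Scheme.IdealSheafData.ideal_mul, Pi.mul_apply, hI₁, hI₂,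
      Ideal.span_singleton_mul_span_singleton]
    exact Ideal.mem_span_singleton_self _
  · intro r hr
    refine Groth.Agent.H79.DivRank.ann_quot ((I₁ * I₂).subschemeι.app U.1).hom
      ((I₁ * I₂).subschemeι_app_surjective U) t₁ t₂ ?_ ht₁ r hr
    rw [(I₁ * I₂).ker_subschemeι_app U, Scheme.IdealSheafData.ideal_mul, Pi.mul_apply, hI₁, hI₂,
      Ideal.span_singleton_mul_span_singleton]

/-- **Sum of finite locally free divisors on a relative curve.** -/
theorem finLocFree_mul {X S : Scheme.{u}} (f : X ⟶ S) [SmoothOfRelativeDimension 1 f]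
    (I₁ I₂ : X.IdealSheafData) (h₁ : Mor2.IsFinLocFree (I₁.subschemeι ≫ f))
    (h₂ : Mor2.IsFinLocFree (I₂.subschemeι ≫ f)) :
    Mor2.IsFinLocFree ((I₁ * I₂).subschemeι ≫ f) ∧
      ∀ s : S, ((I₁ * I₂).subschemeι ≫ f).finrank s =
        (I₁.subschemeι ≫ f).finrank s + (I₂.subschemeι ≫ f).finrank s := by
  have hc₁ := effCartier_of_finLocFree f I₁ h₁
  have hc₂ := effCartier_of_finLocFree f I₂ h₂
  obtain ⟨hfin₁, hflat₁, hlfp₁⟩ := h₁
  obtain ⟨hfin₂, hflat₂, hlfp₂⟩ := h₂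
  obtain ⟨hc, hflat⟩ := Groth.Agent.S1702.result f I₁ I₂ ⟨hc₁, hflat₁⟩ ⟨hc₂, hflat₂⟩
  obtain ⟨hlqf, hlfp⟩ := Groth.Agent.H79.CurveDiv.lqf_lfp_of_effCartier f (I₁ * I₂) hc
  have hle₁ : I₁ * I₂ ≤ I₁ := fun U => (Ideal.mul_le_left : I₁.ideal U * I₂.ideal U ≤ I₁.ideal U)
  have hle₂ : I₁ * I₂ ≤ I₂ := fun U => (Ideal.mul_le_right : I₁.ideal U * I₂.ideal U ≤ I₂.ideal U)
  have hfin : IsFinite ((I₁ * I₂).subschemeι ≫ f) :=
    isFinite_of_le f I₁ I₂ (I₁ * I₂) hle₁ hle₂ (le_of_eq (Scheme.IdealSheafData.support_mul ..))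
  refine ⟨⟨hfin, hflat, hlfp⟩, fun s => ?_⟩
  have e₁ : Scheme.IdealSheafData.inclusion hle₁ ≫ (I₁ * I₂).subschemeι ≫ f = I₁.subschemeι ≫ f := by
    rw [← Category.assoc, Scheme.IdealSheafData.inclusion_subschemeι]
  have e₂ : Scheme.IdealSheafData.inclusion hle₂ ≫ (I₁ * I₂).subschemeι ≫ f = I₂.subschemeι ≫ f := by
    rw [← Category.assoc, Scheme.IdealSheafData.inclusion_subschemeι]
  have : Flat (Scheme.IdealSheafData.inclusion hle₁ ≫ (I₁ * I₂).subschemeι ≫ f) := by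
    rw [e₁]; exact hflat₁
  have : Flat (Scheme.IdealSheafData.inclusion hle₂ ≫ (I₁ * I₂).subschemeι ≫ f) := by
    rw [e₂]; exact hflat₂
  have : LocallyOfFinitePresentation
      (Scheme.IdealSheafData.inclusion hle₁ ≫ (I₁ * I₂).subschemeι ≫ f) := by
    rw [e₁]; exact hlfp₁
  have key := finrank_add ((I₁ * I₂).subschemeι ≫ f) (Scheme.IdealSheafData.inclusion hle₁)
    (Scheme.IdealSheafData.inclusion hle₂) (locStr_inclusion I₁ I₂ hc₁ hc₂ hle₁ hle₂) s
  rw [key, e₁, e₂]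

end Groth.Agent.H79.DivSumDeg
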