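import Groth.Agent.H79.ColonLoc
import Groth.Agent.H79.DivSumDeg
import Groth.Agent.S1710

/-!
# Difference of effective Cartier divisors: the colon ideal sheaf
-/

set_option autoImplicit false
universe u
open CategoryTheory CategoryTheory.Limits AlgebraicGeometry

namespace Groth.Agent.H79.DivDiff

/-- the ideal of an effective Cartier divisor on an affine open is finitely generated -/
theorem ideal_fg_of_effCartier {X : Scheme.{u}} (I : X.IdealSheafData)
    (hI : BlowUp.IsEffCartierIdeal I) (U : X.affineOpens) : (I.ideal U).FG := by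
  have : LocallyOfFinitePresentation I.subschemeι :=
    Groth.Agent.H79.CurveDiv.lfp_subschemeι_of_effCartier I hI
  have hfp := Groth.Agent.H79.DivRankSch.fp_app I.subschemeι U.2
  have hsurj := I.subschemeι_app_surjective U
  rw [← I.ker_subschemeι_app U]
  algebraize [(I.subschemeι.app U.1).hom]
  have h1 := Algebra.FinitePresentation.ker_fG_of_surjective
    (Algebra.ofId Γ(X, U.1) Γ(I.subscheme, I.subschemeι ⁻¹ᵁ U.1)) hsurj
  exact h1

/-- the colon ideal sheaf `(I₂ : I₁)` for `I₁` of finite type -/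
noncomputable def colonSheaf {X : Scheme.{u}} (I₂ I₁ : X.IdealSheafData)
    (hfg : ∀ U : X.affineOpens, (I₁.ideal U).FG) : X.IdealSheafData where
  ideal U := (I₂.ideal U).colon ((I₁.ideal U : Ideal Γ(X, U.1)) : Set Γ(X, U.1))
  map_ideal_basicOpen U f := by
    have := U.2.isLocalization_basicOpen f
    have h := Groth.Agent.H79.ColonLoc.colon_map_away (R' := Γ(X, X.basicOpen f)) f (I₂.ideal U)
      (I₁.ideal U) (hfg U)
    rw [← I₂.map_ideal_basicOpen U f, ← I₁.map_ideal_basicOpen U f]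
    exact h

theorem colonSheaf_ideal {X : Scheme.{u}} (I₂ I₁ : X.IdealSheafData)
    (hfg : ∀ U : X.affineOpens, (I₁.ideal U).FG) (U : X.affineOpens) :
    (colonSheaf I₂ I₁ hfg).ideal U =
      (I₂.ideal U).colon ((I₁.ideal U : Ideal Γ(X, U.1)) : Set Γ(X, U.1)) := rfl

/-- ring level: `((t₁ u) : (t₁)) = (u)` for `t₁` a nonzerodivisor -/
theorem colon_span_singleton {R : Type u} [CommRing R] (t₁ u : R) (ht₁ : t₁ ∈ nonZeroDivisors R) :
    (Ideal.span {t₁ * u}).colon ((Ideal.span {t₁} : Ideal R) : Set R) = Ideal.span {u} := by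
  ext r
  rw [Submodule.mem_colon, Ideal.mem_span_singleton']
  constructor
  · intro h
    have h1 := h t₁ (Ideal.mem_span_singleton_self t₁)
    rw [smul_eq_mul] at h1
    obtain ⟨c, hc⟩ := Ideal.mem_span_singleton'.mp h1
    refine ⟨c, ?_⟩
    have h2 : (c * u - r) * t₁ = 0 := by rw [sub_mul, ← hc]; ring
    exact sub_eq_zero.mp ((mul_right_mem_nonZeroDivisors_eq_zero_iff ht₁).mp h2)
  · rintro ⟨c, rfl⟩ x hx
    obtain ⟨d, rfl⟩ := Ideal.mem_span_singleton'.mp hx
    rw [smul_eq_mul]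
    exact Ideal.mem_span_singleton'.mpr ⟨c * d, by ring⟩

/-- **Difference of effective Cartier divisors.** -/
theorem exists_factor {X : Scheme.{u}} (I₁ I₂ : X.IdealSheafData)
    (hc₁ : BlowUp.IsEffCartierIdeal I₁) (hc₂ : BlowUp.IsEffCartierIdeal I₂) (hle : I₂ ≤ I₁) :
    ∃ I : X.IdealSheafData, BlowUp.IsEffCartierIdeal I ∧ I₁ * I = I₂ := by
  have hfg := ideal_fg_of_effCartier I₁ hc₁
  have key : ∀ x : X, ∃ U : X.affineOpens, x ∈ U.1 ∧ ∃ t₁ u : Γ(X, U.1),
      u ∈ nonZeroDivisors Γ(X, U.1) ∧ I₁.ideal U = Ideal.span {t₁} ∧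
      I₂.ideal U = Ideal.span {t₁ * u} ∧ (colonSheaf I₂ I₁ hfg).ideal U = Ideal.span {u} := by
    intro x
    obtain ⟨U, hxU, -, ⟨t₁, ht₁, hI₁⟩, ⟨t₂, ht₂, hI₂⟩⟩ :=
      Groth.Agent.H9.exists_affine_isPrincipalNZD₂ hc₁ hc₂ ⊤ x trivial
    have h1 : t₂ ∈ Ideal.span {t₁} := by
      rw [← hI₁]; exact hle U (hI₂ ▸ Ideal.mem_span_singleton_self t₂)
    obtain ⟨u, hu⟩ := Ideal.mem_span_singleton'.mp h1
    have hu' : t₂ = t₁ * u := by rw [← hu, mul_comm]
    refine ⟨U, hxU, t₁, u, ?_, hI₁, by rw [hI₂, hu'], ?_⟩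
    · rw [mem_nonZeroDivisors_iff_right]
      intro y hy
      apply (mem_nonZeroDivisors_iff_right.mp ht₂) y
      rw [hu', mul_comm t₁ u, ← mul_assoc, hy, zero_mul]
    · rw [colonSheaf_ideal, hI₁, hI₂, hu']
      exact colon_span_singleton t₁ u ht₁
  choose U hxU t₁ u hu hI₁ hI₂ hI using key
  refine ⟨colonSheaf I₂ I₁ hfg, fun x => ⟨U x, hxU x, u x, hu x, hI x⟩, ?_⟩
  apply Scheme.IdealSheafData.ext_of_iSup_eq_top U
  · exact eq_top_iff.mpr fun x _ => TopologicalSpace.Opens.mem_iSup.mpr ⟨x, hxU x⟩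
  · intro x
    rw [Scheme.IdealSheafData.ideal_mul, Pi.mul_apply, hI₁, hI, hI₂,
      Ideal.span_singleton_mul_span_singleton]

end Groth.Agent.H79.DivDiff
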