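import Groth.Agent.H8.SemilocalFree
import Mathlib.RingTheory.Spectrum.Prime.FreeLocus
import Mathlib.RingTheory.IsTensorProduct
import Mathlib.RingTheory.Flat.Rank
import Mathlib.RingTheory.Finiteness.ModuleFinitePresentation
import Mathlib.RingTheory.Flat.EquationalCriterion
import Mathlib.RingTheory.RingHom.Flat
import Mathlib.RingTheory.Artinian.Module
import Mathlib.RingTheory.Flat.Stability
import Mathlib.RingTheory.LocalRing.ResidueField.Fiber

/-!
# Additivity of the rank for a sum of relative effective Cartier divisors (ring level)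
-/

set_option autoImplicit false
universe u
open TensorProduct

namespace Groth.Agent.H79.DivRank

attribute [local instance] Algebra.TensorProduct.rightAlgebra

/-- **Tower law for invertible modules.** If `B` is a finite flat `A`-algebra and `L` is a finite
flat `B`-module of constant rank one, then `L` and `B` have the same rank over `A` at every prime
of `A`. -/
theorem rankAtStalk_eq_of_rank_one {A B L : Type u} [CommRing A] [CommRing B] [Algebra A B]
    [Module.Finite A B] [Module.Flat A B] [AddCommGroup L] [Module B L] [Module A L]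
    [IsScalarTower A B L] [Module.Finite B L] [Module.Flat B L]
    (hrk : ∀ q : PrimeSpectrum B, Module.rankAtStalk L q = 1) (p : PrimeSpectrum A) :
    Module.rankAtStalk (R := A) L p = Module.rankAtStalk (R := A) B p := by
  have : Module.Finite A L := Module.Finite.trans B L
  have : Module.Flat A L := Module.Flat.trans A B L
  rw [Module.rankAtStalk_eq, Module.rankAtStalk_eq]
  let e := Algebra.IsPushout.cancelBaseChange A p.asIdeal.ResidueField B
    (p.asIdeal.ResidueField ⊗[A] B) L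
  rw [← e.finrank_eq]
  have : IsArtinianRing (p.asIdeal.ResidueField ⊗[A] B) :=
    IsArtinianRing.of_finite p.asIdeal.ResidueField _
  have hrk' : ∀ q : PrimeSpectrum (p.asIdeal.ResidueField ⊗[A] B),
      Module.rankAtStalk ((p.asIdeal.ResidueField ⊗[A] B) ⊗[B] L) q = 1 := fun q => by
    rw [Module.rankAtStalk_baseChange]; exact hrk _
  obtain ⟨hfree, hfr⟩ := Groth.Agent.H8.free_of_rankAtStalk_eq_of_semilocal
    (A := p.asIdeal.ResidueField ⊗[A] B) ((p.asIdeal.ResidueField ⊗[A] B) ⊗[B] L) 1 hrk'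
  have := hfree
  by_cases hnt : Nontrivial (p.asIdeal.ResidueField ⊗[A] B)
  · rw [← Module.finrank_mul_finrank p.asIdeal.ResidueField (p.asIdeal.ResidueField ⊗[A] B)
      ((p.asIdeal.ResidueField ⊗[A] B) ⊗[B] L), hfr hnt, mul_one]
  · rw [not_nontrivial_iff_subsingleton] at hnt
    have : Subsingleton ((p.asIdeal.ResidueField ⊗[A] B) ⊗[B] L) :=
      Module.subsingleton (p.asIdeal.ResidueField ⊗[A] B) _
    rw [Module.finrank_zero_of_subsingleton, Module.finrank_zero_of_subsingleton]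

/-- A module which is locally (at each prime) cyclic with a generator having trivial annihilator is
locally free of rank one. -/
theorem nonempty_equiv_of_locally_cyclic {R M : Type u} [CommRing R] [AddCommGroup M] [Module R M]
    (P : Ideal R) [P.IsPrime] (e : M) (hgen : ∀ x : M, ∃ u ∉ P, ∃ b : R, u • x = b • e)
    (hann : ∀ b : R, b • e = 0 → ∃ v ∉ P, v * b = 0) :
    Nonempty (Localization.AtPrime P ≃ₗ[Localization.AtPrime P]
      LocalizedModule P.primeCompl M) := by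
  let φ : Localization.AtPrime P →ₗ[Localization.AtPrime P] LocalizedModule P.primeCompl M :=
    LinearMap.toSpanSingleton (Localization.AtPrime P) (LocalizedModule P.primeCompl M)
      (LocalizedModule.mk e (1 : P.primeCompl))
  have hφ : ∀ (b : R) (s : P.primeCompl), φ (Localization.mk b s) = LocalizedModule.mk (b • e) s := by
    intro b s
    show Localization.mk b s • LocalizedModule.mk e (1 : P.primeCompl) = _
    rw [LocalizedModule.mk_smul_mk, mul_one]
  refine ⟨LinearEquiv.ofBijective φ ⟨?_, ?_⟩⟩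
  · rw [injective_iff_map_eq_zero]
    intro r hr
    induction r using Localization.induction_on with
    | H bs =>
      obtain ⟨b, s⟩ := bs
      rw [hφ, ← LocalizedModule.zero_mk 1, LocalizedModule.mk_eq] at hr
      obtain ⟨u, hu⟩ := hr
      rw [smul_zero, smul_zero, one_smul, Submonoid.smul_def, smul_smul] at hu
      obtain ⟨v, hv, hvb⟩ := hann _ hu
      rw [Localization.mk_eq_mk', IsLocalization.mk'_eq_zero_iff]
      refine ⟨⟨v, hv⟩ * u, ?_⟩
      rw [Submonoid.coe_mul, mul_assoc]; exact hvb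
  · intro y
    induction y using LocalizedModule.induction_on with
    | h x s =>
      obtain ⟨u, hu, b, hub⟩ := hgen x
      refine ⟨Localization.mk b (⟨u, hu⟩ * s), ?_⟩
      rw [hφ, ← hub]
      exact LocalizedModule.mk_cancel_common_left (⟨u, hu⟩ : P.primeCompl) s x

theorem flat_and_rank_one_of_locally_cyclic {R M : Type u} [CommRing R] [AddCommGroup M]
    [Module R M]
    (h : ∀ P : Ideal R, P.IsPrime → ∃ e : M, (∀ x : M, ∃ u ∉ P, ∃ b : R, u • x = b • e) ∧
      (∀ b : R, b • e = 0 → ∃ v ∉ P, v * b = 0)) :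
    Module.Flat R M ∧ ∀ P : PrimeSpectrum R, Module.rankAtStalk M P = 1 := by
  have key : ∀ (P : Ideal R) [P.IsPrime], Nonempty (Localization.AtPrime P ≃ₗ[Localization.AtPrime P]
      LocalizedModule P.primeCompl M) := fun P hP => by
    obtain ⟨e, hgen, hann⟩ := h P hP
    exact nonempty_equiv_of_locally_cyclic P e hgen hann
  constructor
  · apply Module.flat_of_localized_maximal
    intro P hP
    obtain ⟨ε⟩ := key P
    have h1 : Module.Flat (Localization.AtPrime P) (LocalizedModule P.primeCompl M) :=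
      Module.Flat.of_linearEquiv ε.symm
    exact (Module.flat_iff_of_isLocalization (Localization.AtPrime P) P.primeCompl _).mp h1
  · intro P
    obtain ⟨ε⟩ := key P.asIdeal
    show Module.finrank (Localization.AtPrime P.asIdeal) (LocalizedModule P.asIdeal.primeCompl M) = 1
    rw [← ε.finrank_eq, Module.finrank_self]

/-- **Additivity of ranks.** `B` a finite flat `A`-algebra, `J₁ J₂` ideals with `J₁ J₂ = 0` such that
locally `J₁` is generated by an element whose annihilator is `J₂`; then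
`rk B = rk (B/J₁) + rk (B/J₂)`. -/
theorem rank_add {A B : Type u} [CommRing A] [CommRing B] [Algebra A B] [Module.Finite A B]
    [Module.Flat A B] (J₁ J₂ : Ideal B) [Module.Flat A (B ⧸ J₁)] [Module.Flat A (B ⧸ J₂)]
    [Module.Projective A (B ⧸ J₁)] (h0 : J₁ * J₂ = ⊥) (hfg : J₁.FG)
    (hloc : ∀ q : Ideal B, q.IsPrime → ∃ x₀ ∈ J₁, (∀ x ∈ J₁, ∃ u ∉ q, ∃ b, u * x = b * x₀) ∧
      (∀ b, b * x₀ = 0 → ∃ v ∉ q, v * b ∈ J₂))
    (p : PrimeSpectrum A) :
    Module.rankAtStalk (R := A) B p =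
      Module.rankAtStalk (R := A) (B ⧸ J₁) p + Module.rankAtStalk (R := A) (B ⧸ J₂) p := by
  have hM : Module.IsTorsionBySet B J₁ (J₂ : Set B) := by
    intro x a
    apply Subtype.ext
    have h1 : (x : B) * (a : B) ∈ J₁ * J₂ := Ideal.mul_mem_mul x.2 a.2
    rw [h0] at h1
    exact (mul_comm (a : B) (x : B)).trans (Ideal.mem_bot.mp h1)
  letI : Module (B ⧸ J₂) J₁ := hM.module
  have hsm : ∀ (b : B) (x : J₁), (Ideal.Quotient.mk J₂ b) • x = b • x := fun b x => rfl
  have : IsScalarTower A (B ⧸ J₂) J₁ := by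
    refine ⟨fun a b x => ?_⟩
    obtain ⟨b, rfl⟩ := Ideal.Quotient.mk_surjective b
    have e1 : a • (Ideal.Quotient.mk J₂ b) = Ideal.Quotient.mk J₂ (a • b) := rfl
    rw [e1, hsm, hsm, smul_assoc]
  have : IsScalarTower B (B ⧸ J₂) J₁ := by
    refine ⟨fun a b x => ?_⟩
    obtain ⟨b, rfl⟩ := Ideal.Quotient.mk_surjective b
    have e1 : a • (Ideal.Quotient.mk J₂ b) = Ideal.Quotient.mk J₂ (a • b) := rfl
    rw [e1, hsm, hsm, smul_assoc]
  have : Module.Finite B J₁ := Module.Finite.iff_fg.mpr hfg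
  have : Module.Finite (B ⧸ J₂) J₁ := Module.Finite.of_restrictScalars_finite B (B ⧸ J₂) J₁
  obtain ⟨hflat, hrk⟩ := flat_and_rank_one_of_locally_cyclic (R := B ⧸ J₂) (M := J₁) (by
    intro P hP
    have hq : (P.comap (Ideal.Quotient.mk J₂)).IsPrime := Ideal.comap_isPrime _ P
    obtain ⟨x₀, hx₀, hgen, hann⟩ := hloc _ hq
    refine ⟨⟨x₀, hx₀⟩, ?_, ?_⟩
    · intro x
      obtain ⟨u, hu, b, hub⟩ := hgen x.1 x.2
      refine ⟨Ideal.Quotient.mk J₂ u, hu, Ideal.Quotient.mk J₂ b, ?_⟩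
      rw [hsm, hsm]
      exact Subtype.ext hub
    · intro b hb
      obtain ⟨b, rfl⟩ := Ideal.Quotient.mk_surjective b
      rw [hsm] at hb
      have hb' : b * x₀ = 0 := congrArg Subtype.val hb
      obtain ⟨v, hv, hvb⟩ := hann b hb'
      refine ⟨Ideal.Quotient.mk J₂ v, hv, ?_⟩
      rw [← map_mul, Ideal.Quotient.eq_zero_iff_mem]
      exact hvb)
  have := hflat
  have hT := rankAtStalk_eq_of_rank_one (A := A) (B := B ⧸ J₂) (L := J₁) hrk p
  have : Module.Flat A J₁ := Module.Flat.trans A (B ⧸ J₂) J₁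
  have : Module.Finite A J₁ := Module.Finite.trans (B ⧸ J₂) J₁
  -- splitting
  let π : B →ₗ[A] (B ⧸ J₁) := (Submodule.mkQ J₁).restrictScalars A
  let ι : J₁ →ₗ[A] B := (Submodule.subtype J₁).restrictScalars A
  have hπ : Function.Surjective π := Submodule.mkQ_surjective J₁
  have hι : Function.Injective ι := Subtype.val_injective
  have hex : Function.Exact ι π := by
    intro y
    constructor
    · intro hy
      have : y ∈ J₁ := (Submodule.Quotient.mk_eq_zero J₁).mp hy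
      exact ⟨⟨y, this⟩, rfl⟩
    · rintro ⟨x, rfl⟩
      exact (Submodule.Quotient.mk_eq_zero J₁).mpr x.2
  obtain ⟨σ, hσ⟩ := Module.projective_lifting_property π LinearMap.id hπ
  let ε := (hex.splitSurjectiveEquiv hι ⟨σ, hσ⟩).1
  rw [Module.rankAtStalk_eq_of_equiv ε, Module.rankAtStalk_prod, Pi.add_apply, hT, add_comm]

/-- passing from a presentation on a basic open to the elementwise local structure -/
theorem loc_of_away {B B' : Type u} [CommRing B] [CommRing B'] [Algebra B B'] (g₀ : B)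
    [IsLocalization.Away g₀ B'] (q : Ideal B) [q.IsPrime] (hg₀ : g₀ ∉ q) (J₁ J₂ : Ideal B)
    (a₁ a₂ : B') (h₁ : J₁.map (algebraMap B B') = Ideal.span {a₁})
    (h₂ : J₂.map (algebraMap B B') = Ideal.span {a₂})
    (hann : ∀ r : B', r * a₁ = 0 → r ∈ Ideal.span {a₂}) :
    ∃ x₀ ∈ J₁, (∀ x ∈ J₁, ∃ u ∉ q, ∃ b, u * x = b * x₀) ∧
      (∀ b, b * x₀ = 0 → ∃ v ∉ q, v * b ∈ J₂) := by
  have hpow : ∀ n : ℕ, g₀ ^ n ∉ q := fun n h => hg₀ (Ideal.IsPrime.mem_of_pow_mem inferInstance n h)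
  have hunit : ∀ n : ℕ, IsUnit (algebraMap B B' (g₀ ^ n)) := fun n =>
    IsLocalization.map_units B' (⟨g₀ ^ n, n, rfl⟩ : Submonoid.powers g₀)
  have ha₁ : a₁ ∈ J₁.map (algebraMap B B') := h₁ ▸ Ideal.mem_span_singleton_self a₁
  obtain ⟨⟨⟨x₀, hx₀⟩, ⟨_, n, rfl⟩⟩, hx₀a⟩ :=
    (IsLocalization.mem_map_algebraMap_iff (Submonoid.powers g₀) B').mp ha₁
  simp only at hx₀a
  -- hx₀a : a₁ * algebraMap (g₀ ^ n) = algebraMap x₀
  refine ⟨x₀, hx₀, ?_, ?_⟩
  · intro x hx
    have hx' : algebraMap B B' x ∈ Ideal.span {a₁} := h₁ ▸ Ideal.mem_map_of_mem _ hx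
    obtain ⟨c, hc⟩ := Ideal.mem_span_singleton'.mp hx'
    obtain ⟨b, ⟨_, m, rfl⟩, hbc⟩ := IsLocalization.exists_mk'_eq (Submonoid.powers g₀) c
    have hc' : c * algebraMap B B' (g₀ ^ m) = algebraMap B B' b := by
      rw [← hbc]; exact IsLocalization.mk'_spec B' b _
    have e1 : algebraMap B B' (g₀ ^ (m + n) * x) = algebraMap B B' (b * x₀) := by
      rw [map_mul, map_mul, ← hc, ← hx₀a, ← hc', pow_add, map_mul]; ring
    obtain ⟨⟨_, k, rfl⟩, hk⟩ := (IsLocalization.eq_iff_exists (Submonoid.powers g₀) B').mp e1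
    simp only at hk
    refine ⟨g₀ ^ k * g₀ ^ (m + n), ?_, g₀ ^ k * b, ?_⟩
    · rw [← pow_add]; exact hpow _
    · rw [mul_assoc, hk, mul_assoc]
  · intro b hb
    have e0 : algebraMap B B' b * a₁ = 0 := by
      have h3 : algebraMap B B' b * a₁ * algebraMap B B' (g₀ ^ n) = 0 := by
        rw [mul_assoc, hx₀a, ← map_mul, hb, map_zero]
      exact (hunit n).mul_left_eq_zero.mp h3
    have h4 : algebraMap B B' b ∈ J₂.map (algebraMap B B') := h₂ ▸ hann _ e0
    obtain ⟨⟨⟨y, hy⟩, ⟨_, m, rfl⟩⟩, hym⟩ :=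
      (IsLocalization.mem_map_algebraMap_iff (Submonoid.powers g₀) B').mp h4
    simp only at hym
    have e1 : algebraMap B B' (b * g₀ ^ m) = algebraMap B B' y := by rw [map_mul, hym]
    obtain ⟨⟨_, k, rfl⟩, hk⟩ := (IsLocalization.eq_iff_exists (Submonoid.powers g₀) B').mp e1
    simp only at hk
    refine ⟨g₀ ^ k * g₀ ^ m, ?_, ?_⟩
    · rw [← pow_add]; exact hpow _
    · have : g₀ ^ k * g₀ ^ m * b = g₀ ^ k * y := by rw [← hk]; ring
      rw [this]
      exact J₂.mul_mem_left _ hy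

theorem eq_zero_of_forall_prime {B : Type u} [CommRing B] (x : B)
    (h : ∀ q : Ideal B, q.IsPrime → ∃ u ∉ q, u * x = 0) : x = 0 := by
  let K : Ideal B := LinearMap.ker (LinearMap.toSpanSingleton B B x)
  have hK : ∀ u, u ∈ K ↔ u * x = 0 := fun u => by
    show (LinearMap.toSpanSingleton B B x) u = 0 ↔ _
    rw [LinearMap.toSpanSingleton_apply, smul_eq_mul]
  by_cases htop : K = ⊤
  · have : (1 : B) ∈ K := htop ▸ Submodule.mem_top
    simpa using (hK 1).mp this
  · obtain ⟨m, hm, hKm⟩ := Ideal.exists_le_maximal K htop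
    obtain ⟨u, hu, hux⟩ := h m hm.isPrime
    exact absurd (hKm ((hK u).mpr hux)) hu

/-- annihilators of elements localise -/
theorem ann_away {R R' : Type u} [CommRing R] [CommRing R'] [Algebra R R'] (g : R)
    [IsLocalization.Away g R'] (τ₁ τ₂ : R) (h : ∀ r : R, r * τ₁ = 0 → r ∈ Ideal.span {τ₂})
    (r : R') (hr : r * algebraMap R R' τ₁ = 0) : r ∈ Ideal.span {algebraMap R R' τ₂} := by
  obtain ⟨b, ⟨_, m, rfl⟩, rfl⟩ := IsLocalization.exists_mk'_eq (Submonoid.powers g) r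
  have h1 : algebraMap R R' (b * τ₁) = 0 := by
    have h2 := congrArg (fun y => y * algebraMap R R' (g ^ m)) hr
    simp only [zero_mul] at h2
    rw [map_mul, ← h2, ← IsLocalization.mk'_spec R' b (⟨g ^ m, m, rfl⟩ : Submonoid.powers g)]
    ring
  rw [← map_zero (algebraMap R R')] at h1
  obtain ⟨⟨_, k, rfl⟩, hk⟩ := (IsLocalization.eq_iff_exists (Submonoid.powers g) R').mp h1
  simp only [mul_zero] at hk
  have h3 : g ^ k * b ∈ Ideal.span {τ₂} := h _ (by rw [mul_assoc]; exact hk)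
  obtain ⟨c, hc⟩ := Ideal.mem_span_singleton'.mp h3
  have hu : ∀ n : ℕ, IsUnit (algebraMap R R' (g ^ n)) := fun n =>
    IsLocalization.map_units R' (⟨g ^ n, n, rfl⟩ : Submonoid.powers g)
  rw [← Ideal.unit_mul_mem_iff_mem _ (hu k), ← Ideal.mul_unit_mem_iff_mem _ (hu m), mul_assoc,
    IsLocalization.mk'_spec R' b (⟨g ^ m, m, rfl⟩ : Submonoid.powers g), ← map_mul, ← hc, map_mul]
  exact Ideal.mul_mem_left _ _ (Ideal.mem_span_singleton_self _)

/-- in `R/(t₁t₂)` with `t₁` a nonzerodivisor, the annihilator of `t₁` is `(t₂)` -/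
theorem ann_quot {R R' : Type u} [CommRing R] [CommRing R'] (π : R →+* R')
    (hπ : Function.Surjective π) (t₁ t₂ : R) (hker : RingHom.ker π = Ideal.span {t₁ * t₂})
    (ht₁ : t₁ ∈ nonZeroDivisors R) (r' : R') (hr : r' * π t₁ = 0) :
    r' ∈ Ideal.span {π t₂} := by
  obtain ⟨r, rfl⟩ := hπ r'
  have h1 : r * t₁ ∈ RingHom.ker π := by rw [RingHom.mem_ker, map_mul]; exact hr
  rw [hker] at h1
  obtain ⟨c, hc⟩ := Ideal.mem_span_singleton'.mp h1
  have h2 : (r - c * t₂) * t₁ = 0 := by rw [sub_mul, ← hc]; ring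
  have h3 : r - c * t₂ = 0 := (mul_right_mem_nonZeroDivisors_eq_zero_iff ht₁).mp h2
  rw [sub_eq_zero] at h3
  rw [h3, map_mul]
  exact Ideal.mul_mem_left _ _ (Ideal.mem_span_singleton_self _)

/-- **Additivity of ranks**, with the local structure given on basic opens. -/
theorem rank_add' {A B : Type u} [CommRing A] [CommRing B] [Algebra A B] [Module.Finite A B]
    [Module.Flat A B] (J₁ J₂ : Ideal B) [Module.Flat A (B ⧸ J₁)] [Module.Flat A (B ⧸ J₂)]
    [Module.Projective A (B ⧸ J₁)] (hfg : J₁.FG)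
    (hloc : ∀ q : Ideal B, q.IsPrime → ∃ g₀ ∉ q, ∃ (B' : Type u) (_ : CommRing B')
      (_ : Algebra B B') (_ : IsLocalization.Away g₀ B') (a₁ a₂ : B'),
      J₁.map (algebraMap B B') = Ideal.span {a₁} ∧ J₂.map (algebraMap B B') = Ideal.span {a₂} ∧
      a₁ * a₂ = 0 ∧ ∀ r : B', r * a₁ = 0 → r ∈ Ideal.span {a₂})
    (p : PrimeSpectrum A) :
    Module.rankAtStalk (R := A) B p =
      Module.rankAtStalk (R := A) (B ⧸ J₁) p + Module.rankAtStalk (R := A) (B ⧸ J₂) p := by
  have h0 : J₁ * J₂ = ⊥ := by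
    rw [eq_bot_iff]
    intro x hx
    rw [Ideal.mem_bot]
    apply eq_zero_of_forall_prime
    intro q hq
    obtain ⟨g₀, hg₀, B', _, _, _, a₁, a₂, h₁, h₂, h12, -⟩ := hloc q hq
    have h3 : algebraMap B B' x ∈ (J₁ * J₂).map (algebraMap B B') := Ideal.mem_map_of_mem _ hx
    rw [Ideal.map_mul, h₁, h₂, Ideal.span_singleton_mul_span_singleton, h12,
      Ideal.span_singleton_eq_bot.mpr rfl, Ideal.mem_bot] at h3
    obtain ⟨⟨_, k, rfl⟩, hk⟩ := (IsLocalization.map_eq_zero_iff (Submonoid.powers g₀) B' x).mp h3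
    exact ⟨g₀ ^ k, fun h => hg₀ (Ideal.IsPrime.mem_of_pow_mem hq k h), hk⟩
  refine rank_add J₁ J₂ h0 hfg ?_ p
  intro q hq
  obtain ⟨g₀, hg₀, B', _, _, _, a₁, a₂, h₁, h₂, -, hann⟩ := hloc q hq
  exact loc_of_away g₀ q hg₀ J₁ J₂ a₁ a₂ h₁ h₂ hann

/-- Ring-hom wrapper of `rank_add'`. -/
theorem ringHom_finrank_add {A B B₁ B₂ : Type u} [CommRing A] [CommRing B] [CommRing B₁]
    [CommRing B₂] (φ : A →+* B) (ψ₁ : B →+* B₁) (ψ₂ : B →+* B₂)
    (hψ₁ : Function.Surjective ψ₁) (hψ₂ : Function.Surjective ψ₂)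
    (hfin : φ.Finite) (hflat : φ.Flat) (hfp : φ.FinitePresentation)
    (hflat₁ : (ψ₁.comp φ).Flat) (hflat₂ : (ψ₂.comp φ).Flat) (hfp₁ : (ψ₁.comp φ).FinitePresentation)
    (hloc : ∀ q : Ideal B, q.IsPrime → ∃ g₀ ∉ q, ∃ (B' : Type u) (_ : CommRing B')
      (_ : Algebra B B') (_ : IsLocalization.Away g₀ B') (a₁ a₂ : B'),
      (RingHom.ker ψ₁).map (algebraMap B B') = Ideal.span {a₁} ∧
      (RingHom.ker ψ₂).map (algebraMap B B') = Ideal.span {a₂} ∧
      a₁ * a₂ = 0 ∧ ∀ r : B', r * a₁ = 0 → r ∈ Ideal.span {a₂})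
    (p : PrimeSpectrum A) :
    φ.finrank p = (ψ₁.comp φ).finrank p + (ψ₂.comp φ).finrank p := by
  algebraize [φ]
  obtain ⟨e₁, he₁⟩ : ∃ e : (B ⧸ RingHom.ker ψ₁) ≃+* B₁, ∀ x, e (Ideal.Quotient.mk _ x) = ψ₁ x :=
    ⟨_, RingHom.quotientKerEquivOfSurjective_apply_mk hψ₁⟩
  obtain ⟨e₂, he₂⟩ : ∃ e : (B ⧸ RingHom.ker ψ₂) ≃+* B₂, ∀ x, e (Ideal.Quotient.mk _ x) = ψ₂ x :=
    ⟨_, RingHom.quotientKerEquivOfSurjective_apply_mk hψ₂⟩
  have hc₁ : ψ₁.comp φ = e₁.toRingHom.comp (algebraMap A (B ⧸ RingHom.ker ψ₁)) := by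
    ext a
    exact (he₁ (φ a)).symm
  have hc₂ : ψ₂.comp φ = e₂.toRingHom.comp (algebraMap A (B ⧸ RingHom.ker ψ₂)) := by
    ext a
    exact (he₂ (φ a)).symm
  have hs₁ : algebraMap A (B ⧸ RingHom.ker ψ₁) = e₁.symm.toRingHom.comp (ψ₁.comp φ) := by
    rw [hc₁]; ext a; simp
  have hs₂ : algebraMap A (B ⧸ RingHom.ker ψ₂) = e₂.symm.toRingHom.comp (ψ₂.comp φ) := by
    rw [hc₂]; ext a; simp
  have hF₁ : (algebraMap A (B ⧸ RingHom.ker ψ₁)).Flat := by
    rw [hs₁]; exact RingHom.Flat.comp hflat₁ (RingHom.Flat.of_bijective e₁.symm.bijective)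
  have hF₂ : (algebraMap A (B ⧸ RingHom.ker ψ₂)).Flat := by
    rw [hs₂]; exact RingHom.Flat.comp hflat₂ (RingHom.Flat.of_bijective e₂.symm.bijective)
  have : Module.Flat A (B ⧸ RingHom.ker ψ₁) := RingHom.flat_algebraMap_iff.mp hF₁
  have : Module.Flat A (B ⧸ RingHom.ker ψ₂) := RingHom.flat_algebraMap_iff.mp hF₂
  have hP₁ : (algebraMap A (B ⧸ RingHom.ker ψ₁)).FinitePresentation := by
    rw [hs₁]
    refine RingHom.FinitePresentation.comp ?_ hfp₁
    refine RingHom.FinitePresentation.of_surjective _ e₁.symm.surjective ?_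
    have : RingHom.ker e₁.symm.toRingHom = ⊥ :=
      (RingHom.injective_iff_ker_eq_bot _).mp e₁.symm.injective
    rw [this]; exact Submodule.fg_bot
  have : Algebra.FinitePresentation A (B ⧸ RingHom.ker ψ₁) :=
    RingHom.finitePresentation_algebraMap.mp hP₁
  have : Algebra.FinitePresentation A B := hfp
  have : Module.FinitePresentation A (B ⧸ RingHom.ker ψ₁) :=
    Module.FinitePresentation.of_finite_of_finitePresentation A _
  have : Module.Projective A (B ⧸ RingHom.ker ψ₁) := Module.Flat.projective_of_finitePresentation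
  have hfg : (RingHom.ker ψ₁).FG := by
    have := Algebra.FinitePresentation.ker_fG_of_surjective
      (Ideal.Quotient.mkₐ A (RingHom.ker ψ₁)) (Ideal.Quotient.mkₐ_surjective A _)
    rwa [show RingHom.ker (Ideal.Quotient.mkₐ A (RingHom.ker ψ₁)).toRingHom = RingHom.ker ψ₁ from
      Ideal.mk_ker] at this
  have key := rank_add' (A := A) (RingHom.ker ψ₁) (RingHom.ker ψ₂) hfg hloc p
  have h0 : φ.finrank p = Module.rankAtStalk (R := A) B p := by
    rw [show φ = algebraMap A B from rfl, RingHom.finrank_algebraMap]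
  have h1 : (ψ₁.comp φ).finrank p = Module.rankAtStalk (R := A) (B ⧸ RingHom.ker ψ₁) p := by
    rw [hc₁]
    rw [RingHom.finrank_comp_left_of_bijective (algebraMap A (B ⧸ RingHom.ker ψ₁)) e₁.toRingHom
        e₁.bijective (RingHom.finite_algebraMap.mpr inferInstance) hF₁, RingHom.finrank_algebraMap]
  have h2 : (ψ₂.comp φ).finrank p = Module.rankAtStalk (R := A) (B ⧸ RingHom.ker ψ₂) p := by
    rw [hc₂]
    rw [RingHom.finrank_comp_left_of_bijective (algebraMap A (B ⧸ RingHom.ker ψ₂)) e₂.toRingHom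
        e₂.bijective (RingHom.finite_algebraMap.mpr inferInstance) hF₂, RingHom.finrank_algebraMap]
  rw [h0, h1, h2, key]

end Groth.Agent.H79.DivRank
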