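import Groth.Agent.S1171
import Groth.Agent.S1172
import Groth.Agent.H79.HilbPull
import Groth.Prelude.Def_W4c6dblnestedhilbptsFlags

/-!
# Relative divisors on a smooth relative curve: cancellation and equality from containment
-/

set_option autoImplicit false
universe u
open CategoryTheory CategoryTheory.Limits AlgebraicGeometry

namespace Groth.Agent.H79.DnFlag

variable {X S : Scheme.{u}} (f : X ⟶ S) [SmoothOfRelativeDimension 1 f]

/-- relative divisors are cancellable -/
theorem mul_left_cancel {d : ℕ} (J A B : X.IdealSheafData) (hJ : HilbD.IsDivOfDeg f d J)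
    (h : J * A = J * B) : A = B :=
  Groth.Agent.H79.HilbPull.mul_left_cancel_of_effCartier J A B
    (Groth.Agent.H79.DivSum.effCartier_of_finLocFree f J hJ.1) h

/-- a relative divisor of degree `0` is empty -/
theorem eq_top_of_deg_zero (K : X.IdealSheafData) (hK : HilbD.IsDivOfDeg f 0 K) : K = ⊤ := by
  obtain ⟨⟨hfin, hflat, hlfp⟩, hdeg⟩ := hK
  rw [← K.ker_subschemeι, Scheme.Hom.ker_eq_top_iff_isEmpty]
  constructor
  intro x
  have h1 := Scheme.Hom.one_le_finrank_map (K.subschemeι ≫ f) x
  rw [hdeg] at h1
  exact absurd h1 (by norm_num)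

/-- containment of relative divisors of the same degree is equality -/
theorem eq_of_le_of_deg_eq {d : ℕ} (I I' : X.IdealSheafData) (hle : I ≤ I')
    (hI : HilbD.IsDivOfDeg f d I) (hI' : HilbD.IsDivOfDeg f d I') : I = I' := by
  obtain ⟨K, hK, hIK⟩ := Groth.Agent.S1172.result f I' I hle d d hI' hI
  rw [Nat.sub_self] at hK
  rw [hIK, eq_top_of_deg_zero f K hK, Scheme.IdealSheafData.mul_top]

theorem mul_le_left' (I J : X.IdealSheafData) : I * J ≤ I :=
  fun U => (Ideal.mul_le_right : J.ideal U * I.ideal U ≤ I.ideal U) |> fun h => by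
    rw [Scheme.IdealSheafData.ideal_mul, Pi.mul_apply, mul_comm]; exact h

end Groth.Agent.H79.DnFlag
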