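import Groth.Agent.H79.DnFlag

/-!
# Flags of relative divisors from edge data
-/

set_option autoImplicit false
universe u
open CategoryTheory CategoryTheory.Limits AlgebraicGeometry

namespace Groth.Agent.H79.DnFlag2

open Groth.Agent.H79.DnFlag

variable {X S : Scheme.{u}} (f : X ⟶ S) [SmoothOfRelativeDimension 1 f]
variable {μ : YoungDiagram} (E : HilbD.DnEdgeData μ X)

theorem dep_congr {α : Sort*} (Z : ∀ c : ℕ × ℕ, c ∈ μ → α) {c c' : ℕ × ℕ} (e : c = c')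
    (h : c ∈ μ) (h' : c' ∈ μ) : Z c h = Z c' h' := by
  subst e; rfl

theorem vert_congr {c c' : ℕ × ℕ} (e : c = c') (h₁ : c ∈ μ) (h₂ : 1 ≤ c.1) (h₁' : c' ∈ μ)
    (h₂' : 1 ≤ c'.1) : E.vert c h₁ h₂ = E.vert c' h₁' h₂' := by
  subst e; rfl

theorem horiz_congr {c c' : ℕ × ℕ} (e : c = c') (h₁ : c ∈ μ) (h₂ : 1 ≤ c.2) (h₁' : c' ∈ μ)
    (h₂' : 1 ≤ c'.2) : E.horiz c h₁ h₂ = E.horiz c' h₁' h₂' := by
  subst e; rfl

open Classical in
/-- total version of the vertical steps -/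
noncomputable def vt (c : ℕ × ℕ) : X.IdealSheafData :=
  if h : c ∈ μ ∧ 1 ≤ c.1 then E.vert c h.1 h.2 else ⊤

open Classical in
/-- total version of the horizontal steps -/
noncomputable def hz (c : ℕ × ℕ) : X.IdealSheafData :=
  if h : c ∈ μ ∧ 1 ≤ c.2 then E.horiz c h.1 h.2 else ⊤

theorem vt_eq (c : ℕ × ℕ) (hc : c ∈ μ) (hi : 1 ≤ c.1) : vt E c = E.vert c hc hi := by
  unfold vt; rw [dif_pos ⟨hc, hi⟩]

theorem hz_eq (c : ℕ × ℕ) (hc : c ∈ μ) (hj : 1 ≤ c.2) : hz E c = E.horiz c hc hj := by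
  unfold hz; rw [dif_pos ⟨hc, hj⟩]

/-- the flag: go down the first column, then along the row -/
noncomputable def Zf (i j : ℕ) : X.IdealSheafData :=
  E.base * (∏ a ∈ Finset.range i, vt E (a + 1, 0)) * (∏ b ∈ Finset.range j, hz E (i, b + 1))

theorem Zf_zero : Zf E 0 0 = E.base := by
  unfold Zf; simp

theorem Zf_succ_right (i j : ℕ) : Zf E i (j + 1) = Zf E i j * hz E (i, j + 1) := by
  unfold Zf; rw [Finset.prod_range_succ]; simp only [mul_assoc]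

theorem Zf_succ_zero (i : ℕ) : Zf E (i + 1) 0 = Zf E i 0 * vt E (i + 1, 0) := by
  unfold Zf; simp [Finset.prod_range_succ, mul_assoc]

variable {E}

/-- the commutation relation in total form -/
theorem comm_total (n : ℕ × ℕ → ℕ) (hn : HilbD.IsRevPlanePartition μ n) (hE : E.IsOfType f n)
    (hcomm : ∀ (c : ℕ × ℕ) (hc : c ∈ μ) (hi : 1 ≤ c.1) (hj : 1 ≤ c.2),
      E.gammaOne c hc hi hj ≤ E.gammaTwo c hc hi hj)
    (i j : ℕ) (hc : ((i + 1, j + 1) : ℕ × ℕ) ∈ μ) :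
    vt E (i + 1, j + 1) * hz E (i, j + 1) = hz E (i + 1, j + 1) * vt E (i + 1, j) := by
  have hi : 1 ≤ ((i + 1, j + 1) : ℕ × ℕ).1 := Nat.le_add_left 1 i
  have hj : 1 ≤ ((i + 1, j + 1) : ℕ × ℕ).2 := Nat.le_add_left 1 j
  have hup : ((i, j + 1) : ℕ × ℕ) ∈ μ := HilbD.mem_up hc
  have hleft : ((i + 1, j) : ℕ × ℕ) ∈ μ := HilbD.mem_left hc
  have hul : ((i, j) : ℕ × ℕ) ∈ μ := HilbD.mem_left hup
  have hv : HilbD.IsDivOfDeg f (n (i + 1, j + 1) - n (i, j + 1)) (E.vert (i + 1, j + 1) hc hi) :=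
    hE.2.1 (i + 1, j + 1) hc hi
  have hh_up : HilbD.IsDivOfDeg f (n (i, j + 1) - n (i, j)) (E.horiz (i, j + 1) hup hj) :=
    hE.2.2 (i, j + 1) hup hj
  have hh : HilbD.IsDivOfDeg f (n (i + 1, j + 1) - n (i + 1, j)) (E.horiz (i + 1, j + 1) hc hj) :=
    hE.2.2 (i + 1, j + 1) hc hj
  have hv_left : HilbD.IsDivOfDeg f (n (i + 1, j) - n (i, j)) (E.vert (i + 1, j) hleft hi) :=
    hE.2.1 (i + 1, j) hleft hi
  have g1 := Groth.Agent.S1171.result f _ _ _ _ hv hh_up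
  have g2 := Groth.Agent.S1171.result f _ _ _ _ hh hv_left
  have n1 : n (i, j) ≤ n (i, j + 1) := hn hul hup ⟨le_rfl, Nat.le_succ j⟩
  have n2 : n (i, j + 1) ≤ n (i + 1, j + 1) := hn hup hc ⟨Nat.le_succ i, le_rfl⟩
  have n3 : n (i, j) ≤ n (i + 1, j) := hn hul hleft ⟨Nat.le_succ i, le_rfl⟩
  have n4 : n (i + 1, j) ≤ n (i + 1, j + 1) := hn hleft hc ⟨le_rfl, Nat.le_succ j⟩
  have e1 : n (i + 1, j + 1) - n (i, j + 1) + (n (i, j + 1) - n (i, j)) =
      n (i + 1, j + 1) - n (i, j) := by omega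
  have e2 : n (i + 1, j + 1) - n (i + 1, j) + (n (i + 1, j) - n (i, j)) =
      n (i + 1, j + 1) - n (i, j) := by omega
  rw [e1] at g1
  rw [e2] at g2
  have hle : E.vert (i + 1, j + 1) hc hi * E.horiz (i, j + 1) hup hj ≤
      E.horiz (i + 1, j + 1) hc hj * E.vert (i + 1, j) hleft hi := hcomm (i + 1, j + 1) hc hi hj
  rw [vt_eq E _ hc hi, hz_eq E _ hup hj, hz_eq E _ hc hj, vt_eq E _ hleft hi]
  exact eq_of_le_of_deg_eq f _ _ hle g1 g2

theorem Zf_succ_left (n : ℕ × ℕ → ℕ) (hn : HilbD.IsRevPlanePartition μ n) (hE : E.IsOfType f n)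
    (hcomm : ∀ (c : ℕ × ℕ) (hc : c ∈ μ) (hi : 1 ≤ c.1) (hj : 1 ≤ c.2),
      E.gammaOne c hc hi hj ≤ E.gammaTwo c hc hi hj)
    (i j : ℕ) (hc : ((i + 1, j) : ℕ × ℕ) ∈ μ) : Zf E (i + 1) j = Zf E i j * vt E (i + 1, j) := by
  induction j with
  | zero => exact Zf_succ_zero E i
  | succ j ih =>
    have hleft : ((i + 1, j) : ℕ × ℕ) ∈ μ := HilbD.mem_left hc
    rw [Zf_succ_right, ih hleft, Zf_succ_right, mul_assoc, mul_assoc,
      mul_comm (vt E (i + 1, j)), ← comm_total f n hn hE hcomm i j hc,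
      mul_comm (vt E (i + 1, j + 1))]

theorem Zf_deg (n : ℕ × ℕ → ℕ) (hn : HilbD.IsRevPlanePartition μ n) (hE : E.IsOfType f n)
    (i j : ℕ) (hc : ((i, j) : ℕ × ℕ) ∈ μ) : HilbD.IsDivOfDeg f (n (i, j)) (Zf E i j) := by
  induction j with
  | zero =>
    induction i with
    | zero => rw [Zf_zero]; exact hE.1
    | succ i ih =>
      have hup : ((i, 0) : ℕ × ℕ) ∈ μ := HilbD.mem_up hc
      have hi : 1 ≤ ((i + 1, 0) : ℕ × ℕ).1 := Nat.le_add_left 1 i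
      have hv : HilbD.IsDivOfDeg f (n (i + 1, 0) - n (i, 0)) (E.vert (i + 1, 0) hc hi) :=
        hE.2.1 (i + 1, 0) hc hi
      have g := Groth.Agent.S1171.result f _ _ _ _ (ih hup) hv
      have n1 : n (i, 0) ≤ n (i + 1, 0) := hn hup hc ⟨Nat.le_succ i, le_rfl⟩
      have e : n (i, 0) + (n (i + 1, 0) - n (i, 0)) = n (i + 1, 0) := by omega
      rw [e] at g
      rw [Zf_succ_zero, vt_eq E _ hc hi]
      exact g
  | succ j ih =>
    have hleft : ((i, j) : ℕ × ℕ) ∈ μ := HilbD.mem_left hc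
    have hj : 1 ≤ ((i, j + 1) : ℕ × ℕ).2 := Nat.le_add_left 1 j
    have hh : HilbD.IsDivOfDeg f (n (i, j + 1) - n (i, j)) (E.horiz (i, j + 1) hc hj) :=
      hE.2.2 (i, j + 1) hc hj
    have g := Groth.Agent.S1171.result f _ _ _ _ (ih hleft) hh
    have n1 : n (i, j) ≤ n (i, j + 1) := hn hleft hc ⟨le_rfl, Nat.le_succ j⟩
    have e : n (i, j) + (n (i, j + 1) - n (i, j)) = n (i, j + 1) := by omega
    rw [e] at g
    rw [Zf_succ_right, hz_eq E _ hc hj]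
    exact g

theorem mul_le_self (I J : X.IdealSheafData) : I * J ≤ I := by
  intro U
  rw [Scheme.IdealSheafData.ideal_mul, Pi.mul_apply]
  exact (Ideal.mul_le_left : I.ideal U * J.ideal U ≤ I.ideal U)

theorem Zf_mono_right (i j j' : ℕ) (h : j ≤ j') : Zf E i j' ≤ Zf E i j := by
  induction j', h using Nat.le_induction with
  | base => exact le_rfl
  | succ k _ ih => rw [Zf_succ_right]; exact (mul_le_self _ _).trans ih

theorem Zf_mono_left (n : ℕ × ℕ → ℕ) (hn : HilbD.IsRevPlanePartition μ n) (hE : E.IsOfType f n)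
    (hcomm : ∀ (c : ℕ × ℕ) (hc : c ∈ μ) (hi : 1 ≤ c.1) (hj : 1 ≤ c.2),
      E.gammaOne c hc hi hj ≤ E.gammaTwo c hc hi hj)
    (i i' j : ℕ) (h : i ≤ i') (hc : ((i', j) : ℕ × ℕ) ∈ μ) : Zf E i' j ≤ Zf E i j := by
  induction i', h using Nat.le_induction with
  | base => exact le_rfl
  | succ k _ ih =>
    rw [Zf_succ_left f n hn hE hcomm k j hc]
    exact (mul_le_self _ _).trans (ih (HilbD.mem_up hc))

end Groth.Agent.H79.DnFlag2
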