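import Groth.Agent.H79.DivDiff
import Groth.Agent.S1172
import Groth.Agent.H9.ComapMul
import Mathlib.AlgebraicGeometry.IdealSheaf.Functorial

/-!
# A finite locally free divisor on a proper smooth relative curve is fppf-locally a sum of sections
-/

set_option autoImplicit false
universe u
open CategoryTheory CategoryTheory.Limits AlgebraicGeometry

namespace Groth.Agent.H79.SecSum

/-- the kernel of the flipped base change is the pulled back ideal sheaf -/
theorem ker_snd_eq_comap {Y Y' : Scheme.{u}} (I : Y.IdealSheafData) (h : Y' ⟶ Y) :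
    (pullback.snd I.subschemeι h).ker = I.comap h := by
  unfold Scheme.IdealSheafData.comap
  rw [← Scheme.Hom.ker_comp_of_isIso (pullbackSymmetry I.subschemeι h).hom
    (pullback.fst h I.subschemeι), pullbackSymmetry_hom_comp_fst]

/-- base change of a finite locally free closed subscheme of constant degree -/
theorem finLocFreeOfDeg_comap {C S C' S' : Scheme.{u}} (f : C ⟶ S) (I : C.IdealSheafData) (d : ℕ)
    (hD : Mor2.IsFinLocFreeOfDeg d (I.subschemeι ≫ f)) {h : C' ⟶ C} {p' : C' ⟶ S'} {b : S' ⟶ S}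
    (sq : IsPullback h p' f b) : Mor2.IsFinLocFreeOfDeg d ((I.comap h).subschemeι ≫ p') := by
  obtain ⟨⟨hfin, hflat, hlfp⟩, hdeg⟩ := hD
  have big : IsPullback (pullback.snd h I.subschemeι) (pullback.fst h I.subschemeι ≫ p')
      (I.subschemeι ≫ f) b := (IsPullback.of_hasPullback h I.subschemeι).flip.paste_vert sq
  have e : (I.comap h).subschemeι ≫ p' =
      (I.comapIso h).hom ≫ pullback.fst h I.subschemeι ≫ p' := by
    rw [← Category.assoc, Scheme.IdealSheafData.comapIso_hom_fst]
  have h1 : IsFinite (pullback.fst h I.subschemeι ≫ p') :=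
    MorphismProperty.of_isPullback (P := @IsFinite) big hfin
  have h2 : Flat (pullback.fst h I.subschemeι ≫ p') :=
    MorphismProperty.of_isPullback (P := @Flat) big hflat
  have h3 : LocallyOfFinitePresentation (pullback.fst h I.subschemeι ≫ p') :=
    MorphismProperty.of_isPullback (P := @LocallyOfFinitePresentation) big hlfp
  rw [e]
  refine ⟨⟨inferInstance, inferInstance, inferInstance⟩, fun y => ?_⟩
  rw [Scheme.Hom.finrank_comp_left_of_isIso, Scheme.Hom.finrank_of_isPullback _ _ _ _ big y]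
  exact hdeg _

/-- a section of a separated morphism is a closed subscheme, finite locally free of degree one -/
theorem finLocFreeOfDeg_one_of_section {C S : Scheme.{u}} (p : C ⟶ S) [IsSeparated p] (σ : S ⟶ C)
    (hσ : σ ≫ p = 𝟙 S) :
    IsClosedImmersion σ ∧ Mor2.IsFinLocFreeOfDeg 1 (σ.ker.subschemeι ≫ p) := by
  have h0 : IsClosedImmersion (σ ≫ p) := by rw [hσ]; infer_instance
  have hcl : IsClosedImmersion σ := IsClosedImmersion.of_comp σ p
  refine ⟨hcl, ?_⟩
  have e : σ.ker.subschemeι ≫ p = inv σ.toImage := by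
    rw [← cancel_epi σ.toImage, ← Category.assoc, Scheme.Hom.toImage_imageι, hσ, IsIso.hom_inv_id]
  rw [e]
  exact ⟨⟨inferInstance, inferInstance, inferInstance⟩,
    fun y => congrFun (Scheme.Hom.finrank_eq_one_of_isIso _) y⟩

/-- base change of the kernel of a section is the kernel of the base-changed section -/
theorem comap_ker_section {C S C' S' : Scheme.{u}} {p : C ⟶ S} {h : C' ⟶ C} {p' : C' ⟶ S'}
    {b : S' ⟶ S} (sq : IsPullback h p' p b) (σ : S ⟶ C) (hσ : σ ≫ p = 𝟙 S) [IsClosedImmersion σ]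
    (σ' : S' ⟶ C') (hσ' : σ' ≫ p' = 𝟙 S') (hc : σ' ≫ h = b ≫ σ) :
    σ.ker.comap h = σ'.ker := by
  have outer : IsPullback (σ' ≫ p') b b (σ ≫ p) := by
    rw [hσ', hσ]; exact IsPullback.of_horiz_isIso ⟨by simp⟩
  have left : IsPullback σ' b h σ := IsPullback.of_right outer hc sq.flip
  have left' : IsPullback σ' (b ≫ σ.toImage) h σ.ker.subschemeι := by
    refine IsPullback.of_iso left (Iso.refl _) (Iso.refl _) (asIso σ.toImage) (Iso.refl _)
      ?_ ?_ ?_ ?_
    · simp
    · simp
    · simp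
    · simp [Scheme.Hom.toImage_imageι]
  unfold Scheme.IdealSheafData.comap
  rw [← left'.isoPullback_hom_fst, Scheme.Hom.ker_comp_of_isIso]

/-- pulling back ideal sheaves as a monoid homomorphism -/
noncomputable def comapHom {X Y : Scheme.{u}} (h : X ⟶ Y) : Y.IdealSheafData →* X.IdealSheafData where
  toFun I := I.comap h
  map_one' := Scheme.IdealSheafData.comap_top h
  map_mul' I J := Groth.Agent.H9.comap_mul h I J

theorem comap_prod {X Y : Scheme.{u}} (h : X ⟶ Y) {n : ℕ} (J : Fin n → Y.IdealSheafData) :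
    (∏ i, J i).comap h = ∏ i, (J i).comap h :=
  map_prod (comapHom h) J Finset.univ

/-- **Generalised form**: a finite locally free divisor of degree `d` on a proper smooth relative
curve becomes a sum of `d` sections after an fppf base change. -/
theorem exists_sections (d : ℕ) : ∀ {C S : Scheme.{u}} (f : C ⟶ S) [IsProper f]
    [SmoothOfRelativeDimension 1 f] (I : C.IdealSheafData)
    (_ : Mor2.IsFinLocFreeOfDeg d (I.subschemeι ≫ f)),
    ∃ (S' : Scheme.{u}) (b : S' ⟶ S), Flat b ∧ Surjective b ∧ LocallyOfFinitePresentation b ∧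
      ∃ (C' : Scheme.{u}) (h : C' ⟶ C) (p' : C' ⟶ S') (_ : IsPullback h p' f b)
        (σ : Fin d → (S' ⟶ C')), (∀ i, σ i ≫ p' = 𝟙 S') ∧ I.comap h = ∏ i, (σ i).ker := by
  induction d with
  | zero =>
    intro C S f _ _ I hD
    obtain ⟨⟨hfin, hflat, hlfp⟩, hdeg⟩ := hD
    have hempty : IsEmpty I.subscheme := by
      refine ⟨fun z => ?_⟩
      have h1 := Scheme.Hom.one_le_finrank_map (I.subschemeι ≫ f) z
      rw [hdeg] at h1
      omega
    have hI : I = ⊤ := by
      rw [← I.ker_subschemeι]; exact (Scheme.Hom.ker_eq_top_iff_isEmpty _).mpr hempty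
    refine ⟨S, 𝟙 S, inferInstance, inferInstance, inferInstance, C, 𝟙 C, f,
      IsPullback.of_horiz_isIso ⟨by simp⟩, fun i => i.elim0, fun i => i.elim0, ?_⟩
    rw [Scheme.IdealSheafData.comap_id, hI]
    simp
  | succ d ih =>
    intro C S f _ _ I hD
    have hD' := hD
    obtain ⟨⟨hfin, hflat, hlfp⟩, hdeg⟩ := hD'
    have hsurj : Surjective (I.subschemeι ≫ f) := by
      rw [← Scheme.Hom.one_le_finrank_iff_surjective]
      intro y
      rw [hdeg y]
      exact Nat.le_add_left 1 d
    have sq₁ : IsPullback (pullback.fst f (I.subschemeι ≫ f)) (pullback.snd f (I.subschemeι ≫ f)) f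
        (I.subschemeι ≫ f) := IsPullback.of_hasPullback _ _
    have : IsProper (pullback.snd f (I.subschemeι ≫ f)) := inferInstance
    have : SmoothOfRelativeDimension 1 (pullback.snd f (I.subschemeι ≫ f)) := by
      have := smoothOfRelativeDimension_isStableUnderBaseChange (n := 1)
      exact MorphismProperty.pullback_snd _ _ inferInstance
    have hD₁ := finLocFreeOfDeg_comap f I (d + 1) hD sq₁
    -- the diagonal section
    let σ₀ : I.subscheme ⟶ pullback f (I.subschemeι ≫ f) :=
      pullback.lift I.subschemeι (𝟙 _) (by simp)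
    have hσ₀ : σ₀ ≫ pullback.snd f (I.subschemeι ≫ f) = 𝟙 _ := pullback.lift_snd _ _ _
    obtain ⟨hcl₀, hJ₀⟩ := finLocFreeOfDeg_one_of_section _ σ₀ hσ₀
    have hle : I.comap (pullback.fst f (I.subschemeι ≫ f)) ≤ σ₀.ker := by
      let δ : I.subscheme ⟶ pullback (pullback.fst f (I.subschemeι ≫ f)) I.subschemeι :=
        pullback.lift σ₀ (𝟙 _) (by rw [Category.id_comp]; exact pullback.lift_fst _ _ _)
      have e : σ₀ = δ ≫ pullback.fst _ _ := (pullback.lift_fst _ _ _).symm
      rw [e]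
      exact Scheme.Hom.le_ker_comp δ _
    obtain ⟨I₂, hI₂, hfac⟩ := Groth.Agent.S1172.result (pullback.snd f (I.subschemeι ≫ f)) σ₀.ker
      (I.comap (pullback.fst f (I.subschemeι ≫ f))) hle 1 (d + 1) hJ₀ hD₁
    rw [Nat.add_sub_cancel] at hI₂
    obtain ⟨S₂, b₂, hb₂f, hb₂s, hb₂p, C₂, h₂, p₂, sq₂, σ', hσ', hprod⟩ :=
      ih (pullback.snd f (I.subschemeι ≫ f)) I₂ hI₂
    let σ₀' : S₂ ⟶ C₂ := sq₂.lift (b₂ ≫ σ₀) (𝟙 S₂)
      (by rw [Category.assoc, hσ₀, Category.comp_id, Category.id_comp])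
    have hσ₀'snd : σ₀' ≫ p₂ = 𝟙 S₂ := sq₂.lift_snd _ _ _
    have hσ₀'fst : σ₀' ≫ h₂ = b₂ ≫ σ₀ := sq₂.lift_fst _ _ _
    refine ⟨S₂, b₂ ≫ (I.subschemeι ≫ f), inferInstance, inferInstance, inferInstance, C₂,
      h₂ ≫ pullback.fst f (I.subschemeι ≫ f), p₂, sq₂.paste_horiz sq₁,
      Fin.cons σ₀' σ', ?_, ?_⟩
    · intro i
      refine Fin.cases ?_ (fun j => ?_) i
      · rw [Fin.cons_zero]; exact hσ₀'snd
      · rw [Fin.cons_succ]; exact hσ' j
    · rw [Scheme.IdealSheafData.comap_comp, hfac, Groth.Agent.H9.comap_mul, hprod,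
        comap_ker_section sq₂ σ₀ hσ₀ σ₀' hσ₀'snd hσ₀'fst, Fin.prod_univ_succ]
      simp only [Fin.cons_zero, Fin.cons_succ]

end Groth.Agent.H79.SecSum
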