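import Mathlib
import Groth.Prelude

/-!
# Essentially free morphisms are flat (piece (EA) for S5356, helper79)
-/

set_option autoImplicit false
set_option linter.style.haveILetI false
universe u
open CategoryTheory CategoryTheory.Limits AlgebraicGeometry

namespace Groth.Agent.H79.EssFreeEA

open TensorProduct in
/-- Flatness of ring maps descends along faithfully flat base change. -/
theorem flat_codescendsAlong_faithfullyFlat :
    RingHom.CodescendsAlong RingHom.Flat RingHom.FaithfullyFlat := by
  refine .mk _ RingHom.Flat.respectsIso fun R S T _ _ _ _ _ h h' ↦ ?_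
  rw [RingHom.flat_algebraMap_iff] at h' ⊢
  rw [RingHom.faithfullyFlat_algebraMap_iff] at h
  exact Module.Flat.of_flat_tensorProduct R T S

theorem flat_of_isEssentiallyFree (X S : Scheme.{u}) (f : X ⟶ S)
    (h : SGA3x.IsEssentiallyFree f) : Flat f := by
  haveI : MorphismProperty.DescendsAlong @Flat (@Surjective ⊓ @Flat ⊓ @QuasiCompact) :=
    HasRingHomProperty.descendsAlong_flat flat_codescendsAlong_faithfullyFlat
  choose U hsU hU T hT t htfl htsurj hcov using h
  refine IsZariskiLocalAtTarget.of_iSup_eq_top (P := @Flat) U ?_ fun s => ?_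
  · exact eq_top_iff.mpr fun x _ => TopologicalSpace.Opens.mem_iSup.mpr ⟨x, hsU x⟩
  haveI : IsAffine (T s) := hT s
  haveI : IsAffine ((U s : S.Opens) : Scheme.{u}) := hU s
  haveI : QuasiCompact (t s) := inferInstance
  -- the base change to `T s` is flat
  have hP : Flat (pullback.snd f (t s ≫ (U s).ι)) := by
    choose V hxV hV hproj using hcov s
    refine IsZariskiLocalAtSource.of_iSup_eq_top (P := @Flat) V ?_ fun x => ?_
    · exact eq_top_iff.mpr fun x _ => TopologicalSpace.Opens.mem_iSup.mpr ⟨x, hxV x⟩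
    haveI : IsAffine ((V x : (pullback f (t s ≫ (U s).ι)).Opens) : Scheme.{u}) := hV x
    rw [HasRingHomProperty.iff_of_isAffine (P := @Flat)]
    have := hproj x
    letI := ((V x).ι ≫ pullback.snd f (t s ≫ (U s).ι)).appTop.hom.toAlgebra
    show Module.Flat _ _
    infer_instance
  -- the square relating the base change with the restriction over `U s`
  have right : IsPullback (f ⁻¹ᵁ U s).ι (f ∣_ U s) f (U s).ι :=
    (isPullback_morphismRestrict f (U s)).flip
  let k : pullback f (t s ≫ (U s).ι) ⟶ (f ⁻¹ᵁ U s : X.Opens) :=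
    right.lift (pullback.fst f (t s ≫ (U s).ι)) (pullback.snd f (t s ≫ (U s).ι) ≫ t s)
      (by rw [Category.assoc]; exact pullback.condition)
  have hk1 : k ≫ (f ⁻¹ᵁ U s).ι = pullback.fst f (t s ≫ (U s).ι) := right.lift_fst _ _ _
  have hk2 : k ≫ (f ∣_ U s) = pullback.snd f (t s ≫ (U s).ι) ≫ t s := right.lift_snd _ _ _
  have left : IsPullback k (pullback.snd f (t s ≫ (U s).ι)) (f ∣_ U s) (t s) := by
    refine IsPullback.of_right ?_ hk2 right
    rw [hk1]
    exact IsPullback.of_hasPullback f (t s ≫ (U s).ι)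
  exact MorphismProperty.of_isPullback_of_descendsAlong (P := @Flat)
    (Q := @Surjective ⊓ @Flat ⊓ @QuasiCompact) left.flip ⟨⟨htsurj s, htfl s⟩, inferInstance⟩ hP

end Groth.Agent.H79.EssFreeEA
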