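import Mathlib
import Groth.Prelude
import Groth.Agent.H73.FX_1

/-!
# Essentially free morphisms are stable under base change (piece (ED) for S5356, helper79)
-/

set_option autoImplicit false
set_option linter.style.haveILetI false
universe u
open CategoryTheory CategoryTheory.Limits AlgebraicGeometry

namespace Groth.Agent.H79.EssFreeED

theorem isEssentiallyFree_pullback_snd (X S S' : Scheme.{u}) (f : X ⟶ S) (g : S' ⟶ S)
    (h : SGA3x.IsEssentiallyFree f) : SGA3x.IsEssentiallyFree (pullback.snd f g) := by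
  intro s'
  obtain ⟨U, hsU, hU, T, hT, t, htfl, htsurj, hcov⟩ := h (g s')
  haveI : IsAffine T := hT
  haveI : IsAffine (U : Scheme.{u}) := hU
  -- an affine open neighbourhood of `s'` inside `g⁻¹ U`
  obtain ⟨_, ⟨U'₀, hU', rfl⟩, hsU', hU'U⟩ := S'.isBasis_affineOpens.exists_subset_of_mem_open
    (show s' ∈ ((g ⁻¹ᵁ U : S'.Opens) : Set S') from hsU) (g ⁻¹ᵁ U).isOpen
  let U' : S'.Opens := U'₀
  haveI : IsAffine (U' : Scheme.{u}) := hU'
  have hr : Set.range (U'.ι ≫ g) ⊆ Set.range U.ι := by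
    rintro _ ⟨y, rfl⟩
    rw [Scheme.Opens.range_ι]
    exact hU'U y.2
  let gU : (U' : Scheme.{u}) ⟶ (U : Scheme.{u}) := IsOpenImmersion.lift U.ι (U'.ι ≫ g) hr
  have hgU : gU ≫ U.ι = U'.ι ≫ g := IsOpenImmersion.lift_fac _ _ _
  let T' : Scheme.{u} := pullback t gU
  let t' : T' ⟶ (U' : Scheme.{u}) := pullback.snd t gU
  have ht'fl : Flat t' := MorphismProperty.of_isPullback (P := @Flat)
    (IsPullback.of_hasPullback t gU) htfl
  have ht'surj : Surjective t' := MorphismProperty.of_isPullback (P := @Surjective)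
    (IsPullback.of_hasPullback t gU) htsurj
  refine ⟨U', hsU', hU', T', inferInstance, t', ht'fl, ht'surj, ?_⟩
  intro x'
  -- the comparison map `P' ⟶ P`
  have hbot : (t' ≫ U'.ι) ≫ g = pullback.fst t gU ≫ (t ≫ U.ι) := by
    rw [Category.assoc, ← hgU, ← Category.assoc, ← pullback.condition, Category.assoc]
  have houter : IsPullback
      (pullback.fst (pullback.snd f g) (t' ≫ U'.ι) ≫ pullback.fst f g)
      (pullback.snd (pullback.snd f g) (t' ≫ U'.ι)) f (pullback.fst t gU ≫ (t ≫ U.ι)) := by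
    rw [← hbot]
    exact (IsPullback.of_hasPullback (pullback.snd f g) (t' ≫ U'.ι)).paste_horiz
      (IsPullback.of_hasPullback f g)
  let φ : pullback (pullback.snd f g) (t' ≫ U'.ι) ⟶ pullback f (t ≫ U.ι) :=
    pullback.lift (pullback.fst (pullback.snd f g) (t' ≫ U'.ι) ≫ pullback.fst f g)
      (pullback.snd (pullback.snd f g) (t' ≫ U'.ι) ≫ pullback.fst t gU)
      (by simpa [Category.assoc] using houter.w)
  have hφ1 : φ ≫ pullback.fst f (t ≫ U.ι) =
      pullback.fst (pullback.snd f g) (t' ≫ U'.ι) ≫ pullback.fst f g := pullback.lift_fst _ _ _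
  have hφ2 : φ ≫ pullback.snd f (t ≫ U.ι) =
      pullback.snd (pullback.snd f g) (t' ≫ U'.ι) ≫ pullback.fst t gU := pullback.lift_snd _ _ _
  have hleft : IsPullback φ (pullback.snd (pullback.snd f g) (t' ≫ U'.ι))
      (pullback.snd f (t ≫ U.ι)) (pullback.fst t gU) := by
    refine IsPullback.of_right ?_ hφ2 (IsPullback.of_hasPullback f (t ≫ U.ι))
    rw [hφ1]
    exact houter
  obtain ⟨V, hxV, hV, hproj⟩ := hcov (φ x')
  haveI : IsAffine (V : Scheme.{u}) := hV
  let V' : (pullback (pullback.snd f g) (t' ≫ U'.ι)).Opens := φ ⁻¹ᵁ V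
  have hsq : IsPullback (φ ∣_ V) (V'.ι ≫ pullback.snd (pullback.snd f g) (t' ≫ U'.ι))
      (V.ι ≫ pullback.snd f (t ≫ U.ι)) (pullback.fst t gU) :=
    (isPullback_morphismRestrict φ V).paste_vert hleft
  have hV'aff : IsAffine (V' : Scheme.{u}) := by
    have e := hsq.isoPullback
    exact IsAffine.of_isIso e.hom
  refine ⟨V', hxV, hV'aff, ?_⟩
  haveI := hV'aff
  exact Groth.Agent.H73.FX_1.projective_of_isPullback hsq hproj

end Groth.Agent.H79.EssFreeED
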