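import Mathlib

/-!
# Annihilator of an exterior power and fibre dimension (helper79)

For a finite `R`-module `M`, a prime `p` and `n : ℕ`:
`Ann (⋀ⁿ M) ≤ p ↔ n ≤ dim_{κ(p)} κ(p) ⊗ M`.
-/

set_option autoImplicit false
set_option linter.style.haveILetI false
set_option linter.unusedVariables false
set_option linter.unusedSectionVars false

universe u

open TensorProduct

namespace Groth.Agent.H79.ExtPowAnn

variable {R : Type u} [CommRing R] {M : Type u} [AddCommGroup M] [Module R M]

/-- A finite family of elements of `M` whose images form a basis of `K ⊗ M`. -/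
theorem exists_family (K : Type u) [Field K] [Algebra R K] [Module.Finite R M] :
    ∃ (d : ℕ) (m : Fin d → M), d = Module.finrank K (K ⊗[R] M) ∧
      LinearIndependent K (fun i => (1 : K) ⊗ₜ[R] m i) ∧
      Submodule.span K (Set.range fun i => (1 : K) ⊗ₜ[R] m i) = ⊤ := by
  obtain ⟨κ, a, -, hsp, hli⟩ := exists_linearIndependent' K (fun x : M => (1 : K) ⊗ₜ[R] x)
  have htop : Submodule.span K (Set.range (fun x : M => (1 : K) ⊗ₜ[R] x)) = ⊤ := by
    have h1 := Submodule.baseChange_eq_span (A := K) (⊤ : Submodule R M)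
    rw [Submodule.baseChange_top] at h1
    rw [h1]
    congr 1
    ext y
    simp
  rw [htop] at hsp
  let b := Module.Basis.mk hli hsp.ge
  haveI : Finite κ := Module.Finite.finite_basis b
  let e := Finite.equivFin κ
  refine ⟨Nat.card κ, fun i => a (e.symm i), ?_, ?_, ?_⟩
  · exact (Module.finrank_eq_nat_card_basis b).symm
  · exact hli.comp _ e.symm.injective
  · rw [← hsp]
    congr 1
    ext y
    constructor
    · rintro ⟨i, rfl⟩
      exact ⟨e.symm i, rfl⟩
    · rintro ⟨k, rfl⟩
      exact ⟨e k, by simp⟩

/-- The wedge of `n` vectors lying in the image of `R^d`, `d < n`, vanishes. -/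
theorem ιMulti_eq_zero_of_lt {d n : ℕ} (hdn : d < n) (π : (Fin d → R) →ₗ[R] M)
    (a : Fin n → (Fin d → R)) : exteriorPower.ιMulti R n (fun i => π (a i)) = 0 := by
  have hsub : Subsingleton (⋀[R]^n (Fin d → R)) := by
    haveI : IsEmpty (Set.powersetCard (Fin d) n) := by
      constructor
      rintro ⟨s, hs⟩
      have h1 : s.card = n := hs
      have h2 := Finset.card_le_univ s
      simp only [Fintype.card_fin] at h2
      omega
    let B := (Pi.basisFun R (Fin d)).exteriorPower (n := n)
    exact B.repr.injective.subsingleton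
  have h := exteriorPower.map_apply_ιMulti (n := n) π a
  change exteriorPower.ιMulti R n (⇑π ∘ a) = 0
  rw [← h, Subsingleton.elim (exteriorPower.ιMulti R n a) 0, map_zero]

theorem le_finrank_of_annihilator_le [Module.Finite R M] (p : Ideal R) [p.IsPrime] (n : ℕ)
    (h : (⋀[R]^n M).annihilator ≤ p) :
    n ≤ Module.finrank p.ResidueField (p.ResidueField ⊗[R] M) := by
  classical
  by_contra hlt
  push Not at hlt
  obtain ⟨d, m, hd, -, hspan⟩ := exists_family (R := R) (M := M) p.ResidueField
  rw [← hd] at hlt
  -- `M0 = span m`, `Q = M / M0`, `κ ⊗ Q = 0`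
  let π : (Fin d → R) →ₗ[R] M := Fintype.linearCombination R m
  let M0 : Submodule R M := LinearMap.range π
  have hQ : Subsingleton (p.ResidueField ⊗[R] (M ⧸ M0)) := by
    have hsurj : Function.Surjective (LinearMap.baseChange p.ResidueField M0.mkQ) := by
      change Function.Surjective (LinearMap.lTensor p.ResidueField M0.mkQ)
      exact LinearMap.lTensor_surjective _ M0.mkQ_surjective
    have hzero : LinearMap.baseChange p.ResidueField M0.mkQ = 0 := by
      apply LinearMap.ext_on_range hspan
      intro i
      rw [LinearMap.baseChange_tmul, LinearMap.zero_apply]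
      have : M0.mkQ (m i) = 0 := by
        rw [Submodule.mkQ_apply, Submodule.Quotient.mk_eq_zero]
        exact ⟨Pi.single i 1, by simp [π]⟩
      rw [this, tmul_zero]
    constructor
    intro x y
    obtain ⟨x', rfl⟩ := hsurj x
    obtain ⟨y', rfl⟩ := hsurj y
    rw [hzero]
    rfl
  have hsupp : (⟨p, inferInstance⟩ : PrimeSpectrum R) ∉ Module.support R (M ⧸ M0) := by
    rw [Module.mem_support_iff_nontrivial_residueField_tensorProduct]
    exact not_nontrivial_iff_subsingleton.mpr hQ
  rw [Module.notMem_support_iff'] at hsupp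
  -- a single `s ∉ p` with `s • M ⊆ M0`
  obtain ⟨S, hS⟩ := (Module.finite_def.mp (inferInstance : Module.Finite R M))
  choose r hr hr0 using hsupp
  let s : R := ∏ y ∈ S, r (M0.mkQ y)
  have hsp : s ∉ p := by
    intro hs
    obtain ⟨y, -, hy⟩ := Ideal.IsPrime.prod_mem_iff.mp hs
    exact hr _ hy
  have hsS : ∀ y ∈ S, s • y ∈ M0 := by
    intro y hy
    have h1 : r (M0.mkQ y) • y ∈ M0 := by
      rw [← Submodule.Quotient.mk_eq_zero, Submodule.Quotient.mk_smul]
      exact hr0 (M0.mkQ y)
    have h2 : s = (∏ y' ∈ S.erase y, r (M0.mkQ y')) * r (M0.mkQ y) := by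
      rw [mul_comm]
      exact (Finset.mul_prod_erase S (fun y' => r (M0.mkQ y')) hy).symm
    rw [h2, mul_smul]
    exact M0.smul_mem _ h1
  have hsM : ∀ x : M, s • x ∈ M0 := by
    intro x
    have hx : x ∈ Submodule.span R (S : Set M) := hS ▸ Submodule.mem_top
    induction hx using Submodule.span_induction with
    | mem y hy => exact hsS y hy
    | zero => rw [smul_zero]; exact M0.zero_mem
    | add a b _ _ ha hb => rw [smul_add]; exact M0.add_mem ha hb
    | smul c a _ ha => rw [smul_comm]; exact M0.smul_mem c ha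
  -- `s ^ n` kills `⋀ⁿ M`
  have hkill : ∀ z : ⋀[R]^n M, s ^ n • z = 0 := by
    intro z
    have hz : z ∈ Submodule.span R (Set.range (exteriorPower.ιMulti R n (M := M))) := by
      rw [exteriorPower.ιMulti_span]; exact Submodule.mem_top
    induction hz using Submodule.span_induction with
    | mem y hy =>
      obtain ⟨x, rfl⟩ := hy
      choose a ha using fun i => hsM (x i)
      have h1 : s ^ n • exteriorPower.ιMulti R n x =
          exteriorPower.ιMulti R n (fun i => s • x i) := by
        rw [AlternatingMap.map_smul_univ]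
        simp
      rw [h1]
      have h2 : (fun i => s • x i) = fun i => π (a i) := by
        ext i; exact (ha i).symm
      rw [h2]
      exact ιMulti_eq_zero_of_lt hlt π a
    | zero => rw [smul_zero]
    | add a b _ _ ha hb => rw [smul_add, ha, hb, add_zero]
    | smul c a _ ha => rw [smul_comm, ha, smul_zero]
  have hmem : s ^ n ∈ (⋀[R]^n M).annihilator := by
    rw [Submodule.mem_annihilator]
    intro y hy
    have := hkill ⟨y, hy⟩
    exact congrArg Subtype.val this
  exact hsp (Ideal.IsPrime.mem_of_pow_mem inferInstance n (h hmem))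

theorem annihilator_le_of_le_finrank [Module.Finite R M] (p : Ideal R) [p.IsPrime] (n : ℕ)
    (h : n ≤ Module.finrank p.ResidueField (p.ResidueField ⊗[R] M)) :
    (⋀[R]^n M).annihilator ≤ p := by
  classical
  obtain ⟨d, m, hd, hli, hspan⟩ := exists_family (R := R) (M := M) p.ResidueField
  rw [← hd] at h
  let K := p.ResidueField
  let B : Module.Basis (Fin d) K (K ⊗[R] M) := Module.Basis.mk hli hspan.ge
  have hB : ∀ i, B i = (1 : K) ⊗ₜ[R] m i := fun i => by simp [B]
  let j : Fin n → Fin d := Fin.castLE h
  have hj : Function.Injective j := Fin.castLE_injective h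
  -- `ψ : M → Kⁿ`
  let ψ : M →ₗ[R] (Fin n → K) :=
    (LinearMap.pi fun i => (B.coord (j i)).restrictScalars R) ∘ₗ (TensorProduct.mk R K M 1)
  have hψ : ∀ i i', ψ (m (j i')) i = if i = i' then 1 else 0 := by
    intro i i'
    change B.coord (j i) ((1 : K) ⊗ₜ[R] m (j i')) = _
    rw [← hB, Module.Basis.coord_apply, Module.Basis.repr_self, Finsupp.single_apply]
    by_cases hii : i = i'
    · subst hii; simp
    · have : j i' ≠ j i := fun hne => hii (hj hne).symm
      simp [hii, this]
  let detR : (Fin n → K) [⋀^Fin n]→ₗ[R] K :=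
    { ((Matrix.detRowAlternating (R := K) (n := Fin n)).toMultilinearMap.restrictScalars R) with
      map_eq_zero_of_eq' := fun v i j h hij =>
        (Matrix.detRowAlternating (R := K) (n := Fin n)).map_eq_zero_of_eq v h hij }
  let Δ : M [⋀^Fin n]→ₗ[R] K := detR.compLinearMap ψ
  have hΔ : Δ (fun i' => m (j i')) = 1 := by
    change Matrix.det (fun i' => ψ (m (j i'))) = 1
    have : (fun i' => ψ (m (j i'))) = (1 : Matrix (Fin n) (Fin n) K) := by
      ext i' i
      rw [hψ, Matrix.one_apply]
      by_cases hii : i = i'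
      · subst hii; simp
      · simp [hii, Ne.symm hii]
    rw [this, Matrix.det_one]
  let Λ : ⋀[R]^n M →ₗ[R] K := exteriorPower.alternatingMapLinearEquiv Δ
  have hΛ : Λ (exteriorPower.ιMulti R n (fun i' => m (j i'))) = 1 := by
    rw [exteriorPower.alternatingMapLinearEquiv_apply_ιMulti, hΔ]
  intro r hr
  rw [Submodule.mem_annihilator] at hr
  have h0 : r • exteriorPower.ιMulti R n (fun i' => m (j i')) = 0 := by
    apply Subtype.ext
    exact hr _ (exteriorPower.ιMulti R n (fun i' => m (j i'))).2
  have h1 : r • (1 : K) = 0 := by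
    rw [← hΛ, ← map_smul, h0, map_zero]
  rw [Algebra.smul_def, mul_one] at h1
  exact Ideal.algebraMap_residueField_eq_zero.mp h1

/-- **Annihilator of the exterior power vs. fibre dimension.** -/
theorem annihilator_le_iff [Module.Finite R M] (p : Ideal R) [p.IsPrime] (n : ℕ) :
    (⋀[R]^n M).annihilator ≤ p ↔
      n ≤ Module.finrank p.ResidueField (p.ResidueField ⊗[R] M) :=
  ⟨le_finrank_of_annihilator_le p n, annihilator_le_of_le_finrank p n⟩

end Groth.Agent.H79.ExtPowAnn
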