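import Mathlib
import Groth.Prelude.Def_BlowUp2
import Groth.Prelude.Def_CurvBase
import Groth.Agent.H79.FibreCartier
import Groth.Agent.H9.CMFlatSch
import Groth.Agent.H66.GlobalCI2

/-!
# Relative effective Cartier divisors from the fibres: locally principal case (helper79)
-/

set_option autoImplicit false
set_option linter.unusedVariables false
set_option linter.style.haveILetI false
set_option linter.unusedSectionVars false

universe u

open CategoryTheory CategoryTheory.Limits AlgebraicGeometry TopologicalSpace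

namespace Groth.Agent.H79.FibreCartier2

open RingTheory.Sequence Groth.Agent.H79.FibreBridge Groth.Agent.H79.FibreRegSch
  Groth.Agent.H79.FibreCartier

/-- generators of the same principal ideal: being a nonzerodivisor transfers -/
theorem mem_nonZeroDivisors_of_span_eq {R : Type u} [CommRing R] {a b : R}
    (h : Ideal.span {a} = Ideal.span {b}) (hb : b ∈ nonZeroDivisors R) :
    a ∈ nonZeroDivisors R := by
  have h1 : a ∈ Ideal.span {b} := h ▸ Ideal.mem_span_singleton_self a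
  have h2 : b ∈ Ideal.span {a} := h.symm ▸ Ideal.mem_span_singleton_self b
  obtain ⟨c, hc⟩ := Ideal.mem_span_singleton'.mp h1
  obtain ⟨d, hd⟩ := Ideal.mem_span_singleton'.mp h2
  have h3 : (d * c - 1) * b = 0 := by rw [sub_mul, one_mul, mul_assoc, hc, hd, sub_self]
  have h4 : d * c - 1 = 0 := (mul_right_mem_nonZeroDivisors_eq_zero_iff hb).mp h3
  have hcu : IsUnit c := IsUnit.of_mul_eq_one d (by linear_combination h4)
  rw [← hc]
  exact mul_mem hcu.mem_nonZeroDivisors hb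

/-- the kernel of the stalk map of the fibre of a closed immersion, in terms of the fibre local
ring -/
theorem ker_stalkMap_fibre {X Y S : Scheme.{u}} (p : X ⟶ S) (i : Y ⟶ X) [IsClosedImmersion i]
    (s : S) {Y' : Scheme.{u}} (g' : Y' ⟶ Y) (i' : Y' ⟶ p.fiber s) [IsClosedImmersion i']
    (H : IsPullback g' i' i (p.fiberι s)) (w : Y') {V : S.Opens} (hV : IsAffineOpen V)
    {U : X.Opens} (hU : IsAffineOpen U) (hUV : U ≤ p ⁻¹ᵁ V) (hyU : (p.fiberι s) (i' w) ∈ U) :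
    letI := (p.appLE V U hUV).hom.toAlgebra
    ∀ (Ψ : EGA4.FibLocRing Γ(S, V) Γ(X, U)
        (hU.primeIdealOf ⟨(p.fiberι s) (i' w), hyU⟩).asIdeal ≃+*
          (p.fiber s).presheaf.stalk (i' w)),
      (∀ b : Γ(X, U), Ψ (algebraMap Γ(X, U) _ b) =
        ((p.fiberι s).stalkMap (i' w)).hom (X.presheaf.germ U ((p.fiberι s) (i' w)) hyU b)) →
      RingHom.ker (i'.stalkMap w).hom =
        (RingHom.ker (i.app U).hom).map (Ψ.toRingHom.comp (algebraMap Γ(X, U) _)) := by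
  letI := (p.appLE V U hUV).hom.toAlgebra
  intro Ψ hΨ
  obtain ⟨U', hU', hyU', hUU'0⟩ := exists_isAffineOpen_mem_and_subset (x := i' w)
    (U := (p.fiberι s) ⁻¹ᵁ U) hyU
  have hUU' : U' ≤ (p.fiberι s) ⁻¹ᵁ U := hUU'0
  have hkerU' : RingHom.ker (i'.app U').hom =
      (RingHom.ker (i.app U).hom).map ((p.fiberι s).appLE U U' hUU').hom :=
    ker_app_of_isPullback H hU hU' hUU'
  rw [Groth.Agent.H9.ker_stalkMap_of_isClosedImmersion i' ⟨U', hU'⟩ w hyU',
    Scheme.Hom.ker_apply, hkerU', Ideal.map_map]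
  congr 1
  ext b
  simp only [RingHom.comp_apply]
  have h := germ_stalkMap_appLE (p.fiberι s) hUU' (i' w) hyU'
  refine Eq.trans ?_ (hΨ b).symm
  exact (congrArg (fun f => f.hom b) h).symm

open Groth.Agent.H56.RegImmComp Groth.Agent.H79.RegSpread in
set_option maxHeartbeats 1600000 in
/-- `φ : X ⟶ S` flat l.f.p., `𝓘` a locally principal ideal sheaf, `z` a point of `V(𝓘)`; if the
inverse image of `𝓘` on the fibre through `z` is effective Cartier, then `𝓘` is generated by one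
nonzerodivisor near `z` and `V(𝓘) ⟶ S` is flat at `z`. -/
theorem relEffCartier_at_of_fibre {X S : Scheme.{u}} (φ : X ⟶ S) [Flat φ]
    [LocallyOfFinitePresentation φ] (𝓘 : X.IdealSheafData) (hZ : Curv2.IsLocPrincipal 𝓘)
    (z : 𝓘.subscheme)
    (hfib : BlowUp.IsEffCartierIdeal (𝓘.comap (φ.fiberι (φ (𝓘.subschemeι z))))) :
    (∃ U : X.affineOpens, 𝓘.subschemeι z ∈ U.1 ∧ ∃ f : Γ(X, U.1),
      f ∈ nonZeroDivisors Γ(X, U.1) ∧ 𝓘.ideal U = Ideal.span {f}) ∧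
    ((𝓘.subschemeι ≫ φ).stalkMap z).hom.Flat := by
  have hxsupp : 𝓘.subschemeι z ∈ 𝓘.support := by
    rw [← SetLike.mem_coe, ← 𝓘.range_subschemeι]; exact ⟨z, rfl⟩
  obtain ⟨w, hw1, hw2⟩ := Scheme.Pullback.exists_preimage_pullback
    (f := φ.fiberι (φ (𝓘.subschemeι z))) (g := 𝓘.subschemeι) (φ.asFiber (𝓘.subschemeι z)) z
    (φ.fiberι_asFiber (𝓘.subschemeι z))
  have hyx : (φ.fiberι (φ (𝓘.subschemeι z)))
      (pullback.fst (φ.fiberι (φ (𝓘.subschemeι z))) 𝓘.subschemeι w) = 𝓘.subschemeι z := by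
    rw [hw1]; exact φ.fiberι_asFiber _
  -- locally principal
  obtain ⟨U₀, hxU₀, f₀, hf₀⟩ := hZ _ hxsupp
  obtain ⟨V, hV, hxV, -⟩ := exists_isAffineOpen_mem_and_subset (x := φ (𝓘.subschemeι z))
    (U := ⊤) trivial
  obtain ⟨U, hU, hxU, hUle0⟩ := exists_isAffineOpen_mem_and_subset (x := 𝓘.subschemeι z)
    (U := U₀.1 ⊓ φ ⁻¹ᵁ V) ⟨hxU₀, hxV⟩
  have hUU₀ : U ≤ U₀.1 := fun a ha => (hUle0 ha).1
  have hUV : U ≤ φ ⁻¹ᵁ V := fun a ha => (hUle0 ha).2
  obtain ⟨f, hf⟩ : ∃ f : Γ(X, U), f = (X.presheaf.map (homOfLE hUU₀).op).hom f₀ := ⟨_, rfl⟩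
  have hidealU : 𝓘.ideal ⟨U, hU⟩ = Ideal.span {f} := by
    rw [← 𝓘.map_ideal (U := ⟨U, hU⟩) (V := U₀) hUU₀, hf₀, Ideal.map_span, Set.image_singleton,
      hf]
    rfl
  have hyU : (φ.fiberι (φ (𝓘.subschemeι z)))
      (pullback.fst (φ.fiberι (φ (𝓘.subschemeι z))) 𝓘.subschemeι w) ∈ U := by
    rw [hyx]; exact hxU
  letI algB := (φ.appLE V U hUV).hom.toAlgebra
  haveI : Algebra.FinitePresentation Γ(S, V) Γ(X, U) := φ.finitePresentation_appLE hV hU hUV
  haveI : Module.Flat Γ(S, V) Γ(X, U) := φ.flat_appLE hV hU hUV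
  obtain ⟨Ψ, hΨ⟩ := exists_fibLocEquiv φ _
    (pullback.fst (φ.fiberι (φ (𝓘.subschemeι z))) 𝓘.subschemeι w) hV hU hUV hyU
  have hks := ker_stalkMap_fibre φ 𝓘.subschemeι _
    (pullback.snd (φ.fiberι (φ (𝓘.subschemeι z))) 𝓘.subschemeι)
    (pullback.fst (φ.fiberι (φ (𝓘.subschemeι z))) 𝓘.subschemeι)
    (IsPullback.of_hasPullback _ _).flip w hV hU hUV hyU Ψ hΨ
  rw [𝓘.ker_subschemeι_app ⟨U, hU⟩, hidealU, Ideal.map_span, Set.image_singleton] at hks
  -- the fibre is effective Cartier at `y`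
  obtain ⟨U', hyU', r, hr, hideal'⟩ :=
    hfib (pullback.fst (φ.fiberι (φ (𝓘.subschemeι z))) 𝓘.subschemeι w)
  have hU' : IsAffineOpen U'.1 := U'.2
  have hcomap : (pullback.fst (φ.fiberι (φ (𝓘.subschemeι z))) 𝓘.subschemeι).ker.ideal U' =
      Ideal.span {r} := hideal'
  letI algS : Algebra Γ(φ.fiber (φ (𝓘.subschemeι z)), U'.1)
      ((φ.fiber (φ (𝓘.subschemeι z))).presheaf.stalk
        (pullback.fst (φ.fiberι (φ (𝓘.subschemeι z))) 𝓘.subschemeι w)) :=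
    (φ.fiber (φ (𝓘.subschemeι z))).presheaf.algebra_section_stalk ⟨_, hyU'⟩
  haveI : IsLocalization.AtPrime ((φ.fiber (φ (𝓘.subschemeι z))).presheaf.stalk
      (pullback.fst (φ.fiberι (φ (𝓘.subschemeι z))) 𝓘.subschemeι w))
      (hU'.primeIdealOf ⟨_, hyU'⟩).asIdeal := hU'.isLocalization_stalk ⟨_, hyU'⟩
  have hker2 : RingHom.ker
      ((pullback.fst (φ.fiberι (φ (𝓘.subschemeι z))) 𝓘.subschemeι).stalkMap w).hom =
      Ideal.span {algebraMap Γ(φ.fiber (φ (𝓘.subschemeι z)), U'.1)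
        ((φ.fiber (φ (𝓘.subschemeι z))).presheaf.stalk
          (pullback.fst (φ.fiberι (φ (𝓘.subschemeι z))) 𝓘.subschemeι w)) r} := by
    rw [Groth.Agent.H9.ker_stalkMap_of_isClosedImmersion _ U' w hyU', hcomap, Ideal.map_span,
      Set.image_singleton]
    rfl
  have hrs : algebraMap Γ(φ.fiber (φ (𝓘.subschemeι z)), U'.1)
      ((φ.fiber (φ (𝓘.subschemeι z))).presheaf.stalk
        (pullback.fst (φ.fiberι (φ (𝓘.subschemeι z))) 𝓘.subschemeι w)) r ∈
      nonZeroDivisors ((φ.fiber (φ (𝓘.subschemeι z))).presheaf.stalk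
        (pullback.fst (φ.fiberι (φ (𝓘.subschemeι z))) 𝓘.subschemeι w)) :=
    IsLocalization.map_nonZeroDivisors_le (hU'.primeIdealOf ⟨_, hyU'⟩).asIdeal.primeCompl _
      (Submonoid.mem_map_of_mem _ hr)
  have hnzdS := mem_nonZeroDivisors_of_span_eq (hks.symm.trans hker2) hrs
  have hnzd : algebraMap Γ(X, U) (EGA4.FibLocRing Γ(S, V) Γ(X, U)
      (hU.primeIdealOf ⟨_, hyU⟩).asIdeal) f ∈ nonZeroDivisors _ :=
    mem_nonZeroDivisors_of_injective (f := Ψ.toRingHom) Ψ.injective hnzdS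
  have hwrF : IsWeaklyRegular (EGA4.FibLocRing Γ(S, V) Γ(X, U)
      (hU.primeIdealOf ⟨_, hyU⟩).asIdeal)
      ([f].map (algebraMap Γ(X, U) (EGA4.FibLocRing Γ(S, V) Γ(X, U)
        (hU.primeIdealOf ⟨_, hyU⟩).asIdeal))) :=
    (isWeaklyRegular_singleton_iff _ _).mpr (Module.Flat.isSMulRegular_of_nonZeroDivisors hnzd)
  haveI : Module.Flat Γ(S, V) (Localization.AtPrime (hU.primeIdealOf ⟨_, hyU⟩).asIdeal) :=
    Module.Flat.trans Γ(S, V) Γ(X, U) _
  obtain ⟨hwr, hfl⟩ := regular_of_fibre (A := Γ(S, V)) (hU.primeIdealOf ⟨_, hyU⟩).asIdeal [f] hwrF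
  -- primes
  have hPP : hU.primeIdealOf ⟨_, hyU⟩ = hU.primeIdealOf ⟨𝓘.subschemeι z, hxU⟩ :=
    congrArg hU.primeIdealOf (Subtype.ext hyx)
  have hfP : f ∈ (hU.primeIdealOf ⟨_, hyU⟩).asIdeal := by
    rw [hPP]
    have h1 := Groth.Agent.H9.ker_ideal_le_primeIdealOf 𝓘.subschemeι ⟨U, hU⟩ z hxU
    rw [𝓘.ker_subschemeι, hidealU] at h1
    exact h1 (Ideal.mem_span_singleton_self f)
  obtain ⟨h, hhP, hall⟩ := spread_regular (A := Γ(S, V)) (hU.primeIdealOf ⟨_, hyU⟩).asIdeal [f]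
    (by intro a ha; rw [List.mem_singleton] at ha; rw [ha]; exact hfP) hwr hfl
  refine ⟨?_, ?_⟩
  · -- effective Cartier near `z`
    have hhP' : h ∉ (hU.primeIdealOf ⟨𝓘.subschemeι z, hxU⟩).asIdeal := by rw [← hPP]; exact hhP
    have hfy : hU.fromSpec (hU.primeIdealOf ⟨𝓘.subschemeι z, hxU⟩) = 𝓘.subschemeι z :=
      hU.fromSpec_primeIdealOf ⟨_, hxU⟩
    have hxh : 𝓘.subschemeι z ∈ X.basicOpen h := by
      have h2 := hU.fromSpec_preimage_basicOpen h
      have h3 : hU.primeIdealOf ⟨𝓘.subschemeι z, hxU⟩ ∈ (PrimeSpectrum.basicOpen h) :=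
        (PrimeSpectrum.mem_basicOpen _ _).2 hhP'
      rw [← h2] at h3
      have h4 : hU.fromSpec (hU.primeIdealOf ⟨𝓘.subschemeι z, hxU⟩) ∈ X.basicOpen h := h3
      rwa [hfy] at h4
    haveI hloc : IsLocalization.Away h Γ(X, X.basicOpen h) := hU.isLocalization_basicOpen h
    haveI : IsLocalization.Away (h * 1) Γ(X, X.basicOpen h) := by rw [mul_one]; exact hloc
    have hwr' := hall 1 Γ(X, X.basicOpen h)
    refine ⟨X.affineBasicOpen (U := ⟨U, hU⟩) h, hxh,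
      algebraMap Γ(X, U) Γ(X, X.basicOpen h) f, ?_, ?_⟩
    · exact mem_nonZeroDivisors_of_isSMulRegular
        ((isWeaklyRegular_singleton_iff _ _).mp hwr')
    · rw [← 𝓘.map_ideal_basicOpen ⟨U, hU⟩ h, hidealU, Ideal.map_span, Set.image_singleton]
      rfl
  · -- flatness at `z`
    have hcl : IsClosedImmersion (𝓘.subschemeι ∣_ U) := inferInstance
    have hW : IsAffineOpen (𝓘.subschemeι ⁻¹ᵁ U) := isAffineOpen_preimage 𝓘.subschemeι hU hcl
    have hWV : 𝓘.subschemeι ⁻¹ᵁ U ≤ (𝓘.subschemeι ≫ φ) ⁻¹ᵁ V := fun y hy => hUV hy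
    have hzW : z ∈ 𝓘.subschemeι ⁻¹ᵁ U := hxU
    letI algC := ((𝓘.subschemeι ≫ φ).appLE V (𝓘.subschemeι ⁻¹ᵁ U) hWV).hom.toAlgebra
    let φa : Γ(X, U) →ₐ[Γ(S, V)] Γ(𝓘.subscheme, 𝓘.subschemeι ⁻¹ᵁ U) :=
      { (𝓘.subschemeι.app U).hom with
        commutes' := fun r => by
          show (𝓘.subschemeι.app U).hom ((φ.appLE V U hUV).hom r) =
            ((𝓘.subschemeι ≫ φ).appLE V (𝓘.subschemeι ⁻¹ᵁ U) hWV).hom r
          have h1 : φ.appLE V U hUV ≫ 𝓘.subschemeι.app U =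
              (𝓘.subschemeι ≫ φ).appLE V (𝓘.subschemeι ⁻¹ᵁ U) hWV := by
            rw [𝓘.subschemeι.app_eq_appLE, Scheme.Hom.appLE_comp_appLE]
          rw [← h1]
          rfl }
    have hφ : Function.Surjective φa := app_surjective 𝓘.subschemeι hU hcl
    haveI hqC : (hW.primeIdealOf ⟨z, hzW⟩).asIdeal.IsPrime := (hW.primeIdealOf ⟨z, hzW⟩).isPrime
    have hP : (hU.primeIdealOf ⟨_, hyU⟩).asIdeal =
        (hW.primeIdealOf ⟨z, hzW⟩).asIdeal.comap φa.toRingHom := by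
      rw [hPP]
      have h1 := IsAffineOpen.comap_primeIdealOf_appLE (f := 𝓘.subschemeι) U hU
        (𝓘.subschemeι ⁻¹ᵁ U) hW le_rfl hzW
      have h2 := congrArg PrimeSpectrum.asIdeal h1
      rw [← h2]
      show Ideal.comap (𝓘.subschemeι.appLE U (𝓘.subschemeι ⁻¹ᵁ U) le_rfl).hom _ =
        Ideal.comap (𝓘.subschemeι.app U).hom _
      rw [𝓘.subschemeι.app_eq_appLE]
    have hKer : RingHom.ker φa.toRingHom = Ideal.span {f} := by
      show RingHom.ker (𝓘.subschemeι.app U).hom = _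
      rw [𝓘.ker_subschemeι_app ⟨U, hU⟩, hidealU]
    have key : ∀ (P : Ideal Γ(X, U)) [P.IsPrime],
        P = (hW.primeIdealOf ⟨z, hzW⟩).asIdeal.comap φa.toRingHom →
        Module.Flat Γ(S, V) (Localization.AtPrime P ⧸ Ideal.ofList
          (([f].take 1).map (algebraMap Γ(X, U) (Localization.AtPrime P)))) →
        Module.Flat Γ(S, V) (Localization.AtPrime (hW.primeIdealOf ⟨z, hzW⟩).asIdeal) := by
      intro P _ hPeq hflat
      subst hPeq
      obtain ⟨e⟩ := Groth.Agent.H66.GlobalCI.nonempty_atPrime_equiv_quot φa hφ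
        (hW.primeIdealOf ⟨z, hzW⟩).asIdeal
      have hI : Ideal.ofList (([f].take 1).map (algebraMap Γ(X, U) (Localization.AtPrime
          ((hW.primeIdealOf ⟨z, hzW⟩).asIdeal.comap φa.toRingHom)))) =
          (RingHom.ker φa.toRingHom).map (algebraMap Γ(X, U) _) := by
        rw [hKer, ← Ideal.ofList_singleton, Ideal.map_ofList]
        rfl
      rw [hI] at hflat
      exact Module.Flat.of_linearEquiv e.toLinearEquiv
    have hflatC := key _ hP (hfl 1 (by simp))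
    have hpq : (hV.primeIdealOf ⟨(𝓘.subschemeι ≫ φ) z, hWV hzW⟩).asIdeal =
        (hW.primeIdealOf ⟨z, hzW⟩).asIdeal.comap
          (algebraMap Γ(S, V) Γ(𝓘.subscheme, 𝓘.subschemeι ⁻¹ᵁ U)) :=
      congr($(IsAffineOpen.comap_primeIdealOf_appLE V hV (𝓘.subschemeι ⁻¹ᵁ U) hW hWV hzW).1).symm
    rw [RingHom.Flat.respectsIso.arrow_mk_iso_iff
      (IsAffineOpen.arrowStalkMapIso (𝓘.subschemeι ≫ φ) V hV (𝓘.subschemeι ⁻¹ᵁ U) hW hWV hzW)]
    exact (Groth.Agent.H9.CMFlatSch.flat_localRingHom_iff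
      (hW.primeIdealOf ⟨z, hzW⟩).asIdeal _ hpq).mpr hflatC

end Groth.Agent.H79.FibreCartier2
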