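import Mathlib
import Groth.Agent.H49.RegSliceSch

/-!
# Lifting fibrewise regular sequences to the local ring (helper79)

`isWeaklyRegular_stalk_of_fibre`: `f : X ⟶ S` locally of finite presentation and flat at `x`;
a sequence of germs at `x` whose image in the local ring of the fibre `O_{X,x} / m_s O_{X,x}` is
regular is weakly regular on `O_{X,x}` and lies in the maximal ideal (EGA IV 11.3.8 a ⇒ b, stalk form;
a corollary of helper49's `spread_regular_all`).
-/

set_option autoImplicit false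
set_option linter.style.haveILetI false
set_option linter.unusedVariables false

universe u

open AlgebraicGeometry CategoryTheory Limits RingTheory.Sequence

namespace Groth.Agent.H79.FibreDepth

open Groth.Agent.H49.CMSlice Groth.Agent.H49.RegSlice

variable {X S : Scheme.{u}}

set_option maxHeartbeats 3200000 in
theorem isWeaklyRegular_stalk_of_fibre (f : X ⟶ S) [LocallyOfFinitePresentation f] (x : X)
    (hflat : (f.stalkMap x).hom.Flat) (hs : List ↑(X.presheaf.stalk x))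
    (hreg : RingTheory.Sequence.IsRegular (↑(X.presheaf.stalk x) ⧸ Ideal.map (f.stalkMap x).hom
        (IsLocalRing.maximalIdeal ↑(S.presheaf.stalk (f x))))
      (hs.map (Ideal.Quotient.mk (Ideal.map (f.stalkMap x).hom
        (IsLocalRing.maximalIdeal ↑(S.presheaf.stalk (f x))))))) :
    (∀ t ∈ hs, t ∈ IsLocalRing.maximalIdeal (X.presheaf.stalk x)) ∧
      IsWeaklyRegular (X.presheaf.stalk x) hs := by
  obtain ⟨htsmem, htsreg⟩ := convert_regular (X.presheaf.stalk x) _ hs hreg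
  refine ⟨htsmem, ?_⟩
  letI algx : Algebra (S.presheaf.stalk (f x)) (X.presheaf.stalk x) :=
    (f.stalkMap x).hom.toAlgebra
  haveI : IsLocalHom (algebraMap (S.presheaf.stalk (f x)) (X.presheaf.stalk x)) :=
    inferInstanceAs (IsLocalHom (f.stalkMap x).hom)
  haveI : Module.Flat (S.presheaf.stalk (f x)) (X.presheaf.stalk x) := hflat
  -- charts
  obtain ⟨V, hV, hxV, -⟩ :=
    exists_isAffineOpen_mem_and_subset (x := f x) (U := (⊤ : S.Opens)) trivial
  obtain ⟨W', hxW', ss, hss⟩ := exists_list_germ X x hs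
  obtain ⟨U₀, hU₀, hxU₀, hU₀le⟩ :=
    exists_isAffineOpen_mem_and_subset (x := x) (U := f ⁻¹ᵁ V ⊓ W') ⟨hxV, hxW'⟩
  have hU₀V : U₀ ≤ f ⁻¹ᵁ V := hU₀le.trans inf_le_left
  have hU₀W' : U₀ ≤ W' := hU₀le.trans inf_le_right
  -- algebra set-up
  letI : Algebra Γ(S, V) Γ(X, U₀) := (f.appLE V U₀ hU₀V).hom.toAlgebra
  haveI : Algebra.FinitePresentation Γ(S, V) Γ(X, U₀) := f.finitePresentation_appLE hV hU₀ hU₀V
  letI : Algebra Γ(S, V) (S.presheaf.stalk (f x)) := S.presheaf.algebra_section_stalk ⟨f x, hxV⟩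
  letI : Algebra Γ(X, U₀) (X.presheaf.stalk x) := X.presheaf.algebra_section_stalk ⟨x, hxU₀⟩
  letI : Algebra Γ(S, V) (X.presheaf.stalk x) :=
    ((algebraMap (S.presheaf.stalk (f x)) (X.presheaf.stalk x)).comp
      (algebraMap Γ(S, V) (S.presheaf.stalk (f x)))).toAlgebra
  haveI : IsScalarTower Γ(S, V) (S.presheaf.stalk (f x)) (X.presheaf.stalk x) :=
    .of_algebraMap_eq fun _ => rfl
  haveI : IsScalarTower Γ(S, V) Γ(X, U₀) (X.presheaf.stalk x) := .of_algebraMap_eq fun a => by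
    change (f.stalkMap x).hom (S.presheaf.germ V (f x) hxV a) =
      X.presheaf.germ U₀ x hxU₀ ((f.appLE V U₀ hU₀V).hom a)
    exact Groth.Agent.H57.stalkMap_germ_appLE f hU₀V x hxU₀ a
  haveI := hV.isLocalization_stalk ⟨f x, hxV⟩
  haveI := hU₀.isLocalization_stalk ⟨x, hxU₀⟩
  -- the sequence on the chart
  obtain ⟨bs, hbsdef⟩ : ∃ bs : List Γ(X, U₀),
      bs = ss.map (X.presheaf.map (homOfLE hU₀W').op).hom := ⟨_, rfl⟩
  have hbsT : bs.map (algebraMap Γ(X, U₀) (X.presheaf.stalk x)) = hs := by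
    rw [hbsdef, List.map_map, ← hss]
    apply List.map_congr_left
    intro a _
    exact TopCat.Presheaf.germ_res_apply X.presheaf _ x _ a
  have hbsq : ∀ b ∈ bs, b ∈ (hU₀.primeIdealOf ⟨x, hxU₀⟩).asIdeal := by
    intro b hb
    have h1 : algebraMap Γ(X, U₀) (X.presheaf.stalk x) b ∈
        IsLocalRing.maximalIdeal (X.presheaf.stalk x) :=
      htsmem _ (hbsT ▸ List.mem_map_of_mem hb)
    exact (IsLocalization.AtPrime.to_map_mem_maximal_iff (X.presheaf.stalk x)
      (hU₀.primeIdealOf ⟨x, hxU₀⟩).asIdeal b).mp h1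
  obtain ⟨g, hgq, hmain⟩ := spread_regular_all Γ(S, V) (S.presheaf.stalk (f x)) Γ(X, U₀)
    (X.presheaf.stalk x) (hV.primeIdealOf ⟨f x, hxV⟩).asIdeal (hU₀.primeIdealOf ⟨x, hxU₀⟩).asIdeal
    congr($(IsAffineOpen.comap_primeIdealOf_appLE V hV U₀ hU₀ hU₀V hxU₀).1).symm bs hbsq
    (by rw [hbsT]; exact htsreg)
  -- the basic open
  have hxg : x ∈ X.basicOpen g :=
    (Groth.Agent.H8.mem_basicOpen_iff_notMem_primeIdealOf hU₀ x hxU₀ g).mpr hgq
  have hU : IsAffineOpen (X.basicOpen g) := hU₀.basicOpen g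
  haveI : IsLocalization.Away g Γ(X, X.basicOpen g) := hU₀.isLocalization_basicOpen g
  haveI : IsLocalization.Away (g * 1) Γ(X, X.basicOpen g) := by rw [mul_one]; infer_instance
  have hUV : X.basicOpen g ≤ f ⁻¹ᵁ V := (X.basicOpen_le g).trans hU₀V
  letI : Algebra Γ(S, V) Γ(X, X.basicOpen g) := (f.appLE V (X.basicOpen g) hUV).hom.toAlgebra
  haveI : IsScalarTower Γ(S, V) Γ(X, U₀) Γ(X, X.basicOpen g) := .of_algebraMap_eq fun a => by
    change (f.appLE V (X.basicOpen g) hUV).hom a =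
      (X.presheaf.map (homOfLE (X.basicOpen_le g)).op).hom ((f.appLE V U₀ hU₀V).hom a)
    rw [← Scheme.Hom.appLE_map f hU₀V (homOfLE (X.basicOpen_le g)).op]
    rfl
  obtain ⟨hwr, hfl⟩ := hmain 1 Γ(X, X.basicOpen g)
  -- pass to the stalk
  letI algG : Algebra Γ(X, X.basicOpen g) (X.presheaf.stalk x) :=
    X.presheaf.algebra_section_stalk ⟨x, hxg⟩
  haveI hlocG := hU.isLocalization_stalk ⟨x, hxg⟩
  haveI : Module.Flat Γ(X, X.basicOpen g) (X.presheaf.stalk x) :=
    IsLocalization.flat (X.presheaf.stalk x) (hU.primeIdealOf ⟨x, hxg⟩).asIdeal.primeCompl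
  have hwr' := hwr.of_flat (S := X.presheaf.stalk x)
  have hgerm : (bs.map (algebraMap Γ(X, U₀) Γ(X, X.basicOpen g))).map
      (algebraMap Γ(X, X.basicOpen g) (X.presheaf.stalk x)) = hs := by
    rw [List.map_map, ← hbsT]
    apply List.map_congr_left
    intro a _
    exact TopCat.Presheaf.germ_res_apply X.presheaf (homOfLE (X.basicOpen_le g)) x hxg a
  rw [hgerm] at hwr'
  exact hwr'

end Groth.Agent.H79.FibreDepth
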