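import Mathlib
import Groth.Prelude.Def_CInt
import Groth.Agent.H79.FibreDepth
import Groth.Agent.H29.FiberStalkAt
import Groth.Agent.H79.RegSpreadSch
import Groth.Agent.H79.RegCM
import Groth.Agent.H26.DepthLib

/-!
# Depth of the local rings of a smooth morphism (helper79)

`le_depth_stalk_of_smooth`: for a smooth morphism `π : X ⟶ S` (no hypothesis on `S`) and a point `x`
whose fibre local ring has dimension `≥ n`, the local ring `O_{X,x}` has depth `≥ n`.
-/

set_option autoImplicit false
set_option linter.style.haveILetI false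
set_option linter.unusedVariables false

universe u

open AlgebraicGeometry CategoryTheory Limits RingTheory.Sequence IsLocalRing

namespace Groth.Agent.H79.FibreDepth

variable {X S : Scheme.{u}}

/-- A regular local ring of dimension `≥ n` has a regular sequence of length `n`. -/
theorem exists_isRegular_of_le_dim (Q : Type u) [CommRing Q] [IsRegularLocalRing Q] (n : ℕ)
    (hn : (n : WithBot ℕ∞) ≤ ringKrullDim Q) :
    ∃ rs : List Q, rs.length = n ∧ IsRegular Q rs := by
  classical
  have hreg : ((maximalIdeal Q).spanFinrank : WithBot ℕ∞) = ringKrullDim Q :=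
    IsRegularLocalRing.spanFinrank_maximalIdeal
  obtain ⟨s, hscard, hsspan⟩ := Submodule.FG.exists_span_finset_card_eq_spanFinrank
    (IsNoetherian.noetherian (maximalIdeal Q))
  obtain ⟨d, hd⟩ : ∃ d : ℕ, d = s.card := ⟨_, rfl⟩
  let u : Fin d → Q := fun i => ((s.equivFin.symm (Fin.cast hd i) : s) : Q)
  have hu : Ideal.span (Set.range u) = maximalIdeal Q := by
    have : Set.range u = (s : Set Q) := by
      ext x
      constructor
      · rintro ⟨i, rfl⟩
        exact (s.equivFin.symm (Fin.cast hd i)).2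
      · intro hx
        refine ⟨Fin.cast hd.symm (s.equivFin ⟨x, hx⟩), ?_⟩
        simp [u]
    rw [this]
    exact hsspan
  have hdim : ringKrullDim Q = (d : ℕ) := by
    rw [← hreg, ← hscard, hd]
  have hnd : n ≤ d := by
    rw [hdim] at hn
    exact_mod_cast hn
  have hw := Groth.Agent.H79.RegCM.isWeaklyRegular_ofFn Q d hdim u hu
  have hw2 := Groth.Agent.H26.DepthLib.isWeaklyRegular_take hw n
  refine ⟨(List.ofFn u).take n, by rw [List.length_take, List.length_ofFn]; omega, hw2, ?_⟩
  have hle : Ideal.ofList ((List.ofFn u).take n) ≤ maximalIdeal Q := by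
    rw [Ideal.span_le]
    intro r hr
    have hr' : r ∈ List.ofFn u := List.mem_of_mem_take hr
    rw [List.mem_ofFn] at hr'
    obtain ⟨i, rfl⟩ := hr'
    rw [← hu]
    exact Ideal.subset_span ⟨i, rfl⟩
  intro htop
  rw [smul_eq_mul, Ideal.mul_top] at htop
  exact (Ideal.IsPrime.ne_top inferInstance : maximalIdeal Q ≠ ⊤) (top_le_iff.mp (htop ▸ hle))

set_option maxHeartbeats 1000000 in
theorem le_depth_stalk_of_smooth (π : X ⟶ S) [Smooth π] (x : X) (n : ℕ)
    (hx : (n : WithBot ℕ∞) ≤ ringKrullDim ↑(CInt.fiberStalk π x)) :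
    (n : ℕ∞) ≤ LocCoh.depth ↑(X.presheaf.stalk x) ↑(X.presheaf.stalk x) := by
  have hflat : (π.stalkMap x).hom.Flat := Flat.stalkMap π x
  obtain ⟨e⟩ := Groth.Agent.H29.FiberStalkAt.nonempty_fiberStalkEquiv π x
  haveI : IsRegularLocalRing (CInt.fiberStalk π x) :=
    Groth.Agent.H79.RegSpreadSch.isRegularLocalRing_fiberStalk_of_smooth π x
  haveI hQ : IsRegularLocalRing (↑(X.presheaf.stalk x) ⧸ Ideal.map (π.stalkMap x).hom
      (maximalIdeal ↑(S.presheaf.stalk (π x)))) :=
    IsRegularLocalRing.of_ringEquiv (R := CInt.fiberStalk π x) e.symm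
  have hdimQ : (n : WithBot ℕ∞) ≤ ringKrullDim (↑(X.presheaf.stalk x) ⧸
      Ideal.map (π.stalkMap x).hom (maximalIdeal ↑(S.presheaf.stalk (π x)))) := by
    rw [ringKrullDim_eq_of_ringEquiv e]; exact hx
  obtain ⟨rs, hlen, hrs⟩ := exists_isRegular_of_le_dim _ n hdimQ
  obtain ⟨hs, hhs⟩ : ∃ hs : List ↑(X.presheaf.stalk x),
      hs.map (Ideal.Quotient.mk (Ideal.map (π.stalkMap x).hom
        (maximalIdeal ↑(S.presheaf.stalk (π x))))) = rs :=
    (List.map_surjective_iff.mpr Ideal.Quotient.mk_surjective) rs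
  rw [← hhs] at hrs
  obtain ⟨hmem, hwr⟩ := isWeaklyRegular_stalk_of_fibre π x hflat hs hrs
  have hlen' : hs.length = n := by rw [← hlen, ← hhs, List.length_map]
  unfold LocCoh.depth LocCoh.idealDepth
  split_ifs
  · exact le_top
  · refine le_iSup₂_of_le hs ⟨hwr, hmem⟩ ?_
    rw [hlen']

end Groth.Agent.H79.FibreDepth
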