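import Mathlib

/-!
# Fibrewise containment over a reduced Noetherian base (helper79) — algebra part

* `eq_zero_of_forall_tmul_eq_zero`: `N` flat over `A`, finitely many `A`-algebras `K i` with
  jointly injective structure maps; an element of `N` dying in every `N ⊗ K i` is zero.
* `eq_zero_of_forall_prime_tmul_eq_zero`: `A` reduced Noetherian, `K p` an `A`-algebra for every
  prime `p` with `ker (A → K p) ≤ p`; an element of a flat `A`-module dying in every `N ⊗ K p`
  is zero.
* `tmul_eq_zero_of_isPushout`: in a pushout square `C = B ⊗_A K` of commutative rings, if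
  `I C ≤ J C` then every `x ∈ I` dies in `(B ⧸ J) ⊗_A K`.
-/

set_option autoImplicit false
set_option linter.unusedVariables false
set_option linter.style.haveILetI false
set_option linter.unusedSectionVars false

universe u v w

open CategoryTheory CategoryTheory.Limits TensorProduct

namespace Groth.Agent.H79.FibreLe

theorem eq_zero_of_forall_tmul_eq_zero {A : Type u} [CommRing A] {N : Type v} [AddCommGroup N]
    [Module A N] [Module.Flat A N] {ι : Type w} [Finite ι] (K : ι → Type u)
    [∀ i, CommRing (K i)] [∀ i, Algebra A (K i)]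
    (hK : ∀ a : A, (∀ i, algebraMap A (K i) a = 0) → a = 0)
    (n : N) (hn : ∀ i, n ⊗ₜ[A] (1 : K i) = 0) : n = 0 := by
  classical
  cases nonempty_fintype ι
  let φ : A →ₗ[A] (∀ i, K i) := LinearMap.pi (fun i => Algebra.linearMap A (K i))
  have hφ : Function.Injective φ := by
    rw [injective_iff_map_eq_zero]
    intro a ha
    exact hK a (fun i => congrFun ha i)
  have h1 := Module.Flat.lTensor_preserves_injective_linearMap (M := N) φ hφ
  have h2 : (φ.lTensor N) (n ⊗ₜ[A] (1 : A)) = 0 := by
    apply (TensorProduct.piRight A A N K).injective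
    rw [LinearMap.lTensor_tmul, map_zero, TensorProduct.piRight_apply,
      TensorProduct.piRightHom_tmul]
    funext i
    have : φ 1 i = (1 : K i) := by
      show algebraMap A (K i) 1 = 1
      exact map_one _
    rw [this]
    exact hn i
  have h3 : n ⊗ₜ[A] (1 : A) = 0 := h1 (by rw [h2, map_zero])
  have := congrArg (TensorProduct.rid A N) h3
  simpa using this

theorem eq_zero_of_forall_prime_tmul_eq_zero {A : Type u} [CommRing A] [IsNoetherianRing A]
    [IsReduced A] {N : Type v} [AddCommGroup N] [Module A N] [Module.Flat A N]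
    (K : PrimeSpectrum A → Type u) [∀ p, CommRing (K p)] [∀ p, Algebra A (K p)]
    (hK : ∀ (p : PrimeSpectrum A) (a : A), algebraMap A (K p) a = 0 → a ∈ p.asIdeal)
    (n : N) (hn : ∀ p, n ⊗ₜ[A] (1 : K p) = 0) : n = 0 := by
  haveI : Finite (minimalPrimes A) := (minimalPrimes.finite_of_isNoetherianRing A).to_subtype
  let P : minimalPrimes A → PrimeSpectrum A := fun i => ⟨i.1, i.2.1.1⟩
  refine eq_zero_of_forall_tmul_eq_zero (ι := minimalPrimes A) (fun i => K (P i)) ?_ n
    (fun i => hn (P i))
  intro a ha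
  have h1 : a ∈ sInf (minimalPrimes A) := by
    rw [Ideal.mem_sInf]
    intro I hI
    exact hK (P ⟨I, hI⟩) a (ha ⟨I, hI⟩)
  have h2 : sInf (minimalPrimes A) = nilradical A := by
    show sInf (⊥ : Ideal A).minimalPrimes = _
    rw [Ideal.sInf_minimalPrimes]
    rfl
  rw [h2, nilradical_eq_zero] at h1
  exact h1

theorem tmul_eq_zero_of_isPushout {A B K C : CommRingCat.{u}} {a : A ⟶ B} {b : A ⟶ K}
    {c : B ⟶ C} {d : K ⟶ C} (H : IsPushout a b c d) (I J : Ideal B)
    (h : I.map c.hom ≤ J.map c.hom) {x : B} (hx : x ∈ I) :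
    letI := a.hom.toAlgebra
    letI := b.hom.toAlgebra
    (Ideal.Quotient.mk J x) ⊗ₜ[A] (1 : K) = 0 := by
  letI := a.hom.toAlgebra
  letI := b.hom.toAlgebra
  let c' : B ⟶ CommRingCat.of ((B ⧸ J) ⊗[A] K) :=
    CommRingCat.ofHom ((Algebra.TensorProduct.includeLeft (R := A) (S := A) (A := B ⧸ J)
      (B := K)).toRingHom.comp (Ideal.Quotient.mk J))
  let d' : K ⟶ CommRingCat.of ((B ⧸ J) ⊗[A] K) :=
    CommRingCat.ofHom (Algebra.TensorProduct.includeRight (R := A) (A := B ⧸ J)
      (B := K)).toRingHom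
  have hw : a ≫ c' = b ≫ d' := by
    ext r
    show (Ideal.Quotient.mk J (a.hom r)) ⊗ₜ[A] (1 : K) = (1 : B ⧸ J) ⊗ₜ[A] (b.hom r)
    have h1 : Ideal.Quotient.mk J (a.hom r) = r • (1 : B ⧸ J) := by
      rw [Algebra.smul_def, mul_one]; rfl
    have h2 : b.hom r = r • (1 : K) := by rw [Algebra.smul_def, mul_one]; rfl
    rw [h1, h2, TensorProduct.smul_tmul]
  have hu : c ≫ H.desc c' d' hw = c' := H.inl_desc c' d' hw
  have hx2 : c.hom x ∈ J.map c.hom := h (Ideal.mem_map_of_mem _ hx)
  have hker : J.map c.hom ≤ RingHom.ker (H.desc c' d' hw).hom := by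
    rw [Ideal.map_le_iff_le_comap]
    intro j hj
    rw [Ideal.mem_comap, RingHom.mem_ker]
    have : (H.desc c' d' hw).hom (c.hom j) = c'.hom j := congrArg (fun f => f.hom j) hu
    rw [this]
    show (Ideal.Quotient.mk J j) ⊗ₜ[A] (1 : K) = 0
    rw [Ideal.Quotient.eq_zero_iff_mem.mpr hj, TensorProduct.zero_tmul]
  have h3 := hker hx2
  rw [RingHom.mem_ker] at h3
  have : (H.desc c' d' hw).hom (c.hom x) = c'.hom x := congrArg (fun f => f.hom x) hu
  rw [this] at h3
  exact h3

end Groth.Agent.H79.FibreLe
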