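import Mathlib
import Groth.Agent.H79.FibreLe1
import Groth.Agent.H79.FibreBridge
import Groth.Agent.H9.EffCartier
import Groth.Agent.H63.FibreChart

/-!
# Fibrewise containment over a reduced locally Noetherian base (helper79) — scheme part

* `ideal_comap_of_le`: `(I.comap g)(U') = I(U) · Γ(U')` for affine opens `U' ≤ g⁻¹ U`.
* `ideal_le_of_forall_fibre_le`, `le_of_forall_fibre_le`: `T` reduced locally Noetherian,
  `π : 𝒞 ⟶ T`, `D D'` ideal sheaves on `𝒞` with `V(D')` flat over `T`; if `D|_{𝒞_t} ≤ D'|_{𝒞_t}`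
  on every fibre then `D ≤ D'`.
-/

set_option autoImplicit false
set_option linter.unusedVariables false
set_option linter.style.haveILetI false
set_option linter.unusedSectionVars false

universe u

open AlgebraicGeometry CategoryTheory CategoryTheory.Limits TensorProduct

namespace Groth.Agent.H79.FibreLe

theorem ideal_comap_of_le {X X' : Scheme.{u}} (I : X.IdealSheafData) (g : X' ⟶ X)
    (U : X.affineOpens) (U' : X'.affineOpens) (hUU' : U'.1 ≤ g ⁻¹ᵁ U.1) :
    (I.comap g).ideal U' = (I.ideal U).map (g.appLE U.1 U'.1 hUU').hom := by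
  have H : IsPullback (pullback.snd g I.subschemeι) (pullback.fst g I.subschemeι)
      I.subschemeι g := (IsPullback.of_hasPullback g I.subschemeι).flip
  have h1 := Groth.Agent.H79.FibreBridge.ker_app_of_isPullback H U.2 U'.2 hUU'
  rw [I.ker_subschemeι_app U] at h1
  rw [← h1]
  show (pullback.fst g I.subschemeι).ker.ideal U' = _
  exact Scheme.Hom.ker_apply _ U'

set_option maxHeartbeats 800000 in
theorem ideal_le_of_forall_fibre_le {𝒞 T : Scheme.{u}} [IsLocallyNoetherian T]
    [AlgebraicGeometry.IsReduced T]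
    (π : 𝒞 ⟶ T) (D D' : 𝒞.IdealSheafData) (hflat : Flat (D'.subschemeι ≫ π))
    (hfib : ∀ t : ↥T, D.comap (pullback.fst π (T.fromSpecResidueField t)) ≤
      D'.comap (pullback.fst π (T.fromSpecResidueField t)))
    (V : T.affineOpens) (U : 𝒞.affineOpens) (hUV : U.1 ≤ π ⁻¹ᵁ V.1) :
    D.ideal U ≤ D'.ideal U := by
  letI algAB : Algebra Γ(T, V.1) Γ(𝒞, U.1) := (π.appLE V.1 U.1 hUV).hom.toAlgebra
  haveI : IsNoetherianRing Γ(T, V.1) := IsLocallyNoetherian.component_noetherian V
  haveI : _root_.IsReduced Γ(T, V.1) := inferInstance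
  haveI hfl : Module.Flat Γ(T, V.1) (Γ(𝒞, U.1) ⧸ D'.ideal U) := by
    have h := Groth.Agent.H9.flat_quotient_of_flat π D' hflat V U hUV
    have he : (Ideal.Quotient.mk (D'.ideal U)).comp (π.appLE V.1 U.1 hUV).hom =
      algebraMap Γ(T, V.1) (Γ(𝒞, U.1) ⧸ D'.ideal U) := rfl
    rw [he, RingHom.flat_algebraMap_iff] at h
    exact h
  intro x hx
  rw [← Ideal.Quotient.eq_zero_iff_mem]
  have htV : ∀ p : PrimeSpectrum Γ(T, V.1), V.2.fromSpec p ∈ V.1 := fun p => by
    have h1 : V.2.fromSpec p ∈ Set.range V.2.fromSpec := ⟨p, rfl⟩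
    rw [V.2.range_fromSpec] at h1
    exact h1
  have hUST : ∀ p : PrimeSpectrum Γ(T, V.1),
      (⊤ : (Spec (T.residueField (V.2.fromSpec p))).Opens) ≤
        (T.fromSpecResidueField (V.2.fromSpec p)) ⁻¹ᵁ V.1 := by
    intro p z _
    show (T.fromSpecResidueField _) z ∈ V.1
    rw [Scheme.fromSpecResidueField_apply]
    exact htV p
  letI algK : ∀ p : PrimeSpectrum Γ(T, V.1),
      Algebra Γ(T, V.1) Γ(Spec (T.residueField (V.2.fromSpec p)), ⊤) :=
    fun p => ((T.fromSpecResidueField (V.2.fromSpec p)).appLE V.1 ⊤ (hUST p)).hom.toAlgebra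
  refine eq_zero_of_forall_prime_tmul_eq_zero (A := Γ(T, V.1))
    (fun p => Γ(Spec (T.residueField (V.2.fromSpec p)), ⊤)) ?_ _ ?_
  · intro p a ha
    have h1 : ((T.fromSpecResidueField (V.2.fromSpec p)).appLE V.1 ⊤ (hUST p)).hom a = 0 := ha
    rw [Groth.Agent.H63.FibreChart.appLE_fromSpecResidueField T _ V.1 (htV p) (hUST p)] at h1
    have h2 : (T.residue (V.2.fromSpec p)).hom
        ((T.presheaf.germ V.1 (V.2.fromSpec p) (htV p)).hom a) = 0 := by
      have hinj : Function.Injective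
          (Scheme.ΓSpecIso (T.residueField (V.2.fromSpec p))).inv.hom :=
        (Scheme.ΓSpecIso (T.residueField (V.2.fromSpec p))).symm.commRingCatIsoToRingEquiv.injective
      apply hinj
      rw [map_zero]
      exact h1
    have h3 : ¬ IsUnit ((T.presheaf.germ V.1 (V.2.fromSpec p) (htV p)).hom a) := by
      have : IsLocalRing.residue _ ((T.presheaf.germ V.1 (V.2.fromSpec p) (htV p)).hom a) = 0 :=
        h2
      rw [IsLocalRing.residue_eq_zero_iff] at this
      exact (IsLocalRing.mem_maximalIdeal _).mp this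
    have h4 : V.2.fromSpec p ∉ T.basicOpen a := by
      intro hmem
      exact h3 ((Scheme.mem_basicOpen _ _ _ (htV p)).mp hmem)
    by_contra hnot
    apply h4
    have h5 : p ∈ PrimeSpectrum.basicOpen a := (PrimeSpectrum.mem_basicOpen _ _).2 hnot
    rw [← V.2.fromSpec_preimage_basicOpen a] at h5
    exact h5
  · intro p
    have H : IsPullback (pullback.fst π (T.fromSpecResidueField (V.2.fromSpec p)))
        (pullback.snd π (T.fromSpecResidueField (V.2.fromSpec p))) π
        (T.fromSpecResidueField (V.2.fromSpec p)) := IsPullback.of_hasPullback _ _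
    have hUY : (pullback.fst π (T.fromSpecResidueField (V.2.fromSpec p))) ⁻¹ᵁ U.1 =
        (pullback.fst π (T.fromSpecResidueField (V.2.fromSpec p))) ⁻¹ᵁ U.1 ⊓
          (pullback.snd π (T.fromSpecResidueField (V.2.fromSpec p))) ⁻¹ᵁ ⊤ := by simp
    have hTop : IsAffineOpen (⊤ : (Spec (T.residueField (V.2.fromSpec p))).Opens) :=
      isAffineOpen_top _
    have hiso := isIso_pushoutSection_of_isAffineOpen H (hUST p) hUV hUY V.2 hTop U.2
    have PO := (isIso_pushoutSection_iff H (hUST p) hUV hUY).mp hiso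
    have haff : IsAffineOpen
        ((pullback.fst π (T.fromSpecResidueField (V.2.fromSpec p))) ⁻¹ᵁ U.1) := by
      have : IsAffine _ := V.2
      have : IsAffine _ := hTop
      have : IsAffine _ := U.2
      exact .of_isIso (Scheme.Hom.isPullback_resLE H (hUST p) hUV hUY).isoPullback.hom
    have hle : (D.ideal U).map
        ((pullback.fst π (T.fromSpecResidueField (V.2.fromSpec p))).appLE U.1 _ le_rfl).hom ≤
        (D'.ideal U).map
        ((pullback.fst π (T.fromSpecResidueField (V.2.fromSpec p))).appLE U.1 _ le_rfl).hom := by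
      rw [← ideal_comap_of_le D _ U ⟨_, haff⟩ le_rfl, ← ideal_comap_of_le D' _ U ⟨_, haff⟩ le_rfl]
      exact hfib (V.2.fromSpec p) ⟨_, haff⟩
    exact tmul_eq_zero_of_isPushout PO (D.ideal U) (D'.ideal U) hle hx

theorem le_of_forall_fibre_le {𝒞 T : Scheme.{u}} [IsLocallyNoetherian T]
    [AlgebraicGeometry.IsReduced T]
    (π : 𝒞 ⟶ T) (D D' : 𝒞.IdealSheafData) (hflat : Flat (D'.subschemeι ≫ π))
    (hfib : ∀ t : ↥T, D.comap (pullback.fst π (T.fromSpecResidueField t)) ≤
      D'.comap (pullback.fst π (T.fromSpecResidueField t))) :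
    D ≤ D' := by
  refine Scheme.IdealSheafData.le_of_iSup_eq_top
    (ι := {U : 𝒞.affineOpens // ∃ V : T.affineOpens, U.1 ≤ π ⁻¹ᵁ V.1}) (fun U => U.1) ?_ ?_
  · rw [eq_top_iff]
    intro x _
    obtain ⟨V, hV, hxV, -⟩ := exists_isAffineOpen_mem_and_subset (x := π x) (U := ⊤) trivial
    obtain ⟨U, hU, hxU, hUV⟩ :=
      exists_isAffineOpen_mem_and_subset (x := x) (U := π ⁻¹ᵁ V) hxV
    exact TopologicalSpace.Opens.mem_iSup.mpr ⟨⟨⟨U, hU⟩, ⟨V, hV⟩, hUV⟩, hxU⟩
  · rintro ⟨U, V, hUV⟩
    exact ideal_le_of_forall_fibre_le π D D' hflat hfib V U hUV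

end Groth.Agent.H79.FibreLe
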