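import Mathlib
import Groth.Agent.H23.RegularLocal

/-!
# Torsion-free modules on fibres of dimension ≤ 1 (helper79) — algebra part

* `isDedekindDomain_of_dim_le_one`: a regular local ring of dimension `≤ 1` is a Dedekind domain.
* `flat_quot_of_torsionFree_tensor`: `φ : R → R'` surjective onto a regular local ring of dimension
  `≤ 1`, `M` an `R`-module with `R' ⊗_R M` torsion-free over `R'`. Then `M / (ker φ) M` is flat over
  `R / ker φ`.
-/

set_option autoImplicit false
set_option linter.style.haveILetI false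
set_option linter.unusedVariables false

universe u

open TensorProduct IsLocalRing

namespace Groth.Agent.H79.FibreTF

theorem isDedekindDomain_of_dim_le_one (Q : Type u) [CommRing Q] [IsRegularLocalRing Q]
    (h : ringKrullDim Q ≤ 1) : IsDomain Q ∧ IsDedekindDomain Q := by
  haveI hdom : IsDomain Q := Groth.Agent.H23.isDomain_of_isRegularLocalRing Q
  refine ⟨hdom, ?_⟩
  have h1 : (Module.finrank (ResidueField Q) (CotangentSpace Q) : WithBot ℕ∞) = ringKrullDim Q :=
    (IsRegularLocalRing.iff_finrank_cotangentSpace Q).mp inferInstance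
  have h2 : Module.finrank (ResidueField Q) (CotangentSpace Q) ≤ 1 := by
    rw [← h1] at h
    exact_mod_cast h
  exact ((tfae_of_isNoetherianRing_of_isLocalRing_of_isDomain (R := Q)).out 5 2).mp h2

set_option maxHeartbeats 800000 in
theorem flat_quot_of_torsionFree_tensor {R R' M N : Type u} [CommRing R] [CommRing R']
    (φ : R →+* R') (hφ : Function.Surjective φ) [IsRegularLocalRing R']
    (hdim : ringKrullDim R' ≤ 1) [AddCommGroup M] [Module R M] [AddCommGroup N] [Module R' N]
    (E : letI := φ.toAlgebra; N ≃ₗ[R'] R' ⊗[R] M) (htf : Module.IsTorsionFree R' N) :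
    Module.Flat (R ⧸ RingHom.ker φ) (M ⧸ (RingHom.ker φ • ⊤ : Submodule R M)) := by
  letI algRR' : Algebra R R' := φ.toAlgebra
  let e : (R ⧸ RingHom.ker φ) ≃+* R' := RingHom.quotientKerEquivOfSurjective hφ
  have he : ∀ r : R, e (Ideal.Quotient.mk _ r) = φ r := fun r => rfl
  haveI : IsRegularLocalRing (R ⧸ RingHom.ker φ) := IsRegularLocalRing.of_ringEquiv e.symm
  have hdimQ : ringKrullDim (R ⧸ RingHom.ker φ) ≤ 1 := by
    rw [ringKrullDim_eq_of_ringEquiv e]; exact hdim
  obtain ⟨hdomQ, hdedQ⟩ := isDedekindDomain_of_dim_le_one (R ⧸ RingHom.ker φ) hdimQ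
  obtain ⟨hdom', -⟩ := isDedekindDomain_of_dim_le_one R' hdim
  -- the `R`-linear identification `M / I M ≃ R' ⊗ M`
  let e1 : (R ⧸ RingHom.ker φ) ≃ₗ[R] R' :=
    { e.toAddEquiv with
      map_smul' := fun r x => by
        obtain ⟨x, rfl⟩ := Ideal.Quotient.mk_surjective x
        show e (r • Ideal.Quotient.mk _ x) = r • e (Ideal.Quotient.mk _ x)
        have h0 : r • Ideal.Quotient.mk (RingHom.ker φ) x = Ideal.Quotient.mk _ (r * x) := rfl
        rw [h0, he, he, map_mul, Algebra.smul_def]
        rfl }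
  let σ : (M ⧸ (RingHom.ker φ • ⊤ : Submodule R M)) ≃ₗ[R] R' ⊗[R] M :=
    (TensorProduct.quotTensorEquivQuotSMul M (RingHom.ker φ)).symm ≪≫ₗ
      (TensorProduct.congr e1 (LinearEquiv.refl R M))
  haveI htf' : Module.IsTorsionFree R' (R' ⊗[R] M) :=
    Function.Injective.moduleIsTorsionFree (N := N) E.symm E.symm.injective
      (fun r m => map_smul E.symm r m)
  haveI : Module.IsTorsionFree (R ⧸ RingHom.ker φ) (M ⧸ (RingHom.ker φ • ⊤ : Submodule R M)) := by
    rw [Module.isTorsionFree_iff_smul_eq_zero]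
    intro q m hqm
    obtain ⟨r, rfl⟩ := Ideal.Quotient.mk_surjective q
    have h1 : Ideal.Quotient.mk (RingHom.ker φ) r • m = r • m := by
      obtain ⟨m, rfl⟩ := Submodule.Quotient.mk_surjective _ m
      rfl
    rw [h1] at hqm
    have h2 : r • σ m = 0 := by rw [← map_smul, hqm, map_zero]
    have h3 : φ r • σ m = 0 := by
      rw [← h2]
      exact algebraMap_smul R' r (σ m)
    rcases (Module.isTorsionFree_iff_smul_eq_zero.mp htf') _ _ h3 with h | h
    · left
      exact Ideal.Quotient.eq_zero_iff_mem.mpr h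
    · right
      exact σ.map_eq_zero_iff.mp h
  infer_instance

end Groth.Agent.H79.FibreTF
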