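import Mathlib
import Groth.Prelude.Def_CInt
import Groth.Agent.H79.FibreTF
import Groth.Agent.H8.PullbackStalk
import Groth.Agent.H9.FiberStalk
import Groth.Agent.H79.RegSpreadSch

/-!
# Torsion-free modules on fibres of dimension ≤ 1 (helper79) — scheme part

`flat_fibre_quot_of_torsionFree`: `π : X ⟶ S` smooth, `F` quasi-coherent on `X`, `x` a point whose
fibre local ring has dimension `≤ 1`. If the stalk at `x` of the pullback of `F` to the fibre through
`x` is torsion-free then `F_x / m_s F_x` is flat over `O_{X,x} / m_s O_{X,x}`.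
-/

set_option autoImplicit false
set_option linter.style.haveILetI false
set_option linter.unusedVariables false

universe u

open AlgebraicGeometry CategoryTheory Limits IsLocalRing

namespace Groth.Agent.H79.FibreTF

variable {X S : Scheme.{u}}

set_option maxHeartbeats 1000000 in
theorem flat_fibre_quot_of_torsionFree (π : X ⟶ S) [Smooth π] (F : X.Modules)
    [F.IsQuasicoherent] (x₀ : X) (hdim : ringKrullDim ↑(CInt.fiberStalk π x₀) ≤ 1)
    (htf : Module.IsTorsionFree ↑((π.fiber (π x₀)).presheaf.stalk (π.asFiber x₀))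
      ↑(((Scheme.Modules.pullback (π.fiberι (π x₀))).obj F).presheaf.stalk (π.asFiber x₀))) :
    Module.Flat (↑(X.presheaf.stalk x₀) ⧸ Ideal.map (π.stalkMap x₀).hom
        (maximalIdeal ↑(S.presheaf.stalk (π x₀))))
      (↑(F.presheaf.stalk x₀) ⧸ (Ideal.map (π.stalkMap x₀).hom
        (maximalIdeal ↑(S.presheaf.stalk (π x₀))) •
          (⊤ : Submodule ↑(X.presheaf.stalk x₀) ↑(F.presheaf.stalk x₀)))) := by
  have key : ∀ (x : X) (hx : (π.fiberι (π x₀)) (π.asFiber x₀) = x),
      Module.Flat (↑(X.presheaf.stalk x) ⧸ Ideal.map (π.stalkMap x).hom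
        (maximalIdeal ↑(S.presheaf.stalk (π x))))
      (↑(F.presheaf.stalk x) ⧸ (Ideal.map (π.stalkMap x).hom
        (maximalIdeal ↑(S.presheaf.stalk (π x))) •
          (⊤ : Submodule ↑(X.presheaf.stalk x) ↑(F.presheaf.stalk x)))) := by
    intro x hx
    subst hx
    obtain ⟨hsurj, hker⟩ :=
      Groth.Agent.H9.stalkMap_fiberι_surjective_and_ker_eq π (π x₀) (π.asFiber x₀)
    obtain ⟨E⟩ := Groth.Agent.H8.nonempty_stalk_pullback_equiv (π.fiberι (π x₀)) F (π.asFiber x₀)
    haveI : IsRegularLocalRing ↑((π.fiber (π x₀)).presheaf.stalk (π.asFiber x₀)) :=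
      Groth.Agent.H79.RegSpreadSch.isRegularLocalRing_fiberStalk_of_smooth π x₀
    have h := flat_quot_of_torsionFree_tensor
      ((π.fiberι (π x₀)).stalkMap (π.asFiber x₀)).hom hsurj hdim E htf
    rw [hker] at h
    exact h
  exact key x₀ (π.fiberι_asFiber x₀)

end Groth.Agent.H79.FibreTF
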