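import Mathlib
import Groth.Prelude.Def_CAlgX
import Groth.Agent.H19.QRegBC

/-!
# A flatness criterion via Krull's intersection theorem (helper79)

* `flat_of_forall_flat_quot_pow`: `B` Noetherian local `A`-algebra, `J` a proper ideal of `B` with
  `B ⧸ J ^ n` flat over `A` for all `n` ⇒ `B` flat over `A`.
* `flat_of_isQuasiRegular_of_flat_quot`: `B` Noetherian local, `J` proper ideal generated by a
  quasi-regular sequence with `B ⧸ J` flat over `A` ⇒ `B` flat over `A`.
-/

set_option autoImplicit false
set_option linter.unusedVariables false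
set_option linter.style.haveILetI false

universe u

open TensorProduct

namespace Groth.Agent.H79.FlatKrull

/-- **Flatness from flatness modulo powers** (Noetherian local top ring). -/
theorem flat_of_forall_flat_quot_pow {A B : Type u} [CommRing A] [CommRing B] [Algebra A B]
    [IsNoetherianRing B] [IsLocalRing B] (J : Ideal B) (hJ : J ≠ ⊤)
    (h : ∀ n : ℕ, Module.Flat A (B ⧸ J ^ n)) : Module.Flat A B := by
  rw [Module.Flat.iff_lTensor_injective]
  intro I hI
  rw [injective_iff_map_eq_zero]
  intro x hx
  haveI : Module.Finite A I := Module.Finite.iff_fg.mpr hI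
  haveI : Module.Finite B (B ⊗[A] I) := inferInstance
  have hmem : ∀ n, x ∈ (J ^ n • ⊤ : Submodule B (B ⊗[A] I)) := by
    intro n
    haveI := h n
    let π : B →ₗ[A] B ⧸ J ^ n := (Ideal.Quotient.mkₐ A (J ^ n)).toLinearMap
    let ι : (J ^ n : Ideal B) →ₗ[A] B := ((J ^ n : Ideal B).subtype).restrictScalars A
    have hex : Function.Exact ι π := by
      intro b
      constructor
      · intro hb
        have hb' : b ∈ J ^ n := Ideal.Quotient.eq_zero_iff_mem.mp hb
        exact ⟨⟨b, hb'⟩, rfl⟩
      · rintro ⟨j, rfl⟩
        exact Ideal.Quotient.eq_zero_iff_mem.mpr j.2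
    have hπ : Function.Surjective π := Ideal.Quotient.mk_surjective
    have hinj : Function.Injective (I.subtype.lTensor (B ⧸ J ^ n)) :=
      Module.Flat.lTensor_preserves_injective_linearMap _ Subtype.val_injective
    have h1 : (π.rTensor I) x = 0 := by
      apply hinj
      rw [map_zero, ← LinearMap.comp_apply, LinearMap.lTensor_comp_rTensor,
        ← LinearMap.rTensor_comp_lTensor, LinearMap.comp_apply, hx, map_zero]
    have hex2 := rTensor_exact I hex hπ
    have hall : ∀ y : (J ^ n : Ideal B) ⊗[A] I,
        (ι.rTensor I) y ∈ (J ^ n • ⊤ : Submodule B (B ⊗[A] I)) := by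
      intro y
      induction y using TensorProduct.induction_on with
      | zero => rw [map_zero]; exact Submodule.zero_mem _
      | tmul j a =>
        have h2 : (ι.rTensor I) (j ⊗ₜ[A] a) = (j : B) • ((1 : B) ⊗ₜ[A] a) := by
          rw [LinearMap.rTensor_tmul, TensorProduct.smul_tmul', smul_eq_mul, mul_one]
          rfl
        rw [h2]
        exact Submodule.smul_mem_smul j.2 Submodule.mem_top
      | add y₁ y₂ h₁ h₂ => rw [map_add]; exact Submodule.add_mem _ h₁ h₂
    obtain ⟨y, rfl⟩ := (hex2 x).mp h1
    exact hall y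
  have hx' : x ∈ (⨅ n : ℕ, J ^ n • ⊤ : Submodule B (B ⊗[A] I)) := (Submodule.mem_iInf _).mpr hmem
  rw [Ideal.iInf_pow_smul_eq_bot_of_isLocalRing J hJ] at hx'
  exact (Submodule.mem_bot B).mp hx'

/-- **Flatness from a quasi-regular sequence with flat quotient** (Noetherian local top ring). -/
theorem flat_of_isQuasiRegular_of_flat_quot {A B : Type u} [CommRing A] [CommRing B] [Algebra A B]
    [IsNoetherianRing B] [IsLocalRing B] {r : ℕ} (f : Fin r → B) (hq : CAlgX.IsQuasiRegular f)
    (hJ : Ideal.span (Set.range f) ≠ ⊤) (hflat : Module.Flat A (B ⧸ Ideal.span (Set.range f))) :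
    Module.Flat A B :=
  flat_of_forall_flat_quot_pow (Ideal.span (Set.range f)) hJ
    (Groth.Agent.H19.QRegBC.flat_quot_pow A f hq)

end Groth.Agent.H79.FlatKrull
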