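import Groth.Agent.H48.FreeFlat_ALG1
import Groth.Agent.H77.FreeFlat_ALG2
import Groth.Agent.H35.FreeFlat_GEO1
import Groth.Agent.H65.FreeFlat_ACT
import Groth.Agent.H81.FreeFlat_FLAT
import Groth.Agent.H79.FreeSecMain
import Groth.Agent.S5137
import Groth.Agent.S2908

/-!
# A finite quotient by a freely acting group is a pseudo-torsor (helper79): assembly
-/

set_option autoImplicit false
set_option linter.style.haveILetI false
universe u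

open CategoryTheory CategoryTheory.Limits AlgebraicGeometry

namespace Groth.Agent.H79.FreeFlat

open Groth.Agent.H48.FreeFlat_ALG1 Groth.Agent.H77.FreeFlat_ALG2 Groth.Agent.H35.FreeFlat_GEO1
  Groth.Agent.H65.FreeFlat_ACT Groth.Agent.H81.FreeFlat_FLAT

theorem flat_of_free {X Y : Scheme.{u}} {G : Type u} [Group G] [Finite G] (ρ : G →* Aut X)
    (p : X ⟶ Y) (hp : SGA1.IsQuot ρ p)
    (hfree : ∀ (K : Type u) [Field K] [IsAlgClosed K] (ξ : Spec (CommRingCat.of K) ⟶ X) (g : G),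
      ξ ≫ (ρ g).hom = ξ → g = 1) : Flat p := by
  haveI := hp.affine
  apply flat_of_forall_app p
  intro V hV
  let σ : G → (Γ(X, p ⁻¹ᵁ V) →+* Γ(X, p ⁻¹ᵁ V)) := fun g =>
    ((ρ g).hom.appLE (p ⁻¹ᵁ V) (p ⁻¹ᵁ V) (SGA1.preimage_le_of_inv ρ p hp.inv g V)).hom
  have hσ1 : σ 1 = RingHom.id _ := by
    show ((ρ 1).hom.appLE _ _ _).hom = _
    have h1 : (ρ 1).hom = 𝟙 X := Groth.Agent.H79.FreeSec.hom_one ρ
    have : ∀ (f : X ⟶ X) (hf : f = 𝟙 X) (e : p ⁻¹ᵁ V ≤ f ⁻¹ᵁ (p ⁻¹ᵁ V)),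
        (f.appLE (p ⁻¹ᵁ V) (p ⁻¹ᵁ V) e).hom = RingHom.id _ := by
      rintro f rfl e
      ext b
      show ((𝟙 X : X ⟶ X).appLE (p ⁻¹ᵁ V) (p ⁻¹ᵁ V) e).hom b = b
      rw [Scheme.Hom.appLE]
      show (X.presheaf.map (𝟙 (Opposite.op (p ⁻¹ᵁ V)))).hom (((𝟙 X : X ⟶ X).app (p ⁻¹ᵁ V)).hom b) = b
      simp
      rfl
    exact this _ h1 _
  have hσmul : ∀ g h : G, (σ g).comp (σ h) = σ (h * g) := by
    intro g h
    show ((ρ g).hom.appLE _ _ _).hom.comp ((ρ h).hom.appLE _ _ _).hom = ((ρ (h * g)).hom.appLE _ _ _).hom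
    rw [← CommRingCat.hom_comp, Scheme.Hom.appLE_comp_appLE]
    have : ∀ (f f' : X ⟶ X) (hf : f = f') (e : p ⁻¹ᵁ V ≤ f ⁻¹ᵁ (p ⁻¹ᵁ V))
        (e' : p ⁻¹ᵁ V ≤ f' ⁻¹ᵁ (p ⁻¹ᵁ V)),
        (f.appLE (p ⁻¹ᵁ V) (p ⁻¹ᵁ V) e).hom = (f'.appLE (p ⁻¹ᵁ V) (p ⁻¹ᵁ V) e').hom := by
      rintro f f' rfl e e'
      rfl
    exact this _ _ (Groth.Agent.H79.FreeSec.hom_mul ρ h g).symm _ _
  letI : Algebra Γ(Y, V) Γ(X, p ⁻¹ᵁ V) := (p.app V).hom.toAlgebra
  have hA : ∀ (g : G) (a : Γ(Y, V)), σ g (algebraMap _ _ a) = algebraMap _ _ a := by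
    intro g a
    show ((ρ g).hom.appLE _ _ _).hom ((p.app V).hom a) = (p.app V).hom a
    rw [← CommRingCat.comp_apply, Scheme.Hom.app_eq_appLE, Scheme.Hom.appLE_comp_appLE]
    have : ∀ (f f' : X ⟶ Y) (hf : f = f') (e : p ⁻¹ᵁ V ≤ f ⁻¹ᵁ V)
        (e' : p ⁻¹ᵁ V ≤ f' ⁻¹ᵁ V),
        (f.appLE V (p ⁻¹ᵁ V) e).hom = (f'.appLE V (p ⁻¹ᵁ V) e').hom := by
      rintro f f' rfl e e'
      rfl
    exact congrFun (congrArg DFunLike.coe (this _ _ (hp.inv g) _ le_rfl)) a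
  obtain ⟨n, x, y, hxy1, hxy⟩ := exists_dual_system σ hσ1
    (fun g hg => span_eq_top_of_free ρ p hp hfree V hV g hg)
  show Module.Flat Γ(Y, V) Γ(X, p ⁻¹ᵁ V)
  exact flat_of_dual_system σ hσ1 hσmul hA (hp.injective V)
    (fun b hb => (hp.range_iff V b).mpr hb) n x y hxy1 hxy

theorem main {X Y : Scheme.{u}} {G : Type u} [Group G] [Finite G] (ρ : G →* Aut X)
    (p : X ⟶ Y) (hp : SGA1.IsQuot ρ p)
    (hfree : ∀ (K : Type u) [Field K] [IsAlgClosed K] (ξ : Spec (CommRingCat.of K) ⟶ X) (g : G),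
      ξ ≫ (ρ g).hom = ξ → g = 1) :
    IsIso (Sigma.desc (fun g : G => pullback.lift (𝟙 X) (ρ g).hom
        ((Category.id_comp p).trans (hp.inv g).symm)) : (∐ fun _ : G => X) ⟶ pullback p p) ∧
      Flat p ∧ Surjective p := by
  have hflat : Flat p := flat_of_free ρ p hp hfree
  refine ⟨?_, hflat, ⟨(Groth.Agent.S2908.result ρ p hp).1⟩⟩
  obtain ⟨ρ', h1, h2⟩ := exists_action_on_pullback ρ p hp.inv
  have hY : IsPullback p (𝟙 X) (𝟙 Y) p := IsPullback.of_vert_isIso ⟨by simp⟩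
  have hX : IsPullback (pullback.snd p p) (pullback.fst p p) p p :=
    (IsPullback.of_hasPullback p p).flip
  have hq : SGA1.IsQuot ρ' (pullback.fst p p) :=
    Groth.Agent.S5137.result ρ p hp (𝟙 Y) p p (𝟙 X) hY (pullback.snd p p) (pullback.fst p p) hX
      ρ' h1 h2
  have hfree' : ∀ (K : Type u) [Field K] [IsAlgClosed K]
      (ξ : Spec (CommRingCat.of K) ⟶ pullback p p) (g : G), ξ ≫ (ρ' g).hom = ξ → g = 1 := by
    intro K _ _ ξ g hξ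
    apply hfree K (ξ ≫ pullback.snd p p) g
    rw [Category.assoc, ← h1, ← Category.assoc, hξ]
  have key := Groth.Agent.H79.FreeSec.main ρ' (pullback.fst p p) hq hfree'
    (pullback.lift (𝟙 X) (𝟙 X) rfl) (pullback.lift_fst _ _ _)
  convert key using 2
  funext g
  apply pullback.hom_ext
  · rw [pullback.lift_fst, Category.assoc, h2, pullback.lift_fst]
  · rw [pullback.lift_snd, Category.assoc, h1, pullback.lift_snd_assoc, Category.id_comp]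

end Groth.Agent.H79.FreeFlat
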