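import Mathlib

set_option autoImplicit false
universe u v w

namespace Groth.Agent.H79.FreeReg

open IsLocalRing RingTheory.Sequence TensorProduct

theorem maximalIdeal_quot_eq_map {P : Type u} [CommRing P] [IsLocalRing P] (I : Ideal P)
    [Nontrivial (P ⧸ I)] [IsLocalRing (P ⧸ I)] :
    maximalIdeal (P ⧸ I) = (maximalIdeal P).map (Ideal.Quotient.mk I) := by
  haveI hloc : IsLocalHom (Ideal.Quotient.mk I) :=
    IsLocalHom.of_surjective _ Ideal.Quotient.mk_surjective
  have hcomap : (maximalIdeal (P ⧸ I)).comap (Ideal.Quotient.mk I) = maximalIdeal P :=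
    IsLocalRing.maximalIdeal_comap _
  rw [← hcomap, Ideal.map_comap_of_surjective _ Ideal.Quotient.mk_surjective]

/-- If the maximal ideal of a Noetherian local ring `R` is generated by a sequence which is weakly
regular on a finite module `M`, then `M` is free. -/
theorem free_of_regular_generators : ∀ (n : ℕ) (R : Type u) [CommRing R] [IsLocalRing R]
    [IsNoetherianRing R] (M : Type v) [AddCommGroup M] [Module R M] [Module.Finite R M]
    (xs : List R), xs.length = n → Ideal.ofList xs = maximalIdeal R → IsWeaklyRegular M xs →
    Module.Free R M := by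
  intro n
  induction n with
  | zero =>
    intro R _ _ _ M _ _ _ xs hlen hgen _
    have hnil : xs = [] := List.length_eq_zero_iff.mp hlen
    subst hnil
    have hbot : maximalIdeal R = ⊥ := by rw [← hgen, Ideal.ofList_nil]
    have hF : IsField R := IsLocalRing.isField_iff_maximalIdeal_eq.mpr hbot
    letI := hF.toField
    exact Module.Free.of_divisionRing R M
  | succ n ih =>
    intro R _ _ _ M _ _ _ xs hlen hgen hreg
    obtain ⟨x, xs', rfl⟩ : ∃ x xs', xs = x :: xs' := by
      cases xs with
      | nil => simp at hlen
      | cons x xs' => exact ⟨x, xs', rfl⟩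
    have hlen' : xs'.length = n := by simpa using hlen
    have hx : x ∈ maximalIdeal R := by
      rw [← hgen]
      exact Ideal.subset_span (by simp)
    rw [isWeaklyRegular_cons_iff] at hreg
    obtain ⟨hreg1, hreg2⟩ := hreg
    have hne : Ideal.span {x} ≠ ⊤ := by
      intro h
      have : maximalIdeal R = ⊤ := top_le_iff.mp (h ▸ (Ideal.span_singleton_le_iff_mem _).mpr hx)
      exact (maximalIdeal.isMaximal R).ne_top this
    haveI : Nontrivial (R ⧸ Ideal.span {x}) := Ideal.Quotient.nontrivial_iff.mpr hne
    haveI : IsLocalRing (R ⧸ Ideal.span {x}) :=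
      IsLocalRing.of_surjective' (Ideal.Quotient.mk (Ideal.span {x})) Ideal.Quotient.mk_surjective
    haveI : Module.Finite (R ⧸ Ideal.span {x}) (QuotSMulTop x M) :=
      Module.Finite.of_restrictScalars_finite R _ _
    have hreg' : IsWeaklyRegular (QuotSMulTop x M)
        (xs'.map (algebraMap R (R ⧸ Ideal.span {x}))) :=
      (isWeaklyRegular_map_algebraMap_iff (R ⧸ Ideal.span {x}) (QuotSMulTop x M) xs').mpr hreg2
    have hgen' : Ideal.ofList (xs'.map (algebraMap R (R ⧸ Ideal.span {x}))) =
        maximalIdeal (R ⧸ Ideal.span {x}) := by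
      rw [maximalIdeal_quot_eq_map, ← hgen, Ideal.ofList_cons, Ideal.map_sup, ← Ideal.map_ofList]
      have h0 : Ideal.map (Ideal.Quotient.mk (Ideal.span {x})) (Ideal.span {x}) = ⊥ :=
        Ideal.map_quotient_self _
      rw [h0, bot_sup_eq]
      rfl
    have hfree := ih (R ⧸ Ideal.span {x}) (QuotSMulTop x M) _ (by simpa using hlen') hgen' hreg'
    haveI : Module.FinitePresentation R M := Module.finitePresentation_of_finite R M
    have hjac : x ∈ (⊥ : Ideal R).jacobson := by
      rw [IsLocalRing.jacobson_eq_maximalIdeal ⊥ bot_ne_top]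
      exact hx
    exact (Module.free_quotSMulTop_iff_free R M hjac hreg1).mp hfree

/-- Minimal generators of a finite module over a local ring. -/
theorem exists_min_gens (R : Type u) [CommRing R] [IsLocalRing R]
    (X : Type v) [AddCommGroup X] [Module R X] [Module.Finite R X] :
    ∃ f : (Fin (Module.finrank (ResidueField R) (ResidueField R ⊗[R] X)) → R) →ₗ[R] X,
      Function.Surjective f := by
  classical
  let b := Module.finBasis (ResidueField R) (ResidueField R ⊗[R] X)
  have hsurj : Function.Surjective (TensorProduct.mk R (ResidueField R) X 1) :=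
    TensorProduct.mk_surjective R X (ResidueField R) Ideal.Quotient.mk_surjective
  choose g hg using fun i => hsurj (b i)
  have hspan := IsLocalRing.span_eq_top_of_tmul_eq_basis (R := R) g b hg
  refine ⟨Fintype.linearCombination R g, ?_⟩
  rw [← LinearMap.range_eq_top, Fintype.range_linearCombination, hspan]

/-- Over a local ring, if `M ⊗ N` is free with `M`, `N` finite and `N` nontrivial, then `M` is
free. -/
theorem free_of_free_tensor (R : Type u) [CommRing R] [IsLocalRing R]
    (M : Type v) [AddCommGroup M] [Module R M] [Module.Finite R M]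
    (N : Type w) [AddCommGroup N] [Module R N] [Module.Finite R N] [Nontrivial N]
    [Module.Free R (M ⊗[R] N)] : Module.Free R M := by
  classical
  obtain ⟨f, hf⟩ := exists_min_gens R M
  obtain ⟨g, hg⟩ := exists_min_gens R N
  generalize hm : Module.finrank (ResidueField R) (ResidueField R ⊗[R] M) = m at f hf
  generalize hn : Module.finrank (ResidueField R) (ResidueField R ⊗[R] N) = n at g hg
  -- n ≥ 1
  have hnpos : 0 < n := by
    rcases Nat.eq_zero_or_pos n with h0 | h0
    · exfalso
      have hsub : Subsingleton N := by
        refine ⟨fun a b => ?_⟩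
        obtain ⟨a', rfl⟩ := hg a
        obtain ⟨b', rfl⟩ := hg b
        congr 1
        funext i
        exact (Fin.elim0 (h0 ▸ i))
      exact not_subsingleton N hsub
    · exact h0
  -- rank of M ⊗ N
  have hrank : Module.finrank R (M ⊗[R] N) = m * n := by
    rw [← Module.finrank_baseChange (R := ResidueField R) (S := R) (M' := M ⊗[R] N),
      (AlgebraTensorModule.distribBaseChange R (ResidueField R) M N).finrank_eq,
      Module.finrank_tensorProduct, hm, hn]
  have hrank' : Module.finrank R ((Fin m → R) ⊗[R] (Fin n → R)) = m * n := by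
    rw [Module.finrank_tensorProduct, Module.finrank_fin_fun, Module.finrank_fin_fun]
  let e : (M ⊗[R] N) ≃ₗ[R] ((Fin m → R) ⊗[R] (Fin n → R)) :=
    LinearEquiv.ofFinrankEq _ _ (hrank.trans hrank'.symm)
  have hsurj : Function.Surjective (TensorProduct.map f g) := TensorProduct.map_surjective hf hg
  have hinj : Function.Injective (e.toLinearMap.comp (TensorProduct.map f g)) :=
    OrzechProperty.injective_of_surjective_endomorphism _ (e.surjective.comp hsurj)
  have hinj' : Function.Injective (TensorProduct.map f g) := by
    intro a b hab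
    exact hinj (by simp [hab])
  have hfinj : Function.Injective f := by
    rw [← LinearMap.ker_eq_bot, LinearMap.ker_eq_bot']
    intro a ha
    let j : Fin n := ⟨0, hnpos⟩
    have h1 : TensorProduct.map f g (a ⊗ₜ[R] (Pi.single j (1 : R))) = 0 := by
      rw [TensorProduct.map_tmul, ha, TensorProduct.zero_tmul]
    have h2 : a ⊗ₜ[R] (Pi.single j (1 : R) : Fin n → R) = 0 := hinj' (by rw [h1, map_zero])
    have h3 := congrArg (fun z => TensorProduct.rid R (Fin m → R)
      (LinearMap.lTensor (Fin m → R) (LinearMap.proj (R := R) (φ := fun _ : Fin n => R) j) z)) h2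
    simpa using h3
  exact Module.Free.of_equiv (LinearEquiv.ofBijective f ⟨hfinj, hf⟩)

end Groth.Agent.H79.FreeReg
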