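import Mathlib
import Groth.Prelude.Def_SGA1
import Groth.Agent.S2908

/-!
# Translates of a section of a finite quotient by a freely acting group (helper79, piece A of S2919)
-/

set_option autoImplicit false
set_option linter.style.haveILetI false
universe u

open CategoryTheory CategoryTheory.Limits AlgebraicGeometry

namespace Groth.Agent.H79.FreeSecA

theorem section_translates {X Y : Scheme.{u}} {G : Type u} [Group G] [Finite G] (ρ : G →* Aut X)
    (p : X ⟶ Y) (hp : SGA1.IsQuot ρ p)
    (hfree : ∀ (K : Type u) [Field K] [IsAlgClosed K] (ξ : Spec (CommRingCat.of K) ⟶ X) (g : G),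
      ξ ≫ (ρ g).hom = ξ → g = 1)
    (s : Y ⟶ X) (hs : s ≫ p = 𝟙 Y) :
    (∀ x : X, ∃ g : G, (ρ g).hom.base x ∈ Set.range s.base) ∧
    (∀ g : G, g ≠ 1 → ∀ x : X, x ∈ Set.range s.base → (ρ g).hom.base x ∉ Set.range s.base) := by
  obtain ⟨-, horb, -⟩ := Groth.Agent.S2908.result ρ p hp
  have hsp : ∀ y : Y, p.base (s.base y) = y := by
    intro y
    rw [← Scheme.Hom.comp_apply, hs]
    rfl
  haveI := hp.affine
  haveI : IsClosedImmersion (s ≫ p) := by rw [hs]; infer_instance
  haveI : IsClosedImmersion s := IsClosedImmersion.of_comp s p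
  refine ⟨?_, ?_⟩
  · intro x
    obtain ⟨g, hg⟩ := (horb x (s.base (p.base x))).mp (hsp _).symm
    exact ⟨g, hg ▸ ⟨_, rfl⟩⟩
  · rintro g hg1 _ ⟨y, rfl⟩ hmem
    apply hg1
    let K := AlgebraicClosure (Y.residueField y)
    let η : Spec (CommRingCat.of K) ⟶ Y :=
      Spec.map (CommRingCat.ofHom (algebraMap (Y.residueField y) K)) ≫ Y.fromSpecResidueField y
    have hη : ∀ a : Spec (CommRingCat.of K), η.base a = y := by
      intro a
      have : η.base a ∈ Set.range (Y.fromSpecResidueField y).base := ⟨_, rfl⟩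
      rw [Scheme.range_fromSpecResidueField] at this
      exact this
    apply hfree K (η ≫ s) g
    let ξ' : Spec (CommRingCat.of K) ⟶ X := (η ≫ s) ≫ (ρ g).hom
    haveI : Surjective (pullback.fst ξ' s) := by
      constructor
      intro a
      obtain ⟨y', hy'⟩ := hmem
      have hxa : ξ'.base a = s.base y' := by
        rw [hy']
        show (ρ g).hom.base (s.base (η.base a)) = _
        rw [hη]
      obtain ⟨z, hz, -⟩ := Scheme.Pullback.exists_preimage_pullback (f := ξ') (g := s) a y' hxa
      exact ⟨z, hz⟩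
    haveI : IsIso (pullback.fst ξ' s) := isIso_of_isClosedImmersion_of_surjective _
    let η' : Spec (CommRingCat.of K) ⟶ Y := inv (pullback.fst ξ' s) ≫ pullback.snd ξ' s
    have hη' : η' ≫ s = ξ' := by
      rw [Category.assoc, ← pullback.condition, IsIso.inv_hom_id_assoc]
    have hηη' : η' = η := by
      calc η' = η' ≫ s ≫ p := by rw [hs, Category.comp_id]
        _ = ξ' ≫ p := by rw [← Category.assoc, hη']
        _ = η ≫ s ≫ p := by
          show ((η ≫ s) ≫ (ρ g).hom) ≫ p = _
          rw [Category.assoc, hp.inv, Category.assoc]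
        _ = η := by rw [hs, Category.comp_id]
    show ξ' = η ≫ s
    rw [← hη', hηη']

end Groth.Agent.H79.FreeSecA
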