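import Mathlib

/-!
# An ideal which vanishes in enough localizations away from elements is zero
-/

set_option autoImplicit false

namespace Groth.Agent.H79.GrAway

theorem ideal_eq_bot_of_away {A : Type*} [CommRing A] (I : Ideal A)
    (h : ∀ 𝔭 : PrimeSpectrum A, ∃ a : A, a ∉ 𝔭.asIdeal ∧
      I.map (algebraMap A (Localization.Away a)) = ⊥) : I = ⊥ := by
  rw [eq_bot_iff]
  intro x hx
  rw [Ideal.mem_bot]
  let J : Ideal A := LinearMap.ker (LinearMap.toSpanSingleton A A x)
  have hJ : ∀ r : A, r ∈ J ↔ r * x = 0 := by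
    intro r
    simp [J, LinearMap.mem_ker, LinearMap.toSpanSingleton_apply]
  by_cases hJt : J = ⊤
  · have h1 : (1 : A) ∈ J := by rw [hJt]; trivial
    simpa using (hJ 1).mp h1
  · exfalso
    obtain ⟨𝔪, h𝔪, hJ𝔪⟩ := Ideal.exists_le_maximal J hJt
    obtain ⟨a, ha, hI⟩ := h ⟨𝔪, h𝔪.isPrime⟩
    have hx0 : algebraMap A (Localization.Away a) x = 0 := by
      have : algebraMap A (Localization.Away a) x ∈ I.map (algebraMap A (Localization.Away a)) :=
        Ideal.mem_map_of_mem _ hx
      rw [hI] at this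
      exact this
    obtain ⟨⟨_, n, rfl⟩, hn⟩ :=
      (IsLocalization.map_eq_zero_iff (Submonoid.powers a) (Localization.Away a) x).mp hx0
    have hmem : a ^ n ∈ J := (hJ _).mpr hn
    exact ha (h𝔪.isPrime.mem_of_pow_mem n (hJ𝔪 hmem))

end Groth.Agent.H79.GrAway
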