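import Mathlib

/-!
# Submodules of `A ⊗ M` stable under a family of endomorphisms of `M`: the stability ideal
-/

set_option autoImplicit false
universe u v w
open TensorProduct

namespace Groth.Agent.H79.GrStab

variable {R : Type u} [CommRing R] {M : Type v} [AddCommGroup M] [Module R M] {Λ : Type*}
  (T : Λ → M →ₗ[R] M)

/-- `N ⊆ A ⊗ M` is stable under all `id ⊗ T b`. -/
def Stable (A : Type w) [CommRing A] [Algebra R A] (N : Submodule A (A ⊗[R] M)) : Prop :=
  ∀ b, ∀ x ∈ N, (T b).baseChange A x ∈ N

/-- the ideal of `A` generated by all coordinates of the obstructions to stability -/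
def stabIdeal (A : Type w) [CommRing A] [Algebra R A] (N : Submodule A (A ⊗[R] M)) : Ideal A :=
  Ideal.span {a | ∃ (b : Λ) (x : A ⊗[R] M) (_ : x ∈ N) (l : (A ⊗[R] M ⧸ N) →ₗ[A] A),
    a = l (N.mkQ ((T b).baseChange A x))}

end Groth.Agent.H79.GrStab
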