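import Groth.Agent.H79.GrStabDefs

/-!
# Stability of the base change of a point of the Grassmannian is cut out by the stability ideal
-/

set_option autoImplicit false
universe u v w
open TensorProduct

namespace Groth.Agent.H79.GrStab

open TensorProduct.AlgebraTensorModule

section aux

variable {R : Type u} [CommRing R] {M : Type v} [AddCommGroup M] [Module R M]
  {A B : Type w} [CommRing A] [Algebra R A] [CommRing B] [Algebra R B] [Algebra A B]
  [IsScalarTower R A B]

theorem canc_baseChange (g : M →ₗ[R] M) (w : B ⊗[A] (A ⊗[R] M)) :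
    g.baseChange B (cancelBaseChange R A B B M w) =
      cancelBaseChange R A B B M ((g.baseChange A).baseChange B w) := by
  induction w using TensorProduct.induction_on with
  | zero => simp
  | add x y hx hy => rw [map_add, map_add, map_add, map_add, hx, hy]
  | tmul b z =>
    induction z using TensorProduct.induction_on with
    | zero => simp
    | add x y hx hy =>
      rw [TensorProduct.tmul_add, map_add, map_add, map_add, map_add, hx, hy]
    | tmul a m => simp

/-- if all coordinates of `y` in a projective module die in `B`, then `b ⊗ y = 0`. -/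
theorem tmul_eq_zero_of_coords {Q : Type*} [AddCommGroup Q] [Module A Q] [Module.Projective A Q]
    (y : Q) (h : ∀ l : Q →ₗ[A] A, algebraMap A B (l y) = 0) (b : B) :
    b ⊗ₜ[A] y = 0 := by
  obtain ⟨s, hs⟩ := Module.projective_def'.mp (inferInstance : Module.Projective A Q)
  have hy : y = Finsupp.linearCombination A id (s y) := by
    have := congrArg (fun F : Q →ₗ[A] Q => F y) hs
    exact this.symm
  rw [hy, Finsupp.linearCombination_apply, Finsupp.sum, TensorProduct.tmul_sum]
  refine Finset.sum_eq_zero fun i _ => ?_
  have hi : algebraMap A B ((s y) i) = 0 := h ((Finsupp.lapply i) ∘ₗ s)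
  rw [id, TensorProduct.tmul_smul, TensorProduct.smul_tmul', Algebra.smul_def, hi, zero_mul,
    TensorProduct.zero_tmul]

end aux

theorem stable_map_iff {R : Type u} [CommRing R] {M : Type v} [AddCommGroup M] [Module R M]
    {Λ : Type*} (T : Λ → M →ₗ[R] M) {A B : Type w} [CommRing A] [Algebra R A] [CommRing B]
    [Algebra R B] (f : A →ₐ[R] B) {e : ℕ} (N : Module.Grassmannian A (A ⊗[R] M) e) :
    Stable T B (Module.Grassmannian.map f N).toSubmodule ↔
      (stabIdeal T A N.toSubmodule).map f.toRingHom = ⊥ := by
  let _ : Algebra A B := f.toAlgebra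
  have : IsScalarTower R A B :=
    IsScalarTower.of_algebraMap_eq' <| by ext r; exact (f.commutes r).symm
  have hN' : (Module.Grassmannian.map f N).toSubmodule =
      LinearMap.ker (Module.Grassmannian.baseChangeMkQ B N.toSubmodule) := rfl
  have hq' : ∀ w : B ⊗[A] (A ⊗[R] M),
      Module.Grassmannian.baseChangeMkQ B N.toSubmodule (cancelBaseChange R A B B M w) =
        N.toSubmodule.mkQ.baseChange B w := by
    intro w
    simp [Module.Grassmannian.baseChangeMkQ]
  have hfalg : ∀ a : A, algebraMap A B a = f a := fun a => rfl
  rw [hN', Ideal.map_eq_bot_iff_le_ker]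
  constructor
  · intro hst
    unfold stabIdeal
    rw [Ideal.span_le]
    rintro a ⟨b, x, hx, l, rfl⟩
    rw [SetLike.mem_coe, RingHom.mem_ker]
    -- the point `φ x`
    have hφ : cancelBaseChange R A B B M ((1 : B) ⊗ₜ[A] x) ∈
        LinearMap.ker (Module.Grassmannian.baseChangeMkQ B N.toSubmodule) := by
      rw [LinearMap.mem_ker, hq', LinearMap.baseChange_tmul]
      have : N.toSubmodule.mkQ x = 0 := (Submodule.Quotient.mk_eq_zero _).mpr hx
      rw [this, TensorProduct.tmul_zero]
    have h1 := hst b _ hφ
    rw [LinearMap.mem_ker, canc_baseChange, hq', LinearMap.baseChange_tmul,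
      LinearMap.baseChange_tmul] at h1
    have h2 := congrArg (l.baseChange B) h1
    rw [LinearMap.baseChange_tmul, map_zero] at h2
    have h3 := congrArg (TensorProduct.rid A B) h2
    rw [TensorProduct.rid_tmul, map_zero, Algebra.smul_def, mul_one, hfalg] at h3
    exact h3
  · intro hI b x' hx'
    obtain ⟨s, hs⟩ := Module.projective_lifting_property N.toSubmodule.mkQ
      (LinearMap.id : (A ⊗[R] M ⧸ N.toSubmodule) →ₗ[A] _) (Submodule.mkQ_surjective _)
    set q := N.toSubmodule.mkQ with hq
    let p : A ⊗[R] M →ₗ[A] A ⊗[R] M := LinearMap.id - s ∘ₗ q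
    have hpN : ∀ z, p z ∈ N.toSubmodule := by
      intro z
      rw [← Submodule.Quotient.mk_eq_zero, ← Submodule.mkQ_apply]
      show q (z - s (q z)) = 0
      rw [map_sub]
      have := congrArg (fun F : (A ⊗[R] M ⧸ N.toSubmodule) →ₗ[A] _ => F (q z)) hs
      simp only [LinearMap.comp_apply, LinearMap.id_apply] at this
      rw [this, sub_self]
    set w := (cancelBaseChange R A B B M).symm x' with hw
    have hx'w : x' = cancelBaseChange R A B B M w := by rw [hw, LinearEquiv.apply_symm_apply]
    have hqw : q.baseChange B w = 0 := by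
      rw [← hq', ← hx'w]; exact hx'
    have hpw : p.baseChange B w = w := by
      have : p.baseChange B = LinearMap.id - (s.baseChange B) ∘ₗ (q.baseChange B) := by
        rw [← LinearMap.baseChange_comp, ← LinearMap.baseChange_id, ← LinearMap.baseChange_sub]
      rw [this, LinearMap.sub_apply, LinearMap.id_apply, LinearMap.comp_apply, hqw, map_zero,
        sub_zero]
    rw [LinearMap.mem_ker, hx'w, canc_baseChange, hq', ← hpw]
    -- D := q ∘ T ∘ p
    have hD : ∀ w' : B ⊗[A] (A ⊗[R] M),
        q.baseChange B (((T b).baseChange A).baseChange B (p.baseChange B w')) = 0 := by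
      intro w'
      induction w' using TensorProduct.induction_on with
      | zero => simp
      | add x y hx hy => rw [map_add, map_add, map_add, hx, hy, add_zero]
      | tmul b' z =>
        rw [LinearMap.baseChange_tmul, LinearMap.baseChange_tmul, LinearMap.baseChange_tmul]
        refine tmul_eq_zero_of_coords _ (fun l => ?_) b'
        rw [hfalg]
        have hmem : l (q ((T b).baseChange A (p z))) ∈ stabIdeal T A N.toSubmodule :=
          Ideal.subset_span ⟨b, p z, hpN z, l, rfl⟩
        exact hI hmem
    exact hD w

end Groth.Agent.H79.GrStab
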