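import Groth.Agent.H79.ClosedSubfunctor
import Groth.Agent.H79.GrStabMap
import Groth.Agent.H79.GrAway

/-!
# Submodules stable under a family of endomorphisms form a closed subscheme of the Grassmannian
-/

set_option autoImplicit false
universe u
open CategoryTheory CategoryTheory.Limits AlgebraicGeometry TensorProduct

namespace Groth.Agent.H79.GrassClosed

open Groth.Agent.H79.GrStab Groth.Agent.H79.GrAway Groth.Agent.H79.ClosedSubfunctor
  Groth.Agent.H79.ContentSch

/-- Lemma Q: an affine open of a scheme over `Spec B` -/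
theorem fromSpec_comp_eq {Y : Scheme.{u}} {B : CommRingCat.{u}} (t : Y ⟶ Spec B) {W : Y.Opens}
    (hW : IsAffineOpen W) :
    hW.fromSpec ≫ t = Spec.map ((Scheme.ΓSpecIso B).inv ≫ t.appLE ⊤ W le_top) := by
  rw [Spec.map_comp, ← IsAffineOpen.SpecMap_appLE_fromSpec t (isAffineOpen_top _) hW le_top,
    IsAffineOpen.fromSpec_top, Scheme.isoSpec_Spec_inv]

variable {R : Type u} [CommRing R] {M : Type u} [AddCommGroup M] [Module R M] {Λ : Type*}
  (T : Λ → M →ₗ[R] M) (e : ℕ) (X : Over (Spec (CommRingCat.of R)))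

/-- `Spec A` as a scheme over `Spec R` -/
noncomputable abbrev SpecA (A : CommAlgCat.{u} R) : Over (Spec (CommRingCat.of R)) :=
  Over.mk (Spec.map (CommRingCat.ofHom (algebraMap R A)))

variable
  (eX : ∀ A : CommAlgCat.{u} R,
    (SpecA A ⟶ X) ≃ (Module.Grassmannian.functor (R := R) (M := M) e).obj A)
  (heX : ∀ (A C : CommAlgCat.{u} R) (φ : A ⟶ C) (g : SpecA A ⟶ X) (g' : SpecA C ⟶ X),
    g'.left = Spec.map (CommRingCat.ofHom φ.hom.toRingHom) ≫ g.left →
      eX C g' = (Module.Grassmannian.functor (R := R) (M := M) e).map φ (eX A g))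

include heX in
theorem stable_iff_map {A C : CommAlgCat.{u} R} (φ : A ⟶ C) (g : SpecA A ⟶ X) (g' : SpecA C ⟶ X)
    (hg : g'.left = Spec.map (CommRingCat.ofHom φ.hom.toRingHom) ≫ g.left) :
    Stable T C (eX C g').toSubmodule ↔
      (stabIdeal T A (eX A g).toSubmodule).map φ.hom.toRingHom = ⊥ := by
  rw [heX A C φ g g' hg]
  exact stable_map_iff T φ.hom (eX A g)

theorem exists_hom_of_over {A C : CommAlgCat.{u} R} (g : SpecA A ⟶ X) (g' : SpecA C ⟶ X)
    (h : Spec (CommRingCat.of C) ⟶ Spec (CommRingCat.of A)) (hh : h ≫ g.left = g'.left) :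
    ∃ φ : A ⟶ C, h = Spec.map (CommRingCat.ofHom φ.hom.toRingHom) := by
  have hcomm : CommRingCat.ofHom (algebraMap R A) ≫ Spec.preimage h =
      CommRingCat.ofHom (algebraMap R C) := by
    apply Spec.map_injective
    rw [Spec.map_comp, Spec.map_preimage]
    have h1 : g.left ≫ X.hom = Spec.map (CommRingCat.ofHom (algebraMap R A)) := Over.w g
    have h2 : g'.left ≫ X.hom = Spec.map (CommRingCat.ofHom (algebraMap R C)) := Over.w g'
    rw [← h1, ← h2, ← hh, Category.assoc]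
  let ψ : A →ₐ[R] C :=
    { (Spec.preimage h).hom with
      commutes' := fun r => congrArg (fun F : CommRingCat.of R ⟶ CommRingCat.of C => F.hom r) hcomm }
  refine ⟨CommAlgCat.ofHom ψ, ?_⟩
  have : CommRingCat.ofHom (CommAlgCat.ofHom ψ).hom.toRingHom = Spec.preimage h := rfl
  rw [this, Spec.map_preimage]

/-- transport of a point along an algebra map -/
noncomputable def kmap {A C : CommAlgCat.{u} R} (g : SpecA A ⟶ X) (φ : A ⟶ C) : SpecA C ⟶ X :=
  Over.homMk (Spec.map (CommRingCat.ofHom φ.hom.toRingHom) ≫ g.left) (by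
    have h1 : g.left ≫ X.hom = Spec.map (CommRingCat.ofHom (algebraMap R A)) := Over.w g
    rw [Category.assoc, h1]
    show Spec.map _ ≫ Spec.map _ = Spec.map _
    rw [← Spec.map_comp]
    congr 1
    ext r
    exact φ.hom.commutes r)

/-- the subfunctor of stable points -/
def Cl ⦃T' : Scheme.{u}⦄ (g : T' ⟶ X.left) : Prop :=
  ∀ (A : CommAlgCat.{u} R) (k : SpecA A ⟶ X) (h : Spec (CommRingCat.of A) ⟶ T'),
    h ≫ g = k.left → Stable T A (eX A k).toSubmodule

include heX in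
theorem stabIdeal_eq_bot_iff {A : CommAlgCat.{u} R} (g : SpecA A ⟶ X) :
    Stable T A (eX A g).toSubmodule ↔ stabIdeal T A (eX A g).toSubmodule = ⊥ := by
  have := stable_iff_map T e X eX heX (𝟙 A) g g (by
    have : CommRingCat.ofHom (𝟙 A : A ⟶ A).hom.toRingHom = 𝟙 (CommRingCat.of A) := rfl
    rw [this, Spec.map_id, Category.id_comp])
  rw [this]
  have h2 : ((𝟙 A : A ⟶ A).hom.toRingHom : A →+* A) = RingHom.id A := rfl
  rw [h2, Ideal.map_id]

include heX in
theorem cl_iff {A : CommAlgCat.{u} R} (g : SpecA A ⟶ X) :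
    Cl T e X eX g.left ↔ Stable T A (eX A g).toSubmodule := by
  constructor
  · intro H
    exact H A g (𝟙 _) (Category.id_comp _)
  · intro hst A' k h hh
    obtain ⟨φ, hφ⟩ := exists_hom_of_over X g k h hh
    rw [stable_iff_map T e X eX heX φ g k (by rw [← hφ, hh]),
      (stabIdeal_eq_bot_iff T e X eX heX g).mp hst, Ideal.map_bot]

theorem cl_bc ⦃T' T'' : Scheme.{u}⦄ (g : T' ⟶ X.left) (h : T'' ⟶ T') (hg : Cl T e X eX g) :
    Cl T e X eX (h ≫ g) := by
  intro A k h' hh
  exact hg A k (h' ≫ h) (by rw [Category.assoc]; exact hh)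

include heX in
theorem cl_local ⦃T' : Scheme.{u}⦄ (g : T' ⟶ X.left) {ι : Type u} (W : ι → Scheme.{u})
    (p : ∀ i, W i ⟶ T') (hp : ∀ i, IsOpenImmersion (p i))
    (hsurj : ∀ x : T', ∃ i, ∃ w : W i, p i w = x) (H : ∀ i, Cl T e X eX (p i ≫ g)) :
    Cl T e X eX g := by
  intro A k h hh
  rw [stabIdeal_eq_bot_iff T e X eX heX k]
  apply ideal_eq_bot_of_away
  intro 𝔭
  obtain ⟨i, w, hw⟩ := hsurj (h 𝔭)
  have hopen : IsOpen (h ⁻¹' Set.range (p i)) :=
    (hp i).isOpen_range.preimage h.continuous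
  have h𝔭 : 𝔭 ∈ h ⁻¹' Set.range (p i) := ⟨w, hw⟩
  obtain ⟨_, ⟨_, ⟨a, rfl⟩, rfl⟩, h𝔭a, haU⟩ :=
    PrimeSpectrum.isBasis_basic_opens.exists_subset_of_mem_open h𝔭 hopen
  refine ⟨a, h𝔭a, ?_⟩
  let Aa : CommAlgCat.{u} R := CommAlgCat.of R (Localization.Away a)
  let φ : A ⟶ Aa := CommAlgCat.ofHom (IsScalarTower.toAlgHom R A (Localization.Away a))
  have hrange : Set.range (Spec.map (CommRingCat.ofHom φ.hom.toRingHom) ≫ h) ⊆
      Set.range (p i) := by
    rintro _ ⟨y, rfl⟩
    apply haU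
    have : (Spec.map (CommRingCat.ofHom φ.hom.toRingHom)) y ∈
        Set.range (PrimeSpectrum.comap (algebraMap A (Localization.Away a))) := ⟨y, rfl⟩
    rw [PrimeSpectrum.localization_away_comap_range (Localization.Away a) a] at this
    exact this
  have hpi := hp i
  have hl : IsOpenImmersion.lift (p i) (Spec.map (CommRingCat.ofHom φ.hom.toRingHom) ≫ h) hrange ≫
      p i = Spec.map (CommRingCat.ofHom φ.hom.toRingHom) ≫ h := IsOpenImmersion.lift_fac _ _ _
  have hst := H i Aa (kmap X k φ) (IsOpenImmersion.lift (p i) _ hrange) (by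
    rw [← Category.assoc, hl, Category.assoc, hh]; rfl)
  exact (stable_iff_map T e X eX heX φ k (kmap X k φ) rfl).mp hst

include heX in
theorem cl_affine (V : X.left.affineOpens) :
    ∃ c : (Spec Γ(X.left, V.1)).IdealSheafData, ACuts (Cl T e X eX) V.2.fromSpec c := by
  let ρ : CommRingCat.of R ⟶ Γ(X.left, V.1) :=
    (Scheme.ΓSpecIso (CommRingCat.of R)).inv ≫ X.hom.appLE ⊤ V.1 le_top
  let _ : Algebra R Γ(X.left, V.1) := ρ.hom.toAlgebra
  let AV : CommAlgCat.{u} R := CommAlgCat.of R Γ(X.left, V.1)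
  have hρ : V.2.fromSpec ≫ X.hom = Spec.map ρ := fromSpec_comp_eq X.hom V.2
  let kV : SpecA AV ⟶ X := Over.homMk V.2.fromSpec hρ
  refine ⟨Scheme.IdealSheafData.ofIdealTop ((stabIdeal T AV (eX AV kV).toSubmodule).map
    (Scheme.ΓSpecIso Γ(X.left, V.1)).inv.hom), ?_⟩
  intro T' t
  rw [ofIdealTop_le_ker_iff]
  constructor
  · intro hcl
    rw [Ideal.map_le_iff_le_comap]
    intro x hx
    rw [Ideal.mem_comap, RingHom.mem_ker]
    refine T'.IsSheaf.section_ext ?_
    intro y _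
    obtain ⟨_, ⟨W, hW, rfl⟩, hyW, -⟩ :=
      T'.isBasis_affineOpens.exists_subset_of_mem_open (Set.mem_univ y) isOpen_univ
    refine ⟨W, le_top, hyW, ?_⟩
    rw [map_zero]
    let ψ : Γ(X.left, V.1) ⟶ Γ(T', W) :=
      (Scheme.ΓSpecIso Γ(X.left, V.1)).inv ≫ t.appLE ⊤ W le_top
    let _ : Algebra R Γ(T', W) := (ψ.hom.comp (algebraMap R Γ(X.left, V.1))).toAlgebra
    let AW : CommAlgCat.{u} R := CommAlgCat.of R Γ(T', W)
    let φ : AV ⟶ AW := CommAlgCat.ofHom
      ({ ψ.hom with commutes' := fun r => rfl } : Γ(X.left, V.1) →ₐ[R] Γ(T', W))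
    have hW' : hW.fromSpec ≫ t = Spec.map ψ := fromSpec_comp_eq t hW
    have hst := hcl AW (kmap X kV φ) hW.fromSpec (by rw [← Category.assoc, hW']; rfl)
    have h0 := (stable_iff_map T e X eX heX φ kV (kmap X kV φ) rfl).mp hst
    have h1 : ψ.hom x ∈ (⊥ : Ideal Γ(T', W)) := by
      rw [← h0]; exact Ideal.mem_map_of_mem _ hx
    rw [Ideal.mem_bot] at h1
    exact h1
  · intro hle A k h hh
    obtain ⟨φ, hφ⟩ := exists_hom_of_over X kV k (h ≫ t) (by rw [Category.assoc]; exact hh)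
    rw [stable_iff_map T e X eX heX φ kV k (by rw [← hφ, Category.assoc]; exact hh.symm),
      eq_bot_iff, Ideal.map_le_iff_le_comap]
    intro x hx
    rw [Ideal.mem_comap, Ideal.mem_bot]
    have h0 : t.appTop.hom ((Scheme.ΓSpecIso Γ(X.left, V.1)).inv.hom x) = 0 :=
      hle (Ideal.mem_map_of_mem _ hx)
    have hnat := Scheme.ΓSpecIso_naturality (CommRingCat.ofHom φ.hom.toRingHom)
    rw [← hφ, Scheme.Hom.comp_appTop] at hnat
    have h2 := congrArg (fun F => F.hom ((Scheme.ΓSpecIso Γ(X.left, V.1)).inv.hom x)) hnat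
    simp only [CommRingCat.hom_comp, RingHom.comp_apply] at h2
    rw [h0, map_zero, map_zero] at h2
    have h3 : (Scheme.ΓSpecIso Γ(X.left, V.1)).hom.hom
        ((Scheme.ΓSpecIso Γ(X.left, V.1)).inv.hom x) = x := by
      have := congrArg (fun F => F.hom x) (Scheme.ΓSpecIso Γ(X.left, V.1)).inv_hom_id
      simpa using this
    exact (h2.trans (congrArg (fun z => (CommRingCat.ofHom φ.hom.toRingHom).hom z) h3)).symm

include heX in
/-- **Main theorem**: the stable locus is a closed subscheme. -/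
theorem exists_closed :
    ∃ (Z : Scheme.{u}) (i : Z ⟶ X.left), IsClosedImmersion i ∧
      ∀ (A : CommAlgCat.{u} R) (g : SpecA A ⟶ X),
        (∃ h : (SpecA A).left ⟶ Z, h ≫ i = g.left) ↔ Stable T A (eX A g).toSubmodule := by
  obtain ⟨c, hc⟩ := exists_acuts (Cl T e X eX) (cl_bc T e X eX) (cl_local T e X eX heX)
    (cl_affine T e X eX heX)
  refine ⟨c.subscheme, c.subschemeι, inferInstance, ?_⟩
  intro A g
  rw [← cl_iff T e X eX heX g, hc _ g.left, H50.le_ker_iff_factors]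

end Groth.Agent.H79.GrassClosed
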