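import Groth.Agent.H79.HilbClosedLib

/-!
# `Hilb^d_X` is a closed subscheme of `Hilb^d_Y` for a closed immersion `X ⟶ Y`
-/

set_option autoImplicit false
universe u
open CategoryTheory CategoryTheory.Limits AlgebraicGeometry

namespace Groth.Agent.H79.HilbClosed

open Groth.Agent.H79.HilbClosedLib Groth.Agent.H79.SecSum Groth.Agent.H79.HilbPull

variable {X Y S : Scheme.{u}} (i : X ⟶ Y) [IsClosedImmersion i] (g : Y ⟶ S)

/-- the closed subscheme `H' ⊆ H` over which the universal family lies in `X`, with its universal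
family, the universal property, and the compatibility with the inclusion. -/
theorem exists_closed_universal (d : ℕ) (H : Over S) (Z : HilbD.Obj g d H)
    (hZ : HilbD.IsUniversal g d H Z) :
    ∃ (H' : Over S) (Z' : HilbD.Obj (i ≫ g) d H') (m₁ : H' ⟶ H),
      HilbD.IsUniversal (i ≫ g) d H' Z' ∧ IsClosedImmersion m₁.left ∧
      HilbD.pull g m₁ Z.1 = HilbD.push i g H' Z'.1 := by
  obtain ⟨c, hc⟩ := le_locus_global (PicF.XTproj g H) (iT i g H).ker Z.1 Z.2.1
  let H' : Over S := Over.mk (c.subschemeι ≫ H.hom)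
  let m₁ : H' ⟶ H := Over.homMk c.subschemeι rfl
  -- the universal family over `H'` lies in `X_{H'}`
  have hker : ∀ {T : Over S} (t : T ⟶ H), (iT i g H).ker.comap (PicF.XTmap g t) = (iT i g T).ker :=
    fun t => comap_ker_of_isPullback (sqIT i g t).flip
  have hstar : (iT i g H').ker ≤ HilbD.pull g m₁ Z.1 := by
    rw [pull_eq_comap, ← hker m₁]
    refine (hc _ _ c.subschemeι _ _ (sqXT g m₁)).mpr ?_
    rw [Scheme.IdealSheafData.ker_subschemeι]
  have hpush : HilbD.push i g H' ((HilbD.pull g m₁ Z.1).comap (iT i g H')) =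
      HilbD.pull g m₁ Z.1 := by
    rw [push_eq_map]
    exact map_comap_of_le _ _ hstar
  have hobj : Mor2.IsFinLocFreeOfDeg d
      (((HilbD.pull g m₁ Z.1).comap (iT i g H')).subschemeι ≫ PicF.XTproj (i ≫ g) H') := by
    rw [← push_obj_iff, hpush]
    exact pull_obj g m₁ d Z.1 Z.2
  let Z' : HilbD.Obj (i ≫ g) d H' := ⟨(HilbD.pull g m₁ Z.1).comap (iT i g H'), hobj⟩
  have hm₁ : Mono m₁ := by
    constructor
    intro T a b hab
    apply Over.OverMorphism.ext
    have h1 : a.left ≫ c.subschemeι = b.left ≫ c.subschemeι := congrArg (fun k => k.left) hab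
    exact (cancel_mono c.subschemeι).mp h1
  refine ⟨H', Z', m₁, ?_, ?_, hpush.symm⟩
  · -- universality
    intro T ZT
    have hZT : Mor2.IsFinLocFreeOfDeg d
        ((HilbD.push i g T ZT.1).subschemeι ≫ PicF.XTproj g T) :=
      (push_obj_iff i g T d ZT.1).mpr ZT.2
    obtain ⟨t, ht, htu⟩ := hZ T ⟨HilbD.push i g T ZT.1, hZT⟩
    have ht' : HilbD.pull g t Z.1 = HilbD.push i g T ZT.1 := ht
    have hct : c ≤ t.left.ker := by
      refine (hc _ _ t.left _ _ (sqXT g t)).mp ?_
      rw [hker t, ← pull_eq_comap, ht']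
      exact ker_iT_le_push i g T ZT.1
    have hlift : c.subschemeι.ker ≤ t.left.ker := by
      rwa [Scheme.IdealSheafData.ker_subschemeι]
    let t' : T ⟶ H' := Over.homMk (IsClosedImmersion.lift c.subschemeι t.left hlift) (by
      show IsClosedImmersion.lift c.subschemeι t.left hlift ≫ c.subschemeι ≫ H.hom = T.hom
      rw [← Category.assoc, IsClosedImmersion.lift_fac, Over.w t])
    have ht'm : t' ≫ m₁ = t := by
      apply Over.OverMorphism.ext
      exact IsClosedImmersion.lift_fac _ _ _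
    refine ⟨t', ?_, ?_⟩
    · show HilbD.pull (i ≫ g) t' Z'.1 = ZT.1
      apply push_injective i g T
      rw [← pull_push, hpush, ← pull_comp, ht'm, ht']
    · intro t'' ht''
      have ht''' : HilbD.pull (i ≫ g) t'' Z'.1 = ZT.1 := ht''
      have h2 : HilbD.pull g (t'' ≫ m₁) Z.1 = HilbD.push i g T ZT.1 := by
        rw [pull_comp, ← hpush, pull_push, ht''']
      have h3 : t'' ≫ m₁ = t := htu _ h2
      exact (cancel_mono m₁).mp (h3.trans ht'm.symm)
  · show IsClosedImmersion c.subschemeι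
    infer_instance

/-- uniqueness of representing objects, and the closed immersion. -/
theorem isClosedImmersion_of_universal (d : ℕ) (H : Over S) (Z : HilbD.Obj g d H)
    (hZ : HilbD.IsUniversal g d H Z) (H'' : Over S) (Z'' : HilbD.Obj (i ≫ g) d H'')
    (hZ'' : HilbD.IsUniversal (i ≫ g) d H'' Z'') (m : H'' ⟶ H)
    (hm : HilbD.pull g m Z.1 = HilbD.push i g H'' Z''.1) : IsClosedImmersion m.left := by
  obtain ⟨H', Z', m₁, hZ', hcl, hm₁⟩ := exists_closed_universal i g d H Z hZ
  obtain ⟨φ, hφ, -⟩ := hZ' H'' Z''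
  obtain ⟨ψ, hψ, -⟩ := hZ'' H' Z'
  have hφ' : HilbD.pull (i ≫ g) φ Z'.1 = Z''.1 := hφ
  have hψ' : HilbD.pull (i ≫ g) ψ Z''.1 = Z'.1 := hψ
  have h1 : φ ≫ ψ = 𝟙 H'' := by
    refine (hZ'' H'' Z'').unique ?_ ?_
    · show HilbD.pull (i ≫ g) (φ ≫ ψ) Z''.1 = Z''.1
      rw [pull_comp, hψ', hφ']
    · exact pull_id _ _ _
  have h2 : ψ ≫ φ = 𝟙 H' := by
    refine (hZ' H' Z').unique ?_ ?_
    · show HilbD.pull (i ≫ g) (ψ ≫ φ) Z'.1 = Z'.1
      rw [pull_comp, hφ', hψ']
    · exact pull_id _ _ _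
  have hiso : IsIso φ.left := by
    refine ⟨ψ.left, ?_, ?_⟩
    · exact congrArg (fun k => k.left) h1
    · exact congrArg (fun k => k.left) h2
  have hfac : m = φ ≫ m₁ := by
    have hobj : Mor2.IsFinLocFreeOfDeg d
        ((HilbD.push i g H'' Z''.1).subschemeι ≫ PicF.XTproj g H'') :=
      (push_obj_iff i g H'' d Z''.1).mpr Z''.2
    refine (hZ H'' ⟨HilbD.push i g H'' Z''.1, hobj⟩).unique hm ?_
    show HilbD.pull g (φ ≫ m₁) Z.1 = HilbD.push i g H'' Z''.1
    rw [pull_comp, hm₁, pull_push, hφ']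
  have : m.left = φ.left ≫ m₁.left := congrArg (fun k => k.left) hfac
  rw [this]
  infer_instance

end Groth.Agent.H79.HilbClosed
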