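import Groth.Agent.H79.ContentSch
import Groth.Agent.H79.HilbPull

/-!
# The locus where two finite locally free closed subschemes agree is closed; separatedness of `Hilb^d`
-/

set_option autoImplicit false
universe u
open CategoryTheory CategoryTheory.Limits AlgebraicGeometry

namespace Groth.Agent.H79.HilbSep

open Groth.Agent.H79.ContentSch Groth.Agent.H79.SecSum Groth.Agent.H79.HilbPull

/-- the locus of the base over which `V(I₂) ⊆ V(I₁)` is closed, when `V(I₂)` is finite locally free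
over the (affine) base. -/
theorem exists_le_locus {Y W : Scheme.{u}} [IsAffine W] (p : Y ⟶ W) (I₁ I₂ : Y.IdealSheafData)
    (h₂ : Mor2.IsFinLocFree (I₂.subschemeι ≫ p)) :
    ∃ c : W.IdealSheafData, ∀ (T' Y' : Scheme.{u}) (t : T' ⟶ W) (m : Y' ⟶ Y) (p' : Y' ⟶ T'),
      IsPullback m p' p t → (I₁.comap m ≤ I₂.comap m ↔ c ≤ t.ker) := by
  obtain ⟨hfin, hflat, hfp⟩ := h₂
  obtain ⟨c, hc⟩ := exists_content (I₂.subschemeι ≫ p) (I₁.comap I₂.subschemeι)
  refine ⟨c, ?_⟩
  intro T' Y' t m p' hpb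
  have hpb2 : IsPullback (pullback.fst I₂.subschemeι m) (pullback.snd I₂.subschemeι m ≫ p')
      (I₂.subschemeι ≫ p) t := (IsPullback.of_hasPullback I₂.subschemeι m).paste_vert hpb
  have key : (I₁.comap I₂.subschemeι).comap (pullback.fst I₂.subschemeι m) =
      (I₁.comap m).comap (pullback.snd I₂.subschemeι m) := by
    rw [← Scheme.IdealSheafData.comap_comp, ← Scheme.IdealSheafData.comap_comp,
      pullback.condition]
  rw [← hc T' _ t _ _ hpb2, ← Scheme.IdealSheafData.map_bot (pullback.fst I₂.subschemeι m),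
    Scheme.IdealSheafData.le_map_iff_comap_le, key,
    ← Scheme.IdealSheafData.le_map_iff_comap_le (f := pullback.snd I₂.subschemeι m),
    Scheme.IdealSheafData.map_bot, ker_snd_eq_comap]

/-- the locus of the base over which two finite locally free closed subschemes agree is closed. -/
theorem exists_eq_locus {Y W : Scheme.{u}} [IsAffine W] (p : Y ⟶ W) (I₁ I₂ : Y.IdealSheafData)
    (h₁ : Mor2.IsFinLocFree (I₁.subschemeι ≫ p)) (h₂ : Mor2.IsFinLocFree (I₂.subschemeι ≫ p)) :
    ∃ c : W.IdealSheafData, ∀ (T' Y' : Scheme.{u}) (t : T' ⟶ W) (m : Y' ⟶ Y) (p' : Y' ⟶ T'),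
      IsPullback m p' p t → (I₁.comap m = I₂.comap m ↔ c ≤ t.ker) := by
  obtain ⟨c₁, hc₁⟩ := exists_le_locus p I₁ I₂ h₂
  obtain ⟨c₂, hc₂⟩ := exists_le_locus p I₂ I₁ h₁
  refine ⟨c₁ ⊔ c₂, ?_⟩
  intro T' Y' t m p' hpb
  rw [sup_le_iff, ← hc₁ T' Y' t m p' hpb, ← hc₂ T' Y' t m p' hpb]
  exact ⟨fun h => ⟨h.le, h.ge⟩, fun h => le_antisymm h.1 h.2⟩

variable {X S : Scheme.{u}} (f : X ⟶ S)

/-- Hilbert-functor form of `exists_eq_locus`. -/
theorem exists_eq_locus_pull (W : Over S) [IsAffine W.left] (I₁ I₂ : (PicF.XT f W).IdealSheafData)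
    (h₁ : Mor2.IsFinLocFree (I₁.subschemeι ≫ PicF.XTproj f W))
    (h₂ : Mor2.IsFinLocFree (I₂.subschemeι ≫ PicF.XTproj f W)) :
    ∃ c : W.left.IdealSheafData, ∀ (T' : Over S) (t : T' ⟶ W),
      (HilbD.pull f t I₁ = HilbD.pull f t I₂ ↔ c ≤ t.left.ker) := by
  obtain ⟨c, hc⟩ := exists_eq_locus (PicF.XTproj f W) I₁ I₂ h₁ h₂
  refine ⟨c, fun T' t => ?_⟩
  rw [pull_eq_comap, pull_eq_comap]
  exact hc _ _ _ _ _ (sqXT f t)

/-- if `Hilb^d` is representable by `H`, the diagonal of `H ⟶ S` is a closed immersion. -/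
theorem isClosedImmersion_diagonal (d : ℕ) (H : Over S) (Z : HilbD.Obj f d H)
    (hZ : HilbD.IsUniversal f d H Z) : IsClosedImmersion (pullback.diagonal H.hom) := by
  refine IsZariskiLocalAtTarget.of_openCover (P := @IsClosedImmersion)
    (pullback H.hom H.hom).affineCover ?_
  intro i
  set w := (pullback H.hom H.hom).affineCover.f i with hw
  show IsClosedImmersion (pullback.snd (pullback.diagonal H.hom) w)
  set q := pullback.snd (pullback.diagonal H.hom) w with hq
  let Wo : Over S := Over.mk (w ≫ pullback.fst H.hom H.hom ≫ H.hom)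
  have : IsAffine Wo.left := by
    show IsAffine ((pullback H.hom H.hom).affineCover.X i)
    infer_instance
  let g₁ : Wo ⟶ H := Over.homMk (w ≫ pullback.fst H.hom H.hom) (by simp [Wo])
  let g₂ : Wo ⟶ H := Over.homMk (w ≫ pullback.snd H.hom H.hom)
    (by simp [Wo, pullback.condition])
  have ho₁ := pull_obj f g₁ d Z.1 Z.2
  have ho₂ := pull_obj f g₂ d Z.1 Z.2
  obtain ⟨c, hc⟩ := exists_eq_locus_pull f Wo (HilbD.pull f g₁ Z.1) (HilbD.pull f g₂ Z.1)
    ho₁.1 ho₂.1
  -- (i) `q` factors through `V(c)`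
  have hqw : q ≫ w = pullback.fst (pullback.diagonal H.hom) w ≫ pullback.diagonal H.hom :=
    pullback.condition.symm
  let Eo : Over S := Over.mk (q ≫ Wo.hom)
  let qo : Eo ⟶ Wo := Over.homMk q rfl
  have e1 : qo ≫ g₁ = qo ≫ g₂ := by
    apply Over.OverMorphism.ext
    show q ≫ w ≫ pullback.fst H.hom H.hom = q ≫ w ≫ pullback.snd H.hom H.hom
    rw [← Category.assoc, ← Category.assoc, hqw, Category.assoc, Category.assoc,
      pullback.diagonal_fst, pullback.diagonal_snd]
  have hcq : c ≤ q.ker := by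
    refine (hc Eo qo).mp ?_
    rw [← pull_comp, ← pull_comp, e1]
  have hlift : c.subschemeι.ker ≤ q.ker := by rwa [Scheme.IdealSheafData.ker_subschemeι]
  -- (ii) `V(c)` maps to the equaliser
  let Vo : Over S := Over.mk (c.subschemeι ≫ Wo.hom)
  let ιo : Vo ⟶ Wo := Over.homMk c.subschemeι rfl
  have e2 : HilbD.pull f (ιo ≫ g₁) Z.1 = HilbD.pull f (ιo ≫ g₂) Z.1 := by
    rw [pull_comp, pull_comp]
    refine (hc Vo ιo).mpr ?_
    show c ≤ c.subschemeι.ker
    rw [Scheme.IdealSheafData.ker_subschemeι]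
  have e3 : ιo ≫ g₁ = ιo ≫ g₂ :=
    (hZ Vo ⟨HilbD.pull f (ιo ≫ g₁) Z.1, pull_obj f _ d Z.1 Z.2⟩).unique rfl e2.symm
  have e4 : c.subschemeι ≫ w ≫ pullback.fst H.hom H.hom =
      c.subschemeι ≫ w ≫ pullback.snd H.hom H.hom := congrArg (fun k => k.left) e3
  have e5 : (c.subschemeι ≫ w ≫ pullback.fst H.hom H.hom) ≫ pullback.diagonal H.hom =
      c.subschemeι ≫ w := by
    apply pullback.hom_ext
    · simp only [Category.assoc, pullback.diagonal_fst, Category.comp_id]
    · simp only [Category.assoc, pullback.diagonal_snd, Category.comp_id]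
      exact e4
  let r := pullback.lift (c.subschemeι ≫ w ≫ pullback.fst H.hom H.hom) c.subschemeι e5
  have hr : r ≫ q = c.subschemeι := pullback.lift_snd _ _ _
  let e := IsClosedImmersion.lift c.subschemeι q hlift
  have he : e ≫ c.subschemeι = q := IsClosedImmersion.lift_fac _ _ _
  have her : e ≫ r = 𝟙 _ := by
    rw [← cancel_mono q, Category.assoc, hr, he, Category.id_comp]
  have hre : r ≫ e = 𝟙 _ := by
    rw [← cancel_mono c.subschemeι, Category.assoc, he, hr, Category.id_comp]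
  have : IsIso e := ⟨r, her, hre⟩
  rw [← he]
  infer_instance

end Groth.Agent.H79.HilbSep
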