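import Groth.Agent.H79.ContentGlobal
import Groth.Agent.H79.HilbSep

/-!
# Lemmas for `Hilb_X ⟶ Hilb_Y` along a closed immersion `X ⟶ Y`
-/

set_option autoImplicit false
universe u
open CategoryTheory CategoryTheory.Limits AlgebraicGeometry

namespace Groth.Agent.H79.HilbClosedLib

open Groth.Agent.H79.ContentGlobal Groth.Agent.H79.SecSum Groth.Agent.H79.HilbPull

section lattice

/-- base change of the kernel of a closed immersion -/
theorem comap_ker_of_isPullback {P V B' B : Scheme.{u}} {σ' : P ⟶ B'} {k : P ⟶ V} {m : B' ⟶ B}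
    {σ : V ⟶ B} [IsClosedImmersion σ] (h : IsPullback σ' k m σ) : σ.ker.comap m = σ'.ker := by
  rw [← Scheme.IdealSheafData.ker_fst_of_isClosedImmersion, ← h.isoPullback_hom_fst,
    Scheme.Hom.ker_comp_of_isIso]

theorem comap_map_of_isClosedImmersion {A B : Scheme.{u}} (ι : A ⟶ B) [IsClosedImmersion ι]
    (I : A.IdealSheafData) : (I.map ι).comap ι = I := by
  apply le_antisymm (Scheme.IdealSheafData.comap_map_le _ _)
  have h1 : (I.map ι).comap ι = (pullback.fst ι (I.subschemeι ≫ ι)).ker := by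
    rw [Scheme.IdealSheafData.ker_fst_of_isClosedImmersion]; rfl
  have h2 : pullback.fst ι (I.subschemeι ≫ ι) =
      pullback.snd ι (I.subschemeι ≫ ι) ≫ I.subschemeι := by
    rw [← cancel_mono ι, Category.assoc, pullback.condition]
  rw [h1, h2]
  conv_lhs => rw [← I.ker_subschemeι]
  exact Scheme.Hom.le_ker_comp _ _

theorem map_comap_of_le {A B : Scheme.{u}} (ι : A ⟶ B) [IsClosedImmersion ι]
    (K : B.IdealSheafData) (h : ι.ker ≤ K) : (K.comap ι).map ι = K := by
  have hK : ι.ker ≤ K.subschemeι.ker := by rwa [K.ker_subschemeι]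
  have hl : IsClosedImmersion.lift ι K.subschemeι hK ≫ ι = K.subschemeι :=
    IsClosedImmersion.lift_fac _ _ _
  have h1 : K = (IsClosedImmersion.lift ι K.subschemeι hK).ker.map ι := by
    rw [Scheme.IdealSheafData.map_ker, hl, K.ker_subschemeι]
  conv_lhs => rw [h1, comap_map_of_isClosedImmersion]
  exact h1.symm

theorem map_comap_base_change {A A' B B' : Scheme.{u}} {m' : A' ⟶ A} {ι' : A' ⟶ B'} {ι : A ⟶ B}
    {m : B' ⟶ B} (hpb : IsPullback m' ι' ι m) [IsClosedImmersion ι] (I : A.IdealSheafData) :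
    (I.map ι).comap m = (I.comap m').map ι' := by
  have sq1 : IsPullback (I.comap m').subschemeι ((I.comapIso m').hom ≫ pullback.snd _ _) m'
      I.subschemeι := by
    refine IsPullback.of_iso (IsPullback.of_hasPullback m' I.subschemeι) (I.comapIso m').symm
      (Iso.refl _) (Iso.refl _) (Iso.refl _) ?_ ?_ ?_ ?_
    · simp
    · rw [Iso.refl_hom, Category.comp_id, Iso.symm_hom, Iso.inv_hom_id_assoc]
    · simp
    · simp
  have big : IsPullback ((I.comap m').subschemeι ≫ ι') ((I.comapIso m').hom ≫ pullback.snd _ _) m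
      (I.subschemeι ≫ ι) := sq1.paste_horiz hpb.flip
  exact comap_ker_of_isPullback big

end lattice

variable {X Y S : Scheme.{u}} (i : X ⟶ Y) (g : Y ⟶ S)

/-- `X_T ⟶ Y_T` -/
noncomputable abbrev iT (T : Over S) : PicF.XT (i ≫ g) T ⟶ PicF.XT g T :=
  pullback.map (i ≫ g) T.hom g T.hom i (𝟙 _) (𝟙 S) (Category.comp_id _) (by simp)

theorem push_eq_map (T : Over S) (I : (PicF.XT (i ≫ g) T).IdealSheafData) :
    HilbD.push i g T I = I.map (iT i g T) := rfl

theorem iT_fst (T : Over S) :
    iT i g T ≫ pullback.fst g T.hom = pullback.fst (i ≫ g) T.hom ≫ i := pullback.lift_fst _ _ _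

theorem iT_snd (T : Over S) :
    iT i g T ≫ pullback.snd g T.hom = pullback.snd (i ≫ g) T.hom :=
  (pullback.lift_snd _ _ _).trans (Category.comp_id _)

theorem sqI (T : Over S) :
    IsPullback (pullback.fst (i ≫ g) T.hom) (iT i g T) i (pullback.fst g T.hom) := by
  have bot : IsPullback (pullback.fst g T.hom) (pullback.snd g T.hom) g T.hom :=
    IsPullback.of_hasPullback _ _
  have outer : IsPullback (pullback.fst (i ≫ g) T.hom) (iT i g T ≫ pullback.snd g T.hom) (i ≫ g)
      T.hom := by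
    rw [iT_snd]; exact IsPullback.of_hasPullback _ _
  exact IsPullback.of_bot outer (iT_fst i g T).symm bot

instance isClosedImmersion_iT [IsClosedImmersion i] (T : Over S) :
    IsClosedImmersion (iT i g T) :=
  MorphismProperty.of_isPullback (P := @IsClosedImmersion) (sqI i g T) inferInstance

theorem iT_XTmap {T T' : Over S} (u : T' ⟶ T) :
    PicF.XTmap (i ≫ g) u ≫ iT i g T = iT i g T' ≫ PicF.XTmap g u := by
  apply pullback.hom_ext
  · rw [Category.assoc, iT_fst, ← Category.assoc, XTmap_fst, Category.assoc, XTmap_fst, iT_fst]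
  · rw [Category.assoc, iT_snd, XTmap_snd, Category.assoc, XTmap_snd, ← Category.assoc, iT_snd]

theorem sqIT {T T' : Over S} (u : T' ⟶ T) :
    IsPullback (PicF.XTmap (i ≫ g) u) (iT i g T') (iT i g T) (PicF.XTmap g u) := by
  have outer : IsPullback (PicF.XTmap (i ≫ g) u ≫ pullback.fst (i ≫ g) T.hom) (iT i g T') i
      (PicF.XTmap g u ≫ pullback.fst g T.hom) := by
    rw [XTmap_fst, XTmap_fst]; exact sqI i g T'
  exact IsPullback.of_right outer (iT_XTmap i g u) (sqI i g T)

variable [IsClosedImmersion i]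

theorem pull_push {T T' : Over S} (u : T' ⟶ T) (I : (PicF.XT (i ≫ g) T).IdealSheafData) :
    HilbD.pull g u (HilbD.push i g T I) = HilbD.push i g T' (HilbD.pull (i ≫ g) u I) := by
  rw [pull_eq_comap, pull_eq_comap, push_eq_map, push_eq_map]
  exact map_comap_base_change (sqIT i g u) I

theorem push_injective (T : Over S) {I₁ I₂ : (PicF.XT (i ≫ g) T).IdealSheafData}
    (h : HilbD.push i g T I₁ = HilbD.push i g T I₂) : I₁ = I₂ := by
  rw [push_eq_map, push_eq_map] at h
  rw [← comap_map_of_isClosedImmersion (iT i g T) I₁, h, comap_map_of_isClosedImmersion]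

omit [IsClosedImmersion i] in
theorem ker_iT_le_push (T : Over S) (I : (PicF.XT (i ≫ g) T).IdealSheafData) :
    (iT i g T).ker ≤ HilbD.push i g T I := Scheme.Hom.le_ker_comp _ _

/-- `V(I) ≅ V(push I)` compatibly with the projections to `T` -/
theorem push_obj_iff (T : Over S) (d : ℕ) (I : (PicF.XT (i ≫ g) T).IdealSheafData) :
    Mor2.IsFinLocFreeOfDeg d ((HilbD.push i g T I).subschemeι ≫ PicF.XTproj g T) ↔
      Mor2.IsFinLocFreeOfDeg d (I.subschemeι ≫ PicF.XTproj (i ≫ g) T) := by
  have h0 : IsClosedImmersion (iT i g T) := isClosedImmersion_iT i g T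
  have h00 : IsClosedImmersion (I.subschemeι ≫ iT i g T) := inferInstance
  have hiso : IsIso (I.subschemeι ≫ iT i g T).toImage := inferInstance
  obtain ⟨e, he⟩ : ∃ e : I.subscheme ≅ (HilbD.push i g T I).subscheme,
      e.hom ≫ (HilbD.push i g T I).subschemeι = I.subschemeι ≫ iT i g T :=
    ⟨@asIso _ _ _ _ (I.subschemeι ≫ iT i g T).toImage hiso, Scheme.Hom.toImage_imageι _⟩
  have e1 : I.subschemeι ≫ PicF.XTproj (i ≫ g) T =
      e.hom ≫ (HilbD.push i g T I).subschemeι ≫ PicF.XTproj g T := by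
    rw [← Category.assoc, he, Category.assoc, iT_snd]
  have e2 : (HilbD.push i g T I).subschemeι ≫ PicF.XTproj g T =
      e.inv ≫ I.subschemeι ≫ PicF.XTproj (i ≫ g) T := by
    rw [e1, Iso.inv_hom_id_assoc]
  constructor
  · rintro ⟨⟨hfin, hflat, hlfp⟩, hdeg⟩
    rw [e1]
    exact ⟨⟨inferInstance, inferInstance, inferInstance⟩,
      fun y => by rw [Scheme.Hom.finrank_comp_left_of_isIso]; exact hdeg y⟩
  · rintro ⟨⟨hfin, hflat, hlfp⟩, hdeg⟩
    rw [e2]
    exact ⟨⟨inferInstance, inferInstance, inferInstance⟩,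
      fun y => by rw [Scheme.Hom.finrank_comp_left_of_isIso]; exact hdeg y⟩

theorem XTmap_id {X S : Scheme.{u}} (f : X ⟶ S) (T : Over S) : PicF.XTmap f (𝟙 T) = 𝟙 _ := by
  apply pullback.hom_ext
  · rw [XTmap_fst, Category.id_comp]
  · rw [XTmap_snd, Category.id_comp]; exact Category.comp_id _

theorem pull_id {X S : Scheme.{u}} (f : X ⟶ S) (T : Over S) (I : (PicF.XT f T).IdealSheafData) :
    HilbD.pull f (𝟙 T) I = I := by
  rw [pull_eq_comap, XTmap_id, Scheme.IdealSheafData.comap_id]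

/-- global form of `exists_le_locus` -/
theorem le_locus_global {Y W : Scheme.{u}} (p : Y ⟶ W) (I₁ I₂ : Y.IdealSheafData)
    (h₂ : Mor2.IsFinLocFree (I₂.subschemeι ≫ p)) :
    ∃ c : W.IdealSheafData, ∀ (T' Y' : Scheme.{u}) (t : T' ⟶ W) (m : Y' ⟶ Y) (p' : Y' ⟶ T'),
      IsPullback m p' p t → (I₁.comap m ≤ I₂.comap m ↔ c ≤ t.ker) := by
  obtain ⟨hfin, hflat, hfp⟩ := h₂
  refine ⟨contentSheaf (I₂.subschemeι ≫ p) (I₁.comap I₂.subschemeι), ?_⟩
  intro T' Y' t m p' hpb
  have hpb2 : IsPullback (pullback.fst I₂.subschemeι m) (pullback.snd I₂.subschemeι m ≫ p')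
      (I₂.subschemeι ≫ p) t := (IsPullback.of_hasPullback I₂.subschemeι m).paste_vert hpb
  have key : (I₁.comap I₂.subschemeι).comap (pullback.fst I₂.subschemeι m) =
      (I₁.comap m).comap (pullback.snd I₂.subschemeι m) := by
    rw [← Scheme.IdealSheafData.comap_comp, ← Scheme.IdealSheafData.comap_comp,
      pullback.condition]
  rw [← contentSheaf_spec (I₂.subschemeι ≫ p) (I₁.comap I₂.subschemeι) t _ _ hpb2,
    ← Scheme.IdealSheafData.map_bot (pullback.fst I₂.subschemeι m),
    Scheme.IdealSheafData.le_map_iff_comap_le, key,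
    ← Scheme.IdealSheafData.le_map_iff_comap_le (f := pullback.snd I₂.subschemeι m),
    Scheme.IdealSheafData.map_bot, ker_snd_eq_comap]

end Groth.Agent.H79.HilbClosedLib
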