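import Groth.Agent.H79.HilbPull
import Groth.Agent.H49.IdealDescent
import Groth.Agent.S9867

/-!
# fpqc descent for `Hilb^d` (single covering morphism)
-/

set_option autoImplicit false
universe u
open CategoryTheory CategoryTheory.Limits AlgebraicGeometry

namespace Groth.Agent.H79.HilbDescent

open Groth.Agent.H79.SecSum Groth.Agent.H79.HilbPull

theorem comap_injective_of_isIso {A B : Scheme.{u}} (e : A ⟶ B) [IsIso e]
    {K K' : B.IdealSheafData} (h : K.comap e = K'.comap e) : K = K' := by
  have h1 : ∀ L : B.IdealSheafData, (L.comap e).comap (inv e) = L := fun L => by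
    rw [← Scheme.IdealSheafData.comap_comp, IsIso.inv_hom_id, Scheme.IdealSheafData.comap_id]
  rw [← h1 K, h, h1 K']

variable {X S : Scheme.{u}} (f : X ⟶ S)

/-- `X_{T' ×_T T'} = X_{T'} ×_{X_T} X_{T'}` -/
theorem sqOverlap (T : Over S) {T' : Scheme.{u}} (g : T' ⟶ T.left) :
    IsPullback (PicF.XTmap f (HilbD.overlapSnd T g)) (PicF.XTmap f (HilbD.overlapFst T g))
      (PicF.XTmap f (HilbD.coverHom T g)) (PicF.XTmap f (HilbD.coverHom T g)) := by
  have right : IsPullback (PicF.XTproj f (HilbD.coverOver T g)) (PicF.XTmap f (HilbD.coverHom T g))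
      g (PicF.XTproj f T) := (sqXT f (HilbD.coverHom T g)).flip
  have l1 : IsPullback (PicF.XTproj f (HilbD.overlapOver T g)) (PicF.XTmap f (HilbD.overlapFst T g))
      (pullback.fst g g) (PicF.XTproj f (HilbD.coverOver T g)) :=
    (sqXT f (HilbD.overlapFst T g)).flip
  have l2 : IsPullback (pullback.snd g g) (pullback.fst g g) g g :=
    (IsPullback.of_hasPullback g g).flip
  have outer := l1.paste_horiz l2
  have e1 : PicF.XTmap f (HilbD.overlapSnd T g) ≫ PicF.XTproj f (HilbD.coverOver T g) =
      PicF.XTproj f (HilbD.overlapOver T g) ≫ pullback.snd g g := XTmap_snd f _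
  have e2 : PicF.XTmap f (HilbD.coverHom T g) ≫ PicF.XTproj f T =
      PicF.XTproj f (HilbD.coverOver T g) ≫ g := XTmap_snd f _
  rw [← e1, ← e2] at outer
  refine IsPullback.of_right outer ?_ right
  rw [← XTmap_comp, ← XTmap_comp]
  congr 1
  apply Over.OverMorphism.ext
  exact pullback.condition.symm

/-- **fpqc descent for `Hilb^d` along a single covering morphism.** -/
theorem existsUnique_descent (d : ℕ) (T : Over S) {T' : Scheme.{u}} (g : T' ⟶ T.left)
    [QuasiCompact g] [Flat g] [Surjective g] (Z' : HilbD.Obj f d (HilbD.coverOver T g))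
    (hZ' : HilbD.pull f (HilbD.overlapFst T g) Z'.1 = HilbD.pull f (HilbD.overlapSnd T g) Z'.1) :
    ∃! I : (PicF.XT f T).IdealSheafData, Mor2.IsFinLocFreeOfDeg d (I.subschemeι ≫ PicF.XTproj f T) ∧
      HilbD.pull f (HilbD.coverHom T g) I = Z'.1 := by
  have sq : IsPullback (PicF.XTmap f (HilbD.coverHom T g)) (PicF.XTproj f (HilbD.coverOver T g))
      (PicF.XTproj f T) g := sqXT f (HilbD.coverHom T g)
  have hp_flat : Flat (PicF.XTmap f (HilbD.coverHom T g)) :=
    MorphismProperty.of_isPullback (P := @Flat) sq.flip inferInstance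
  have hp_surj : Surjective (PicF.XTmap f (HilbD.coverHom T g)) :=
    MorphismProperty.of_isPullback (P := @Surjective) sq.flip inferInstance
  have hp_qc : QuasiCompact (PicF.XTmap f (HilbD.coverHom T g)) :=
    MorphismProperty.of_isPullback (P := @QuasiCompact) sq.flip inferInstance
  have hmem : Presieve.ofArrows (fun _ : PUnit.{u + 1} => PicF.XT f (HilbD.coverOver T g))
      (fun _ => PicF.XTmap f (HilbD.coverHom T g)) ∈ Scheme.fpqcPrecoverage (PicF.XT f T) := by
    rw [Presieve.ofArrows_pUnit]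
    exact Scheme.Hom.singleton_mem_fpqcPrecoverage _
  obtain ⟨hfin, hfl⟩ := Groth.Agent.H49.IdealDescent.finCov_of_fpqc hmem
  have hcompat : Groth.Agent.H49.IdealDescent.Compat
      (fun _ : PUnit.{u + 1} => PicF.XTmap f (HilbD.coverHom T g)) (fun _ => Z'.1) := by
    intro _ _
    show Z'.1.comap (pullback.fst _ _) = Z'.1.comap (pullback.snd _ _)
    have hsq := sqOverlap f T g
    apply comap_injective_of_isIso hsq.isoPullback.hom
    rw [← Scheme.IdealSheafData.comap_comp, ← Scheme.IdealSheafData.comap_comp,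
      hsq.isoPullback_hom_fst, hsq.isoPullback_hom_snd, ← pull_eq_comap, ← pull_eq_comap]
    exact hZ'.symm
  obtain ⟨J, hJ, hJu⟩ := Groth.Agent.H49.IdealDescent.existsUnique_comap_eq hfin hfl hcompat
  have hJ' : J.comap (PicF.XTmap f (HilbD.coverHom T g)) = Z'.1 := hJ PUnit.unit
  refine ⟨J, ⟨?_, ?_⟩, ?_⟩
  · have hdesc := (Groth.Agent.S9867.result.{u}).2 d
    have big : IsPullback (pullback.snd (PicF.XTmap f (HilbD.coverHom T g)) J.subschemeι)
        (pullback.fst (PicF.XTmap f (HilbD.coverHom T g)) J.subschemeι ≫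
          PicF.XTproj f (HilbD.coverOver T g)) (J.subschemeι ≫ PicF.XTproj f T) g :=
      (IsPullback.of_hasPullback _ J.subschemeι).flip.paste_vert sq
    have big' : IsPullback
        ((J.comap (PicF.XTmap f (HilbD.coverHom T g))).subschemeι ≫
          PicF.XTproj f (HilbD.coverOver T g))
        ((J.comapIso (PicF.XTmap f (HilbD.coverHom T g))).hom ≫ pullback.snd _ _) g
        (J.subschemeι ≫ PicF.XTproj f T) := by
      refine IsPullback.of_iso big.flip (J.comapIso _).symm (Iso.refl _) (Iso.refl _) (Iso.refl _)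
        ?_ ?_ ?_ ?_
      · rw [Iso.refl_hom, Category.comp_id, Iso.symm_hom, ← Category.assoc,
          Scheme.IdealSheafData.comapIso_inv_subschemeι]
      · rw [Iso.refl_hom, Category.comp_id, Iso.symm_hom, Iso.inv_hom_id_assoc]
      · simp
      · simp
    refine MorphismProperty.of_isPullback_of_descendsAlong
      (P := fun _ _ k => Mor2.IsFinLocFreeOfDeg d k)
      (Q := (@Surjective ⊓ @Flat ⊓ @QuasiCompact : MorphismProperty Scheme.{u})) big'
      ⟨⟨inferInstance, inferInstance⟩, inferInstance⟩ ?_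
    show Mor2.IsFinLocFreeOfDeg d _
    rw [hJ']
    exact Z'.2
  · rw [pull_eq_comap]; exact hJ'
  · rintro J' ⟨-, hJ''⟩
    exact hJu J' (fun _ => by rw [← pull_eq_comap]; exact hJ'')

end Groth.Agent.H79.HilbDescent
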