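import Groth.Agent.H79.AddPoint
import Groth.Agent.H49.FppfSource
import Groth.Agent.S1171
import Groth.Agent.S1173

/-!
# Smoothness of `Hilb^d` of a smooth separated relative curve (induction on `d`)
-/

set_option autoImplicit false
set_option linter.style.haveILetI false
universe u
open CategoryTheory CategoryTheory.Limits AlgebraicGeometry

namespace Groth.Agent.H79.HilbSmooth

open Groth.Agent.H79.HilbPull

/-- a morphism from the empty scheme is flat -/
theorem isEmpty_bot (Y : Scheme.{u}) : IsEmpty ↥((⊥ : Y.Opens).toScheme) :=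
  ⟨fun x => x.2⟩

theorem flat_of_isEmpty {X Y : Scheme.{u}} (f : X ⟶ Y) [IsEmpty X] : Flat f := by
  haveI := isEmpty_bot Y
  have e : f = (isInitialOfIsEmpty.uniqueUpToIso (isInitialOfIsEmpty (X := (⊥ : Y.Opens).toScheme))).hom
      ≫ (⊥ : Y.Opens).ι := isInitialOfIsEmpty.hom_ext _ _
  rw [e]; infer_instance

/-- a morphism from the empty scheme is locally of finite presentation -/
theorem lfp_of_isEmpty {X Y : Scheme.{u}} (f : X ⟶ Y) [IsEmpty X] :
    LocallyOfFinitePresentation f := by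
  haveI := isEmpty_bot Y
  have e : f = (isInitialOfIsEmpty.uniqueUpToIso (isInitialOfIsEmpty (X := (⊥ : Y.Opens).toScheme))).hom
      ≫ (⊥ : Y.Opens).ι := isInitialOfIsEmpty.hom_ext _ _
  rw [e]; infer_instance

/-- the rank of a morphism from the empty scheme is `0` -/
theorem finrank_of_isEmpty {X Y : Scheme.{u}} (f : X ⟶ Y) [IsEmpty X] (y : Y) :
    f.finrank y = 0 := by
  haveI := flat_of_isEmpty f
  haveI : IsFinite f := inferInstance
  obtain ⟨R, g, hg, y', hy⟩ := Y.exists_Spec_apply_eq y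
  rw [← hy, ← Scheme.Hom.finrank_pullback_snd]
  haveI : IsEmpty ↥(pullback f g) := Function.isEmpty (pullback.fst f g)
  haveI : IsAffine (pullback f g) := inferInstance
  set P := pullback f g
  obtain ⟨φ, hφ⟩ : ∃ φ : R ⟶ Γ(P, ⊤), pullback.snd f g = P.isoSpec.hom ≫ Spec.map φ :=
    ⟨Spec.preimage (P.isoSpec.inv ≫ pullback.snd f g), by simp [Spec.map_preimage]⟩
  haveI : Flat (pullback.snd f g) := inferInstance
  haveI : IsFinite (pullback.snd f g) := inferInstance
  have h1 : Flat (Spec.map φ) := by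
    have : Spec.map φ = P.isoSpec.inv ≫ pullback.snd f g := by rw [hφ]; simp
    rw [this]; infer_instance
  have h2 : IsFinite (Spec.map φ) := by
    have : Spec.map φ = P.isoSpec.inv ≫ pullback.snd f g := by rw [hφ]; simp
    rw [this]; infer_instance
  rw [hφ, Scheme.Hom.finrank_comp_left_of_isIso,
    Scheme.Hom.finrank_SpecMap_eq_finrank ((IsFinite.SpecMap_iff φ).mp h2) (Flat.SpecMap_iff.mp h1)]
  unfold RingHom.finrank
  haveI : Subsingleton Γ(P, ⊤) := by
    have : (⊤ : P.Opens) = ⊥ := by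
      ext x; exact (IsEmpty.false x).elim
    rw [this]; infer_instance
  letI : Algebra R Γ(P, ⊤) := φ.hom.toAlgebra
  exact congrFun (Module.rankAtStalk_eq_zero_of_subsingleton (R := R) (M := Γ(P, ⊤))) y'

theorem finLocFreeOfDeg_zero_of_isEmpty {X Y : Scheme.{u}} (f : X ⟶ Y) [IsEmpty X] :
    Mor2.IsFinLocFreeOfDeg 0 f :=
  ⟨⟨inferInstance, flat_of_isEmpty f, lfp_of_isEmpty f⟩, finrank_of_isEmpty f⟩

theorem isEmpty_of_finLocFreeOfDeg_zero {X Y : Scheme.{u}} (f : X ⟶ Y)
    (h : Mor2.IsFinLocFreeOfDeg 0 f) : IsEmpty X := by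
  obtain ⟨⟨h1, h2, h3⟩, h4⟩ := h
  refine ⟨fun x => ?_⟩
  have := Scheme.Hom.one_le_finrank_map f x
  rw [h4] at this
  omega

variable {X S : Scheme.{u}} (f : X ⟶ S)

theorem obj_zero_eq_top (T : Over S) (Z : HilbD.Obj f 0 T) : Z.1 = ⊤ := by
  haveI := isEmpty_of_finLocFreeOfDeg_zero _ Z.2
  rw [← Scheme.IdealSheafData.ker_subschemeι Z.1]
  exact Scheme.Hom.ker_eq_top_iff_isEmpty _ |>.mpr inferInstance

theorem top_obj (T : Over S) :
    Mor2.IsFinLocFreeOfDeg 0 ((⊤ : (PicF.XT f T).IdealSheafData).subschemeι ≫ PicF.XTproj f T) :=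
  finLocFreeOfDeg_zero_of_isEmpty _

/-- a scheme representing `Hilb^0` is isomorphic to the base -/
theorem isIso_of_universal_zero (H : Over S) (Z : HilbD.Obj f 0 H)
    (hZ : HilbD.IsUniversal f 0 H Z) : IsIso H.hom := by
  obtain ⟨s, -, -⟩ := hZ (Over.mk (𝟙 S)) ⟨⊤, top_obj f _⟩
  have hs : s.left ≫ H.hom = 𝟙 S := Over.w s
  obtain ⟨g, -, hg⟩ := hZ H Z
  have h1 : (𝟙 H : H ⟶ H) = g := hg _ (obj_zero_eq_top f H ⟨_, pull_obj f (𝟙 H) 0 Z.1 Z.2⟩ |>.trans
    (obj_zero_eq_top f H Z).symm)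
  let t : H ⟶ H := Over.homMk (H.hom ≫ s.left) (by rw [Category.assoc, hs, Category.comp_id])
  have h2 : t = g := hg _ (obj_zero_eq_top f H ⟨_, pull_obj f t 0 Z.1 Z.2⟩ |>.trans
    (obj_zero_eq_top f H Z).symm)
  have h3 : H.hom ≫ s.left = 𝟙 H.left := by
    have := congrArg CommaMorphism.left (h2.trans h1.symm)
    simpa [t] using this
  exact ⟨s.left, h3, hs⟩

/-- the inductive step -/
theorem step [SmoothOfRelativeDimension 1 f] [IsSeparated f]
    (d : ℕ) (H : Over S) (Z : HilbD.Obj f d H) (hZ : HilbD.IsUniversal f d H Z) [Smooth H.hom]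
    (H' : Over S) (Z' : HilbD.Obj f (d + 1) H') (hZ' : HilbD.IsUniversal f (d + 1) H' Z') :
    Smooth H'.hom := by
  let T : Over S := Over.mk (pullback.fst H.hom f ≫ H.hom)
  let p : T ⟶ H := Over.homMk (pullback.fst H.hom f) rfl
  have h₁ : Mor2.IsFinLocFreeOfDeg d ((HilbD.pull f p Z.1).subschemeι ≫ PicF.XTproj f T) :=
    pull_obj f p d Z.1 Z.2
  have h₂ : Mor2.IsFinLocFreeOfDeg 1
      ((HilbD.secGraph f T (pullback.snd H.hom f) pullback.condition.symm).subschemeι ≫
        PicF.XTproj f T) := secGraph_obj f T _ _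
  haveI := Groth.Agent.H79.AddPoint.smooth_XTproj f T
  have h₁₂ := Groth.Agent.S1171.result (PicF.XTproj f T) _ _ d 1 h₁ h₂
  obtain ⟨m, hm, -⟩ := hZ' T ⟨_, h₁₂⟩
  have hfl := Groth.Agent.S1173.result f d H Z hZ H' Z' hZ' m hm
  obtain ⟨⟨hfin, hflat, hlfp⟩, hrank⟩ := hfl
  haveI := hfin
  haveI := hflat
  haveI := hlfp
  have hsurj : Surjective m.left := by
    rw [← Scheme.Hom.one_le_finrank_iff_surjective]
    intro y
    rw [hrank y]
    show 1 ≤ d + 1
    omega
  have hT : Smooth (m.left ≫ H'.hom) := by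
    rw [Over.w m]
    show Smooth (pullback.fst H.hom f ≫ H.hom)
    haveI : Smooth f := SmoothOfRelativeDimension.smooth 1 f
    infer_instance
  exact Groth.Agent.H49.FppfSource.smooth_of_comp_of_fppf_family (fun _ : Unit => m.left) H'.hom
    (fun _ => hflat) (fun _ => hlfp) (fun y => ⟨(), hsurj.surj y⟩) (fun _ => hT)

theorem main [SmoothOfRelativeDimension 1 f] [IsSeparated f]
    (hrep : ∀ e : ℕ, HilbD.Representable f e) (d : ℕ) :
    ∀ (H : Over S) (Z : HilbD.Obj f d H), HilbD.IsUniversal f d H Z → Smooth H.hom := by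
  induction d with
  | zero =>
    intro H Z hZ
    haveI := isIso_of_universal_zero f H Z hZ
    infer_instance
  | succ d ih =>
    intro H' Z' hZ'
    obtain ⟨H, Z, hZ⟩ := hrep d
    haveI := ih H Z hZ
    exact step f d H Z hZ H' Z' hZ'

end Groth.Agent.H79.HilbSmooth
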