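import Groth.Agent.H79.HyperSmooth
import Groth.Agent.H79.ExtPowAnn

/-!
# Singular locus of a hypersurface in a smooth algebra via `Ann ⋀ⁿ Ω` (helper79)
-/

set_option autoImplicit false
set_option linter.style.haveILetI false
set_option linter.unusedVariables false
set_option linter.unusedSectionVars false

universe u

open KaehlerDifferential TensorProduct IsLocalRing

namespace Groth.Agent.H79.HyperLocus

section Free

variable {S : Type u} [CommRing S] (K : Type u) [CommRing K] [Algebra S K] {F : Type u}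
  [AddCommGroup F] [Module S F] [Module.Free S F]

/-- For a free module `F`: `1 ⊗ y = 0` in `K ⊗ F` iff `y ∈ ker(S → K) F`. -/
theorem tmul_eq_zero_iff_of_free (y : F) :
    (1 : K) ⊗ₜ[S] y = 0 ↔ y ∈ RingHom.ker (algebraMap S K) • (⊤ : Submodule S F) := by
  classical
  let b := Module.Free.chooseBasis S F
  let bK := Algebra.TensorProduct.basis K b
  have h1 : (1 : K) ⊗ₜ[S] y = 0 ↔ ∀ i, algebraMap S K (b.repr y i) = 0 := by
    rw [← bK.repr.map_eq_zero_iff, Algebra.TensorProduct.basis_repr_tmul, one_smul]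
    constructor
    · intro h i
      have := DFunLike.congr_fun h i
      simpa using this
    · intro h
      ext i
      simpa using h i
  rw [h1]
  constructor
  · intro h
    rw [← b.linearCombination_repr y, Finsupp.linearCombination_apply]
    exact Submodule.sum_mem _ fun i _ => Submodule.smul_mem_smul (h i) trivial
  · intro h i
    have : ∀ z ∈ RingHom.ker (algebraMap S K) • (⊤ : Submodule S F),
        b.repr z i ∈ RingHom.ker (algebraMap S K) := by
      intro z hz
      refine Submodule.smul_induction_on hz ?_ ?_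
      · intro r hr x _
        rw [map_smul, Finsupp.smul_apply, smul_eq_mul]
        exact Ideal.mul_mem_right _ _ hr
      · intro x z hx hz
        rw [map_add, Finsupp.add_apply]
        exact Ideal.add_mem _ hx hz
    exact this y h

end Free

section Rank

variable (A B R : Type u) [CommRing A] [CommRing B] [CommRing R] [Algebra A B] [Algebra B R]
  [Algebra A R] [IsScalarTower A B R]

theorem kerCotangentToTensor_mul (g : B) (hg : g ∈ RingHom.ker (algebraMap B R)) (b : B)
    (h : b * g ∈ RingHom.ker (algebraMap B R)) :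
    kerCotangentToTensor A B R ((RingHom.ker (algebraMap B R)).toCotangent ⟨b * g, h⟩) =
      algebraMap B R b • ((1 : R) ⊗ₜ[B] D A B g) := by
  rw [kerCotangentToTensor_toCotangent]
  change (1 : R) ⊗ₜ[B] D A B (b * g) = _
  rw [Derivation.leibniz, tmul_add, tmul_smul, tmul_smul, ← algebraMap_smul R g,
    ← algebraMap_smul R b, (RingHom.mem_ker).mp hg, zero_smul, add_zero]

/-- The kernel of `R ⊗ Ω[B/A] → Ω[R/A]` for `R = B/(g)` is spanned by `1 ⊗ dg`. -/
theorem ker_mapBaseChange_eq_span (g : B) (hsurj : Function.Surjective (algebraMap B R))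
    (hker : RingHom.ker (algebraMap B R) = Ideal.span {g}) :
    LinearMap.ker (mapBaseChange A B R) = Submodule.span R {(1 : R) ⊗ₜ[B] D A B g} := by
  have hgI : g ∈ RingHom.ker (algebraMap B R) := hker ▸ Ideal.mem_span_singleton_self g
  have hex := exact_kerCotangentToTensor_mapBaseChange A B R hsurj
  ext x
  rw [LinearMap.mem_ker, hex x, Submodule.mem_span_singleton]
  constructor
  · rintro ⟨c, rfl⟩
    obtain ⟨⟨y, hy⟩, rfl⟩ := Ideal.toCotangent_surjective _ c
    have hy' : y ∈ Ideal.span {g} := hker ▸ hy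
    obtain ⟨b, rfl⟩ := Ideal.mem_span_singleton'.mp hy'
    exact ⟨algebraMap B R b, (kerCotangentToTensor_mul A B R g hgI b hy).symm⟩
  · rintro ⟨r, rfl⟩
    obtain ⟨b, rfl⟩ := hsurj r
    have h : b * g ∈ RingHom.ker (algebraMap B R) := Ideal.mul_mem_left _ _ hgI
    exact ⟨_, kerCotangentToTensor_mul A B R g hgI b h⟩

/-- Fibre dimension of `Ω[R/A]` at `p`, `R = B/(g)`: it is `≥ n` iff `1 ⊗ dg` vanishes at `p`. -/
theorem le_finrank_iff [Module.Finite B Ω[B⁄A]] [Module.Projective B Ω[B⁄A]] (n : ℕ) (g : B)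
    (hsurj : Function.Surjective (algebraMap B R))
    (hker : RingHom.ker (algebraMap B R) = Ideal.span {g}) (p : PrimeSpectrum R)
    (hn : Module.rankAtStalk (Ω[B⁄A]) (PrimeSpectrum.comap (algebraMap B R) p) = n) :
    n ≤ Module.finrank p.asIdeal.ResidueField (p.asIdeal.ResidueField ⊗[R] Ω[R⁄A]) ↔
      (1 : p.asIdeal.ResidueField) ⊗ₜ[R] ((1 : R) ⊗ₜ[B] D A B g) = 0 := by
  classical
  let K := p.asIdeal.ResidueField
  let N := R ⊗[B] Ω[B⁄A]
  let v : N := (1 : R) ⊗ₜ[B] D A B g
  let vK : K ⊗[R] N := (1 : K) ⊗ₜ[R] v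
  let π : N →ₗ[R] Ω[R⁄A] := mapBaseChange A B R
  have hπ : Function.Surjective π := mapBaseChange_surjective A B R hsurj
  let πK : K ⊗[R] N →ₗ[K] K ⊗[R] Ω[R⁄A] := LinearMap.baseChange K π
  have hπK_surj : Function.Surjective πK := LinearMap.lTensor_surjective K hπ
  have hdimN : Module.finrank K (K ⊗[R] N) = n := by
    rw [← hn, ← Module.rankAtStalk_baseChange (S := R) (M := Ω[B⁄A]) p, Module.rankAtStalk_eq]
  have hkerK : LinearMap.ker πK = Submodule.span K {vK} := by
    have hex : Function.Exact (LinearMap.toSpanSingleton R N v) π := by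
      intro x
      rw [← LinearMap.mem_ker, ker_mapBaseChange_eq_span A B R g hsurj hker,
        Submodule.mem_span_singleton]
      rfl
    have hexK := lTensor_exact K hex hπ
    ext x
    rw [LinearMap.mem_ker]
    change (LinearMap.lTensor K π) x = 0 ↔ _
    rw [hexK x, Submodule.mem_span_singleton]
    constructor
    · rintro ⟨t, rfl⟩
      refine ⟨TensorProduct.rid R K t, ?_⟩
      have ht : t = (TensorProduct.rid R K t) ⊗ₜ[R] (1 : R) := by
        rw [← TensorProduct.rid_symm_apply, LinearEquiv.symm_apply_apply]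
      conv_rhs => rw [ht]
      rw [LinearMap.lTensor_tmul, LinearMap.toSpanSingleton_apply, one_smul,
        TensorProduct.smul_tmul', smul_eq_mul, mul_one]
    · rintro ⟨k, rfl⟩
      refine ⟨k ⊗ₜ[R] (1 : R), ?_⟩
      rw [LinearMap.lTensor_tmul, LinearMap.toSpanSingleton_apply, one_smul,
        TensorProduct.smul_tmul', smul_eq_mul, mul_one]
  have hrn := LinearMap.finrank_range_add_finrank_ker πK
  rw [LinearMap.range_eq_top.mpr hπK_surj, finrank_top, hkerK, hdimN] at hrn
  change n ≤ Module.finrank K (K ⊗[R] Ω[R⁄A]) ↔ vK = 0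
  by_cases hv : vK = 0
  · rw [hv] at hrn
    have h0 : Module.finrank K ↥(Submodule.span K {(0 : K ⊗[R] N)}) = 0 := by
      rw [Submodule.span_zero_singleton]
      exact finrank_bot K _
    rw [h0, add_zero] at hrn
    exact ⟨fun _ => hv, fun _ => by omega⟩
  · rw [finrank_span_singleton hv] at hrn
    exact ⟨fun h => by omega, fun h => absurd h hv⟩

end Rank

section Smooth

variable (A B R : Type u) [CommRing A] [CommRing B] [CommRing R] [Algebra A B] [Algebra B R]
  [Algebra A R] [IsScalarTower A B R]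

/-- `R_p` is formally smooth over `A` iff `B_q/(g)` is (`R = B/(g)`, `q` the preimage of `p`). -/
theorem isSmoothAt_iff_quotient (g : B) (hsurj : Function.Surjective (algebraMap B R))
    (hker : RingHom.ker (algebraMap B R) = Ideal.span {g}) (p : Ideal R) [p.IsPrime]
    (q : Ideal B) [q.IsPrime] (hq : q = p.comap (algebraMap B R)) :
    Algebra.IsSmoothAt A p ↔ Algebra.FormallySmooth A
      (Localization.AtPrime q ⧸ (Ideal.span {g}).map (algebraMap B (Localization.AtPrime q))) := by
  classical
  let Bq := Localization.AtPrime q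
  let J : Ideal Bq := (Ideal.span {g}).map (algebraMap B Bq)
  let S' := Bq ⧸ J
  have hle : RingHom.ker (algebraMap B R) ≤
      RingHom.ker ((Ideal.Quotient.mk J).comp (algebraMap B Bq)) := by
    intro x hx
    rw [hker] at hx
    rw [RingHom.mem_ker, RingHom.comp_apply, Ideal.Quotient.eq_zero_iff_mem]
    exact Ideal.mem_map_of_mem _ hx
  let φ : R →+* S' := RingHom.liftOfSurjective (algebraMap B R) hsurj
    ⟨(Ideal.Quotient.mk J).comp (algebraMap B Bq), hle⟩
  have hφ : φ.comp (algebraMap B R) = (Ideal.Quotient.mk J).comp (algebraMap B Bq) :=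
    RingHom.liftOfSurjective_comp _ hsurj _
  letI : Algebra R S' := φ.toAlgebra
  have hsub : q.primeCompl.map (algebraMap B R) = p.primeCompl := by
    ext x
    constructor
    · rintro ⟨b, hb, rfl⟩
      intro hmem
      exact hb (hq ▸ hmem)
    · intro hx
      obtain ⟨b, rfl⟩ := hsurj x
      refine ⟨b, ?_, rfl⟩
      intro hb
      exact hx (by rw [hq] at hb; exact hb)
  haveI hloc : IsLocalization.AtPrime S' p := by
    have : IsLocalization (q.primeCompl.map (algebraMap B R)) S' :=
      IsLocalization.of_surjective q.primeCompl Bq (algebraMap B R) hsurj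
        (Ideal.Quotient.mk J) Ideal.Quotient.mk_surjective hφ.symm (by
          rw [Ideal.mk_ker, hker])
    rwa [hsub] at this
  let e : Localization.AtPrime p ≃ₐ[R] S' :=
    IsLocalization.algEquiv p.primeCompl (Localization.AtPrime p) S'
  haveI : IsScalarTower A R S' := IsScalarTower.of_algebraMap_eq' (by
    ext a
    have h1 : algebraMap R S' (algebraMap A R a) = φ (algebraMap B R (algebraMap A B a)) := by
      rw [← IsScalarTower.algebraMap_apply A B R]; rfl
    have h2 := RingHom.congr_fun hφ (algebraMap A B a)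
    simp only [RingHom.comp_apply] at h2 ⊢
    rw [h1, h2, ← IsScalarTower.algebraMap_apply A B Bq]
    rfl)
  let eA : Localization.AtPrime p ≃ₐ[A] S' := e.restrictScalars A
  exact ⟨fun h => Algebra.FormallySmooth.of_equiv eA,
    fun h => Algebra.FormallySmooth.of_equiv eA.symm⟩

end Smooth

section Chain

variable {B R : Type u} [CommRing B] [CommRing R] [Algebra B R] (p : Ideal R) [p.IsPrime]
  (q : Ideal B) [q.IsPrime] (hq : q = p.comap (algebraMap B R)) {M M' : Type u} [AddCommGroup M]
  [Module B M] [AddCommGroup M'] [Module B M'] [Module (Localization.AtPrime q) M']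
  [IsScalarTower B (Localization.AtPrime q) M'] (f : M →ₗ[B] M')
  [IsLocalizedModule q.primeCompl f] [Module.Free (Localization.AtPrime q) M']

include hq in
/-- `1 ⊗ (1 ⊗ x) = 0` in `κ(p) ⊗_R (R ⊗_B M)` iff the image of `x` in `M_q` lies in `𝔪_q M_q`
(`M_q` free, `q` the preimage of `p`). -/
theorem tmul_tmul_eq_zero_iff (x : M) :
    (1 : p.ResidueField) ⊗ₜ[R] ((1 : R) ⊗ₜ[B] x) = 0 ↔
      f x ∈ maximalIdeal (Localization.AtPrime q) •
        (⊤ : Submodule (Localization.AtPrime q) M') := by
  classical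
  let Bq := Localization.AtPrime q
  let K := p.ResidueField
  haveI : IsScalarTower B R K := inferInstance
  have hmemq : ∀ b : B, algebraMap B K b = 0 ↔ b ∈ q := by
    intro b
    rw [IsScalarTower.algebraMap_apply B R K, Ideal.algebraMap_residueField_eq_zero, hq]
    rfl
  have hunits : ∀ y : q.primeCompl, IsUnit (algebraMap B K (y : B)) := by
    intro y
    rw [isUnit_iff_ne_zero, Ne, hmemq]
    exact y.2
  let ψ : Bq →+* K := IsLocalization.lift (M := q.primeCompl) (g := algebraMap B K) hunits
  letI : Algebra Bq K := ψ.toAlgebra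
  haveI : IsScalarTower B Bq K := IsScalarTower.of_algebraMap_eq' (by
    exact (IsLocalization.lift_comp (M := q.primeCompl) (g := algebraMap B K) hunits).symm)
  have hkerψ : RingHom.ker (algebraMap Bq K) = maximalIdeal Bq := by
    ext c
    obtain ⟨b, s, rfl⟩ := IsLocalization.exists_mk'_eq q.primeCompl c
    rw [RingHom.mem_ker, IsLocalization.AtPrime.mk'_mem_maximal_iff Bq q]
    change ψ (IsLocalization.mk' Bq b s) = 0 ↔ _
    rw [IsLocalization.lift_mk', Units.mul_inv_eq_iff_eq_mul, zero_mul, hmemq]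
  -- the chain of isomorphisms
  let E1 : K ⊗[R] (R ⊗[B] M) ≃ₗ[K] K ⊗[B] M := AlgebraTensorModule.cancelBaseChange B R K K M
  let E2 : K ⊗[Bq] (Bq ⊗[B] M) ≃ₗ[K] K ⊗[B] M := AlgebraTensorModule.cancelBaseChange B Bq K K M
  let e2 : Bq ⊗[B] M ≃ₗ[Bq] M' := (IsLocalizedModule.isBaseChange q.primeCompl Bq f).equiv
  have h1 : E1 ((1 : K) ⊗ₜ[R] ((1 : R) ⊗ₜ[B] x)) = (1 : K) ⊗ₜ[B] x := by
    rw [AlgebraTensorModule.cancelBaseChange_tmul, one_smul]
  have h2 : E2 ((1 : K) ⊗ₜ[Bq] ((1 : Bq) ⊗ₜ[B] x)) = (1 : K) ⊗ₜ[B] x := by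
    rw [AlgebraTensorModule.cancelBaseChange_tmul, one_smul]
  have h3 : (LinearEquiv.lTensor K e2) ((1 : K) ⊗ₜ[Bq] ((1 : Bq) ⊗ₜ[B] x)) =
      (1 : K) ⊗ₜ[Bq] f x := by
    rw [LinearEquiv.lTensor_tmul]
    congr 1
    simp [e2, IsBaseChange.equiv_tmul]
  rw [← E1.map_eq_zero_iff, h1, ← h2, E2.map_eq_zero_iff,
    ← (LinearEquiv.lTensor K e2).map_eq_zero_iff, h3, tmul_eq_zero_iff_of_free, hkerψ]

end Chain

section Main

/-- **Singular locus of a hypersurface in a smooth algebra.** -/
theorem main (A B R : Type u) [CommRing A] [CommRing B] [CommRing R]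
    [Algebra A B] [Algebra B R] [Algebra A R] [IsScalarTower A B R] [Algebra.Smooth A B] (n : ℕ)
    (hn : ∀ p : PrimeSpectrum B, Module.rankAtStalk (Ω[B⁄A]) p = n)
    (g : B) (hg : IsSMulRegular B g) (hsurj : Function.Surjective (algebraMap B R))
    (hker : RingHom.ker (algebraMap B R) = Ideal.span {g}) (p : PrimeSpectrum R) :
    (⋀[R]^n (Ω[R⁄A])).annihilator ≤ p.asIdeal ↔ p ∉ Algebra.smoothLocus A R := by
  classical
  let q : Ideal B := p.asIdeal.comap (algebraMap B R)
  haveI : q.IsPrime := Ideal.comap_isPrime _ _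
  let Bq := Localization.AtPrime q
  haveI : Algebra.FinitePresentation A B := inferInstance
  haveI : Algebra.FiniteType A B := inferInstance
  haveI : Algebra.FiniteType A R :=
    Algebra.FiniteType.of_surjective (IsScalarTower.toAlgHom A B R) hsurj
  haveI : Module.Finite R Ω[R⁄A] := inferInstance
  haveI : Module.Finite B Ω[B⁄A] := inferInstance
  haveI : Module.Projective B Ω[B⁄A] := inferInstance
  haveI : Algebra.FormallySmooth B Bq := Algebra.FormallySmooth.of_isLocalization q.primeCompl
  haveI : Algebra.FormallySmooth A Bq := Algebra.FormallySmooth.comp A B Bq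
  haveI : Algebra.EssFiniteType A Bq := Algebra.EssFiniteType.comp A B Bq
  haveI : Module.Finite Bq Ω[Bq⁄A] := inferInstance
  haveI : Module.Projective Bq Ω[Bq⁄A] := inferInstance
  haveI : Module.Free Bq Ω[Bq⁄A] := Module.free_of_flat_of_isLocalRing
  rw [Groth.Agent.H79.ExtPowAnn.annihilator_le_iff,
    le_finrank_iff A B R n g hsurj hker p (hn _)]
  change _ ↔ ¬ Algebra.IsSmoothAt A p.asIdeal
  rw [isSmoothAt_iff_quotient A B R g hsurj hker p.asIdeal q rfl]
  -- the core criterion
  let g' : Bq := algebraMap B Bq g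
  have hgq : g ∈ q := by
    change algebraMap B R g ∈ p.asIdeal
    have : algebraMap B R g = 0 := by
      rw [← RingHom.mem_ker, hker]; exact Ideal.mem_span_singleton_self g
    rw [this]; exact p.asIdeal.zero_mem
  have hgm : g' ∈ maximalIdeal Bq :=
    (IsLocalization.AtPrime.to_map_mem_maximal_iff Bq q g).mpr hgq
  have hker' : RingHom.ker (algebraMap Bq (Bq ⧸ (Ideal.span {g}).map (algebraMap B Bq))) =
      Ideal.span {g'} := by
    change RingHom.ker (Ideal.Quotient.mk ((Ideal.span {g}).map (algebraMap B Bq))) = _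
    rw [Ideal.mk_ker, Ideal.map_span, Set.image_singleton]
  have hsurj' : Function.Surjective
      (algebraMap Bq (Bq ⧸ (Ideal.span {g}).map (algebraMap B Bq))) :=
    Ideal.Quotient.mk_surjective
  have hg0 : g' ≠ 0 := by
    intro h0
    obtain ⟨s, hs⟩ := (IsLocalization.map_eq_zero_iff q.primeCompl Bq g).mp h0
    have hs0 : (s : B) = 0 := by
      apply hg
      change g * (s : B) = g * 0
      rw [mul_zero, mul_comm]; exact hs
    exact s.2 (hs0 ▸ q.zero_mem)
  rw [Groth.Agent.H79.HyperSmooth.formallySmooth_iff hsurj' g' hgm hker']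
  rw [tmul_tmul_eq_zero_iff p.asIdeal q rfl (KaehlerDifferential.map A A B Bq) (D A B g),
    KaehlerDifferential.map_D]
  constructor
  · intro h hcon
    rcases hcon with h1 | h1
    · exact hg0 h1
    · exact h1 h
  · intro h
    by_contra hcon
    exact h (Or.inr hcon)

end Main

end Groth.Agent.H79.HyperLocus
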