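import Mathlib

/-!
# Jacobian criterion for a hypersurface in a formally smooth local algebra (helper79)

`P` a local `R`-algebra, formally smooth over `R` with finite `Ω[P⁄R]`, `g ∈ 𝔪_P`, `A' = P/(g)`:
`A'` is formally smooth over `R` iff `g = 0` or `dg ∉ 𝔪 Ω[P⁄R]`.
-/

set_option autoImplicit false
set_option linter.style.haveILetI false
set_option linter.unusedVariables false
set_option linter.unusedSectionVars false

universe u

open KaehlerDifferential TensorProduct IsLocalRing

namespace Groth.Agent.H79.HyperSmooth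

variable {R P A' : Type u} [CommRing R] [CommRing P] [CommRing A'] [Algebra R P] [Algebra P A']
  [Algebra R A'] [IsScalarTower R P A']

/-- If some linear form on `Ω[P⁄R]` takes the value `1` on `dg`, then `P/(g)` is formally smooth. -/
theorem formallySmooth_of_functional [Algebra.FormallySmooth R P]
    (hsurj : Function.Surjective (algebraMap P A')) (g : P)
    (hker : RingHom.ker (algebraMap P A') = Ideal.span {g})
    (lam : Ω[P⁄R] →ₗ[P] P) (hlam : lam (D R P g) = 1) : Algebra.FormallySmooth R A' := by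
  rw [Algebra.FormallySmooth.iff_split_injection hsurj]
  have hgI : g ∈ RingHom.ker (algebraMap P A') := hker ▸ Ideal.mem_span_singleton_self g
  let cg : (RingHom.ker (algebraMap P A')).Cotangent :=
    (RingHom.ker (algebraMap P A')).toCotangent ⟨g, hgI⟩
  let l' : A' ⊗[P] Ω[P⁄R] →ₗ[P] A' :=
    (LinearMap.liftBaseChange A' ((Algebra.linearMap P A') ∘ₗ lam)).restrictScalars P
  let f : P →ₗ[P] A' := Algebra.linearMap P A'
  have hf : Function.Surjective f := hsurj
  let φ : P →ₗ[P] (RingHom.ker (algebraMap P A')).Cotangent := LinearMap.toSpanSingleton P _ cg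
  have hle : LinearMap.ker f ≤ LinearMap.ker φ := by
    intro x hx
    have hxI : x ∈ RingHom.ker (algebraMap P A') := hx
    rw [LinearMap.mem_ker]
    change x • cg = 0
    have : x • cg = (RingHom.ker (algebraMap P A')).toCotangent
        (x • (⟨g, hgI⟩ : RingHom.ker (algebraMap P A'))) := by
      rw [map_smul]
    rw [this, Ideal.toCotangent_eq_zero]
    change x * g ∈ _
    rw [pow_two]
    exact Ideal.mul_mem_mul hxI hgI
  let ψ : A' →ₗ[P] (RingHom.ker (algebraMap P A')).Cotangent :=
    (Submodule.liftQ (LinearMap.ker f) φ hle) ∘ₗ (f.quotKerEquivOfSurjective hf).symm.toLinearMap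
  have hψ : ∀ x : P, ψ (algebraMap P A' x) = x • cg := by
    intro x
    have h1 : (f.quotKerEquivOfSurjective hf).symm (algebraMap P A' x) =
        Submodule.Quotient.mk x := by
      rw [LinearEquiv.symm_apply_eq]
      rfl
    change (Submodule.liftQ (LinearMap.ker f) φ hle)
      ((f.quotKerEquivOfSurjective hf).symm (algebraMap P A' x)) = _
    rw [h1, Submodule.liftQ_apply]
    rfl
  refine ⟨ψ ∘ₗ l', ?_⟩
  ext c
  obtain ⟨⟨y, hy⟩, rfl⟩ := Ideal.toCotangent_surjective _ c
  have hy' : y ∈ Ideal.span {g} := hker ▸ hy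
  obtain ⟨x, rfl⟩ := Ideal.mem_span_singleton'.mp hy'
  have hc : (RingHom.ker (algebraMap P A')).toCotangent ⟨x * g, hy⟩ = x • cg := by
    have : (⟨x * g, hy⟩ : RingHom.ker (algebraMap P A')) =
        x • (⟨g, hgI⟩ : RingHom.ker (algebraMap P A')) := rfl
    rw [this, map_smul]
  simp only [LinearMap.coe_comp, Function.comp_apply, LinearMap.id_coe, id_eq]
  rw [hc, map_smul, map_smul, map_smul]
  congr 1
  rw [kerCotangentToTensor_toCotangent]
  change ψ (LinearMap.liftBaseChange A' ((Algebra.linearMap P A') ∘ₗ lam) (1 ⊗ₜ[P] D R P g)) = cg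
  rw [LinearMap.liftBaseChange_tmul, one_smul]
  change ψ (algebraMap P A' (lam (D R P g))) = cg
  rw [hlam, hψ, one_smul]

/-- If `P/(g)` is formally smooth, `g ∈ 𝔪` and `dg ∈ 𝔪 Ω`, then `g = 0`. -/
theorem eq_zero_of_formallySmooth [Algebra.FormallySmooth R P] [IsLocalRing P]
    (hsurj : Function.Surjective (algebraMap P A')) (g : P) (hgm : g ∈ maximalIdeal P)
    (hker : RingHom.ker (algebraMap P A') = Ideal.span {g})
    (hD : D R P g ∈ maximalIdeal P • (⊤ : Submodule P Ω[P⁄R]))
    (hA' : Algebra.FormallySmooth R A') : g = 0 := by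
  obtain ⟨l, hl⟩ := (Algebra.FormallySmooth.iff_split_injection hsurj).mp hA'
  have hgI : g ∈ RingHom.ker (algebraMap P A') := hker ▸ Ideal.mem_span_singleton_self g
  set cg : (RingHom.ker (algebraMap P A')).Cotangent :=
    (RingHom.ker (algebraMap P A')).toCotangent ⟨g, hgI⟩ with hcg
  -- `cg ∈ 𝔪 • ⊤`
  have h1 : cg = l ((TensorProduct.mk P A' Ω[P⁄R] 1) (D R P g)) := by
    have := LinearMap.congr_fun hl cg
    simp only [LinearMap.coe_comp, Function.comp_apply, LinearMap.id_coe, id_eq] at this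
    rw [← this, hcg, kerCotangentToTensor_toCotangent]
    rfl
  have h2 : cg ∈ maximalIdeal P • (⊤ : Submodule P (RingHom.ker (algebraMap P A')).Cotangent) := by
    rw [h1]
    have hmap : ∀ {M N : Type u} [AddCommGroup M] [Module P M] [AddCommGroup N] [Module P N]
        (F : M →ₗ[P] N) (x : M), x ∈ maximalIdeal P • (⊤ : Submodule P M) →
          F x ∈ maximalIdeal P • (⊤ : Submodule P N) := by
      intro M N _ _ _ _ F x hx
      have : F x ∈ (maximalIdeal P • (⊤ : Submodule P M)).map F := Submodule.mem_map_of_mem hx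
      rw [Submodule.map_smul''] at this
      exact Submodule.smul_mono le_rfl le_top this
    exact hmap l _ (hmap (TensorProduct.mk P A' Ω[P⁄R] 1) _ hD)
  -- `⊤ = span {cg}`
  have htop : (⊤ : Submodule P (RingHom.ker (algebraMap P A')).Cotangent) = Submodule.span P {cg} := by
    rw [eq_comm, eq_top_iff]
    intro c _
    obtain ⟨⟨y, hy⟩, rfl⟩ := Ideal.toCotangent_surjective _ c
    have hy' : y ∈ Ideal.span {g} := hker ▸ hy
    obtain ⟨x, rfl⟩ := Ideal.mem_span_singleton'.mp hy'
    have : (⟨x * g, hy⟩ : RingHom.ker (algebraMap P A')) =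
        x • (⟨g, hgI⟩ : RingHom.ker (algebraMap P A')) := rfl
    rw [this, map_smul]
    exact Submodule.smul_mem _ _ (Submodule.mem_span_singleton_self _)
  have hbot : (⊤ : Submodule P (RingHom.ker (algebraMap P A')).Cotangent) = ⊥ := by
    refine Submodule.eq_bot_of_le_smul_of_le_jacobson_bot (maximalIdeal P) ⊤ ?_ ?_
      (IsLocalRing.maximalIdeal_le_jacobson ⊥)
    · rw [htop]; exact Submodule.fg_span_singleton cg
    · conv_lhs => rw [htop]
      rw [Submodule.span_singleton_le_iff_mem]
      exact h2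
  have hcg0 : cg = 0 := by
    have : cg ∈ (⊤ : Submodule P (RingHom.ker (algebraMap P A')).Cotangent) := trivial
    rw [hbot] at this
    exact this
  rw [hcg, Ideal.toCotangent_eq_zero] at hcg0
  have hcg1 : g ∈ Ideal.span {g} ^ 2 := hker ▸ hcg0
  rw [Ideal.span_singleton_pow, Ideal.mem_span_singleton'] at hcg1
  obtain ⟨a, ha⟩ := hcg1
  have hu : IsUnit (1 - a * g) := by
    have : a * g ∈ maximalIdeal P := Ideal.mul_mem_left _ _ hgm
    by_contra hnu
    have h3 : 1 - a * g ∈ maximalIdeal P := (IsLocalRing.mem_maximalIdeal _).mpr hnu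
    have : (1 : P) ∈ maximalIdeal P := by
      have := Ideal.add_mem _ h3 this
      simpa using this
    exact (Ideal.ne_top_iff_one _).mp (IsLocalRing.maximalIdeal.isMaximal P).ne_top this
  have h4 : (1 - a * g) * g = 0 := by
    linear_combination -ha
  exact (hu.mul_right_eq_zero).mp h4

/-- **Hypersurface Jacobian criterion, local form.** -/
theorem formallySmooth_iff [Algebra.FormallySmooth R P] [IsLocalRing P] [Module.Finite P Ω[P⁄R]]
    (hsurj : Function.Surjective (algebraMap P A')) (g : P) (hgm : g ∈ maximalIdeal P)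
    (hker : RingHom.ker (algebraMap P A') = Ideal.span {g}) :
    Algebra.FormallySmooth R A' ↔
      g = 0 ∨ D R P g ∉ maximalIdeal P • (⊤ : Submodule P Ω[P⁄R]) := by
  constructor
  · intro hA'
    by_contra hcon
    push Not at hcon
    exact hcon.1 (eq_zero_of_formallySmooth hsurj g hgm hker hcon.2 hA')
  · rintro (h0 | hD)
    · -- `P ≃ A'`
      have hinj : Function.Injective (algebraMap P A') := by
        rw [RingHom.injective_iff_ker_eq_bot, hker, h0]
        simp
      let e : P ≃ₐ[R] A' :=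
        AlgEquiv.ofBijective (IsScalarTower.toAlgHom R P A') ⟨hinj, hsurj⟩
      exact Algebra.FormallySmooth.of_equiv e
    · haveI : Module.Projective P Ω[P⁄R] := inferInstance
      haveI : Module.Free P Ω[P⁄R] := Module.free_of_flat_of_isLocalRing
      let b := Module.Free.chooseBasis P Ω[P⁄R]
      haveI : Fintype (Module.Free.ChooseBasisIndex P Ω[P⁄R]) :=
        Module.Free.ChooseBasisIndex.fintype P Ω[P⁄R]
      have hex : ∃ i, b.repr (D R P g) i ∉ maximalIdeal P := by
        by_contra hall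
        push Not at hall
        apply hD
        rw [← b.sum_repr (D R P g)]
        exact Submodule.sum_mem _ fun i _ =>
          Submodule.smul_mem_smul (hall i) trivial
      obtain ⟨i, hi⟩ := hex
      have hu : IsUnit (b.repr (D R P g) i) := by
        by_contra hnu
        exact hi ((IsLocalRing.mem_maximalIdeal _).mpr hnu)
      obtain ⟨u, hu'⟩ := hu
      refine formallySmooth_of_functional hsurj g hker ((↑u⁻¹ : P) • b.coord i) ?_
      rw [LinearMap.smul_apply, Module.Basis.coord_apply, ← hu', smul_eq_mul, Units.inv_mul]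

section Fibre

variable {A : Type u} [CommRing A] (q : Ideal A) [q.IsPrime] {M M' : Type u} [AddCommGroup M]
  [Module A M] [AddCommGroup M'] [Module A M'] [Module (Localization.AtPrime q) M']
  [IsScalarTower A (Localization.AtPrime q) M'] (f : M →ₗ[A] M') [IsLocalizedModule q.primeCompl f]

/-- `1 ⊗ x = 0` in `κ(q) ⊗_A M` iff the image of `x` in `M_q` lies in `𝔪 M_q`. -/
theorem tmul_eq_zero_iff (x : M) :
    (1 : q.ResidueField) ⊗ₜ[A] x = 0 ↔
      f x ∈ maximalIdeal (Localization.AtPrime q) •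
        (⊤ : Submodule (Localization.AtPrime q) M') := by
  let Pq := Localization.AtPrime q
  let κ := q.ResidueField
  let e1 : κ ⊗[Pq] (Pq ⊗[A] M) ≃ₗ[κ] κ ⊗[A] M :=
    AlgebraTensorModule.cancelBaseChange A Pq κ κ M
  let e2 : Pq ⊗[A] M ≃ₗ[Pq] M' := (IsLocalizedModule.isBaseChange q.primeCompl Pq f).equiv
  let e3 : (Pq ⧸ maximalIdeal Pq) ⊗[Pq] M' ≃ₗ[Pq]
      M' ⧸ (maximalIdeal Pq • (⊤ : Submodule Pq M')) :=
    TensorProduct.quotTensorEquivQuotSMul M' (maximalIdeal Pq)
  have h1 : (1 : κ) ⊗ₜ[A] x = e1 ((1 : κ) ⊗ₜ[Pq] ((1 : Pq) ⊗ₜ[A] x)) := by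
    rw [AlgebraTensorModule.cancelBaseChange_tmul, one_smul]
  have h2 : e3 ((LinearEquiv.lTensor (Pq ⧸ maximalIdeal Pq) e2)
      ((1 : Pq ⧸ maximalIdeal Pq) ⊗ₜ[Pq] ((1 : Pq) ⊗ₜ[A] x))) = Submodule.Quotient.mk (f x) := by
    rw [LinearEquiv.lTensor_tmul, TensorProduct.quotTensorEquivQuotSMul_mk_one_tmul]
    congr 1
    simp [e2, IsBaseChange.equiv_tmul]
  rw [h1, EmbeddingLike.map_eq_zero_iff, ← Submodule.Quotient.mk_eq_zero, ← h2,
    EmbeddingLike.map_eq_zero_iff]
  exact ((LinearEquiv.lTensor (Pq ⧸ maximalIdeal Pq) e2).map_eq_zero_iff).symm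

end Fibre

end Groth.Agent.H79.HyperSmooth
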