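import Groth.Agent.H73.WeilFP5
import Groth.Agent.H8.FormallyEtale
import Groth.Agent.S1489
import Groth.Agent.H10.IntHom_EXT
import Groth.Agent.H81.IntHom_THK

/-!
# Internal Hom of finite etale covers (helper79): the Hom scheme is finite etale
-/

set_option autoImplicit false
set_option linter.style.haveILetI false
universe u

open CategoryTheory CategoryTheory.Limits AlgebraicGeometry Opposite

namespace Groth.Agent.H79.IntHom


variable {S Z Y : Scheme.{u}} (g : Z ⟶ S) (f : Y ⟶ S)

/-- the base change of `j` along `g` -/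
noncomputable abbrev tj {T T' : Over S} (j : T ⟶ T') : pullback T.hom g ⟶ pullback T'.hom g :=
  pullback.lift (pullback.fst T.hom g ≫ j.left) (pullback.snd T.hom g)
    (by rw [Category.assoc, Over.w j, pullback.condition])

theorem isPullback_tj {T T' : Over S} (j : T ⟶ T') :
    IsPullback (tj g j) (pullback.fst T.hom g) (pullback.fst T'.hom g) j.left := by
  have hbig : IsPullback (tj g j ≫ pullback.snd T'.hom g) (pullback.fst T.hom g) g
      (j.left ≫ T'.hom) := by
    have h1 : tj g j ≫ pullback.snd T'.hom g = pullback.snd T.hom g := pullback.lift_snd _ _ _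
    have h2 : j.left ≫ T'.hom = T.hom := Over.w j
    rw [h1, h2]
    exact (IsPullback.of_hasPullback T.hom g).flip
  exact IsPullback.of_right hbig (pullback.lift_fst _ _ _)
    (IsPullback.of_hasPullback T'.hom g).flip

variable {g f}

theorem sec_w {T : Over S} (b : (Flatn.morS g f).obj (op T)) :
    b.left ≫ f = pullback.snd T.hom g ≫ g := Over.w b

/-- existence of lifts to the representing object from extensions of sections -/
theorem exists_lift_of_ext {W : Over S} (R : (Flatn.morS g f).RepresentableBy W)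
    {T T' : Over S} (j : T ⟶ T') (v : T ⟶ W)
    (b' : pullback T'.hom g ⟶ Y) (hb' : b' ≫ f = pullback.snd T'.hom g ≫ g)
    (hv : tj g j ≫ b' = (R.homEquiv v).left) : ∃ l : T' ⟶ W, j ≫ l = v := by
  let B' : (Flatn.morS g f).obj (op T') := Over.homMk b' hb'
  refine ⟨R.homEquiv.symm B', ?_⟩
  apply R.homEquiv.injective
  rw [R.homEquiv_comp, Equiv.apply_symm_apply]
  apply Over.OverMorphism.ext
  rw [Groth.Agent.H73.WeilRes.map_left]
  exact hv

/-- uniqueness of lifts -/
theorem lift_unique_of_ext {W : Over S} (R : (Flatn.morS g f).RepresentableBy W)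
    {T T' : Over S} (j : T ⟶ T')
    (H : ∀ b₁ b₂ : pullback T'.hom g ⟶ Y, b₁ ≫ f = pullback.snd T'.hom g ≫ g →
      b₂ ≫ f = pullback.snd T'.hom g ≫ g → tj g j ≫ b₁ = tj g j ≫ b₂ → b₁ = b₂)
    (l₁ l₂ : T' ⟶ W) (h : j ≫ l₁ = j ≫ l₂) : l₁ = l₂ := by
  apply R.homEquiv.injective
  apply Over.OverMorphism.ext
  apply H _ _ (sec_w (R.homEquiv l₁)) (sec_w (R.homEquiv l₂))
  have h1 := congrArg (fun k => (R.homEquiv k).left) h
  simp only [R.homEquiv_comp, Groth.Agent.H73.WeilRes.map_left] at h1
  exact h1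

/-- the Hom scheme is formally etale -/
theorem isFormallyEtaleHom [IsAffineHom g] [Etale f] {W : Over S}
    (R : (Flatn.morS g f).RepresentableBy W) : MoreMor.IsFormallyEtaleHom W.hom := by
  intro A _ I hI a b w
  let T' : Over S := Over.mk b
  let T : Over S := Over.mk (Spec.map (CommRingCat.ofHom (Ideal.Quotient.mk I)) ≫ b)
  let j : T ⟶ T' := Over.homMk (Spec.map (CommRingCat.ofHom (Ideal.Quotient.mk I))) rfl
  let v : T ⟶ W := Over.homMk a w.symm
  haveI : IsAffineHom (pullback.fst T'.hom g) := inferInstanceAs (IsAffineHom (pullback.fst b g))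
  haveI : IsAffine (pullback T'.hom g) :=
    isAffine_of_isAffineHom (pullback.fst T'.hom g) (Y := Spec (CommRingCat.of A))
  obtain ⟨hci, hn⟩ := Groth.Agent.H81.IntHom_THK.isNilpotent_ker_of_isPullback I hI (pullback.fst T'.hom g) (tj g j)
    (pullback.fst T.hom g) (isPullback_tj g j)
  haveI := hci
  have hsm : ∀ {U : Y.Opens} (_ : IsAffineOpen U) {V : S.Opens} (_ : IsAffineOpen V)
      (e : U ≤ f ⁻¹ᵁ V), (f.appLE V U e).hom.FormallySmooth := by
    intro U hU V hV e
    have h := HasRingHomProperty.appLE (P := @Etale) f inferInstance ⟨V, hV⟩ ⟨U, hU⟩ e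
    letI := (f.appLE V U e).hom.toAlgebra
    haveI : Algebra.Etale Γ(S, V) Γ(Y, U) := h
    exact (inferInstance : Algebra.FormallySmooth Γ(S, V) Γ(Y, U))
  have hw : tj g j ≫ (pullback.snd T'.hom g ≫ g) = (R.homEquiv v).left ≫ f := by
    rw [sec_w (R.homEquiv v), ← Category.assoc]
    congr 1
    exact pullback.lift_snd _ _ _
  obtain ⟨b', hb1, hb2⟩ := Groth.Agent.H8.exists_lift_of_thickening f hsm (tj g j) hn
    (R.homEquiv v).left (pullback.snd T'.hom g ≫ g) hw
  obtain ⟨l, hl⟩ := exists_lift_of_ext R j v b' hb2 hb1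
  have huniq : ∀ l₁ l₂ : T' ⟶ W, j ≫ l₁ = j ≫ l₂ → l₁ = l₂ := by
    intro l₁ l₂ h
    refine lift_unique_of_ext R j ?_ l₁ l₂ h
    intro b₁ b₂ h1 h2 h3
    exact FormallyUnramified.hom_ext (tj g j) hn f h3 (h1.trans h2.symm)
  refine ⟨l.left, ⟨?_, Over.w l⟩, ?_⟩
  · exact congrArg (fun k => k.left) hl
  · rintro l' ⟨h1, h2⟩
    let L' : T' ⟶ W := Over.homMk l' h2
    have : L' = l := by
      apply huniq
      rw [hl]
      apply Over.OverMorphism.ext
      exact h1
    exact congrArg (fun k => k.left) this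

/-- the Hom scheme satisfies the existence part of the valuative criterion -/
theorem valuativeCriterion_existence [IsAffineHom g] [Etale g] [IsFinite f] {W : Over S}
    (R : (Flatn.morS g f).RepresentableBy W) : ValuativeCriterion.Existence W.hom := by
  intro Sq
  let T' : Over S := Over.mk Sq.i₂
  let T : Over S := Over.mk (Spec.map (CommRingCat.ofHom (algebraMap Sq.R Sq.K)) ≫ Sq.i₂)
  let j : T ⟶ T' := Over.homMk (Spec.map (CommRingCat.ofHom (algebraMap Sq.R Sq.K))) rfl
  let v : T ⟶ W := Over.homMk Sq.i₁ Sq.commSq.w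
  have hcond : (tj g j ≫ pullback.fst T'.hom g) ≫ Sq.i₂ = (R.homEquiv v).left ≫ f := by
    rw [sec_w (R.homEquiv v)]
    have h1 : tj g j ≫ pullback.fst T'.hom g = pullback.fst T.hom g ≫ j.left :=
      pullback.lift_fst _ _ _
    rw [h1, Category.assoc]
    exact pullback.condition
  let bK : pullback T.hom g ⟶ pullback Sq.i₂ f :=
    pullback.lift (tj g j ≫ pullback.fst T'.hom g) (R.homEquiv v).left hcond
  haveI : IsAffineHom (pullback.fst T'.hom g) :=
    inferInstanceAs (IsAffineHom (pullback.fst Sq.i₂ g))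
  haveI : Etale (pullback.fst T'.hom g) := inferInstanceAs (Etale (pullback.fst Sq.i₂ g))
  obtain ⟨b, hb1, hb2⟩ := Groth.Agent.H10.IntHom_EXT.exists_extension_of_valuationRing (O := Sq.R) (K := Sq.K)
    (pullback.fst T'.hom g) (pullback.fst Sq.i₂ f) (tj g j) (pullback.fst T.hom g)
    (isPullback_tj g j) bK (pullback.lift_fst _ _ _)
  have hb' : (b ≫ pullback.snd Sq.i₂ f) ≫ f = pullback.snd T'.hom g ≫ g := by
    rw [Category.assoc, ← pullback.condition, ← Category.assoc, hb2]
    exact pullback.condition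
  have hv : tj g j ≫ (b ≫ pullback.snd Sq.i₂ f) = (R.homEquiv v).left := by
    rw [← Category.assoc, hb1]
    exact pullback.lift_snd _ _ _
  obtain ⟨l, hl⟩ := exists_lift_of_ext R j v _ hb' hv
  exact CommSq.HasLift.mk' ⟨l.left, congrArg (fun k => k.left) hl, Over.w l⟩

theorem isFinite_and_etale [IsFinite g] [Etale g] [IsFinite f] [Etale f] {W : Over S}
    [IsAffineHom W.hom] [LocallyOfFinitePresentation W.hom]
    (R : (Flatn.morS g f).RepresentableBy W) : IsFinite W.hom ∧ Etale W.hom := by
  constructor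
  · rw [IsFinite.iff_isProper_and_isAffineHom]
    refine ⟨?_, inferInstance⟩
    haveI : UniversallyClosed W.hom :=
      UniversallyClosed.of_valuativeCriterion _ (valuativeCriterion_existence R)
    exact { }
  · rw [Groth.Agent.S1489.result]
    exact ⟨inferInstance, isFormallyEtaleHom R⟩

end Groth.Agent.H79.IntHom
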