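import Mathlib
import Groth.Prelude.Def_CInt
import Groth.Prelude.Def_RegImm
import Groth.Agent.H79.QRegSpread
import Groth.Agent.H79.RegSpreadSch
import Groth.Agent.H79.RegImmStalkK
import Groth.Agent.H29.FiberStalkAt
import Groth.Agent.H59.KoszH1Bridge
import Groth.Agent.S2103
import Groth.Agent.S8905

/-!
# Koszul morphisms and complete-intersection fibres (helper79)
-/

set_option autoImplicit false
set_option linter.unusedVariables false
set_option linter.style.haveILetI false
set_option linter.unusedSectionVars false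

universe u

open CategoryTheory CategoryTheory.Limits AlgebraicGeometry TopologicalSpace

namespace Groth.Agent.H79.KoszulCI

open RingTheory.Sequence

set_option maxHeartbeats 800000 in
/-- `ψ : B ↠ C` a surjection of `A`-algebras whose kernel is generated by a quasi-regular sequence,
`C` flat over `A`, `B/mB` a regular local ring (and the sequence lies in its maximal ideal): then
`C/mC` is a complete intersection. -/
theorem isCI_fibre_of_quasiRegular {A B C : Type u} [CommRing A] [CommRing B] [CommRing C]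
    [Algebra A B] [Algebra A C] (ψ : B →ₐ[A] C) (hψ : Function.Surjective ψ) (m : Ideal A)
    (rs : List B) (hq : CAlgX.IsQuasiRegular rs.get)
    (hker : RingHom.ker ψ.toRingHom = Ideal.ofList rs)
    [Module.Flat A C] [IsRegularLocalRing (B ⧸ m.map (algebraMap A B))]
    (hmem : ∀ r ∈ rs, Ideal.Quotient.mk (m.map (algebraMap A B)) r ∈
      IsLocalRing.maximalIdeal (B ⧸ m.map (algebraMap A B)))
    (L : Type u) [CommRing L] [IsLocalRing L] (eL : L ≃+* C ⧸ m.map (algebraMap A C)) :
    Pi1.IsCompleteIntersection L := by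
  set K := RingHom.ker ψ.toRingHom with hK
  have hflat : Module.Flat A (B ⧸ Ideal.ofList rs) := by
    rw [← hker]
    exact Module.Flat.of_linearEquiv
      (Ideal.quotientKerAlgEquivOfSurjective hψ).toLinearEquiv
  have hw := Groth.Agent.H79.QRegSpread.weaklyRegular_fibre_of_quasiRegular m rs hq hflat hmem
  have hreg : IsRegular (B ⧸ m.map (algebraMap A B))
      (rs.map (Ideal.Quotient.mk (m.map (algebraMap A B)))) := by
    refine ⟨hw, ?_⟩
    simp only [smul_eq_mul, Ideal.mul_top]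
    intro htop
    have hle : Ideal.ofList (rs.map (Ideal.Quotient.mk (m.map (algebraMap A B)))) ≤
        IsLocalRing.maximalIdeal (B ⧸ m.map (algebraMap A B)) := by
      unfold Ideal.ofList
      rw [Ideal.span_le]
      intro x hx
      obtain ⟨r, hr, rfl⟩ := List.mem_map.mp hx
      exact hmem r hr
    rw [← htop] at hle
    exact (IsLocalRing.maximalIdeal.isMaximal _).ne_top (top_le_iff.mp hle)
  set mB := m.map (algebraMap A B) with hmB
  have hI₁ : K.map (Ideal.Quotient.mk mB) = Ideal.ofList (rs.map (Ideal.Quotient.mk mB)) := by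
    rw [hker, Ideal.map_ofList]
  have hne : K.map (Ideal.Quotient.mk mB) ≠ ⊤ := by
    rw [hI₁]
    have := hreg.2
    simp only [smul_eq_mul, Ideal.mul_top] at this
    exact fun h => this h.symm
  haveI : Nontrivial ((B ⧸ mB) ⧸ K.map (Ideal.Quotient.mk mB)) :=
    Ideal.Quotient.nontrivial_iff.mpr hne
  haveI : IsLocalRing ((B ⧸ mB) ⧸ K.map (Ideal.Quotient.mk mB)) := inferInstance
  have hci : Pi1.IsCompleteIntersection ((B ⧸ mB) ⧸ K.map (Ideal.Quotient.mk mB)) :=
    Groth.Agent.H79.CIPres.isCompleteIntersection_quot _ hne ⟨_, hreg, hI₁.symm⟩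
  let e0 : (B ⧸ K) ≃+* C := RingHom.quotientKerEquivOfSurjective hψ
  have h1 : (m.map (algebraMap A C)) = (mB.map (Ideal.Quotient.mk K)).map (e0 : (B ⧸ K) →+* C) := by
    rw [hmB, Ideal.map_map, Ideal.map_map]
    congr 1
    ext a
    simp only [RingHom.comp_apply]
    show algebraMap A C a = ψ (algebraMap A B a)
    rw [ψ.commutes]
  let e1 : ((B ⧸ K) ⧸ mB.map (Ideal.Quotient.mk K)) ≃+* (C ⧸ m.map (algebraMap A C)) :=
    Ideal.quotientEquiv _ _ e0 h1
  let e2 := DoubleQuot.quotQuotEquivQuotSup K mB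
  let e3 := Ideal.quotEquivOfEq (sup_comm K mB)
  let e4 := (DoubleQuot.quotQuotEquivQuotSup mB K).symm
  exact Groth.Agent.H79.CIOpen.isCI_of_ringEquiv
    ((((eL.trans e1.symm).trans e2).trans e3).trans e4).symm hci

/-- the fibre local ring is insensitive to passing to an open subscheme of the source -/
theorem nonempty_fiberStalk_equiv_of_isOpenImmersion {W X Y : Scheme.{u}} (j : W ⟶ X)
    [IsOpenImmersion j] (f : X ⟶ Y) (w : W) :
    Nonempty (CInt.fiberStalk (j ≫ f) w ≃+* CInt.fiberStalk f (j w)) := by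
  obtain ⟨e₁⟩ := Groth.Agent.H29.FiberStalkAt.nonempty_fiberStalkEquiv (j ≫ f) w
  obtain ⟨e₂⟩ := Groth.Agent.H29.FiberStalkAt.nonempty_fiberStalkEquiv f (j w)
  let σ : X.presheaf.stalk (j w) ≃+* W.presheaf.stalk w :=
    (asIso (j.stalkMap w)).commRingCatIsoToRingEquiv
  have hσ : ∀ a, σ a = (j.stalkMap w).hom a := fun a => rfl
  have hIJ : Ideal.map ((j ≫ f).stalkMap w).hom
      (IsLocalRing.maximalIdeal (Y.presheaf.stalk ((j ≫ f).base w))) =
      (Ideal.map (f.stalkMap (j w)).hom
        (IsLocalRing.maximalIdeal (Y.presheaf.stalk (f.base (j w))))).map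
        (σ : X.presheaf.stalk (j w) →+* W.presheaf.stalk w) := by
    rw [Ideal.map_map, Groth.Agent.H29.FiberStalkAt.stalkMap_comp_hom]
    rfl
  let e₃ := Ideal.quotientEquiv _ _ σ hIJ
  exact ⟨(e₁.symm.trans e₃.symm).trans e₂⟩

set_option maxHeartbeats 1600000 in
/-- **A flat morphism that is Koszul at `x` has a complete intersection fibre local ring at `x`.** -/
theorem isCI_fiberStalk_of_isKoszulAt {X Y : Scheme.{u}} (f : X ⟶ Y) [Flat f] (x : X)
    (h : Synt.IsKoszulAt f x) : Pi1.IsCompleteIntersection (CInt.fiberStalk f x) := by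
  obtain ⟨U, P, i, π, hxU, hlft, hkos, hsm, hcomm⟩ := h
  haveI := hsm
  haveI := hkos.1
  haveI : Flat (i ≫ π) := by rw [hcomm]; infer_instance
  obtain ⟨x', hx'⟩ : ∃ x' : ↥(U : Scheme.{u}), x' = ⟨x, hxU⟩ := ⟨_, rfl⟩
  obtain ⟨rs₂, hrs₂, hker₂⟩ := Groth.Agent.H79.RegImmStalkK.exists_seq_ker_stalkMap
    RegImm.Kind.koszul i x' (hkos.2 x')
  have hrs₂' : LCI.IsKoszulRegularSeq (P.presheaf.stalk (i x')) rs₂ := hrs₂
  have hq : CAlgX.IsQuasiRegular rs₂.get :=
    Groth.Agent.S2103.result _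
      (Groth.Agent.H59.Kosz.isH1Regular_of_isKoszulRegularSeq rs₂ hrs₂')
  letI algB : Algebra (Y.presheaf.stalk (π (i x'))) (P.presheaf.stalk (i x')) :=
    (π.stalkMap (i x')).hom.toAlgebra
  letI algC : Algebra (Y.presheaf.stalk (π (i x'))) ((U : Scheme.{u}).presheaf.stalk x') :=
    ((i ≫ π).stalkMap x').hom.toAlgebra
  haveI : Module.Flat (Y.presheaf.stalk (π (i x'))) ((U : Scheme.{u}).presheaf.stalk x') :=
    Flat.stalkMap (i ≫ π) x'
  let ψ : (P.presheaf.stalk (i x')) →ₐ[Y.presheaf.stalk (π (i x'))]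
      ((U : Scheme.{u}).presheaf.stalk x') :=
    { (i.stalkMap x').hom with
      commutes' := fun r => by
        show (i.stalkMap x').hom ((π.stalkMap (i x')).hom r) = ((i ≫ π).stalkMap x').hom r
        rw [Groth.Agent.H29.FiberStalkAt.stalkMap_comp_hom]
        rfl }
  have hψ : Function.Surjective ψ := i.stalkMap_surjective x'
  obtain ⟨eB⟩ := Groth.Agent.H29.FiberStalkAt.nonempty_fiberStalkEquiv π (i x')
  obtain ⟨eC⟩ := Groth.Agent.H29.FiberStalkAt.nonempty_fiberStalkEquiv (i ≫ π) x'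
  haveI := Groth.Agent.H79.RegSpreadSch.isRegularLocalRing_fiberStalk_of_smooth π (i x')
  haveI : IsRegularLocalRing (P.presheaf.stalk (i x') ⧸
      (IsLocalRing.maximalIdeal (Y.presheaf.stalk (π (i x')))).map
        (algebraMap (Y.presheaf.stalk (π (i x'))) (P.presheaf.stalk (i x')))) :=
    IsRegularLocalRing.of_ringEquiv (R := CInt.fiberStalk π (i x')) eB.symm
  have hmem : ∀ r ∈ rs₂, Ideal.Quotient.mk ((IsLocalRing.maximalIdeal
      (Y.presheaf.stalk (π (i x')))).map
        (algebraMap (Y.presheaf.stalk (π (i x'))) (P.presheaf.stalk (i x')))) r ∈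
      IsLocalRing.maximalIdeal (P.presheaf.stalk (i x') ⧸
        (IsLocalRing.maximalIdeal (Y.presheaf.stalk (π (i x')))).map
          (algebraMap (Y.presheaf.stalk (π (i x'))) (P.presheaf.stalk (i x')))) := by
    intro r hr
    have hrK : r ∈ RingHom.ker (i.stalkMap x').hom := by
      rw [hker₂]; exact Ideal.subset_span hr
    rw [IsLocalRing.mem_maximalIdeal, mem_nonunits_iff]
    intro hu
    haveI : IsLocalHom (Ideal.Quotient.mk ((IsLocalRing.maximalIdeal
        (Y.presheaf.stalk (π (i x')))).map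
          (algebraMap (Y.presheaf.stalk (π (i x'))) (P.presheaf.stalk (i x'))))) :=
      IsLocalHom.of_surjective _ Ideal.Quotient.mk_surjective
    have hu' : IsUnit r := (isUnit_map_iff _ r).mp hu
    have h0 : (i.stalkMap x').hom r = 0 := RingHom.mem_ker.mp hrK
    have hu'' : IsUnit ((i.stalkMap x').hom r) := hu'.map _
    rw [h0] at hu''
    exact not_isUnit_zero hu''
  have hci1 : Pi1.IsCompleteIntersection (CInt.fiberStalk (i ≫ π) x') :=
    isCI_fibre_of_quasiRegular ψ hψ
      (IsLocalRing.maximalIdeal (Y.presheaf.stalk (π (i x')))) rs₂ hq hker₂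
      hmem (CInt.fiberStalk (i ≫ π) x') eC.symm
  have hci2 : Pi1.IsCompleteIntersection (CInt.fiberStalk (U.ι ≫ f) x') := by
    rw [← hcomm]; exact hci1
  obtain ⟨e⟩ := nonempty_fiberStalk_equiv_of_isOpenImmersion U.ι f x'
  have hci3 := Groth.Agent.H79.CIOpen.isCI_of_ringEquiv e hci2
  subst hx'
  exact hci3

set_option maxHeartbeats 1600000 in
/-- **A flat l.f.p. morphism with complete intersection fibre local rings is Koszul at every
point.** -/
theorem isKoszulAt_of_isCI {X Y : Scheme.{u}} (f : X ⟶ Y) [Flat f]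
    [LocallyOfFinitePresentation f]
    (hci : ∀ x : X, Pi1.IsCompleteIntersection (CInt.fiberStalk f x)) (x : X) :
    Synt.IsKoszulAt f x := by
  obtain ⟨V, hV, hxV, -⟩ := exists_isAffineOpen_mem_and_subset (x := f x) (U := ⊤) trivial
  obtain ⟨W, hW, hxW, hWV0⟩ := exists_isAffineOpen_mem_and_subset (x := x) (U := f ⁻¹ᵁ V) hxV
  have hWV : W ≤ f ⁻¹ᵁ V := hWV0
  letI algB := (f.appLE V W hWV).hom.toAlgebra
  haveI : Algebra.FinitePresentation Γ(Y, V) Γ(X, W) := f.finitePresentation_appLE hV hW hWV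
  obtain ⟨n, φ, hφ, hfg⟩ := Algebra.FinitePresentation.out (R := Γ(Y, V)) (A := Γ(X, W))
  let π : Spec (CommRingCat.of (MvPolynomial (Fin n) Γ(Y, V))) ⟶ Y :=
    Spec.map (CommRingCat.ofHom (algebraMap Γ(Y, V) (MvPolynomial (Fin n) Γ(Y, V)))) ≫ hV.fromSpec
  let i : (W : Scheme.{u}) ⟶ Spec (CommRingCat.of (MvPolynomial (Fin n) Γ(Y, V))) :=
    hW.isoSpec.hom ≫ Spec.map (CommRingCat.ofHom φ.toRingHom)
  haveI hsm1 : Smooth (Spec.map (CommRingCat.ofHom
      (algebraMap Γ(Y, V) (MvPolynomial (Fin n) Γ(Y, V))))) := by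
    rw [HasRingHomProperty.Spec_iff (P := @Smooth)]
    have h0 : Algebra.Smooth Γ(Y, V) (MvPolynomial (Fin n) Γ(Y, V)) :=
      ⟨inferInstance, inferInstance⟩
    exact RingHom.smooth_algebraMap.mpr h0
  haveI hsm : Smooth π := inferInstance
  haveI hcl1 : IsClosedImmersion (Spec.map (CommRingCat.ofHom φ.toRingHom)) :=
    IsClosedImmersion.spec_of_surjective _ hφ
  haveI hcl : IsClosedImmersion i := inferInstance
  have hcomm : i ≫ π = W.ι ≫ f := by
    have h1 : CommRingCat.ofHom (algebraMap Γ(Y, V) (MvPolynomial (Fin n) Γ(Y, V))) ≫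
        CommRingCat.ofHom φ.toRingHom = f.appLE V W hWV := by
      ext r
      exact φ.commutes r
    show (hW.isoSpec.hom ≫ Spec.map (CommRingCat.ofHom φ.toRingHom)) ≫
      (Spec.map (CommRingCat.ofHom (algebraMap Γ(Y, V) (MvPolynomial (Fin n) Γ(Y, V)))) ≫
        hV.fromSpec) = W.ι ≫ f
    rw [Category.assoc, ← Category.assoc (Spec.map _) (Spec.map _) _, ← Spec.map_comp, h1,
      IsAffineOpen.SpecMap_appLE_fromSpec f hV hW hWV, ← Category.assoc,
      hW.isoSpec_hom_fromSpec]
  haveI : Flat (i ≫ π) := by rw [hcomm]; infer_instance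
  haveI : LocallyOfFinitePresentation (i ≫ π) := by rw [hcomm]; infer_instance
  have hreg : RegImm.IsRegularImmersion RegImm.Kind.regular i := by
    refine ⟨inferInstance, fun z => ?_⟩
    have hci' : Pi1.IsCompleteIntersection (CInt.fiberStalk (i ≫ π) z) := by
      rw [hcomm]
      obtain ⟨e⟩ := nonempty_fiberStalk_equiv_of_isOpenImmersion W.ι f z
      exact Groth.Agent.H79.CIOpen.isCI_of_ringEquiv e.symm (hci (W.ι z))
    obtain ⟨U', hU', hmem, rs, hrs, hker⟩ :=
      Groth.Agent.H79.RegSpreadSch.exists_affine_regular π i z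
        (Groth.Agent.H79.RegSpreadSch.isRegularLocalRing_fiberStalk_of_smooth π (i z)) hci'
    exact ⟨⟨U', hU'⟩, hmem, inferInstance, rs, hrs,
      (Scheme.Hom.ker_apply i ⟨U', hU'⟩).symm.trans hker⟩
  exact ⟨W, _, i, π, hxW, inferInstance, (Groth.Agent.S8905.result i).1 hreg, hsm, hcomm⟩

end Groth.Agent.H79.KoszulCI
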