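import Groth.Agent.H11.QuotGlue_RA
import Groth.Agent.H73.QuotGlue_SN
import Groth.Agent.H89.QuotGlue_AQ
import Groth.Agent.H69.QuotGlue_LOCQ
import Groth.Agent.H35.QuotGlue_UQ
import Groth.Agent.H68.QuotGlue_AG
import Groth.Agent.S2925
import Groth.Agent.S2908

/-!
# Quotient of a scheme by a finite group with orbits in affine opens (helper79): assembly
-/

set_option autoImplicit false
set_option linter.style.haveILetI false
universe u

open CategoryTheory CategoryTheory.Limits AlgebraicGeometry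

namespace Groth.Agent.H79.QuotGlue

open Groth.Agent.H11.QuotGlue_RA Groth.Agent.H73.QuotGlue_SN Groth.Agent.H89.QuotGlue_AQ
  Groth.Agent.H69.QuotGlue_LOCQ Groth.Agent.H35.QuotGlue_UQ Groth.Agent.H68.QuotGlue_AG

theorem main {X : Scheme.{u}} {G : Type u} [Group G] [Finite G] (ρ : G →* Aut X)
    (h : ∀ x : X, ∃ U : X.Opens, IsAffineOpen U ∧ ∀ g : G, (ρ g).hom.base x ∈ U) :
    ∃ (Y : Scheme.{u}) (p : X ⟶ Y), SGA1.IsQuot ρ p := by
  classical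
  let ℬ : Set X.Opens := {V | IsAffineOpen V ∧ ∀ g : G, (ρ g).hom ⁻¹ᵁ V = V}
  have htop : ∀ g : G, (ρ g).hom ⁻¹ᵁ (⊤ : X.Opens) = ⊤ := fun g => rfl
  have hcov : ∀ x : X, ∃ V ∈ ℬ, x ∈ V := by
    intro x
    obtain ⟨V, hVa, hVs, hxV, -⟩ := exists_stable_affine_nhd ρ h ⊤ htop x trivial
    exact ⟨V, ⟨hVa, hVs⟩, hxV⟩
  have hdir : ∀ V ∈ ℬ, ∀ V' ∈ ℬ, ∀ x : X, x ∈ V → x ∈ V' →
      ∃ V'' ∈ ℬ, x ∈ V'' ∧ V'' ≤ V ∧ V'' ≤ V' := by
    intro V hV V' hV' x hx hx'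
    have hW : ∀ g : G, (ρ g).hom ⁻¹ᵁ (V ⊓ V') = V ⊓ V' := by
      intro g
      rw [Scheme.Hom.preimage_inf, hV.2 g, hV'.2 g]
    obtain ⟨V'', ha, hs, hx'', hle⟩ := exists_stable_affine_nhd ρ h (V ⊓ V') hW x ⟨hx, hx'⟩
    exact ⟨V'', ⟨ha, hs⟩, hx'', hle.trans inf_le_left, hle.trans inf_le_right⟩
  have hact' : ∀ V : ℬ, ∃ ρV : G →* Aut V.1.toScheme,
      ∀ g : G, (ρV g).hom ≫ V.1.ι = V.1.ι ≫ (ρ g).hom :=
    fun V => exists_resAct ρ V.1 V.2.2
  choose act hact using hact'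
  have hquot : ∀ V : ℬ, ∃ (Y : Scheme.{u}) (q : V.1.toScheme ⟶ Y),
      IsAffine Y ∧ SGA1.IsQuot (act V) q := by
    intro V
    haveI : IsAffine V.1.toScheme := V.2.1
    exact exists_isQuot_of_isAffine (act V)
  choose Y q hYaff hq using hquot
  have hle_equiv : ∀ (V V' : ℬ) (hVV : V.1 ≤ V'.1) (g : G),
      ((act V) g).hom ≫ X.homOfLE hVV = X.homOfLE hVV ≫ ((act V') g).hom := by
    intro V V' hVV g
    rw [← cancel_mono V'.1.ι, Category.assoc, Category.assoc, Scheme.homOfLE_ι, hact, hact,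
      ← Category.assoc, Scheme.homOfLE_ι]
  have hm : ∀ (V V' : ℬ) (hVV : V.1 ≤ V'.1),
      ∃! m : Y V ⟶ Y V', q V ≫ m = X.homOfLE hVV ≫ q V' := by
    intro V V' hVV
    apply Groth.Agent.S2925.result (act V) (q V) (hq V)
    intro g
    rw [← Category.assoc, hle_equiv, Category.assoc, (hq V').inv g]
  let m : ∀ (V V' : ℬ), V.1 ≤ V'.1 → (Y V ⟶ Y V') := fun V V' hVV => (hm V V' hVV).choose
  have hqm : ∀ (V V' : ℬ) (hVV : V.1 ≤ V'.1), q V ≫ m V V' hVV = X.homOfLE hVV ≫ q V' :=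
    fun V V' hVV => (hm V V' hVV).choose_spec.1
  have hm_uniq : ∀ (V V' : ℬ) (hVV : V.1 ≤ V'.1) (m' : Y V ⟶ Y V'),
      q V ≫ m' = X.homOfLE hVV ≫ q V' → m' = m V V' hVV :=
    fun V V' hVV m' hm' => (hm V V' hVV).choose_spec.2 m' hm'
  have hm_id : ∀ V : ℬ, m V V le_rfl = 𝟙 _ := by
    intro V
    symm
    apply hm_uniq
    rw [Category.comp_id, Scheme.homOfLE_rfl, Category.id_comp]
  have hm_comp : ∀ (V V' V'' : ℬ) (h1 : V.1 ≤ V'.1) (h2 : V'.1 ≤ V''.1),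
      m V V' h1 ≫ m V' V'' h2 = m V V'' (h1.trans h2) := by
    intro V V' V'' h1 h2
    apply hm_uniq
    rw [← Category.assoc, hqm, Category.assoc, hqm, ← Category.assoc, Scheme.homOfLE_homOfLE]
  have hUQ : ∀ (V V' : ℬ) (hVV : V.1 ≤ V'.1), IsOpenImmersion (m V V' hVV) ∧
      ∀ x : V'.1.toScheme, (q V').base x ∈ Set.range (m V V' hVV).base →
        x ∈ Set.range (X.homOfLE hVV).base :=
    fun V V' hVV => isOpenImmersion_of_isQuot_of_isQuot (act V') (q V') (hq V') (X.homOfLE hVV)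
      (act V) (hle_equiv V V' hVV) (q V) (hq V) (m V V' hVV) (hqm V V' hVV)
  have hsat : ∀ (V V' : ℬ) (hVV : V.1 ≤ V'.1) (x : V'.1.toScheme),
      (q V').base x ∈ Set.range (m V V' hVV).base → V'.1.ι.base x ∈ V.1 := by
    intro V V' hVV x hx
    obtain ⟨x0, rfl⟩ := (hUQ V V' hVV).2 x hx
    have : V'.1.ι.base ((X.homOfLE hVV).base x0) = V.1.ι.base x0 := by
      rw [← Scheme.Hom.comp_apply, Scheme.homOfLE_ι]
    rw [this]
    exact x0.2
  have hsurj : ∀ V : ℬ, Function.Surjective (q V).base :=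
    fun V => (Groth.Agent.S2908.result (act V) (q V) (hq V)).1
  obtain ⟨Z, p, ι, hι, hcomm, hpre, hjs⟩ := exists_glued ℬ hcov hdir Y q hsurj m
    (fun V V' hVV => (hUQ V V' hVV).1) hm_id hm_comp hqm hsat
  have hinv : ∀ g : G, (ρ g).hom ≫ p = p := by
    intro g
    apply Scheme.hom_ext_of_forall
    intro x
    obtain ⟨V, hV, hxV⟩ := hcov x
    refine ⟨V, hxV, ?_⟩
    have h1 := hact ⟨V, hV⟩ g
    have h2 := hcomm ⟨V, hV⟩
    have h3 := (hq ⟨V, hV⟩).inv g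
    simp only at h1 h2
    rw [← Category.assoc, ← h1, Category.assoc, h2, ← Category.assoc, h3]
  exact ⟨Z, p, isQuot_of_local ρ p hinv ℬ (fun V => V.1) Y q ι hι hcomm hpre hjs act hact hq⟩

end Groth.Agent.H79.QuotGlue
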