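import Mathlib.Algebra.Category.ModuleCat.Basic
import Mathlib.Algebra.Category.ModuleCat.Limits
import Mathlib.LinearAlgebra.Quotient.Basic
import Mathlib.CategoryTheory.Limits.Shapes.Pullback.IsPullback.Basic
import Mathlib.CategoryTheory.Limits.Types.Pullbacks

set_option autoImplicit false
universe u v
open CategoryTheory CategoryTheory.Limits

namespace Groth.Agent.H79

/-- The square of quotient maps `M/N → M/P, M/Q → M/S` is cartesian when `N = P ⊓ Q`, `S = P ⊔ Q`. -/
theorem isPullback_factor (A : Type u) [CommRing A] (M : Type v) [AddCommGroup M] [Module A M]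
    {N P Q S : Submodule A M} (hNP : N ≤ P) (hNQ : N ≤ Q) (hPS : P ≤ S) (hQS : Q ≤ S)
    (hinf : P ⊓ Q ≤ N) (hsup : S ≤ P ⊔ Q) :
    IsPullback (ModuleCat.ofHom (Submodule.factor hNP)) (ModuleCat.ofHom (Submodule.factor hNQ))
      (ModuleCat.ofHom (Submodule.factor hPS)) (ModuleCat.ofHom (Submodule.factor hQS)) := by
  have e : ModuleCat.ofHom (Submodule.factor hNP) ≫ ModuleCat.ofHom (Submodule.factor hPS) =
      ModuleCat.ofHom (Submodule.factor hNQ) ≫ ModuleCat.ofHom (Submodule.factor hQS) := by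
    rw [← ModuleCat.ofHom_comp, ← ModuleCat.ofHom_comp]
    congr 1
    apply Submodule.linearMap_qext
    ext m
    simp
  have : ReflectsLimit (cospan (ModuleCat.ofHom (Submodule.factor hPS))
      (ModuleCat.ofHom (Submodule.factor hQS))) (forget (ModuleCat.{v} A)) :=
    reflectsLimit_of_reflectsIsomorphisms _ _
  apply IsPullback.of_map (forget (ModuleCat.{v} A)) e
  rw [Types.isPullback_iff]
  refine ⟨?_, ?_, ?_⟩
  · rw [← Functor.map_comp, ← Functor.map_comp, e]
  · rintro x y ⟨h1, h2⟩
    obtain ⟨m, rfl⟩ := Submodule.Quotient.mk_surjective _ x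
    obtain ⟨m', rfl⟩ := Submodule.Quotient.mk_surjective _ y
    have h1' : (Submodule.Quotient.mk m : M ⧸ P) = Submodule.Quotient.mk m' := h1
    have h2' : (Submodule.Quotient.mk m : M ⧸ Q) = Submodule.Quotient.mk m' := h2
    rw [Submodule.Quotient.eq] at h1' h2'
    rw [Submodule.Quotient.eq]
    exact hinf ⟨h1', h2'⟩
  · intro x y hxy
    obtain ⟨m, rfl⟩ := Submodule.Quotient.mk_surjective _ x
    obtain ⟨m', rfl⟩ := Submodule.Quotient.mk_surjective _ y
    have hxy' : (Submodule.Quotient.mk m : M ⧸ S) = Submodule.Quotient.mk m' := hxy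
    rw [Submodule.Quotient.eq] at hxy'
    obtain ⟨p, hp, q, hq, hpq⟩ := Submodule.mem_sup.mp (hsup hxy')
    refine ⟨(Submodule.Quotient.mk (m - p) : M ⧸ N), ?_, ?_⟩
    · change (Submodule.Quotient.mk (m - p) : M ⧸ P) = Submodule.Quotient.mk m
      rw [Submodule.Quotient.eq]
      simpa using P.neg_mem hp
    · change (Submodule.Quotient.mk (m - p) : M ⧸ Q) = Submodule.Quotient.mk m'
      rw [Submodule.Quotient.eq]
      have : m - p - m' = q := by
        have h3 : m - p - m' = (m - m') - p := by abel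
        rw [h3, ← hpq]; abel
      rw [this]; exact hq

end Groth.Agent.H79
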