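import Mathlib

/-!
# Rigidity for unramified separated morphisms (helper79)
Two morphisms over `Y` from a connected scheme into an unramified separated `Y`-scheme which agree
at a field-valued point are equal.
-/

set_option autoImplicit false
set_option linter.style.haveILetI false
universe u

open CategoryTheory CategoryTheory.Limits AlgebraicGeometry

namespace Groth.Agent.H79.Rigidity

theorem eq_of_comp_eq_of_point {T X Y : Scheme.{u}} (p : X ⟶ Y) [IsSeparated p]
    [FormallyUnramified p] [LocallyOfFiniteType p] [ConnectedSpace T]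
    (a b : T ⟶ X) (hab : a ≫ p = b ≫ p) {K : Type u} [Field K]
    (ξ : Spec (CommRingCat.of K) ⟶ T) (hξ : ξ ≫ a = ξ ≫ b) : a = b := by
  let Δ : X ⟶ pullback p p := pullback.diagonal p
  let c : T ⟶ pullback p p := pullback.lift a b hab
  let e : pullback c Δ ⟶ T := pullback.fst c Δ
  haveI : IsOpenImmersion e := inferInstanceAs (IsOpenImmersion (pullback.fst c Δ))
  haveI : IsClosedImmersion e := inferInstanceAs (IsClosedImmersion (pullback.fst c Δ))
  have hξc : ξ ≫ c = (ξ ≫ a) ≫ Δ := by
    have hΔ1 : Δ ≫ pullback.fst p p = 𝟙 X := pullback.diagonal_fst p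
    have hΔ2 : Δ ≫ pullback.snd p p = 𝟙 X := pullback.diagonal_snd p
    have hc1 : c ≫ pullback.fst p p = a := pullback.lift_fst _ _ _
    have hc2 : c ≫ pullback.snd p p = b := pullback.lift_snd _ _ _
    apply pullback.hom_ext
    · rw [Category.assoc, Category.assoc, hc1, hΔ1, Category.comp_id]
    · rw [Category.assoc, Category.assoc, hc2, hΔ2, Category.comp_id, hξ]
  let ζ : Spec (CommRingCat.of K) ⟶ pullback c Δ := pullback.lift ξ (ξ ≫ a) hξc
  have hne : (Set.range e.base).Nonempty :=
    ⟨e.base (ζ.base (IsLocalRing.closedPoint K)), Set.mem_range_self _⟩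
  have hclopen : IsClopen (Set.range e.base) :=
    ⟨e.isClosedEmbedding.isClosed_range, e.isOpenEmbedding.isOpen_range⟩
  have huniv : Set.range e.base = Set.univ := hclopen.eq_univ hne
  haveI : Surjective e := ⟨Set.range_eq_univ.mp huniv⟩
  haveI : IsIso e := (isIso_iff_isOpenImmersion_and_surjective e).mpr ⟨inferInstance, inferInstance⟩
  have h1 : e ≫ a = e ≫ b := by
    have hc : e ≫ c = pullback.snd c Δ ≫ Δ := pullback.condition
    have hΔ1 : Δ ≫ pullback.fst p p = 𝟙 X := pullback.diagonal_fst p
    have hΔ2 : Δ ≫ pullback.snd p p = 𝟙 X := pullback.diagonal_snd p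
    have hc1 : c ≫ pullback.fst p p = a := pullback.lift_fst _ _ _
    have hc2 : c ≫ pullback.snd p p = b := pullback.lift_snd _ _ _
    have ha : e ≫ a = (e ≫ c) ≫ pullback.fst p p := by rw [Category.assoc, hc1]
    have hb : e ≫ b = (e ≫ c) ≫ pullback.snd p p := by rw [Category.assoc, hc2]
    rw [ha, hb, hc, Category.assoc, Category.assoc, hΔ1, hΔ2]
  exact (cancel_epi e).mp h1

end Groth.Agent.H79.Rigidity
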