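import Mathlib
import Groth.Agent.H79.SmoothReg

/-!
# A flat, regular local algebra with a retraction over a local PID is formally smooth

* `formallySmooth_of_retraction` : `A` a local principal ideal domain (field or DVR), `A → B` flat
  local, `B` regular local and a localization of a finitely presented `A`-algebra, with a ring
  homomorphism `ρ : B → A` such that `A → B → A` is bijective.  Then `B` is formally smooth over `A`.
* `formallySmooth_localization_of_retraction` : chart-level version for primes `q` over `p`.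
-/

set_option autoImplicit false
universe u

open IsLocalRing TensorProduct

namespace Groth.Agent.H79.SecSmooth

local notation "𝓀[" R "]" => ResidueField R

section Local

variable {A B P : Type u} [CommRing A] [CommRing B] [CommRing P]
    [Algebra A B] [Algebra A P] [Algebra P B] [IsScalarTower A P B]
    [IsLocalRing A] [IsDomain A] [IsPrincipalIdealRing A]
    [IsRegularLocalRing B] [IsLocalHom (algebraMap A B)] [Module.Flat A B]

omit [Module.Flat A B] in
/-- the closed fibre of a regular local ring with a retraction to a local PID is regular -/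
theorem regular_fibre (ρ : B →+* A) (hρ : ∀ a, ρ (algebraMap A B a) = a) :
    IsRegularLocalRing (B ⧸ (maximalIdeal A).map (algebraMap A B)) := by
  have hJ : (maximalIdeal A).map (algebraMap A B) ≤ maximalIdeal B :=
    ((local_hom_TFAE (algebraMap A B)).out 0 2 rfl rfl).mp inferInstance
  rw [Groth.Agent.H79.SmoothReg.regular_quot_iff _ B rfl _ hJ]
  have hsurj : Function.Surjective ρ := fun a => ⟨_, hρ a⟩
  haveI : IsLocalHom ρ := IsLocalHom.of_surjective ρ hsurj
  have hρm : ∀ b ∈ maximalIdeal B, ρ b ∈ maximalIdeal A := by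
    intro b hb
    exact map_nonunit ρ b hb
  have hρm' : ∀ b, ρ b ∈ maximalIdeal A → b ∈ maximalIdeal B := by
    intro b hb
    rw [mem_maximalIdeal, mem_nonunits_iff] at hb ⊢
    exact fun h => hb (h.map ρ)
  have hρ2 : ∀ b ∈ maximalIdeal B ^ 2, ρ b ∈ maximalIdeal A ^ 2 := by
    intro b hb
    have h1 : ρ b ∈ (maximalIdeal B ^ 2).map ρ := Ideal.mem_map_of_mem ρ hb
    rw [Ideal.map_pow] at h1
    refine Ideal.pow_right_mono ?_ 2 h1
    rw [Ideal.map_le_iff_le_comap]
    exact fun b hb => hρm b hb
  obtain ⟨π, hπ⟩ : ∃ π, maximalIdeal A = Ideal.span {π} :=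
    ⟨_, (Submodule.IsPrincipal.span_singleton_generator (maximalIdeal A)).symm⟩
  rw [hπ, Ideal.map_span, Set.image_singleton]
  rintro x ⟨hx1, hx2⟩
  obtain ⟨b, rfl⟩ := Ideal.mem_span_singleton'.mp hx1
  by_cases hπ0 : π = 0
  · subst hπ0
    simp
  have h2 := hρ2 _ hx2
  rw [map_mul, hρ, hπ, Ideal.span_singleton_pow, Ideal.mem_span_singleton'] at h2
  obtain ⟨c, hc⟩ := h2
  have h3 : ρ b = c * π := by
    have : (ρ b - c * π) * π = 0 := by rw [sub_mul, ← hc]; ring
    rcases mul_eq_zero.mp this with h | h
    · exact sub_eq_zero.mp h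
    · exact absurd h hπ0
  have hb : b ∈ maximalIdeal B := by
    apply hρm'
    rw [h3, hπ]
    exact Ideal.mul_mem_left _ _ (Ideal.subset_span rfl)
  exact Ideal.mul_mem_mul hb (Ideal.subset_span rfl)

theorem formallySmooth_fibre (M : Submonoid P) [IsLocalization M B]
    [Algebra.FinitePresentation A P]
    (ρ : B →+* A) (hρ : ∀ a, ρ (algebraMap A B a) = a) :
    Algebra.FormallySmooth 𝓀[A] (𝓀[A] ⊗[A] B) := by
  let eSp : 𝓀[A] ⊗[A] B ≃+* B ⧸ (maximalIdeal A).map (algebraMap A B) :=
    ((Algebra.TensorProduct.comm A 𝓀[A] B).toRingEquiv).trans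
      (Algebra.TensorProduct.quotIdealMapEquivTensorQuot B (maximalIdeal A)).symm.toRingEquiv
  haveI := regular_fibre ρ hρ
  haveI : IsRegularLocalRing (𝓀[A] ⊗[A] B) :=
    IsRegularLocalRing.of_ringEquiv eSp.symm
  haveI : Algebra.EssFiniteType P B := Algebra.EssFiniteType.of_isLocalization B M
  haveI : Algebra.EssFiniteType A B := Algebra.EssFiniteType.comp A P B
  -- the residue field
  let ρa : B →ₐ[A] A := { ρ with commutes' := hρ }
  let ρt : 𝓀[A] ⊗[A] B →ₐ[𝓀[A]] 𝓀[A] :=
    Algebra.TensorProduct.lift (AlgHom.id 𝓀[A] 𝓀[A])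
      ((IsScalarTower.toAlgHom A A 𝓀[A]).comp ρa) (fun _ _ => Commute.all _ _)
  have hρt : Function.Surjective ρt := fun c => ⟨algebraMap _ _ c, ρt.commutes c⟩
  have hker : RingHom.ker (ρt : 𝓀[A] ⊗[A] B →+* 𝓀[A]) = maximalIdeal (𝓀[A] ⊗[A] B) := by
    haveI := RingHom.ker_isMaximal_of_surjective (ρt : 𝓀[A] ⊗[A] B →+* 𝓀[A]) hρt
    exact IsLocalRing.eq_maximalIdeal inferInstance
  have hbij : Function.Bijective (algebraMap 𝓀[A] (ResidueField (𝓀[A] ⊗[A] B))) := by
    refine ⟨(algebraMap 𝓀[A] (ResidueField (𝓀[A] ⊗[A] B))).injective, fun z => ?_⟩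
    obtain ⟨t, rfl⟩ := IsLocalRing.residue_surjective z
    refine ⟨ρt t, ?_⟩
    rw [IsScalarTower.algebraMap_apply 𝓀[A] (𝓀[A] ⊗[A] B) (ResidueField (𝓀[A] ⊗[A] B)),
      IsLocalRing.ResidueField.algebraMap_eq, eq_comm, ← sub_eq_zero, ← map_sub,
      IsLocalRing.residue_eq_zero_iff, ← hker, RingHom.mem_ker]
    show ρt (t - algebraMap 𝓀[A] (𝓀[A] ⊗[A] B) (ρt t)) = 0
    rw [map_sub, ρt.commutes, Algebra.algebraMap_self_apply, sub_self]
  have hκ : Algebra.FormallySmooth 𝓀[A] (ResidueField (𝓀[A] ⊗[A] B)) :=
    Algebra.FormallySmooth.of_equiv (AlgEquiv.ofBijective (Algebra.ofId _ _) hbij)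
  exact (Groth.Agent.H79.SmoothReg.formallySmooth_iff_isRegularLocalRing 𝓀[A] _ hκ).mpr
    inferInstance

/-- **Main local statement.** -/
theorem formallySmooth_of_retraction (M : Submonoid P) [IsLocalization M B]
    [Algebra.FinitePresentation A P]
    (ρ : B →+* A) (hρ : Function.Bijective (ρ.comp (algebraMap A B))) :
    Algebra.FormallySmooth A B := by
  let ι : A ≃+* A := RingEquiv.ofBijective _ hρ
  let ρ' : B →+* A := ι.symm.toRingHom.comp ρ
  have hρ' : ∀ a, ρ' (algebraMap A B a) = a := by
    intro a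
    show ι.symm (ρ (algebraMap A B a)) = a
    exact ι.symm_apply_apply a
  haveI := formallySmooth_fibre M ρ' hρ'
  exact Algebra.FormallySmooth.of_formallySmooth_residueField_tensor M

end Local

section Chart

open Algebra

variable {R S : Type u} [CommRing R] [CommRing S] [Algebra R S]

set_option backward.isDefEq.respectTransparency false in
/-- Chart-level version. -/
theorem formallySmooth_localization_of_retraction
    [Algebra.FinitePresentation R S] (p : Ideal R) (q : Ideal S)
    [p.IsPrime] [q.IsPrime] [q.LiesOver p]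
    [IsDomain (Localization.AtPrime p)] [IsPrincipalIdealRing (Localization.AtPrime p)]
    [IsRegularLocalRing (Localization.AtPrime q)]
    (hflat : Module.Flat R (Localization.AtPrime q))
    (ρ : Localization.AtPrime q →+* Localization.AtPrime p)
    (hρ : Function.Bijective
      (ρ.comp (Localization.localRingHom p q (algebraMap R S) Ideal.LiesOver.over))) :
    letI := Localization.AtPrime.algebraOfLiesOver p q
    Algebra.FormallySmooth (Localization.AtPrime p) (Localization.AtPrime q) := by
  let Rp := Localization.AtPrime p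
  let Sp := Localization (algebraMapSubmonoid S p.primeCompl)
  let Sq := Localization.AtPrime q
  let := Localization.AtPrime.algebraOfLiesOver p q
  let f : Sp →ₐ[S] Sq := IsLocalization.liftAlgHom (M := algebraMapSubmonoid S p.primeCompl)
        (f := Algebra.ofId _ _) (by
      rintro ⟨_, x, hx, rfl⟩
      simpa using! IsLocalization.map_units (M := q.primeCompl) Sq ⟨algebraMap _ _ x,
        by simp_all [q.over_def p]⟩)
  algebraize [f.toRingHom]
  have : IsScalarTower R Sp Sq := .to₁₃₄ _ S _ _
  have : IsScalarTower Rp Sp Sq := .of_algebraMap_eq' <| by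
    apply IsLocalization.ringHom_ext p.primeCompl
    simp only [RingHom.comp_assoc, ← IsScalarTower.algebraMap_eq]
  have : IsLocalization (algebraMapSubmonoid Sp q.primeCompl) Sq :=
    .isLocalization_of_submonoid_le _ _ (algebraMapSubmonoid S p.primeCompl) _
    (by rintro _ ⟨x, hx, rfl⟩; simp_all [q.over_def p])
  have : FinitePresentation Rp Sp := by
    have : Algebra.IsPushout R Rp S Sp :=
      .symm <| Algebra.isPushout_of_isLocalization p.primeCompl _ _ _
    exact .equiv (Algebra.IsPushout.equiv R Rp S Sp)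
  have : Module.Flat Rp Sq := (Module.flat_iff_of_isLocalization Rp p.primeCompl Sq).mpr hflat
  exact formallySmooth_of_retraction (A := Rp) (B := Sq) (P := Sp)
    (algebraMapSubmonoid _ q.primeCompl) ρ hρ

end Chart

end Groth.Agent.H79.SecSmooth
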