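import Mathlib
import Groth.Prelude.Def_RegImm
import Groth.Agent.H54.AffineDim

/-!
# Smooth algebras over a field are local complete intersections (helper79)
-/

set_option autoImplicit false
set_option linter.style.haveILetI false
set_option linter.unusedSimpArgs false
universe u

namespace Groth.Agent.H79.SmoothLCI

/-- For a flat quasi-finite algebra over a ring, heights are preserved under contraction. -/
theorem height_eq_under {B T : Type*} [CommRing B] [CommRing T] [Algebra B T] [IsNoetherianRing B]
    [IsNoetherianRing T] [Module.Flat B T] [Algebra.QuasiFinite B T] (q : Ideal T) [hq : q.IsPrime] :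
    q.height = (q.under B).height := by
  set p := q.under B with hp
  haveI : q.LiesOver p := ⟨rfl⟩
  rw [Ideal.height_eq_height_add_of_liesOver_of_hasGoingDown p q]
  suffices h : (q.map (Ideal.Quotient.mk (p.map (algebraMap B T)))).height = 0 by
    rw [h, add_zero]
  have hpq : p.map (algebraMap B T) ≤ q := Ideal.map_le_iff_le_comap.mpr le_rfl
  set mk := Ideal.Quotient.mk (p.map (algebraMap B T)) with hmk
  have hsurj : Function.Surjective mk := Ideal.Quotient.mk_surjective
  have hker : RingHom.ker mk ≤ q := by rw [hmk, Ideal.mk_ker]; exact hpq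
  haveI hP' : (q.map mk).IsPrime := Ideal.map_isPrime_of_surjective hsurj hker
  have hcomap : (q.map mk).comap mk = q := by
    rw [Ideal.comap_map_of_surjective _ hsurj]
    refine le_antisymm (sup_le le_rfl ?_) le_sup_left
    rw [← RingHom.ker_eq_comap_bot]
    exact hker
  rw [Ideal.height_eq_zero_iff]
  refine ⟨⟨hP', bot_le⟩, ?_⟩
  rintro Q' ⟨hQ'prime, -⟩ hQ'le
  haveI := hQ'prime
  set Q'' := Q'.comap mk with hQ''
  haveI : Q''.IsPrime := Ideal.comap_isPrime mk Q'
  have h1 : Q'' ≤ q := by
    rw [← hcomap]
    exact Ideal.comap_mono hQ'le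
  have h2 : Q''.under B = q.under B := by
    refine le_antisymm (Ideal.comap_mono h1) ?_
    intro b hb
    change algebraMap B T b ∈ Q''
    rw [hQ'', Ideal.mem_comap]
    have : mk (algebraMap B T b) = 0 := by
      rw [hmk, Ideal.Quotient.eq_zero_iff_mem]
      exact Ideal.mem_map_of_mem _ hb
    rw [this]
    exact Q'.zero_mem
  have h3 : Q'' = q := Algebra.QuasiFinite.eq_of_le_of_under_eq (R := B) Q'' q h1 h2
  rw [← h3, hQ'', Ideal.map_comap_of_surjective _ hsurj]

/-- A nontrivial étale algebra over `k[X₁, …, X_d]` has Krull dimension `d`. -/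
theorem ringKrullDim_of_etale (k : Type u) [Field k] (d : ℕ) (T : Type u) [CommRing T]
    [Nontrivial T] [Algebra (MvPolynomial (Fin d) k) T]
    [Algebra.Etale (MvPolynomial (Fin d) k) T] : ringKrullDim T = d := by
  set B := MvPolynomial (Fin d) k
  haveI : IsNoetherianRing T := Algebra.FiniteType.isNoetherianRing B T
  have key : ∀ (q : Ideal T), q.IsMaximal → q.height = d := by
    intro q hq
    haveI := hq.isPrime
    rw [height_eq_under (B := B) q]
    letI : Field (T ⧸ q) := Ideal.Quotient.field q
    haveI : Algebra.FiniteType B (T ⧸ q) :=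
      Algebra.FiniteType.of_surjective (Ideal.Quotient.mkₐ B q) Ideal.Quotient.mk_surjective
    haveI : Module.Finite B (T ⧸ q) := finite_of_finite_type_of_isJacobsonRing B (T ⧸ q)
    haveI : Algebra.IsIntegral B (T ⧸ q) := inferInstance
    haveI hmax : ((⊥ : Ideal (T ⧸ q)).comap (algebraMap B (T ⧸ q))).IsMaximal :=
      Ideal.isMaximal_comap_of_isIntegral_of_isMaximal (⊥ : Ideal (T ⧸ q))
    have heq : (⊥ : Ideal (T ⧸ q)).comap (algebraMap B (T ⧸ q)) = q.under B := by
      rw [IsScalarTower.algebraMap_eq B T (T ⧸ q), ← Ideal.comap_comap, Ideal.Quotient.algebraMap_eq,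
        ← RingHom.ker_eq_comap_bot, Ideal.mk_ker]
    rw [heq] at hmax
    exact Groth.Agent.H54.height_eq_of_isMaximal_mvPolynomial k d (q.under B)
  rw [← Ideal.sup_isMaximal_height_eq_ringKrullDim]
  congr 1
  apply le_antisymm
  · exact iSup₂_le fun q hq => (key q hq).le
  · obtain ⟨M, hM⟩ := Ideal.exists_maximal T
    exact le_iSup₂_of_le M hM (key M hM).ge

open Algebra in
/-- A standard smooth algebra over a field is a global complete intersection. -/
theorem isGlobalCI_of_isStandardSmooth (k : Type u) [Field k] (T : Type u) [CommRing T]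
    [Algebra k T] [Algebra.IsStandardSmooth k T] : Synt.IsGlobalCI k T := by
  by_cases hT : Subsingleton T
  · exact Or.inl hT
  haveI : Nontrivial T := not_subsingleton_iff_nontrivial.mp hT
  right
  obtain ⟨ι, σ, _, _, ⟨P₀⟩⟩ := Algebra.IsStandardSmooth.out (R := k) (S := T)
  letI := Fintype.ofFinite ι
  letI := Fintype.ofFinite σ
  let n := Fintype.card ι
  let c := Fintype.card σ
  let P : Algebra.SubmersivePresentation k T (Fin n) (Fin c) :=
    P₀.reindex (Fintype.equivFin ι).symm (Fintype.equivFin σ).symm
  have hcn : c ≤ n := by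
    simpa using Fintype.card_le_of_injective P.map P.map_inj
  refine ⟨n, c, hcn, MvPolynomial.aeval P.val, P.relation, P.algebraMap_surjective, ?_, ?_⟩
  · exact P.span_range_relation_eq_ker.symm
  · haveI : Algebra.IsStandardSmoothOfRelativeDimension (n - c) k T :=
      P.isStandardSmoothOfRelativeDimension (by simp [Algebra.Presentation.dimension, n, c])
    obtain ⟨g, hg⟩ :=
      Algebra.IsStandardSmoothOfRelativeDimension.exists_etale_mvPolynomial (n - c) k T
    letI : Algebra (MvPolynomial (Fin (n - c)) k) T := g.toRingHom.toAlgebra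
    haveI : Algebra.Etale (MvPolynomial (Fin (n - c)) k) T := hg
    exact ringKrullDim_of_etale k (n - c) T

/-- A smooth algebra over a field is a local complete intersection. -/
theorem isLCIOver_of_smooth (k : Type u) [Field k] (S : Type u) [CommRing S] [Algebra k S]
    [Algebra.Smooth k S] : Synt.IsLCIOver k S := by
  refine ⟨inferInstance, fun p => ?_⟩
  obtain ⟨s, hs, hstd⟩ := Algebra.Smooth.exists_span_eq_top_isStandardSmooth k S
  obtain ⟨x, hxs, hxp⟩ : ∃ x ∈ s, x ∉ p.asIdeal := by
    by_contra hcon
    push Not at hcon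
    have h1 : Ideal.span s ≤ p.asIdeal := Ideal.span_le.mpr hcon
    rw [hs] at h1
    exact p.isPrime.ne_top (top_le_iff.mp h1)
  haveI := hstd x hxs
  exact ⟨x, hxp, isGlobalCI_of_isStandardSmooth k (Localization.Away x)⟩

end Groth.Agent.H79.SmoothLCI
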