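import Mathlib
import Groth.Prelude.Def_CInt
import Groth.Prelude.Def_Flat
import Groth.Agent.H38.ValSpec
import Groth.Agent.H60.FlatDim
import Groth.Agent.H70.SmoothFibreDimComp
import Groth.Agent.H54.FibreTdeg
import Groth.Agent.H54.SchemeDim2
import Groth.Agent.H52.Codim0Qf

/-!
# Codimension of a smooth closed subscheme of a smooth scheme: relative = absolute (helper79)
-/

set_option autoImplicit false
set_option linter.unusedVariables false
set_option linter.style.haveILetI false

universe u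

open CategoryTheory CategoryTheory.Limits AlgebraicGeometry TopologicalSpace

namespace Groth.Agent.H79.SmoothPairCodim

open Groth.Agent.H54

/-- the fibre dimension of a smooth morphism is constant along specializations -/
theorem fibreDimAt_eq_of_specializes {X S : Scheme.{u}} (f : X ⟶ S) [Smooth f] {x x' : X}
    (h : x' ⤳ x) : FlatMor.fibreDimAt f x' = FlatMor.fibreDimAt f x := by
  obtain ⟨n, V, hxV, hV⟩ :=
    Groth.Agent.H70.SmoothFibreDimComp.exists_smoothOfRelativeDimension f x
  haveI := hV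
  have hx'V : x' ∈ V := h.mem_open V.isOpen hxV
  rw [Groth.Agent.H70.SmoothFibreDimComp.fibreDimAt_of_local f (V.ι ≫ f) V.ι (𝟙 S) (by simp) n
      ⟨x, hxV⟩ x rfl,
    Groth.Agent.H70.SmoothFibreDimComp.fibreDimAt_of_local f (V.ι ≫ f) V.ι (𝟙 S) (by simp) n
      ⟨x', hx'V⟩ x' rfl]

/-- numerics of the fibre through a point: `dim_x X_s = trdeg κ(x)/κ(s) + dim O_{X_s,x}` -/
theorem exists_fibre_numerics {T S : Scheme.{u}} (g : T ⟶ S) [LocallyOfFiniteType g] (t : T) :
    ∃ c : ℕ, Order.coheight (g.asFiber t) = (c : ℕ∞) ∧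
      FlatMor.fibreDimAt g t = ((tdeg (fiberQ g (g t)) (g.asFiber t) + c : ℕ) : WithBot ℕ∞) := by
  have hfin := coheight_ne_top (fiberQ g (g t)) (g.asFiber t)
  obtain ⟨c, hc⟩ := ENat.ne_top_iff_exists.mp hfin
  exact ⟨c, hc.symm, localDim_eq (fiberQ g (g t)) (g.asFiber t) c hc.symm⟩

theorem coheight_eq_zero_of_forall {X : Scheme.{u}} (x : X) (h : ∀ ξ : X, ξ ⤳ x → ξ = x) :
    Order.coheight x = 0 := by
  rw [Order.coheight_eq_zero]
  intro ξ hξ
  have h3 : ξ ⤳ x := Scheme.le_iff_specializes.mp hξ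
  rw [h ξ h3]

/-- transcendence degrees in the fibres do not change under a closed immersion -/
theorem tdeg_closedImmersion {X Y S : Scheme.{u}} (f : X ⟶ S) [LocallyOfFiniteType f] (i : Y ⟶ X)
    [IsClosedImmersion i] (z : Y) :
    tdeg (fiberQ (i ≫ f) ((i ≫ f) z)) ((i ≫ f).asFiber z) =
      tdeg (fiberQ f (f (i z))) (f.asFiber (i z)) := by
  exact Groth.Agent.H38.ValSpec.tdeg_fiber_comp_eq i f ((i ≫ f) z) ((i ≫ f).asFiber z)
    (f.asFiber (i z))
    ((f.fiberι_asFiber (i z)).trans (congrArg i ((i ≫ f).fiberι_asFiber z)).symm)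

/-- the fibre local ring has dimension at most that of the ambient local ring (flat case) -/
theorem ringKrullDim_fiberStalk_le {X S : Scheme.{u}} [IsLocallyNoetherian X]
    [IsLocallyNoetherian S] (f : X ⟶ S) [Flat f] (x : X) :
    ringKrullDim (CInt.fiberStalk f x) ≤ ringKrullDim (X.presheaf.stalk x) := by
  have hflat := Groth.Agent.H60.FlatDim.coheight_eq_add_of_flat f (f x) (f.asFiber x)
  rw [f.fiberι_asFiber] at hflat
  rw [ringKrullDim_stalk_eq_coheight, ringKrullDim_stalk_eq_coheight, hflat, ← WithBot.coe_add,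
    WithBot.coe_le_coe]
  exact le_add_self

/-- **Key step**: at a maximal point `z'` of `Y` specializing to `z`, the local ring of `X` has
dimension at most that of the fibre local ring at `z`. -/
theorem exists_stalk_le_fiberStalk {X Y S : Scheme.{u}} [IsLocallyNoetherian X]
    [IsLocallyNoetherian S] (f : X ⟶ S) [Smooth f] (i : Y ⟶ X) [IsClosedImmersion i]
    [Smooth (i ≫ f)] (z : Y) :
    ∃ z' : Y, ringKrullDim (X.presheaf.stalk (i z')) ≤ ringKrullDim (CInt.fiberStalk f (i z)) := by
  haveI : LocallyOfFinitePresentation f := inferInstance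
  haveI : LocallyOfFiniteType f := inferInstance
  haveI : LocallyOfFinitePresentation (i ≫ f) := inferInstance
  haveI : LocallyOfFiniteType (i ≫ f) := inferInstance
  haveI : Flat f := inferInstance
  haveI : Flat (i ≫ f) := inferInstance
  obtain ⟨z', hz'z, hz'gen⟩ := Groth.Agent.H52.exists_specializes_of_no_generization z
  refine ⟨z', ?_⟩
  have hx'x : i z' ⤳ i z := hz'z.map i.continuous
  have hs' : Order.coheight (f (i z')) = 0 := by
    apply coheight_eq_zero_of_forall
    intro t ht
    obtain ⟨z'', hz'', hfz''⟩ := (Flat.generalizingMap (f := i ≫ f))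
      (show t ⤳ (i ≫ f) z' from ht)
    rw [hz'gen z'' hz''] at hfz''
    exact hfz''.symm
  have hflat := Groth.Agent.H60.FlatDim.coheight_eq_add_of_flat f (f (i z')) (f.asFiber (i z'))
  rw [f.fiberι_asFiber] at hflat
  have hs'' : Order.coheight (f.base (i z')) = 0 := hs'
  rw [hs'', ← WithBot.coe_add, zero_add] at hflat
  obtain ⟨c', hc', hn'⟩ := exists_fibre_numerics f (i z')
  obtain ⟨c, hc, hn⟩ := exists_fibre_numerics f (i z)
  obtain ⟨d', hd', hm'⟩ := exists_fibre_numerics (i ≫ f) z'
  obtain ⟨d, hd, hm⟩ := exists_fibre_numerics (i ≫ f) z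
  have hd'0 : d' = 0 := by
    have h0 : Order.coheight ((i ≫ f).asFiber z') = 0 := by
      apply coheight_eq_zero_of_forall
      intro w hw
      have h1 : (i ≫ f).fiberι _ w ⤳ (i ≫ f).fiberι _ ((i ≫ f).asFiber z') :=
        hw.map ((i ≫ f).fiberι _).continuous
      rw [(i ≫ f).fiberι_asFiber] at h1
      have h2 := hz'gen _ h1
      exact ((i ≫ f).fiberι _).isEmbedding.injective (h2.trans ((i ≫ f).fiberι_asFiber z').symm)
    rw [h0] at hd'
    exact_mod_cast hd'.symm
  have e1 := fibreDimAt_eq_of_specializes f hx'x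
  have e2 := fibreDimAt_eq_of_specializes (i ≫ f) hz'z
  have t1 := tdeg_closedImmersion f i z'
  have t2 := tdeg_closedImmersion f i z
  rw [hn', hn] at e1
  rw [hm', hm] at e2
  have e1' : tdeg (fiberQ f (f (i z'))) (f.asFiber (i z')) + c' =
      tdeg (fiberQ f (f (i z))) (f.asFiber (i z)) + c := by exact_mod_cast e1
  have e2' : tdeg (fiberQ (i ≫ f) ((i ≫ f) z')) ((i ≫ f).asFiber z') + d' =
      tdeg (fiberQ (i ≫ f) ((i ≫ f) z)) ((i ≫ f).asFiber z) + d := by exact_mod_cast e2
  have hcc : c' ≤ c := by omega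
  rw [ringKrullDim_stalk_eq_coheight, ringKrullDim_stalk_eq_coheight, hflat, hc', hc]
  exact_mod_cast hcc

/-- **Relative codimension = absolute codimension** for a smooth closed subscheme of a smooth
scheme over a locally Noetherian base. -/
theorem iInf_fiberStalk_eq_iInf_stalk {X Y S : Scheme.{u}} [IsLocallyNoetherian X]
    [IsLocallyNoetherian S] (f : X ⟶ S) [Smooth f] (i : Y ⟶ X) [IsClosedImmersion i]
    [Smooth (i ≫ f)] :
    (⨅ y : Set.range i.base, ringKrullDim ↑(CInt.fiberStalk f y.1)) =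
      ⨅ y : Set.range i.base, ringKrullDim ↑(X.presheaf.stalk y.1) := by
  haveI : Flat f := inferInstance
  apply le_antisymm
  · exact le_iInf fun y => iInf_le_of_le y (ringKrullDim_fiberStalk_le f y.1)
  · refine le_iInf fun y => ?_
    obtain ⟨_, z, rfl⟩ := y
    obtain ⟨z', hz'⟩ := exists_stalk_le_fiberStalk f i z
    exact iInf_le_of_le ⟨i z', z', rfl⟩ hz'

end Groth.Agent.H79.SmoothPairCodim
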