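import Mathlib

set_option autoImplicit false
universe u

namespace Groth.Agent.H79.TraceLoc

/-- the trace is additive along an invariant subspace -/
theorem trace_eq_restrict_add_mapQ {k V : Type*} [Field k] [AddCommGroup V] [Module k V]
    [FiniteDimensional k V] (f : V →ₗ[k] V) (W : Submodule k V) (hf : W ≤ W.comap f) :
    LinearMap.trace k V f = LinearMap.trace k W (f.restrict hf) +
      LinearMap.trace k (V ⧸ W) (W.mapQ W f hf) := by
  obtain ⟨W', h⟩ := Submodule.exists_isCompl W
  have hid := Submodule.projection_add_projection_eq_id h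
  have h1 : f = f ∘ₗ (W.subtype ∘ₗ W.projectionOnto W' h) +
      f ∘ₗ (W'.subtype ∘ₗ W'.projectionOnto W h.symm) := by
    rw [← LinearMap.comp_add]
    change f = f ∘ₗ (W.projection W' h + W'.projection W h.symm)
    rw [hid, LinearMap.comp_id]
  have t1 : LinearMap.trace k V (f ∘ₗ (W.subtype ∘ₗ W.projectionOnto W' h)) =
      LinearMap.trace k W (f.restrict hf) := by
    rw [← LinearMap.comp_assoc, LinearMap.trace_comp_comm']
    congr 1
    refine LinearMap.ext fun w => ?_
    exact Submodule.projectionOnto_apply_left h ((f.restrict hf) w)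
  have t2 : LinearMap.trace k V (f ∘ₗ (W'.subtype ∘ₗ W'.projectionOnto W h.symm)) =
      LinearMap.trace k (V ⧸ W) (W.mapQ W f hf) := by
    rw [← LinearMap.comp_assoc, LinearMap.trace_comp_comm',
      ← LinearMap.trace_conj' (W.mapQ W f hf) (Submodule.quotientEquivOfIsCompl W W' h)]
    congr 1
  conv_lhs => rw [h1]
  rw [map_add, t1, t2]

/-- the trace is additive in short exact sequences of spaces with compatible endomorphisms -/
theorem trace_exact {k N M Q : Type*} [Field k] [AddCommGroup N] [AddCommGroup M]
    [AddCommGroup Q] [Module k N] [Module k M] [Module k Q] [FiniteDimensional k M]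
    (i : N →ₗ[k] M) (p : M →ₗ[k] Q) (hi : Function.Injective i) (hp : Function.Surjective p)
    (hex : Function.Exact i p) (fN : N →ₗ[k] N) (fM : M →ₗ[k] M) (fQ : Q →ₗ[k] Q)
    (h1 : ∀ n, i (fN n) = fM (i n)) (h2 : ∀ m, p (fM m) = fQ (p m)) :
    LinearMap.trace k M fM = LinearMap.trace k N fN + LinearMap.trace k Q fQ := by
  have hW : LinearMap.range i ≤ (LinearMap.range i).comap fM := by
    rintro _ ⟨n, rfl⟩
    exact ⟨fN n, h1 n⟩
  rw [trace_eq_restrict_add_mapQ fM (LinearMap.range i) hW]
  congr 1
  · let eN : N ≃ₗ[k] LinearMap.range i := LinearEquiv.ofInjective i hi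
    rw [← LinearMap.trace_conj' fN eN]
    congr 1
    refine LinearMap.ext fun w => ?_
    obtain ⟨n, rfl⟩ := eN.surjective w
    rw [LinearEquiv.conj_apply]
    simp only [LinearMap.comp_apply, LinearEquiv.coe_coe, LinearEquiv.symm_apply_apply]
    exact Subtype.ext (h1 n).symm
  · have hker : LinearMap.range i = LinearMap.ker p := (LinearMap.exact_iff.1 hex).symm
    let eQ : (M ⧸ LinearMap.range i) ≃ₗ[k] Q :=
      (Submodule.quotEquivOfEq _ _ hker).trans (p.quotKerEquivOfSurjective hp)
    rw [← LinearMap.trace_conj' (Submodule.mapQ _ _ fM hW) eQ]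
    congr 1
    refine LinearMap.ext fun q => ?_
    obtain ⟨x, rfl⟩ := eQ.surjective q
    obtain ⟨m, rfl⟩ := Submodule.Quotient.mk_surjective _ x
    rw [LinearEquiv.conj_apply]
    simp only [LinearMap.comp_apply, LinearEquiv.coe_coe, LinearEquiv.symm_apply_apply]
    have he : ∀ m' : M, eQ (Submodule.Quotient.mk m') = p m' := fun m' => rfl
    rw [Submodule.mapQ_apply, he, he, h2]

section
variable (k C : Type u) [Field k] [CommRing C] [Algebra k C] [IsLocalRing C] [Module.Finite k C]

theorem trace_simple (T : Type u) [AddCommGroup T] [Module C T] [Module k T]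
    [IsScalarTower k C T] [IsSimpleModule C T] (x : C) :
    LinearMap.trace k T (DistribSMul.toLinearMap k T x) =
      Algebra.trace k (IsLocalRing.ResidueField C) (IsLocalRing.residue C x) := by
  obtain ⟨I, hI, ⟨e⟩⟩ := isSimpleModule_iff_quot_maximal.1 (inferInstance : IsSimpleModule C T)
  obtain rfl := IsLocalRing.eq_maximalIdeal hI
  let e' : T ≃ₗ[k] IsLocalRing.ResidueField C := e.restrictScalars k
  rw [Algebra.trace_apply, ← LinearMap.trace_conj' (DistribSMul.toLinearMap k T x) e']
  congr 1
  refine LinearMap.ext fun y => ?_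
  rw [LinearEquiv.conj_apply]
  simp only [LinearMap.comp_apply, LinearEquiv.coe_coe]
  show e (x • e.symm y) = _
  rw [map_smul, LinearEquiv.apply_symm_apply, Algebra.smul_def]
  rfl

theorem trace_smul_eq (M : Type u) [AddCommGroup M] [Module C M] (hM : IsFiniteLength C M) :
    ∀ [Module k M] [IsScalarTower k C M] (x : C),
      LinearMap.trace k M (DistribSMul.toLinearMap k M x) =
        ((Module.length C M).toNat : k) *
          Algebra.trace k (IsLocalRing.ResidueField C) (IsLocalRing.residue C x) := by
  induction hM with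
  | @of_subsingleton M _ _ _ =>
    intro _ _ x
    have h0 : DistribSMul.toLinearMap k M x = 0 :=
      LinearMap.ext fun y => Subsingleton.elim (α := M) _ _
    rw [h0, map_zero, Module.length_eq_zero]
    simp
  | @of_simple_quotient M _ _ N _ hN ih =>
    intro _ _ x
    have hMfl : IsFiniteLength C M := IsFiniteLength.of_simple_quotient hN
    haveI : IsNoetherian C M := (isFiniteLength_iff_isNoetherian_isArtinian.1 hMfl).1
    haveI : Module.Finite k M := Module.Finite.trans C M
    have e1 := trace_exact ((N.subtype).restrictScalars k) ((N.mkQ).restrictScalars k)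
      N.injective_subtype N.mkQ_surjective (LinearMap.exact_subtype_mkQ N)
      (DistribSMul.toLinearMap k N x) (DistribSMul.toLinearMap k M x)
      (DistribSMul.toLinearMap k (M ⧸ N) x) (fun n => rfl) (fun m => rfl)
    have e2 := Module.length_eq_add_of_exact N.subtype N.mkQ N.injective_subtype
      N.mkQ_surjective (LinearMap.exact_subtype_mkQ N)
    rw [Module.length_eq_one C (M ⧸ N)] at e2
    have hNtop : Module.length C N ≠ ⊤ := Module.length_ne_top_iff.2 hN
    rw [e1, ih x, e2, ENat.toNat_add hNtop ENat.one_ne_top, trace_simple k C (M ⧸ N) x,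
      ENat.toNat_one]
    push_cast
    ring

/-- On a finite local `k`-algebra `C` with residue field `κ`:
`Tr_{C/k}(x) = length(C) · Tr_{κ/k}(x̄)`. -/
theorem trace_eq_length_mul (x : C) :
    Algebra.trace k C x = ((Module.length C C).toNat : k) *
      Algebra.trace k (IsLocalRing.ResidueField C) (IsLocalRing.residue C x) := by
  haveI : IsArtinianRing C := IsArtinianRing.of_finite k C
  have hfl : IsFiniteLength C C :=
    isFiniteLength_iff_isNoetherian_isArtinian.2 ⟨inferInstance, inferInstance⟩
  rw [← trace_smul_eq k C C hfl x, Algebra.trace_apply]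
  congr 1

include k in
theorem length_toNat_ne_zero : (Module.length C C).toNat ≠ 0 := by
  haveI : IsArtinianRing C := IsArtinianRing.of_finite k C
  have hfl : IsFiniteLength C C :=
    isFiniteLength_iff_isNoetherian_isArtinian.2 ⟨inferInstance, inferInstance⟩
  intro h
  rcases (ENat.toNat_eq_zero).1 h with h0 | h0
  · exact not_subsingleton C (Module.length_eq_zero_iff.1 h0)
  · exact Module.length_ne_top_iff.2 hfl h0

instance finite_residue : Module.Finite k (IsLocalRing.ResidueField C) :=
  Module.Finite.of_surjective (IsScalarTower.toAlgHom k C (IsLocalRing.ResidueField C)).toLinearMap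
    IsLocalRing.residue_surjective

/-- `Tr_{C/k}` is onto iff `κ/k` is separable and `length C` is invertible in `k`. -/
theorem trace_surjective_iff :
    Function.Surjective (Algebra.trace k C) ↔
      (Algebra.IsSeparable k (IsLocalRing.ResidueField C) ∧
        ((Module.length C C).toNat : k) ≠ 0) := by
  constructor
  · intro hs
    obtain ⟨x, hx⟩ := hs 1
    rw [trace_eq_length_mul] at hx
    refine ⟨?_, left_ne_zero_of_mul_eq_one hx⟩
    by_contra hsep
    rw [Algebra.trace_eq_zero_of_not_isSeparable hsep] at hx
    simp at hx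
  · rintro ⟨hsep, hl⟩ c
    obtain ⟨y, hy⟩ := Algebra.trace_surjective k (IsLocalRing.ResidueField C)
      (c / ((Module.length C C).toNat : k))
    obtain ⟨x, rfl⟩ := IsLocalRing.residue_surjective y
    exact ⟨x, by rw [trace_eq_length_mul, hy, mul_div_cancel₀ _ hl]⟩

end

end Groth.Agent.H79.TraceLoc
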