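import Mathlib
import Groth.Agent.H63.SmoothRegular

/-!
# Regularity of Weierstrass models over a DVR (helper79)
-/

set_option autoImplicit false
set_option linter.style.haveILetI false
set_option linter.unusedSimpArgs false
universe u
open Polynomial
open scoped Polynomial.Bivariate

namespace Groth.Agent.H79.Weier

/-- If `x ∉ q` and `B[1/x]` is a regular ring then `B_q` is a regular local ring. -/
theorem regular_atPrime_of_away {B : Type u} [CommRing B] (x : B) (q : Ideal B) [hq : q.IsPrime]
    (hxq : x ∉ q) [IsRegularRing (Localization.Away x)] :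
    IsRegularLocalRing (Localization.AtPrime q) := by
  have hdisj : Disjoint (Submonoid.powers x : Set B) (q : Set B) := by
    rw [Set.disjoint_left]
    rintro _ ⟨m, rfl⟩ hm
    exact hxq (hq.mem_of_pow_mem m hm)
  let q' : Ideal (Localization.Away x) := Ideal.map (algebraMap B (Localization.Away x)) q
  haveI hq' : q'.IsPrime :=
    IsLocalization.isPrime_of_isPrime_disjoint (Submonoid.powers x) _ q hq hdisj
  have hcomap : q'.comap (algebraMap B (Localization.Away x)) = q :=
    IsLocalization.under_map_of_isPrime_disjoint (Submonoid.powers x) _ hq hdisj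
  have h1 : IsRegularLocalRing (Localization.AtPrime q') := inferInstance
  let e := IsLocalization.localizationLocalizationAtPrimeIsoLocalization (Submonoid.powers x) q'
  have h2 : IsRegularLocalRing
      (Localization.AtPrime (q'.comap (algebraMap B (Localization (Submonoid.powers x))))) :=
    IsRegularLocalRing.of_ringEquiv e.symm.toRingEquiv
  exact Groth.Agent.H63.SmoothRegular.isRegularLocalRing_of_eq _ q hcomap h2

/-- For a monic `f` over a regular ring `S`, `(S[X]/f)[1/f']` is a regular ring. -/
theorem regular_away_derivative {S : Type u} [CommRing S] [IsRegularRing S] (f : S[X])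
    (hf : f.Monic) :
    IsRegularRing (Localization.Away (AdjoinRoot.mk f (derivative f))) := by
  let P : StandardEtalePair S := ⟨f, hf, derivative f, ⟨1, 0, 1, by simp⟩⟩
  haveI : Algebra.Etale S (Localization.Away (AdjoinRoot.mk f (derivative f))) :=
    Algebra.Etale.of_equiv P.equivAwayAdjoinRoot
  exact Groth.Agent.H63.SmoothRegular.isRegularRing_of_smooth S _

/-- For a monic `f` over a regular ring `S` and a prime `q` of `S[X]/f` not containing `f'`,
the localization at `q` is regular. -/
theorem regular_atPrime_adjoinRoot {S : Type u} [CommRing S] [IsRegularRing S] (f : S[X])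
    (hf : f.Monic) (q : Ideal (AdjoinRoot f)) [q.IsPrime]
    (hq : AdjoinRoot.mk f (derivative f) ∉ q) :
    IsRegularLocalRing (Localization.AtPrime q) := by
  haveI := regular_away_derivative f hf
  exact regular_atPrime_of_away _ q hq


section Weierstrass

variable {R : Type u} [CommRing R] (W : WeierstrassCurve.Affine R)
open WeierstrassCurve.Affine

/-- Evaluating a ring hom out of the coordinate ring on the class of a bivariate polynomial. -/
theorem map_mk_eq_evalEval {K : Type*} [CommRing K] (φ : W.CoordinateRing →+* K) (p : R[X][Y]) :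
    φ (CoordinateRing.mk W p) =
      (p.map (mapRingHom (φ.comp (algebraMap R W.CoordinateRing)))).evalEval
        (φ (CoordinateRing.mk W (C X))) (φ (CoordinateRing.mk W Y)) := by
  have h : φ.comp (CoordinateRing.mk W) =
      (evalEvalRingHom (φ (CoordinateRing.mk W (C X))) (φ (CoordinateRing.mk W Y))).comp
        (mapRingHom (mapRingHom (φ.comp (algebraMap R W.CoordinateRing)))) := by
    ext r
    · simp [evalEvalRingHom, AdjoinRoot.algebraMap_eq']
    · simp [evalEvalRingHom]
    · simp [evalEvalRingHom]
  have := RingHom.congr_fun h p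
  simpa [coe_evalEvalRingHom] using this

theorem derivative_polynomial : derivative W.polynomial = W.polynomialY := by
  rw [WeierstrassCurve.Affine.polynomial, WeierstrassCurve.Affine.polynomialY]
  simp only [derivative_sub, derivative_add, derivative_mul, derivative_C, derivative_X_pow,
    derivative_X, map_ofNat, map_natCast, Nat.cast_ofNat]
  simp

/-- Case A: regular where `∂F/∂y` does not vanish. -/
theorem regular_of_polynomialY_notMem [IsRegularRing R] (P : Ideal W.CoordinateRing) [P.IsPrime]
    (h : CoordinateRing.mk W W.polynomialY ∉ P) :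
    IsRegularLocalRing (Localization.AtPrime P) := by
  have := regular_atPrime_adjoinRoot (S := R[X]) W.polynomial W.monic_polynomial P
    (by rwa [derivative_polynomial])
  exact this

/-- The swapped, negated Weierstrass polynomial (monic cubic in the new outer variable). -/
noncomputable def G : R[X][Y] := -(Polynomial.Bivariate.swap W.polynomial)

theorem G_eq : G W = Cubic.toPoly
    ⟨1, C W.a₂, C W.a₄ - C W.a₁ * X, C W.a₆ - X ^ 2 - C W.a₃ * X⟩ := by
  simp only [G, WeierstrassCurve.Affine.polynomial, Cubic.toPoly, C_add, C_sub, C_mul, C_pow,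
    map_add, map_sub, map_mul, map_pow, Polynomial.Bivariate.swap_X, Polynomial.Bivariate.swap_Y,
    Polynomial.Bivariate.swap_C_C, C_1]
  ring

theorem G_monic : (G W).Monic := by
  rw [G_eq]
  exact Cubic.monic_of_a_eq_one'

theorem derivative_G : derivative (G W) = -(Polynomial.Bivariate.swap W.polynomialX) := by
  rw [G_eq]
  simp only [Cubic.toPoly, derivative_sub, derivative_add, derivative_mul, derivative_C,
    derivative_X_pow, derivative_X, map_ofNat, map_natCast, Nat.cast_ofNat]
  simp only [WeierstrassCurve.Affine.polynomialX, C_add, C_sub, C_mul, C_pow,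
    map_add, map_sub, map_mul, map_pow, Polynomial.Bivariate.swap_X, Polynomial.Bivariate.swap_Y,
    Polynomial.Bivariate.swap_C_C, C_1, map_ofNat]
  simp
  ring

/-- The ring isomorphism `R[x][y]/F ≃ R[y][x]/(-F)`. -/
noncomputable def σ : W.CoordinateRing ≃+* AdjoinRoot (G W) :=
  (Ideal.quotientEquiv (Ideal.span {W.polynomial})
    (Ideal.span {Polynomial.Bivariate.swap W.polynomial})
    (Polynomial.Bivariate.swap (R := R)).toRingEquiv
    (by rw [Ideal.map_span, Set.image_singleton]; rfl)).trans
  (Ideal.quotEquivOfEq (by rw [G, Ideal.span_singleton_neg]))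

theorem σ_mk (p : R[X][Y]) :
    σ W (CoordinateRing.mk W p) = AdjoinRoot.mk (G W) (Polynomial.Bivariate.swap p) := rfl

/-- Case B: regular where `∂F/∂x` does not vanish. -/
theorem regular_of_polynomialX_notMem [IsRegularRing R] (P : Ideal W.CoordinateRing) [P.IsPrime]
    (h : CoordinateRing.mk W W.polynomialX ∉ P) :
    IsRegularLocalRing (Localization.AtPrime P) := by
  let e : AdjoinRoot (G W) ≃+* W.CoordinateRing := (σ W).symm
  haveI : (P.comap e).IsPrime := inferInstance
  have hreg : IsRegularLocalRing (Localization.AtPrime (P.comap e)) := by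
    refine regular_atPrime_adjoinRoot (S := R[X]) (G W) (G_monic W) (P.comap e) ?_
    rw [derivative_G, map_neg, Ideal.mem_comap, map_neg, neg_mem_iff, ← σ_mk]
    simpa [e] using h
  exact IsRegularLocalRing.of_ringEquiv (IsLocalization.ringEquivOfRingEquiv
    (Localization.AtPrime (P.comap e)) (Localization.AtPrime P) e (e.map_primeCompl_comap_eq P))

end Weierstrass

section DVR

variable {R : Type u} [CommRing R] [IsDomain R] [IsDiscreteValuationRing R]
  (W : WeierstrassCurve.Affine R)
open WeierstrassCurve.Affine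

theorem two_le_height_of_mem (P : Ideal W.CoordinateRing) [P.IsPrime]
    (ϖ : R) (hϖ : ϖ ≠ 0) (hP : algebraMap R W.CoordinateRing ϖ ∈ P)
    (hx : CoordinateRing.mk W (C X) ∈ P) : 2 ≤ P.height := by
  let p₀ : Ideal R[X] := P.under R[X]
  have hle : p₀.height ≤ P.height := by
    rw [Ideal.height_eq_height_add_of_liesOver_of_hasGoingDown p₀ P]
    exact le_self_add
  refine le_trans ?_ hle
  have hXp : (X : R[X]) ∈ p₀ := by
    change algebraMap R[X] W.CoordinateRing X ∈ P
    exact hx
  have hCp : (C ϖ : R[X]) ∈ p₀ := by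
    change algebraMap R[X] W.CoordinateRing (C ϖ) ∈ P
    exact hP
  haveI hXprime : (Ideal.span {(X : R[X])}).IsPrime :=
    (Ideal.span_singleton_prime X_ne_zero).mpr prime_X
  have h1 : (⊥ : Ideal R[X]) < Ideal.span {(X : R[X])} := by
    refine lt_of_le_of_ne bot_le ?_
    intro h
    have : (X : R[X]) ∈ (⊥ : Ideal R[X]) := h ▸ Ideal.mem_span_singleton_self X
    exact (X_ne_zero : (X : R[X]) ≠ 0) (Ideal.mem_bot.mp this)
  have h2 : Ideal.span {(X : R[X])} < p₀ := by
    refine lt_of_le_of_ne ((Ideal.span_singleton_le_iff_mem _).mpr hXp) ?_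
    intro h
    have : (C ϖ : R[X]) ∈ Ideal.span {(X : R[X])} := h ▸ hCp
    rw [Ideal.mem_span_singleton, X_dvd_iff, coeff_C_zero] at this
    exact hϖ this
  have h1' := Ideal.height_strict_mono_of_isPrime_of_isPrime h1
  have h2' := Ideal.height_strict_mono_of_isPrime_of_isPrime h2
  have h3 : (1 : ℕ∞) ≤ (Ideal.span {(X : R[X])}).height :=
    Order.one_le_iff_pos.mpr (pos_of_gt h1')
  calc (2 : ℕ∞) = 1 + 1 := by norm_num
    _ ≤ (Ideal.span {(X : R[X])}).height + 1 := by gcongr
    _ ≤ p₀.height := Order.add_one_le_of_lt h2'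

/-- Regularity at the origin of the special fibre. -/
theorem regular_at_origin
    (h6 : W.a₆ ∈ IsLocalRing.maximalIdeal R) (h6' : W.a₆ ∉ IsLocalRing.maximalIdeal R ^ 2)
    (P : Ideal W.CoordinateRing) [hPp : P.IsPrime]
    (hP : ∀ r ∈ IsLocalRing.maximalIdeal R, algebraMap R W.CoordinateRing r ∈ P)
    (hx : CoordinateRing.mk W (C X) ∈ P) (hy : CoordinateRing.mk W Y ∈ P) :
    IsRegularLocalRing (Localization.AtPrime P) := by
  obtain ⟨ϖ, hϖ⟩ := IsDiscreteValuationRing.exists_irreducible R
  have hm : IsLocalRing.maximalIdeal R = Ideal.span {ϖ} := hϖ.maximalIdeal_eq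
  -- a₆ = c * ϖ with c a unit
  obtain ⟨c, hc⟩ : ∃ c, c * ϖ = W.a₆ := by
    rw [hm] at h6
    exact Ideal.mem_span_singleton'.mp h6
  have hcu : IsUnit c := by
    by_contra hcn
    have hcm : c ∈ IsLocalRing.maximalIdeal R := (IsLocalRing.mem_maximalIdeal c).mpr hcn
    apply h6'
    rw [← hc, pow_two]
    exact Ideal.mul_mem_mul hcm (hm ▸ Ideal.mem_span_singleton_self ϖ)
  set A := W.CoordinateRing
  let xA : A := CoordinateRing.mk W (C X)
  let yA : A := CoordinateRing.mk W Y
  let I : Ideal A := Ideal.span {xA, yA}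
  have hxI : xA ∈ I := Ideal.subset_span (by simp)
  have hyI : yA ∈ I := Ideal.subset_span (by simp)
  have halg : ∀ r : R, algebraMap R A r = CoordinateRing.mk W (C (C r)) := fun r => rfl
  -- a₆ ∈ I
  have h6I : algebraMap R A W.a₆ ∈ I := by
    have h0 : CoordinateRing.mk W W.polynomial = 0 := AdjoinRoot.mk_self
    simp only [WeierstrassCurve.Affine.polynomial, map_add, map_sub, map_mul, map_pow, C_add,
      C_mul, C_pow] at h0
    have key : algebraMap R A W.a₆ =
        (yA + CoordinateRing.mk W (C (C W.a₁)) * xA + CoordinateRing.mk W (C (C W.a₃))) * yA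
        - (xA ^ 2 + CoordinateRing.mk W (C (C W.a₂)) * xA + CoordinateRing.mk W (C (C W.a₄))) * xA := by
      rw [halg]
      linear_combination (-1 : A) * h0
    rw [key]
    exact I.sub_mem (I.mul_mem_left _ hyI) (I.mul_mem_left _ hxI)
  have hϖI : algebraMap R A ϖ ∈ I := by
    obtain ⟨c', hc'⟩ := hcu.exists_left_inv
    have : algebraMap R A ϖ = algebraMap R A c' * algebraMap R A W.a₆ := by
      rw [← map_mul, ← hc, ← mul_assoc, hc', one_mul]
    rw [this]
    exact I.mul_mem_left _ h6I
  have hIP : I ≤ P := Ideal.span_le.mpr (by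
    intro z hz
    rcases hz with rfl | rfl
    · exact hx
    · exact hy)
  -- P ≤ I
  have hPI : P ≤ I := by
    intro a ha
    obtain ⟨p, q, rfl⟩ := CoordinateRing.exists_smul_basis_eq a
    have hp : p • (1 : A) = xA * CoordinateRing.mk W (C (divX p)) + algebraMap R A (p.coeff 0) := by
      rw [CoordinateRing.smul, mul_one, halg]
      conv_lhs => rw [← X_mul_divX_add p]
      simp only [map_add, map_mul, C_add, C_mul, xA]
    have hq : q • yA ∈ I := by
      rw [CoordinateRing.smul]
      exact I.mul_mem_left _ hyI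
    have hr : algebraMap R A (p.coeff 0) ∈ P := by
      have h1 : p • (1 : A) ∈ P := by
        have := P.sub_mem ha (hIP hq)
        simpa [yA] using this
      rw [hp] at h1
      have h2 : xA * CoordinateRing.mk W (C (divX p)) ∈ P := P.mul_mem_right _ hx
      exact (Ideal.add_mem_iff_right P h2).mp h1
    have hrm : p.coeff 0 ∈ IsLocalRing.maximalIdeal R := by
      by_contra hn
      have hu : IsUnit (p.coeff 0) := IsLocalRing.notMem_maximalIdeal.mp hn
      exact hPp.ne_top (Ideal.eq_top_of_isUnit_mem _ hr (hu.map (algebraMap R A)))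
    rw [hm] at hrm
    obtain ⟨d, hd⟩ := Ideal.mem_span_singleton'.mp hrm
    have hrI : algebraMap R A (p.coeff 0) ∈ I := by
      rw [← hd, map_mul]
      exact I.mul_mem_left _ hϖI
    rw [hp]
    exact I.add_mem (I.add_mem (I.mul_mem_right _ hxI) hrI) hq
  have hPeq : P = I := le_antisymm hPI hIP
  -- the maximal ideal of A_P is generated by two elements
  let L := Localization.AtPrime P
  have hmax : IsLocalRing.maximalIdeal L = Ideal.span {algebraMap A L xA, algebraMap A L yA} := by
    rw [← Localization.AtPrime.map_eq_maximalIdeal,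
      (congrArg (Ideal.map (algebraMap A L)) hPeq : _), Ideal.map_span]
    congr 1
    simp [Set.image_pair]
  have hfin : (IsLocalRing.maximalIdeal L).spanFinrank ≤ 2 := by
    rw [hmax]
    refine le_trans (Submodule.spanFinrank_span_le_ncard_of_finite (by simp)) ?_
    refine le_trans (Set.ncard_insert_le _ _) ?_
    simp
  have hdim : (2 : WithBot ℕ∞) ≤ ringKrullDim L := by
    rw [IsLocalization.AtPrime.ringKrullDim_eq_height P L]
    have := two_le_height_of_mem W P ϖ hϖ.ne_zero (hP ϖ (hm ▸ Ideal.mem_span_singleton_self ϖ)) hx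
    calc (2 : WithBot ℕ∞) = ((2 : ℕ∞) : WithBot ℕ∞) := rfl
      _ ≤ (P.height : WithBot ℕ∞) := WithBot.coe_le_coe.mpr this
  apply IsRegularLocalRing.of_spanFinrank_maximalIdeal_le
  calc ((IsLocalRing.maximalIdeal L).spanFinrank : WithBot ℕ∞) ≤ ((2 : ℕ) : WithBot ℕ∞) := by
        exact_mod_cast hfin
    _ = 2 := by norm_num
    _ ≤ ringKrullDim L := hdim


/-- A singular point of a Weierstrass cubic `y² + a₁xy = x³ + a₂x²` over a field is the origin. -/
theorem singular_point_eq_zero {κ : Type*} [Field κ] (a b x y : κ)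
    (hE : y ^ 2 + a * x * y - (x ^ 3 + b * x ^ 2) = 0)
    (hX : a * y - (3 * x ^ 2 + 2 * b * x) = 0) (hY : 2 * y + a * x = 0) :
    x = 0 ∧ y = 0 := by
  have hx : x = 0 := by
    by_contra hx
    have h1 : a ^ 2 + 4 * b + 4 * x = 0 := by
      apply mul_left_cancel₀ (pow_ne_zero 2 hx)
      linear_combination (-4 : κ) * hE + (2 * y + a * x) * hY
    have h2 : a ^ 2 + 4 * b + 6 * x = 0 := by
      apply mul_left_cancel₀ hx
      linear_combination (-2 : κ) * hX + a * hY
    have h3 : (2 : κ) = 0 := by
      apply mul_right_cancel₀ hx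
      linear_combination h2 - h1
    have ha : a = 0 := by
      apply mul_right_cancel₀ hx
      linear_combination hY - y * h3
    apply hx
    apply pow_eq_zero_iff (n := 2) (by norm_num) |>.mp
    linear_combination (-1 : κ) * hX + y * ha + (-b * x - x ^ 2) * h3
  subst hx
  refine ⟨rfl, ?_⟩
  apply pow_eq_zero_iff (n := 2) (by norm_num) |>.mp
  linear_combination hE

/-- Main theorem: regularity of the affine Weierstrass model. -/
theorem regular_weierstrass (hΔ : W.Δ ≠ 0)
    (h3 : W.a₃ ∈ IsLocalRing.maximalIdeal R) (h4 : W.a₄ ∈ IsLocalRing.maximalIdeal R)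
    (h6 : W.a₆ ∈ IsLocalRing.maximalIdeal R) (h6' : W.a₆ ∉ IsLocalRing.maximalIdeal R ^ 2)
    (P : Ideal W.CoordinateRing) [P.IsPrime] :
    IsRegularLocalRing (Localization.AtPrime P) := by
  by_cases hY : CoordinateRing.mk W W.polynomialY ∈ P
  swap
  · exact regular_of_polynomialY_notMem W P hY
  by_cases hX : CoordinateRing.mk W W.polynomialX ∈ P
  swap
  · exact regular_of_polynomialX_notMem W P hX
  -- singular point
  let κ := P.ResidueField
  let φ : W.CoordinateRing →+* κ := algebraMap W.CoordinateRing κ
  have hφ : ∀ a, φ a = 0 ↔ a ∈ P := fun a => Ideal.algebraMap_residueField_eq_zero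
  let ψ : R →+* κ := φ.comp (algebraMap R W.CoordinateRing)
  set x₀ : κ := φ (CoordinateRing.mk W (C X)) with hx₀
  set y₀ : κ := φ (CoordinateRing.mk W Y) with hy₀
  have hE : (W.map ψ).toAffine.Equation x₀ y₀ := by
    rw [WeierstrassCurve.Affine.Equation, WeierstrassCurve.Affine.map_polynomial,
      ← map_mk_eq_evalEval W φ, AdjoinRoot.mk_self, map_zero]
  have hX0 : (W.map ψ).toAffine.polynomialX.evalEval x₀ y₀ = 0 := by
    rw [WeierstrassCurve.Affine.map_polynomialX, ← map_mk_eq_evalEval W φ]
    exact (hφ _).mpr hX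
  have hY0 : (W.map ψ).toAffine.polynomialY.evalEval x₀ y₀ = 0 := by
    rw [WeierstrassCurve.Affine.map_polynomialY, ← map_mk_eq_evalEval W φ]
    exact (hφ _).mpr hY
  have hΔ0 : ψ W.Δ = 0 := by
    by_contra h
    have hns := ((W.map ψ).toAffine.equation_iff_nonsingular_of_Δ_ne_zero
      (by rwa [WeierstrassCurve.map_Δ])).mp hE
    rcases hns.2 with h' | h'
    · exact h' hX0
    · exact h' hY0
  have hker : ∀ r ∈ IsLocalRing.maximalIdeal R, ψ r = 0 := by
    haveI : (RingHom.ker ψ).IsPrime := RingHom.ker_isPrime ψ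
    have hne : RingHom.ker ψ ≠ ⊥ := by
      intro h
      have : W.Δ ∈ RingHom.ker ψ := hΔ0
      rw [h] at this
      exact hΔ (Ideal.mem_bot.mp this)
    have hmax : (RingHom.ker ψ).IsMaximal := Ideal.IsPrime.isMaximal inferInstance hne
    have := IsLocalRing.eq_maximalIdeal hmax
    intro r hr
    rw [← this] at hr
    exact hr
  have e3 := hker _ h3
  have e4 := hker _ h4
  have e6 := hker _ h6
  rw [WeierstrassCurve.Affine.equation_iff'] at hE
  rw [WeierstrassCurve.Affine.evalEval_polynomialX] at hX0
  rw [WeierstrassCurve.Affine.evalEval_polynomialY] at hY0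
  simp only [WeierstrassCurve.map_a₁, WeierstrassCurve.map_a₂, WeierstrassCurve.map_a₃,
    WeierstrassCurve.map_a₄, WeierstrassCurve.map_a₆, e3, e4, e6] at hE hX0 hY0
  obtain ⟨hx0, hy0⟩ := singular_point_eq_zero (ψ W.a₁) (ψ W.a₂) x₀ y₀
    (by linear_combination hE) (by linear_combination hX0) (by linear_combination hY0)
  refine regular_at_origin W h6 h6' P (fun r hr => (hφ _).mp (hker r hr))
    ((hφ _).mp hx0) ((hφ _).mp hy0)

end DVR

end Groth.Agent.H79.Weier
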